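import Cfsg.Agent.H35.ConjAbelian
import Cfsg.Agent.H2.UniqueSubgroup
import Cfsg.Agent.H1.Cores
import Mathlib

/-!
Sylow subgroups of groups in which `p`-subgroups of equal order are conjugate.
-/

set_option autoImplicit false
set_option linter.all false

namespace H35

open Subgroup

/-- A `p`-group of exponent `p` which is not abelian has a non-abelian subgroup of order `p ^ 3`. -/
theorem exists_nonabelian_card_cube {P : Type*} [Group P] [Finite P] {p : ℕ} [Fact p.Prime]
    (hP : IsPGroup p P) (hexp : ∀ x : P, x ^ p = 1) (hna : ¬ IsMulCommutative P) :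
    ∃ H : Subgroup P, Nat.card H = p ^ 3 ∧ ¬ IsMulCommutative H := by
  classical
  have hp := (Fact.out : p.Prime)
  haveI := hP.isNilpotent
  -- an element of the second centre outside the centre
  obtain ⟨x, hx2, hx⟩ : ∃ x : P, (∀ y : P, x * y * x⁻¹ * y⁻¹ ∈ center P) ∧ x ∉ center P := by
    have hne : center P ≠ ⊤ := fun h => hna ⟨⟨fun a b => (mem_center_iff.1 (h ▸ mem_top b) a)⟩⟩
    have hq : Nontrivial (P ⧸ center P) := QuotientGroup.nontrivial_iff.2 hne
    haveI := (hP.to_quotient (center P)).center_nontrivial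
    obtain ⟨⟨w, hw⟩, hw1⟩ := exists_ne (1 : center (P ⧸ center P))
    obtain ⟨x, rfl⟩ := QuotientGroup.mk'_surjective (center P) w
    refine ⟨x, fun y => ?_, fun h => hw1 (Subtype.ext ((QuotientGroup.eq_one_iff _).2 h))⟩
    rw [← QuotientGroup.eq_one_iff]
    have := mem_center_iff.1 hw (QuotientGroup.mk' (center P) y)
    simp only [QuotientGroup.mk'_apply] at this
    simp only [QuotientGroup.mk_mul, QuotientGroup.mk_inv]
    rw [← this]; group
  obtain ⟨y, hy⟩ : ∃ y : P, y * x ≠ x * y := by
    by_contra h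
    push Not at h
    exact hx (mem_center_iff.2 h)
  set c := x * y * x⁻¹ * y⁻¹ with hc
  have hcz : zpowers c ≤ center P := zpowers_le.2 (hx2 y)
  have hcard : ∀ a : P, Nat.card (zpowers a) ∣ p := fun a => by
    rw [Nat.card_zpowers]; exact orderOf_dvd_of_pow_eq_one (hexp a)
  haveI hCn : (zpowers c).Normal := ⟨fun n hn g => by
    rw [mem_center_iff.1 (hcz hn) g, mul_inv_cancel_right]; exact hn⟩
  set A := zpowers x ⊔ zpowers c with hA
  have hAcard : Nat.card A ∣ p ^ 2 := by
    rw [sq]; exact (H1.card_sup_dvd_mul _ _).trans (mul_dvd_mul (hcard x) (hcard c))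
  haveI hAn : (A.subgroupOf (zpowers y ⊔ A)).Normal := by
    rw [normal_subgroupOf_iff_le_normalizer le_sup_right, sup_le_iff]
    refine ⟨zpowers_le.2 ?_, le_normalizer⟩
    rw [Subgroup.mem_normalizer_iff_map_conj_eq]
    refine eq_of_le_of_card_ge ?_ (Nat.card_congr
      (A.equivMapOfInjective _ (MulAut.conj y).injective).toEquiv).le
    rw [hA, Subgroup.map_sup, sup_le_iff]
    constructor
    · rw [MonoidHom.map_zpowers, zpowers_le]
      have e : y * x * y⁻¹ = c⁻¹ * x := by rw [hc]; group
      show y * x * y⁻¹ ∈ A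
      rw [e]
      exact mul_mem (inv_mem (mem_sup_right (mem_zpowers c))) (mem_sup_left (mem_zpowers x))
    · rw [MonoidHom.map_zpowers, zpowers_le]
      show y * c * y⁻¹ ∈ A
      rw [mem_center_iff.1 (hx2 y) y, mul_inv_cancel_right]
      exact mem_sup_right (mem_zpowers c)
  set H := zpowers y ⊔ A with hH
  refine ⟨H, ?_, fun hcomm => hy ?_⟩
  · have h1 : Nat.card H ∣ p ^ 3 := by
      haveI := hAn
      have e := H1.card_sup_dvd_mul ((zpowers y).subgroupOf H) (A.subgroupOf H)
      rw [← subgroupOf_sup le_sup_left le_sup_right, subgroupOf_self, card_top,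
        Nat.card_congr (subgroupOfEquivOfLe (le_sup_left : zpowers y ≤ H)).toEquiv,
        Nat.card_congr (subgroupOfEquivOfLe (le_sup_right : A ≤ H)).toEquiv] at e
      rw [pow_succ' p 2]
      exact e.trans (mul_dvd_mul (hcard y) hAcard)
    obtain ⟨k, hk, hk'⟩ := (Nat.dvd_prime_pow hp).1 h1
    have hk3 : k = 3 := by
      by_contra hne
      apply hy
      have hc2 : Nat.card H ∣ p ^ 2 := hk' ▸ pow_dvd_pow p (by omega)
      have : IsMulCommutative H := by
        obtain ⟨m, hm, hm'⟩ := (Nat.dvd_prime_pow hp).1 hc2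
        interval_cases m
        · haveI : Subsingleton H := (Nat.card_eq_one_iff_unique.1 (by simpa using hm')).1
          exact ⟨⟨fun a b => Subsingleton.elim _ _⟩⟩
        · haveI : IsCyclic H := isCyclic_of_prime_card (p := p) (by simpa using hm')
          infer_instance
        · exact ⟨⟨fun a b => (IsPGroup.commutative_of_card_eq_prime_sq (by simpa using hm')) a b⟩⟩
      have := this.1.comm ⟨y, mem_sup_left (mem_zpowers y)⟩
        ⟨x, mem_sup_right (mem_sup_left (mem_zpowers x))⟩
      exact congrArg Subtype.val this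
    rw [hk', hk3]
  · exact congrArg Subtype.val (hcomm.1.comm ⟨y, mem_sup_left (mem_zpowers y)⟩
      ⟨x, mem_sup_right (mem_sup_left (mem_zpowers x))⟩)

/-- A `p`-group of exponent `p` of order at least `p ^ 3` has an abelian subgroup of order `p ^ 3`,
unless it has order `p ^ 3`. -/
theorem exists_abelian_card_cube {P : Type*} [Group P] [Finite P] {p : ℕ} [Fact p.Prime]
    (hP : IsPGroup p P) (hexp : ∀ x : P, x ^ p = 1) (hcard : p ^ 4 ∣ Nat.card P) :
    ∃ H : Subgroup P, Nat.card H = p ^ 3 ∧ IsMulCommutative H := by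
  classical
  have hp := (Fact.out : p.Prime)
  have hc1 : ∀ a : P, Nat.card (zpowers a) ∣ p := fun a => by
    rw [Nat.card_zpowers]; exact orderOf_dvd_of_pow_eq_one (hexp a)
  haveI : Nontrivial P := Finite.one_lt_card_iff_nontrivial.1
    (lt_of_lt_of_le (Nat.one_lt_pow (by norm_num) hp.one_lt) (Nat.le_of_dvd Nat.card_pos hcard))
  haveI := hP.center_nontrivial
  obtain ⟨⟨z, hz⟩, hz1⟩ := exists_ne (1 : center P)
  have hz1' : z ≠ 1 := fun h => hz1 (Subtype.ext h)
  haveI hZn : (zpowers z).Normal := ⟨fun n hn g => by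
    rw [mem_center_iff.1 ((zpowers_le.2 hz) hn) g, mul_inv_cancel_right]; exact hn⟩
  have hzc : Nat.card (zpowers z) = p :=
    ((Nat.dvd_prime hp).1 (hc1 z)).resolve_left fun h => hz1' (by
      have := Subgroup.card_eq_one.1 h
      exact mem_bot.1 (this ▸ mem_zpowers z))
  -- a normal subgroup of order `p ^ 2`
  have hQn : Nontrivial (P ⧸ zpowers z) := QuotientGroup.nontrivial_iff.2 fun h => by
    rw [h, card_top] at hzc
    have := Nat.le_of_dvd hp.pos (hzc ▸ hcard)
    have h4 : p ^ 1 < p ^ 4 := Nat.pow_lt_pow_right hp.one_lt (by norm_num)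
    rw [pow_one] at h4; omega
  haveI := (hP.to_quotient (zpowers z)).center_nontrivial
  obtain ⟨⟨w, hw⟩, hw1⟩ := exists_ne (1 : center (P ⧸ zpowers z))
  obtain ⟨u, rfl⟩ := QuotientGroup.mk'_surjective (zpowers z) w
  have huz : u ∉ zpowers z := fun h => hw1 (Subtype.ext ((QuotientGroup.eq_one_iff _).2 h))
  set C := centralizer ({u} : Set P) with hC
  -- the map `g ↦ [g, u]` embeds `P ⧸ C` into `⟨z⟩`
  have hmem : ∀ g : P, g * u * g⁻¹ * u⁻¹ ∈ zpowers z := fun g => by
    rw [← QuotientGroup.eq_one_iff]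
    have := mem_center_iff.1 hw (QuotientGroup.mk' (zpowers z) g)
    simp only [QuotientGroup.mk'_apply] at this
    simp only [QuotientGroup.mk_mul, QuotientGroup.mk_inv]
    rw [this]; group
  have hidx : C.index ≤ p := by
    rw [← hzc]
    refine Nat.card_le_card_of_injective (Quotient.lift
      (fun g => (⟨g * u * g⁻¹ * u⁻¹, hmem g⟩ : zpowers z)) ?_) ?_
    · intro a b hab
      have h := mem_centralizer_singleton_iff.1 (QuotientGroup.leftRel_apply.1 hab)
      apply Subtype.ext
      calc a * u * a⁻¹ * u⁻¹ = a * (u * (a⁻¹ * b)) * b⁻¹ * u⁻¹ := by group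
        _ = a * ((a⁻¹ * b) * u) * b⁻¹ * u⁻¹ := by rw [h]
        _ = b * u * b⁻¹ * u⁻¹ := by group
    · intro a b
      induction a using Quotient.inductionOn with
      | h a =>
      induction b using Quotient.inductionOn with
      | h b =>
      intro h
      have h' : a * u * a⁻¹ * u⁻¹ = b * u * b⁻¹ * u⁻¹ := congrArg Subtype.val h
      apply Quotient.sound
      apply QuotientGroup.leftRel_apply.2
      rw [mem_centralizer_singleton_iff]
      calc (a⁻¹ * b) * u = a⁻¹ * (b * u * b⁻¹ * u⁻¹) * (u * b) := by group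
        _ = a⁻¹ * (a * u * a⁻¹ * u⁻¹) * (u * b) := by rw [h']
        _ = u * (a⁻¹ * b) := by group
  have hbig : p ^ 3 ≤ Nat.card C := by
    have := C.card_mul_index
    have h4 := Nat.le_of_dvd Nat.card_pos hcard
    by_contra h
    push Not at h
    have h5 : Nat.card C * C.index < p ^ 3 * p :=
      lt_of_le_of_lt (Nat.mul_le_mul_left _ hidx) (Nat.mul_lt_mul_of_pos_right h hp.pos)
    rw [← pow_succ] at h5
    exact absurd (lt_of_le_of_lt (this.symm ▸ h4) h5) (lt_irrefl _)
  set N := zpowers u ⊔ zpowers z with hN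
  have hNcard : Nat.card N ∣ p ^ 2 := by
    rw [sq]; exact (H1.card_sup_dvd_mul _ _).trans (mul_dvd_mul (hc1 u) hzc.dvd)
  have hNlt : p < Nat.card N := by
    rw [← hzc]
    refine lt_of_le_of_ne (card_le_of_le le_sup_right) fun h => huz ?_
    rw [eq_of_le_of_card_ge (le_sup_right : zpowers z ≤ N) h.ge]
    exact mem_sup_left (mem_zpowers u)
  have hNc : Nat.card N = p ^ 2 := by
    obtain ⟨m, hm, hm'⟩ := (Nat.dvd_prime_pow hp).1 hNcard
    interval_cases m
    · rw [pow_zero] at hm'; have := hp.one_lt; omega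
    · rw [pow_one] at hm'; omega
    · exact hm'
  obtain ⟨v, hvC, hvN⟩ : ∃ v ∈ C, v ∉ N := by
    by_contra h
    push Not at h
    have := card_le_of_le (show C ≤ N from h)
    rw [hNc] at this
    have := Nat.pow_lt_pow_right hp.one_lt (show 2 < 3 by norm_num)
    omega
  set H := closure ({u, z, v} : Set P) with hH
  haveI hHc : IsMulCommutative H := by
    have hzc' : ∀ a, a * z = z * a := mem_center_iff.1 hz
    have hvu : v * u = u * v := mem_centralizer_singleton_iff.1 hvC
    apply isMulCommutative_closure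
    rintro a (rfl | rfl | rfl) b (rfl | rfl | rfl)
    all_goals first
      | rfl
      | exact hzc' _
      | exact (hzc' _).symm
      | exact hvu
      | exact hvu.symm
  obtain ⟨D, hD⟩ : ∃ D : Subgroup H, Nat.card D = p ^ 3 := by
    refine Sylow.exists_subgroup_card_pow_prime p ?_
    obtain ⟨m, hm⟩ := IsPGroup.iff_card.1 (hP.to_subgroup H)
    rw [hm]
    apply pow_dvd_pow
    by_contra hlt
    have hNH : N ≤ H := sup_le (zpowers_le.2 (subset_closure (by simp))) (zpowers_le.2 (subset_closure (by simp)))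
    have hlt' : Nat.card N < Nat.card H := by
      refine lt_of_le_of_ne (card_le_of_le hNH) fun h => hvN ?_
      rw [eq_of_le_of_card_ge hNH h.ge]
      exact subset_closure (by simp)
    rw [hm, hNc] at hlt'
    have := Nat.pow_le_pow_right hp.pos (show m ≤ 2 by omega)
    omega
  refine ⟨D.map H.subtype, ?_, ?_⟩
  · rw [card_map_of_injective H.subtype_injective, hD]
  · refine ⟨⟨?_⟩⟩
    rintro ⟨_, ⟨a, -, rfl⟩⟩ ⟨_, ⟨b, -, rfl⟩⟩
    exact Subtype.ext (by simpa using congrArg Subtype.val (hHc.1.comm a b))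

/-- A generalised quaternion group of order at least 16 has a cyclic and a non-cyclic subgroup
of order 8. -/
theorem quaternion_subgroups_card_eight {n : ℕ} (hn : 2 ≤ n) :
    ∃ H K : Subgroup (QuaternionGroup (2 ^ n)), Nat.card H = 8 ∧ Nat.card K = 8 ∧
      IsCyclic H ∧ ¬ IsCyclic K := by
  obtain ⟨m, rfl⟩ := Nat.exists_eq_add_of_le hn
  have hcard : Nat.card (QuaternionGroup (2 ^ (2 + m))) = 2 ^ (4 + m) := by
    rw [Nat.card_eq_fintype_card, QuaternionGroup.card, show 4 + m = 2 + (2 + m) by ring, pow_add 2 2 (2 + m)]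
    rfl
  refine ⟨zpowers (QuaternionGroup.a 1 ^ 2 ^ m), ?_⟩
  have h8 : orderOf ((QuaternionGroup.a 1 : QuaternionGroup (2 ^ (2 + m))) ^ 2 ^ m) = 8 := by
    have h : orderOf (QuaternionGroup.a 1 : QuaternionGroup (2 ^ (2 + m))) = 2 * 2 ^ (2 + m) :=
      QuaternionGroup.orderOf_a_one
    rw [orderOf_pow_of_dvd (pow_ne_zero _ two_ne_zero), h]
    · rw [pow_add, ← mul_assoc, Nat.mul_div_cancel _ (by positivity)]; norm_num
    · rw [h, pow_add, ← mul_assoc]; exact Dvd.intro_left _ rfl
  obtain ⟨K, hK, hxK⟩ := Sylow.exists_subgroup_card_pow_succ (G := QuaternionGroup (2 ^ (2 + m)))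
    (p := 2) (n := 2) (hcard ▸ pow_dvd_pow 2 (by omega))
    (H := zpowers (QuaternionGroup.xa 0))
    (by rw [Nat.card_zpowers, QuaternionGroup.orderOf_xa]; norm_num)
  refine ⟨K, by rw [Nat.card_zpowers, h8], by simpa using hK, inferInstance, fun hcyc => ?_⟩
  obtain ⟨g, hg⟩ := hcyc.exists_generator
  obtain ⟨j, hj⟩ := mem_zpowers_iff.1 (hg ⟨_, hxK (mem_zpowers (QuaternionGroup.xa 0))⟩)
  have hgo : orderOf g = 8 := by
    rw [orderOf_eq_card_of_forall_mem_zpowers hg, hK]; norm_num
  have hj4 : orderOf (g ^ j) = 4 := by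
    rw [hj, ← orderOf_injective K.subtype K.subtype_injective]
    exact QuaternionGroup.orderOf_xa 0
  have heven : Even j := by
    by_contra hodd
    rw [Int.not_even_iff_odd] at hodd
    have h2 : g ^ (4 * j) = 1 := by
      rw [mul_comm, zpow_mul]
      have := pow_orderOf_eq_one (g ^ j)
      rw [hj4] at this
      exact_mod_cast this
    have h3 := orderOf_dvd_iff_zpow_eq_one.2 h2
    rw [hgo] at h3
    obtain ⟨c, rfl⟩ := hodd
    push_cast at h3
    omega
  obtain ⟨c, rfl⟩ := heven
  have hsq := congrArg Subtype.val hj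
  rw [zpow_add] at hsq
  simp only [Subgroup.coe_mul] at hsq
  generalize ((g ^ c : K) : QuaternionGroup (2 ^ (2 + m))) = y at hsq
  rcases y with i | i
  · rw [QuaternionGroup.a_mul_a] at hsq; cases hsq
  · rw [QuaternionGroup.xa_mul_xa] at hsq; cases hsq

/-- The possible Sylow subgroups when `p`-subgroups of equal order are conjugate. -/
theorem sylow_types_of_conj {G : Type*} [Group G] [Finite G] {p : ℕ} [Fact p.Prime]
    (hC : ∀ H K : Subgroup G, IsPGroup p H → IsPGroup p K → Nat.card H = Nat.card K →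
      ∃ g : G, K = H.map (MulAut.conj g).toMonoidHom) {P : Subgroup G} (hP : IsPGroup p P) :
    IsCyclic P ∨ (p = 2 ∧ Nonempty (P ≃* QuaternionGroup 2)) ∨
      (∀ x ∈ P, x ^ p = 1) ∧ (IsMulCommutative P ∨ p ≠ 2 ∧ Nat.card P = p ^ 3) := by
  classical
  have hp := (Fact.out : p.Prime)
  have hiso : ∀ A B : Subgroup P, Nat.card A = Nat.card B → Nonempty (A ≃* B) := by
    intro A B h
    obtain ⟨g, hg⟩ := hC _ _ ((hP.to_subgroup A).map P.subtype) ((hP.to_subgroup B).map P.subtype)
      (by rw [card_map_of_injective P.subtype_injective, card_map_of_injective P.subtype_injective, h])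
    exact ⟨((A.equivMapOfInjective _ P.subtype_injective).trans
      (((A.map P.subtype).equivMapOfInjective _ (MulAut.conj g).injective).trans
        (MulEquiv.subgroupCongr hg.symm))).trans (B.equivMapOfInjective _ P.subtype_injective).symm⟩
  rcases unique_or_pow_eq_one_of_sq (fun A B _ _ hA hB => hC A B (IsPGroup.of_card hA)
      (IsPGroup.of_card hB) (hA.trans hB.symm)) hP with h | h
  · rcases H2.cyclic_or_quaternion_of_unique hP h with h1 | ⟨rfl, n, ⟨e⟩⟩
    · exact Or.inl h1
    · rcases Nat.lt_or_ge n 2 with hn | hn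
      · interval_cases n
        · left
          haveI : IsCyclic (QuaternionGroup (2 ^ 0)) := QuaternionGroup.quaternionGroup_one_isCyclic
          exact isCyclic_of_surjective e.symm.toMonoidHom e.symm.surjective
        · exact Or.inr (Or.inl ⟨rfl, ⟨e⟩⟩)
      · exfalso
        obtain ⟨H, K, hH, hK, hcyc, hnc⟩ := quaternion_subgroups_card_eight hn
        obtain ⟨f⟩ := hiso (H.map e.symm.toMonoidHom) (K.map e.symm.toMonoidHom) (by
          rw [card_map_of_injective e.symm.injective, card_map_of_injective e.symm.injective, hH, hK])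
        refine hnc (isCyclic_of_surjective (((H.equivMapOfInjective _ e.symm.injective).trans f).trans
          (K.equivMapOfInjective _ e.symm.injective).symm).toMonoidHom (MulEquiv.surjective _))
  · refine Or.inr (Or.inr ⟨h, ?_⟩)
    by_cases hab : IsMulCommutative P
    · exact Or.inl hab
    right
    have hexp : ∀ x : P, x ^ p = 1 := fun x => Subtype.ext (by simpa using h x x.2)
    refine ⟨fun h2 => hab ⟨⟨fun a b => ?_⟩⟩, ?_⟩
    · subst h2
      have hinv : ∀ a : P, a⁻¹ = a := fun a => inv_eq_of_mul_eq_one_right (by rw [← sq]; exact hexp a)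
      rw [← hinv (a * b), mul_inv_rev, hinv, hinv]
    · obtain ⟨H, hH, hHna⟩ := exists_nonabelian_card_cube hP hexp hab
      obtain ⟨m, hm⟩ := IsPGroup.iff_card.1 hP
      have h3 := card_subgroup_dvd_card H
      rw [hH, hm, Nat.pow_dvd_pow_iff_le_right hp.one_lt] at h3
      rcases Nat.lt_or_eq_of_le h3 with h4 | h4
      · exfalso
        obtain ⟨A, hA, hAc⟩ := exists_abelian_card_cube hP hexp (hm ▸ pow_dvd_pow p h4)
        obtain ⟨f⟩ := hiso A H (hA.trans hH.symm)
        exact hHna ⟨⟨fun a b => f.symm.injective (by rw [map_mul, map_mul, hAc.1.comm])⟩⟩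
      · rw [hm, h4]

end H35
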