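import Cfsg.Agent.H2.Wielandt
import Cfsg.Agent.H32.Subnormal
import Cfsg.Agent.H36.Subnormal

/-!
Left Engel elements of a finite group are the elements of the Fitting subgroup (Baer).
-/

set_option autoImplicit false
set_option linter.all false

namespace H35

open Subgroup Pointwise

/-- The iterated commutator `[x, g, ..., g]` with `n` entries `g`. -/
def engel {G : Type*} [Group G] (g x : G) (n : ℕ) : G :=
  (List.replicate n g).foldl (fun a b => a * b * a⁻¹ * b⁻¹) x

theorem engel_succ {G : Type*} [Group G] (g x : G) (n : ℕ) :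
    engel g x (n + 1) = engel g x n * g * (engel g x n)⁻¹ * g⁻¹ := by
  simp [engel, List.replicate_succ', List.foldl_append]

theorem map_engel {G K : Type*} [Group G] [Group K] (f : G →* K) (g x : G) (n : ℕ) :
    f (engel g x n) = engel (f g) (f x) n := by
  induction n with
  | zero => rfl
  | succ n ih => simp [engel_succ, ih]

theorem engel_eventually_one_of_mem_fitting {G : Type*} [Group G] [Finite G] {g : G}
    (hg : g ∈ Cfsg.fittingSubgroup G) (x : G) : ∃ n : ℕ, engel g x n = 1 := by
  set F := Cfsg.fittingSubgroup G with hF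
  haveI : F.Normal := H1.sSup_normal _ fun H h => h.1
  haveI : Group.IsNilpotent F := H36.isNilpotent_fittingSubgroup
  have h1 : engel g x 1 ∈ F := by
    rw [engel_succ]
    exact F.mul_mem (‹F.Normal›.conj_mem g hg _) (F.inv_mem hg)
  have key : ∀ n : ℕ, ∃ y : F, (y : G) = engel g x (n + 1) ∧
      y ∈ (⊤ : Subgroup F).lowerCentralSeries n := by
    intro n
    induction n with
    | zero => exact ⟨⟨_, h1⟩, rfl, by simp⟩
    | succ n ih =>
      obtain ⟨y, hy, hmem⟩ := ih
      refine ⟨y * ⟨g, hg⟩ * y⁻¹ * ⟨g, hg⟩⁻¹, ?_, ?_⟩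
      · rw [engel_succ g x (n + 1)]
        simp [hy]
      · rw [Subgroup.lowerCentralSeries_succ, ← commutatorElement_def]
        exact Subgroup.commutator_mem_commutator hmem (Subgroup.mem_top _)
  obtain ⟨n, hn⟩ := Subgroup.nilpotent_iff_lowerCentralSeries.mp ‹Group.IsNilpotent F›
  obtain ⟨y, hy, hmem⟩ := key n
  rw [hn, Subgroup.mem_bot] at hmem
  exact ⟨n + 1, by rw [← hy, hmem]; rfl⟩

theorem mem_fitting_of_engel_aux.{u} (n : ℕ) :
    ∀ (G : Type u) [Group G] [Finite G], Nat.card G = n →
      ∀ g : G, (∀ x : G, ∃ k : ℕ, engel g x k = 1) → g ∈ Cfsg.fittingSubgroup G := by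
  induction n using Nat.strong_induction_on with
  | _ n ih =>
    intro G _ _ hn g hg
    have hsn : ∀ (a : G) (V : Subgroup G), V ≠ ⊤ → MulAut.conj a • zpowers g ≤ V →
        ((MulAut.conj a • zpowers g).subgroupOf V).IsSubnormal := by
      intro a V hV hle
      have hgV : a * g * a⁻¹ ∈ V := hle ⟨g, mem_zpowers g, rfl⟩
      have hlt : Nat.card V < n := by
        rw [← hn]
        exact lt_of_le_of_ne (Nat.le_of_dvd Nat.card_pos V.card_subgroup_dvd_card)
          (fun h => hV (V.eq_top_of_card_eq h))
      have hmem : (⟨a * g * a⁻¹, hgV⟩ : V) ∈ Cfsg.fittingSubgroup V := by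
        refine ih _ hlt V rfl _ fun x => ?_
        obtain ⟨k, hk⟩ := hg (a⁻¹ * x * a)
        refine ⟨k, Subtype.ext ?_⟩
        have h1 := map_engel V.subtype ⟨a * g * a⁻¹, hgV⟩ x k
        have h2 := map_engel (MulAut.conj a).toMonoidHom g (a⁻¹ * x * a) k
        rw [hk, map_one] at h2
        simp only [Subgroup.coe_subtype] at h1
        have hx : (x : G) = a * (a⁻¹ * x * a) * a⁻¹ := by group
        rw [h1, hx]
        simpa using h2.symm
      haveI : (Cfsg.fittingSubgroup V).Normal := H1.sSup_normal _ fun H h => h.1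
      haveI : Group.IsNilpotent (Cfsg.fittingSubgroup V) := H36.isNilpotent_fittingSubgroup
      set C := zpowers (⟨a * g * a⁻¹, hgV⟩ : V)
      have hCF : C ≤ Cfsg.fittingSubgroup V := zpowers_le.mpr hmem
      have heq : (MulAut.conj a • zpowers g).subgroupOf V = C := by
        apply Subgroup.map_injective V.subtype_injective
        rw [map_subgroupOf_eq_of_le hle, MonoidHom.map_zpowers]
        show (zpowers g).map (MulAut.conj a).toMonoidHom = _
        rw [MonoidHom.map_zpowers]
        rfl
      rw [heq, ← map_subgroupOf_eq_of_le hCF]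
      exact (H36.isSubnormal_of_isNilpotent _).trans'
        (Subgroup.Normal.isSubnormal inferInstance)
    haveI hnil : Group.IsNilpotent (zpowers g) :=
      letI := IsCyclic.commGroup (α := zpowers g)
      CommGroup.isNilpotent
    have hA : ∀ V : Subgroup G, V ≠ ⊤ → zpowers g ≤ V →
        ((zpowers g).subgroupOf V).IsSubnormal := by
      intro V hV hle
      have := hsn 1 V hV (by simpa using hle)
      simpa using this
    by_cases hall : ∀ a : G, zpowers g ⊔ MulAut.conj a • zpowers g ≠ ⊤
    · exact H32.nilpotent_le_fitting_of_subnormal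
        (H2.wielandt_criterion (zpowers g) fun a => hA _ (hall a) le_sup_left)
        inferInstance (mem_zpowers g)
    push Not at hall
    obtain ⟨x, hx⟩ := hall
    by_cases hcyc : zpowers g = (⊤ : Subgroup G)
    · haveI : Group.IsNilpotent (⊤ : Subgroup G) := by rw [← hcyc]; infer_instance
      exact le_sSup (show (⊤ : Subgroup G) ∈ {H : Subgroup G | H.Normal ∧ Group.IsNilpotent H} from
        ⟨inferInstance, inferInstance⟩) (Subgroup.mem_top g)
    set J : ℕ → Subgroup G := fun i => zpowers g ⊔ MulAut.conj (engel g x i) • zpowers g with hJ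
    have hexists : ∃ i, J i = ⊤ ∧ J (i + 1) ≠ ⊤ := by
      by_contra hc
      push Not at hc
      have hall : ∀ i, J i = ⊤ := by
        intro i
        induction i with
        | zero => exact hx
        | succ i hi => exact hc i hi
      obtain ⟨k, hk⟩ := hg x
      have := hall k
      simp only [hJ, hk, map_one, one_smul, sup_idem] at this
      exact hcyc this
    obtain ⟨i, hi, hi'⟩ := hexists
    set g' := engel g x i * g * (engel g x i)⁻¹ with hg'
    have hV : g' * g * g'⁻¹ ∈ J (i + 1) := by
      have hmem : engel g x (i + 1) * g * (engel g x (i + 1))⁻¹ ∈ J (i + 1) :=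
        mem_sup_right ⟨g, mem_zpowers g, rfl⟩
      convert hmem using 1
      rw [engel_succ, ← hg']
      group
    have htop : ∀ N : Subgroup G, g ∈ N → g' ∈ N → N = ⊤ := by
      intro N h1 h2
      rw [eq_top_iff, ← hi]
      refine sup_le (zpowers_le.mpr h1) ?_
      show (zpowers g).map (MulAut.conj (engel g x i)).toMonoidHom ≤ N
      rw [MonoidHom.map_zpowers, zpowers_le]
      exact h2
    have hnormal : ∀ N : Subgroup G, N.Normal → g ∈ N → N = ⊤ := fun N hN h =>
      htop N h (hN.conj_mem g h _)
    set S : Subgroup G → Set (Subgroup G) := fun V =>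
      {B | (∃ a : G, B = MulAut.conj a • zpowers g) ∧ B ≤ V ∧ (B.subgroupOf V).IsSubnormal}
    obtain ⟨M, ⟨hMtop, hAM⟩, hM⟩ := H3.zipper (zpowers g) {V : Subgroup G | V ≠ ⊤ ∧ zpowers g ≤ V}
      ⟨J (i + 1), hi', le_sup_left⟩ S (fun V B => Iff.rfl)
      (fun V hV W _ B hB' hBV => ⟨hB'.1, hBV, by
        obtain ⟨⟨a, rfl⟩, -, -⟩ := hB'
        exact hsn a V hV.1 hBV⟩)
      (fun V hV W hW => by
        set K := sSup (S V ∩ S W)
        have hgK : zpowers g ≤ K := le_sSup
          ⟨⟨⟨1, by simp⟩, hV.2, hA V hV.1 hV.2⟩, ⟨⟨1, by simp⟩, hW.2, hA W hW.1 hW.2⟩⟩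
        have hKV : K ≤ V := sSup_le fun B hB => hB.1.2.1
        refine ⟨normalizer (K : Set G), ⟨fun h => ?_, hgK.trans le_normalizer⟩, le_rfl⟩
        have := hnormal K (normalizer_eq_top_iff.mp h) (hgK (mem_zpowers g))
        exact hV.1 (top_le_iff.mp (this ▸ hKV)))
    have hgM : g ∈ M := hAM (mem_zpowers g)
    have hle : MulAut.conj g'⁻¹ • M ≤ M := by
      refine hM _ ⟨?_, ?_⟩
      · intro h
        apply hMtop
        have h' := congrArg (fun N : Subgroup G => MulAut.conj g' • N) h
        simp only [smul_smul, ← map_mul, mul_inv_cancel, map_one, one_smul] at h'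
        rw [h']
        exact Subgroup.map_top_of_surjective _ (MulAut.conj g').surjective
      · rw [zpowers_le, Subgroup.mem_pointwise_smul_iff_inv_smul_mem, ← map_inv, inv_inv,
          MulAut.smul_def, MulAut.conj_apply]
        exact hM (J (i + 1)) ⟨hi', le_sup_left⟩ hV
    have hN : g'⁻¹ ∈ normalizer (M : Set G) := by
      rw [H3.mem_normalizer_iff_smul]
      refine Subgroup.eq_of_le_of_card_ge hle (le_of_eq ?_)
      exact (Nat.card_congr (Subgroup.equivSMul (MulAut.conj g'⁻¹) M).toEquiv)
    by_cases hNtop : normalizer (M : Set G) = ⊤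
    · exact absurd (hnormal M (normalizer_eq_top_iff.mp hNtop) hgM) hMtop
    · have h1 := hM _ ⟨hNtop, hAM.trans le_normalizer⟩
      exact absurd (htop M hgM (by simpa using M.inv_mem (h1 hN))) hMtop

theorem mem_fitting_of_engel {G : Type*} [Group G] [Finite G] (g : G)
    (hg : ∀ x : G, ∃ k : ℕ, engel g x k = 1) : g ∈ Cfsg.fittingSubgroup G :=
  mem_fitting_of_engel_aux _ G rfl g hg

end H35
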