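import Mathlib

/-!
Derived length of `p`-groups of permutations.
-/

set_option autoImplicit false
set_option linter.all false

namespace H35

open Subgroup

universe u

theorem map_derivedSeries_le_succ {G : Type*} [Group G] (M : Subgroup G) (hM : commutator G ≤ M) (k : ℕ) :
    derivedSeries G (k + 1) ≤ (derivedSeries M k).map M.subtype := by
  induction k with
  | zero =>
    rw [derivedSeries_one, derivedSeries_zero, ← MonoidHom.range_eq_map, range_subtype]
    exact hM
  | succ k ih =>
    rw [derivedSeries_succ, derivedSeries_succ (G := M), Subgroup.map_commutator]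
    exact commutator_mono ih ih

theorem derivedSeries_map_subtype_le (G : Type*) [Group G] (k : ℕ) :
    (derivedSeries (commutator G) k).map (commutator G).subtype ≤ derivedSeries G (k + 1) := by
  induction k with
  | zero => rw [derivedSeries_one]; exact map_subtype_le _
  | succ k ih =>
    rw [derivedSeries_succ, derivedSeries_succ (G := G), Subgroup.map_commutator]
    exact commutator_mono ih ih

/-- In a finite `p`-group the `k`-th derived subgroup lies in every subgroup of index at most `p ^ k`. -/
theorem derivedSeries_le_of_index {p : ℕ} [Fact p.Prime] (k : ℕ) :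
    ∀ (P : Type u) [Group P] [Finite P], IsPGroup p P → ∀ H : Subgroup P, H.index ≤ p ^ k →
      derivedSeries P k ≤ H := by
  induction k with
  | zero =>
    intro P _ _ _ H hH
    rw [pow_zero] at hH
    rw [Subgroup.index_eq_one.1 (le_antisymm hH (Nat.pos_of_ne_zero index_ne_zero_of_finite))]
    exact le_top
  | succ k ih =>
    intro P _ _ hP H hH
    by_cases hT : H = ⊤
    · rw [hT]; exact le_top
    haveI := hP.isNilpotent
    obtain ⟨M, hM, hHM⟩ : ∃ M : Subgroup P, IsCoatom M ∧ H ≤ M := (eq_top_or_exists_le_coatom H).resolve_left hT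
    haveI hMn : M.Normal := normalizer_eq_top_iff.mp
      ((Group.normalizerCondition_of_isNilpotent (G := P)).normal_of_coatom M hM |> fun h => normalizer_eq_top_iff.mpr h)
    haveI : Nontrivial (P ⧸ M) := QuotientGroup.nontrivial_iff.2 hM.1
    haveI : IsSimpleGroup (P ⧸ M) := ⟨fun N _ => by
      rcases hM.le_iff.mp (QuotientGroup.le_comap_mk' M N) with h | h
      · right
        rw [← Subgroup.map_comap_eq_self_of_surjective (QuotientGroup.mk'_surjective M) N, h,
          Subgroup.map_top_of_surjective _ (QuotientGroup.mk'_surjective M)]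
      · left
        rw [← Subgroup.map_comap_eq_self_of_surjective (QuotientGroup.mk'_surjective M) N, h]
        simp⟩
    haveI : Group.IsNilpotent (P ⧸ M) := (hP.to_quotient M).isNilpotent
    have hcomm : commutator P ≤ M := by
      letI : CommGroup (P ⧸ M) := inferInstance
      intro x hx
      have := Abelianization.commutator_subset_ker (QuotientGroup.mk' M) hx
      rwa [QuotientGroup.ker_mk'] at this
    refine (map_derivedSeries_le_succ M hcomm k).trans ?_
    have hidx : (H.subgroupOf M).index ≤ p ^ k := by
      have h1 : M.index * (H.subgroupOf M).index = H.index := by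
        rw [mul_comm]; exact relIndex_mul_index hHM
      obtain ⟨j, hj⟩ := hP.index M
      have hj0 : j ≠ 0 := fun h0 => hM.1 (index_eq_one.1 (by rw [hj, h0, pow_zero]))
      have hp := (Fact.out : p.Prime)
      have h2 : p * (H.subgroupOf M).index ≤ p ^ (k + 1) := by
        refine le_trans (Nat.mul_le_mul_right _ ?_) (h1.le.trans hH)
        rw [hj]; exact Nat.le_self_pow hj0 p
      rw [pow_succ'] at h2
      exact Nat.le_of_mul_le_mul_left h2 hp.pos
    refine (Subgroup.map_mono (ih M (hP.to_subgroup M) (H.subgroupOf M) hidx)).trans ?_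
    rw [map_subgroupOf_eq_of_le hHM]

/-- A `p`-group acting faithfully on fewer than `p ^ (k + 1)` points has derived length at most `k`. -/
theorem derivedSeries_eq_bot_of_faithful {p : ℕ} [Fact p.Prime] {P : Type u} [Group P] [Finite P]
    (hP : IsPGroup p P) (α : Type*) [MulAction P α] [FaithfulSMul P α] [Finite α] {k : ℕ}
    (hk : Nat.card α < p ^ (k + 1)) : derivedSeries P k = ⊥ := by
  rw [eq_bot_iff]
  intro g hg
  rw [mem_bot]
  apply FaithfulSMul.eq_of_smul_eq_smul (α := α)
  intro a
  rw [one_smul]
  refine MulAction.mem_stabilizer_iff.mp (derivedSeries_le_of_index k P hP _ ?_ hg)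
  obtain ⟨j, hj⟩ := hP.index (MulAction.stabilizer P a)
  rw [hj]
  apply Nat.pow_le_pow_right (Fact.out : p.Prime).pos
  have h1 : p ^ j ≤ Nat.card α := by
    rw [← hj, MulAction.index_stabilizer]
    exact (Set.ncard_le_card _).trans le_rfl
  have h2 := (Nat.pow_lt_pow_iff_right (Fact.out : p.Prime).one_lt).mp (lt_of_le_of_lt h1 hk)
  omega

/-- Wreathing with a nontrivial abelian group raises the derived length. -/
theorem wreath_derived_ne_bot {W C : Type*} [Group W] [CommGroup C] [Nontrivial C] {k : ℕ}
    (hne : derivedSeries W k ≠ ⊥) : derivedSeries (W ≀ᵣ C) (k + 1) ≠ ⊥ := by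
  classical
  set D := commutator (W ≀ᵣ C)
  have hright : ∀ d : D, (d : W ≀ᵣ C).right = 1 := fun d =>
    Abelianization.commutator_subset_ker (RegularWreathProduct.rightHom) d.2
  let φ : D →* W :=
    { toFun := fun d => (d : W ≀ᵣ C).left 1
      map_one' := rfl
      map_mul' := fun a b => by simp [hright a] }
  have hφ : Function.Surjective φ := by
    intro d
    obtain ⟨q, hq⟩ := exists_ne (1 : C)
    let a : W ≀ᵣ C := ⟨Pi.mulSingle 1 d, 1⟩
    let b : W ≀ᵣ C := RegularWreathProduct.inl q
    refine ⟨⟨a * b * a⁻¹ * b⁻¹, ?_⟩, ?_⟩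
    · rw [← commutatorElement_def]
      show _ ∈ commutator (W ≀ᵣ C)
      rw [commutator_def]
      exact commutator_mem_commutator (mem_top _) (mem_top _)
    · show (a * b * a⁻¹ * b⁻¹).left 1 = d
      have hq' : q⁻¹ ≠ 1 := inv_ne_one.mpr hq
      simp [a, b, hq']
  intro hbot
  apply hne
  rw [← map_derivedSeries_eq hφ k]
  have := derivedSeries_map_subtype_le (W ≀ᵣ C) k
  rw [hbot, le_bot_iff, Subgroup.map_eq_bot_iff_of_injective _ (commutator (W ≀ᵣ C)).subtype_injective] at this
  rw [this, Subgroup.map_bot]

/-- The iterated wreath product of `k` cyclic groups of order `p`: a `p`-group on `p ^ k` points whose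
derived length is at least `k`. -/
theorem exists_perm_pgroup_derived {p : ℕ} [Fact p.Prime] (k : ℕ) :
    ∃ (W : Type) (_ : Group W) (_ : Finite W), IsPGroup p W ∧
      (∃ f : W →* Equiv.Perm (Fin (p ^ (k + 1))), Function.Injective f) ∧ derivedSeries W k ≠ ⊥ := by
  classical
  have hp := (Fact.out : p.Prime)
  haveI : NeZero p := ⟨hp.ne_zero⟩
  induction k with
  | zero =>
    let C := Multiplicative (ZMod p)
    haveI : Nontrivial C := Finite.one_lt_card_iff_nontrivial.mp (by simpa [C] using hp.one_lt)
    refine ⟨C, inferInstance, inferInstance, IsPGroup.of_card (n := 1) (by simp [C]), ?_, ?_⟩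
    · let e : C ≃ Fin (p ^ (0 + 1)) := Finite.equivFinOfCardEq (by simp [C])
      exact ⟨e.permCongrHom.toMonoidHom.comp (MulAction.toPermHom C C),
        e.permCongrHom.injective.comp MulAction.toPerm_injective⟩
    · rw [derivedSeries_zero]; exact top_ne_bot
  | succ k ih =>
    obtain ⟨W, _, _, hW, ⟨f, hf⟩, hne⟩ := ih
    let C := Multiplicative (ZMod p)
    haveI : Nontrivial C := Finite.one_lt_card_iff_nontrivial.mp (by simpa [C] using hp.one_lt)
    haveI : Nonempty (Fin (p ^ (k + 1))) := ⟨⟨0, pow_pos hp.pos _⟩⟩
    refine ⟨W ≀ᵣ C, inferInstance, inferInstance, ?_, ?_, ?_⟩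
    · obtain ⟨m, hm⟩ := IsPGroup.iff_card.mp hW
      exact IsPGroup.of_card (n := m * p + 1) (by
        rw [RegularWreathProduct.card, hm]; simp [C, pow_succ, pow_mul])
    · letI := MulAction.compHom (Fin (p ^ (k + 1))) f
      haveI : FaithfulSMul W (Fin (p ^ (k + 1))) := ⟨fun h => hf (Equiv.ext h)⟩
      let e : Fin (p ^ (k + 1)) × C ≃ Fin (p ^ (k + 1 + 1)) :=
        Finite.equivFinOfCardEq (by simp [C, pow_succ])
      exact ⟨e.permCongrHom.toMonoidHom.comp (RegularWreathProduct.toPerm W C _),
        e.permCongrHom.injective.comp (RegularWreathProduct.toPermInj W C _)⟩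
    · exact wreath_derived_ne_bot hne

end H35
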