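import Mathlib
import Cfsg.Agent.H35.DerivedPerm

/-!
Derived length of `p`-groups of linear transformations.
-/

set_option autoImplicit false
set_option linter.all false

namespace H35

open Subgroup
open scoped commutatorElement

universe u v w

/-- A `p`-group acting linearly in characteristic `p` fixes a nonzero vector. -/
theorem exists_fixed_vector {p : ℕ} [Fact p.Prime] {F : Type v} [Field F] [CharP F p]
    {V : Type w} [AddCommGroup V] [Module F V] [Nontrivial V]
    {P : Type u} [Group P] [Finite P] (hP : IsPGroup p P) (ρ : P →* Module.End F V) :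
    ∃ v : V, v ≠ 0 ∧ ∀ g, ρ g v = v := by
  classical
  have hp := (Fact.out : p.Prime)
  obtain ⟨v₀, hv₀⟩ := exists_ne (0 : V)
  let A : AddSubgroup V := AddSubgroup.closure (Set.range fun g => ρ g v₀)
  have hpV : ∀ x : V, p • x = 0 := fun x => by
    rw [← Nat.cast_smul_eq_nsmul F, CharP.cast_eq_zero F p, zero_smul]
  have hinv : ∀ g : P, ∀ x ∈ A, ρ g x ∈ A := by
    intro g x hx
    induction hx using AddSubgroup.closure_induction with
    | mem y hy =>
      obtain ⟨h, rfl⟩ := hy
      exact AddSubgroup.subset_closure ⟨g * h, by simp [map_mul]⟩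
    | zero => simp
    | add y z _ _ h1 h2 => rw [map_add]; exact A.add_mem h1 h2
    | neg y _ h1 => rw [map_neg]; exact A.neg_mem h1
  haveI : AddGroup.FG A :=
    (AddGroup.fg_iff_addSubgroup_fg A).2 ⟨(Set.finite_range fun g => ρ g v₀).toFinset, by simp [A]⟩
  haveI : Finite A := AddCommGroup.finite_of_fg_isAddTorsion A
    (fun x => isOfFinAddOrder_iff_nsmul_eq_zero.2 ⟨p, hp.pos, Subtype.ext (by simpa using hpV x)⟩)
  letI : MulAction P A :=
    { smul := fun g x => ⟨ρ g x, hinv g x x.2⟩
      one_smul := fun x => Subtype.ext (by show ρ 1 (x : V) = x; simp)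
      mul_smul := fun g h x => Subtype.ext (by show ρ (g * h) (x : V) = ρ g (ρ h x); simp) }
  have hdvd : p ∣ Nat.card A := by
    have hv : (⟨v₀, AddSubgroup.subset_closure ⟨1, by simp⟩⟩ : A) ≠ 0 := fun h => hv₀ (congrArg Subtype.val h)
    have ho := addOrderOf_eq_prime (p := p) (x := (⟨v₀, AddSubgroup.subset_closure ⟨1, by simp⟩⟩ : A))
      (Subtype.ext (by simpa using hpV v₀)) hv
    have hd := addOrderOf_dvd_natCard (⟨v₀, AddSubgroup.subset_closure ⟨1, by simp⟩⟩ : A)
    rwa [ho] at hd
  obtain ⟨b, hb, hb0⟩ := hP.exists_fixed_point_of_prime_dvd_card_of_fixed_point A hdvd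
    (a := (0 : A)) (fun g => Subtype.ext (map_zero (ρ g)))
  exact ⟨b, fun h => hb0 (Subtype.ext h.symm), fun g => congrArg Subtype.val (hb g)⟩

section unipotent

variable {F : Type v} [Field F] {V : Type w} [AddCommGroup V] [Module F V] {P : Type u} [Group P]

/-- The ascending series of joint fixed spaces. -/
def fixSeries (ρ : P →* Module.End F V) : ℕ → Submodule F V
  | 0 => ⊥
  | m + 1 => ⨅ g : P, (fixSeries ρ m).comap (ρ g - 1)

theorem mem_fixSeries_succ (ρ : P →* Module.End F V) (m : ℕ) (v : V) :
    v ∈ fixSeries ρ (m + 1) ↔ ∀ g, ρ g v - v ∈ fixSeries ρ m := by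
  simp [fixSeries, Submodule.mem_iInf]

theorem fixSeries_le_succ (ρ : P →* Module.End F V) :
    ∀ m, fixSeries ρ m ≤ fixSeries ρ (m + 1)
  | 0 => bot_le
  | m + 1 => fun v hv => (mem_fixSeries_succ ρ _ v).2 fun g =>
      fixSeries_le_succ ρ m ((mem_fixSeries_succ ρ _ v).1 hv g)

theorem fixSeries_mono (ρ : P →* Module.End F V) : Monotone (fixSeries ρ) :=
  monotone_nat_of_le_succ (fixSeries_le_succ ρ)

theorem fixSeries_invariant (ρ : P →* Module.End F V) (m : ℕ) {v : V} (hv : v ∈ fixSeries ρ m)
    (g : P) : ρ g v ∈ fixSeries ρ m := by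
  rcases m with _ | m
  · simp only [fixSeries, Submodule.mem_bot] at hv ⊢; rw [hv, map_zero]
  · have h := fixSeries_le_succ ρ m ((mem_fixSeries_succ ρ m v).1 hv g)
    simpa using Submodule.add_mem _ h hv

theorem fixSeries_eq_top [FiniteDimensional F V] [Finite P] {p : ℕ} [Fact p.Prime] [CharP F p]
    (hP : IsPGroup p P) (ρ : P →* Module.End F V) : fixSeries ρ (Module.finrank F V) = ⊤ := by
  classical
  suffices ∀ m, m ≤ Module.finrank F V → m ≤ Module.finrank F (fixSeries ρ m) from
    Submodule.eq_top_of_finrank_eq (le_antisymm (Submodule.finrank_le _) (this _ le_rfl))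
  intro m
  induction m with
  | zero => simp
  | succ m ih =>
    intro hm
    have h1 := ih (by omega)
    by_cases htop : fixSeries ρ m = ⊤
    · have h2 : fixSeries ρ (m + 1) = ⊤ := top_le_iff.1 (htop ▸ fixSeries_le_succ ρ m)
      rw [h2, finrank_top]; exact hm
    have hlt : fixSeries ρ m < fixSeries ρ (m + 1) := by
      refine lt_of_le_of_ne (fixSeries_le_succ ρ m) fun heq => ?_
      haveI : Nontrivial (V ⧸ fixSeries ρ m) := Submodule.Quotient.nontrivial_iff.2 htop
      let ρq : P →* Module.End F (V ⧸ fixSeries ρ m) :=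
        { toFun := fun g => (fixSeries ρ m).mapQ (fixSeries ρ m) (ρ g)
            (fun v hv => fixSeries_invariant ρ m hv g)
          map_one' := by
            refine Submodule.linearMap_qext _ ?_
            ext v; simp
          map_mul' := fun g h => by
            refine Submodule.linearMap_qext _ ?_
            ext v; simp }
      obtain ⟨q, hq0, hq⟩ := exists_fixed_vector hP ρq
      obtain ⟨v, rfl⟩ := Submodule.Quotient.mk_surjective _ q
      refine hq0 ((Submodule.Quotient.mk_eq_zero _).2 (heq ▸ (mem_fixSeries_succ ρ m v).2 fun g => ?_))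
      rw [← Submodule.Quotient.eq]
      exact hq g
    have := Submodule.finrank_lt_finrank_of_lt hlt
    omega

/-- The `i`-th term of the congruence filtration on `P`. -/
def lowSub (ρ : P →* Module.End F V) (i : ℕ) : Subgroup P where
  carrier := {g | ∀ m, ∀ v ∈ fixSeries ρ m, ρ g v - v ∈ fixSeries ρ (m - i)}
  one_mem' := fun m v _ => by simp
  mul_mem' := fun {g h} hg hh m v hv => by
    have h1 := fixSeries_invariant ρ (m - i) (hh m v hv) g
    have h2 := hg m v hv
    have e : ρ (g * h) v - v = ρ g (ρ h v - v) + (ρ g v - v) := by simp [map_mul, map_sub]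
    rw [e]; exact Submodule.add_mem _ h1 h2
  inv_mem' := fun {g} hg m v hv => by
    have h1 := fixSeries_invariant ρ (m - i) (hg m v hv) g⁻¹
    have hh : ρ g⁻¹ (ρ g v) = v := by rw [← Module.End.mul_apply, ← map_mul, inv_mul_cancel, map_one]; rfl
    have e : ρ g⁻¹ v - v = - ρ g⁻¹ (ρ g v - v) := by rw [map_sub, hh]; abel
    rw [e]; exact Submodule.neg_mem _ h1

theorem derivedSeries_le_lowSub (ρ : P →* Module.End F V) :
    ∀ k, derivedSeries P k ≤ lowSub ρ (2 ^ k) := by
  intro k
  induction k with
  | zero =>
    intro g _ m v hv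
    rcases m with _ | m
    · simp only [fixSeries, Submodule.mem_bot] at hv ⊢
      simp [hv, fixSeries]
    · simpa using (mem_fixSeries_succ ρ m v).1 hv g
  | succ k ih =>
    rw [derivedSeries_succ, commutator_le]
    intro a ha b hb m v hv
    have ha' := ih ha
    have hb' := ih hb
    set w := ρ (b * a)⁻¹ v with hw
    have hwm : w ∈ fixSeries ρ m := fixSeries_invariant ρ m hv _
    have hbw : ρ (b * a) w = v := by
      rw [hw, ← Module.End.mul_apply, ← map_mul, mul_inv_cancel, map_one]; rfl
    have hcw : ρ ⁅a, b⁆ v = ρ (a * b) w := by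
      rw [hw, ← Module.End.mul_apply, ← map_mul, commutatorElement_def]; congr 2; group
    have e : ρ ⁅a, b⁆ v - v =
        (ρ a (ρ b w - w) - (ρ b w - w)) - (ρ b (ρ a w - w) - (ρ a w - w)) := by
      rw [hcw]; conv_lhs => arg 2; rw [← hbw]
      simp only [map_mul, Module.End.mul_apply, map_sub]; abel
    rw [e, show m - 2 ^ (k + 1) = m - 2 ^ k - 2 ^ k by rw [pow_succ]; omega]
    exact Submodule.sub_mem _ (ha' _ _ (hb' m w hwm)) (hb' _ _ (ha' m w hwm))

end unipotent

/-- Restriction of a representation to a subgroup and an invariant subspace. -/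
def restrictRep {F : Type v} [Field F] {V : Type w} [AddCommGroup V] [Module F V] {P : Type u} [Group P]
    (ρ : P →* Module.End F V) (M : Subgroup P) (W : Submodule F V)
    (h : ∀ g ∈ M, ∀ v ∈ W, ρ g v ∈ W) : M →* Module.End F W where
  toFun g := (ρ g).restrict (h g g.2)
  map_one' := by ext v; simp
  map_mul' g g' := by ext v; simp

theorem isSemisimple_rep {p : ℕ} [Fact p.Prime] {F : Type v} [Field F] (hp : (p : F) ≠ 0)
    {V : Type w} [AddCommGroup V] [Module F V] {P : Type u} [Group P]
    (hP : IsPGroup p P) (ρ : P →* Module.End F V) (g : P) : (ρ g).IsSemisimple := by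
  obtain ⟨k, hk⟩ := hP g
  refine Module.End.isSemisimple_of_squarefree_aeval_eq_zero
    (p := Polynomial.X ^ (p ^ k) - 1) ?_ ?_
  · exact ((Polynomial.X_pow_sub_one_separable_iff).2 (by
      push_cast; exact pow_ne_zero _ hp)).squarefree
  · rw [map_sub, Polynomial.aeval_X_pow, ← map_pow, hk, map_one, map_one, sub_self]

theorem iSup_eigenspace_rep {p : ℕ} [Fact p.Prime] {F : Type v} [Field F] [IsAlgClosed F] (hp : (p : F) ≠ 0)
    {V : Type w} [AddCommGroup V] [Module F V] [FiniteDimensional F V] {P : Type u} [Group P]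
    (hP : IsPGroup p P) (ρ : P →* Module.End F V) (g : P) :
    ⨆ μ : F, (ρ g).eigenspace μ = ⊤ := by
  rw [← Module.End.iSup_maxGenEigenspace_eq_top (ρ g)]
  congr 1; ext1 μ
  exact ((isSemisimple_rep hp hP ρ g).isFinitelySemisimple.maxGenEigenspace_eq_eigenspace μ).symm

theorem derivedSeries_le_ker_aux {p : ℕ} [Fact p.Prime] {F : Type v} [Field F] [IsAlgClosed F]
    (hp : (p : F) ≠ 0) (n : ℕ) :
    ∀ (V : Type w) [AddCommGroup V] [Module F V] [FiniteDimensional F V],
      Module.finrank F V = n → ∀ (P : Type u) [Group P] [Finite P], IsPGroup p P →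
        ∀ (ρ : P →* Module.End F V), derivedSeries P (Nat.log p n + 1) ≤ ρ.ker := by
  induction n using Nat.strong_induction_on with
  | _ n ih =>
    intro V _ _ _ hn P _ _ hP ρ
    classical
    by_cases hscal : ∀ g, (∀ h, ρ g * ρ h = ρ h * ρ g) → ∃ c : F, ρ g = c • 1
    swap
    · push Not at hscal
      obtain ⟨g, hg, hns⟩ := hscal
      intro d hd
      rw [MonoidHom.mem_ker]
      refine LinearMap.ext fun v => ?_
      have hv : v ∈ ⨆ μ : F, (ρ g).eigenspace μ := by rw [iSup_eigenspace_rep hp hP ρ g]; trivial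
      induction hv using Submodule.iSup_induction' with
      | mem μ x hx =>
        set E := (ρ g).eigenspace μ with hE
        have hne : E ≠ ⊤ := fun ht => hns μ (LinearMap.ext fun y => by
          have hy : y ∈ E := ht ▸ Submodule.mem_top
          simpa using Module.End.mem_eigenspace_iff.1 hy)
        have hlt : Module.finrank F E < n := hn ▸ Submodule.finrank_lt hne
        have hinv : ∀ a ∈ (⊤ : Subgroup P), ∀ y ∈ E, ρ a y ∈ E := by
          intro a _ y hy
          rw [hE, Module.End.mem_eigenspace_iff] at hy ⊢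
          rw [← Module.End.mul_apply, hg a, Module.End.mul_apply, hy, map_smul]
        have hker := ih _ hlt E rfl P hP ((restrictRep ρ ⊤ E hinv).comp
          (Subgroup.topEquiv (G := P)).symm.toMonoidHom)
        have hd' : d ∈ derivedSeries P (Nat.log p (Module.finrank F E) + 1) :=
          derivedSeries_antitone P (by have := Nat.log_mono_right (b := p) hlt.le; omega) hd
        have := LinearMap.congr_fun (MonoidHom.mem_ker.1 (hker hd')) ⟨x, hx⟩
        exact congrArg Subtype.val this
      | zero => simp
      | add x y _ _ hx hy => simp only [map_add, hx, hy]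
    by_cases hab : ∀ g h, ρ g * ρ h = ρ h * ρ g
    · refine (derivedSeries_antitone P (Nat.le_add_left 1 (Nat.log p n))).trans ?_
      rw [derivedSeries_one, commutator_def, commutator_le]
      intro a _ b _
      rw [MonoidHom.mem_ker, commutatorElement_def]
      simp only [map_mul]
      rw [hab a b, mul_assoc (ρ b), mul_assoc, mul_assoc, ← mul_assoc (ρ a), ← map_mul, mul_inv_cancel,
        map_one, one_mul, ← map_mul, mul_inv_cancel, map_one]
    -- an element central modulo the kernel of the action and the centre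
    obtain ⟨x, hxc, hx⟩ : ∃ x : P, (∀ g : P, ∃ c : F, ρ (g * x * g⁻¹) = c • ρ x) ∧
        ∃ h, ρ x * ρ h ≠ ρ h * ρ x := by
      let Z : Subgroup P :=
        { carrier := {z | ∀ h, ρ z * ρ h = ρ h * ρ z}
          one_mem' := fun h => by simp
          mul_mem' := fun {a b} ha hb h => by
            rw [map_mul, mul_assoc, hb h, ← mul_assoc, ha h, mul_assoc]
          inv_mem' := fun {a} ha h => by
            have e := congrArg (fun t => ρ a⁻¹ * t * ρ a⁻¹) (ha h)
            simp only [← map_mul, ← mul_assoc, inv_mul_cancel, one_mul] at e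
            simp only [map_mul] at e ⊢
            rw [mul_assoc (ρ a⁻¹) (ρ h) (ρ a), mul_assoc (ρ a⁻¹ ), mul_assoc (ρ h), ← map_mul ρ a a⁻¹,
              mul_inv_cancel, map_one, mul_one] at e
            exact e.symm }
      haveI : Z.Normal := ⟨fun z hz g h => by
        have e1 : ρ z * ρ (g⁻¹ * h * g) = ρ (g⁻¹ * h * g) * ρ z := hz _
        calc ρ (g * z * g⁻¹) * ρ h = ρ g * (ρ z * ρ (g⁻¹ * h * g)) * ρ g⁻¹ := by
              simp only [← map_mul]; congr 1; group
          _ = ρ g * (ρ (g⁻¹ * h * g) * ρ z) * ρ g⁻¹ := by rw [e1]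
          _ = ρ h * ρ (g * z * g⁻¹) := by simp only [← map_mul]; congr 1; group⟩
      haveI : Nontrivial (P ⧸ Z) := QuotientGroup.nontrivial_iff.2 fun ht => hab fun g h =>
        (show g ∈ Z from ht ▸ mem_top g) h
      haveI := (hP.to_quotient Z).center_nontrivial
      obtain ⟨⟨q, hq⟩, hq1⟩ := exists_ne (1 : Subgroup.center (P ⧸ Z))
      obtain ⟨x, rfl⟩ := QuotientGroup.mk'_surjective Z q
      refine ⟨x, fun g => ?_, ?_⟩
      · have hz : g * x * g⁻¹ * x⁻¹ ∈ Z := by
          rw [← QuotientGroup.eq_one_iff]
          have := mem_center_iff.1 hq (QuotientGroup.mk' Z g)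
          simp only [QuotientGroup.mk'_apply] at this
          simp only [QuotientGroup.mk_mul, QuotientGroup.mk_inv]
          rw [this]; group
        obtain ⟨c, hc⟩ := hscal _ hz
        refine ⟨c, ?_⟩
        rw [show g * x * g⁻¹ = (g * x * g⁻¹ * x⁻¹) * x by group, map_mul, hc, smul_mul_assoc, one_mul]
      · by_contra hall
        push Not at hall
        exact hq1 (Subtype.ext ((QuotientGroup.eq_one_iff _).2 hall))
    let M : Subgroup P :=
      { carrier := {g | ρ g * ρ x = ρ x * ρ g}
        one_mem' := by simp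
        mul_mem' := fun {a b} (ha : _ = _) (hb : _ = _) => by
          show ρ (a * b) * ρ x = ρ x * ρ (a * b)
          rw [map_mul, mul_assoc, hb, ← mul_assoc, ha, mul_assoc]
        inv_mem' := fun {a} (ha : _ = _) => by
          show ρ a⁻¹ * ρ x = ρ x * ρ a⁻¹
          calc ρ a⁻¹ * ρ x = ρ a⁻¹ * (ρ x * ρ a) * ρ a⁻¹ := by
                simp only [← map_mul]; congr 1; group
            _ = ρ a⁻¹ * (ρ a * ρ x) * ρ a⁻¹ := by rw [ha]
            _ = ρ x * ρ a⁻¹ := by simp only [← map_mul]; congr 1; group }
    have hcomm : commutator P ≤ M := by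
      rw [commutator_def, commutator_le]
      intro a _ b _
      have step : ∀ g : P, ∃ c : F, ρ g * ρ x = c • (ρ x * ρ g) := fun g => by
        obtain ⟨c, hc⟩ := hxc g
        refine ⟨c, ?_⟩
        rw [← smul_mul_assoc, ← hc]; simp only [← map_mul]; congr 1; group
      obtain ⟨ca, ha⟩ := step a
      obtain ⟨cb, hb⟩ := step b
      have h1 : ρ (a * b) * ρ x = (ca * cb) • (ρ x * ρ (a * b)) := by
        rw [map_mul, mul_assoc, hb, mul_smul_comm, ← mul_assoc, ha, smul_mul_assoc, mul_assoc, smul_smul,
          mul_comm cb]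
      have h2 : ρ (b * a) * ρ x = (ca * cb) • (ρ x * ρ (b * a)) := by
        rw [map_mul, mul_assoc, ha, mul_smul_comm, ← mul_assoc, hb, smul_mul_assoc, mul_assoc, smul_smul]
      -- `x` twists `(b a)⁻¹` by the inverse scalar
      have h3 : ρ x * ρ (b * a)⁻¹ = (ca * cb) • (ρ (b * a)⁻¹ * ρ x) := by
        calc ρ x * ρ (b * a)⁻¹ = ρ (b * a)⁻¹ * (ρ (b * a) * ρ x) * ρ (b * a)⁻¹ := by
              simp only [← map_mul]; congr 1; group
          _ = (ca * cb) • (ρ (b * a)⁻¹ * (ρ x * ρ (b * a)) * ρ (b * a)⁻¹) := by
              rw [h2, mul_smul_comm, smul_mul_assoc]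
          _ = (ca * cb) • (ρ (b * a)⁻¹ * ρ x) := by simp only [← map_mul]; congr 2; group
      show ρ ⁅a, b⁆ * ρ x = ρ x * ρ ⁅a, b⁆
      calc ρ ⁅a, b⁆ * ρ x = ρ (a * b) * (ρ (b * a)⁻¹ * ρ x) := by
            rw [commutatorElement_def]; simp only [← map_mul]; congr 1; group
        _ = ρ x * ρ (a * b) * ρ (b * a)⁻¹ := by
            rcases eq_or_ne (ca * cb) 0 with h0 | h0
            · exfalso
              rw [h0, zero_smul] at h1
              have : (1 : Module.End F V) = 0 := by
                calc (1 : Module.End F V) = ρ (a * b)⁻¹ * (ρ (a * b) * ρ x) * ρ x⁻¹ := by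
                      simp only [← map_mul]; rw [← map_one ρ]; congr 1; group
                  _ = 0 := by rw [h1, mul_zero, zero_mul]
              obtain ⟨h, hh⟩ := hx
              apply hh
              rw [← mul_one (ρ x * ρ h), this, mul_zero, ← mul_one (ρ h * ρ x), this, mul_zero]
            · calc ρ (a * b) * (ρ (b * a)⁻¹ * ρ x)
                  = (ca * cb)⁻¹ • (ρ (a * b) * ρ x * ρ (b * a)⁻¹) := by
                    rw [mul_assoc (ρ (a * b)) (ρ x), h3, mul_smul_comm, smul_smul, inv_mul_cancel₀ h0, one_smul]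
                _ = _ := by rw [h1, smul_mul_assoc, smul_smul, inv_mul_cancel₀ h0, one_smul]
        _ = ρ x * ρ ⁅a, b⁆ := by
            rw [commutatorElement_def]; simp only [← map_mul]; congr 1; group
    obtain ⟨g₀, hg₀⟩ := hx
    obtain ⟨c, hc⟩ := hxc g₀
    have htw : ρ g₀ * ρ x = c • (ρ x * ρ g₀) := by
      rw [← smul_mul_assoc, ← hc]; simp only [← map_mul]; congr 1; group
    have hc1 : c ≠ 1 := fun h => hg₀ (by rw [htw, h, one_smul])
    intro d hd
    have hd' := map_derivedSeries_le_succ M hcomm (Nat.log p n) hd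
    obtain ⟨d', hd'm, rfl⟩ := hd'
    rw [MonoidHom.mem_ker]
    refine LinearMap.ext fun v => ?_
    have hv : v ∈ ⨆ μ : F, (ρ x).eigenspace μ := by rw [iSup_eigenspace_rep hp hP ρ x]; trivial
    induction hv using Submodule.iSup_induction' with
    | mem μ y hy =>
      rcases eq_or_ne y 0 with rfl | hy0
      · simp
      set E := (ρ x).eigenspace μ with hE
      have hμ : μ ≠ 0 := by
        rintro rfl
        apply hy0
        have h1 : ρ x y = 0 := by simpa using Module.End.mem_eigenspace_iff.1 hy
        have h2 := congrArg (ρ x⁻¹) h1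
        rwa [← Module.End.mul_apply, ← map_mul, inv_mul_cancel, map_one, map_zero] at h2
      have hinv : ∀ a ∈ M, ∀ z ∈ E, ρ a z ∈ E := by
        intro a ha z hz
        rw [hE, Module.End.mem_eigenspace_iff] at hz ⊢
        rw [← Module.End.mul_apply, ← (ha : ρ a * ρ x = ρ x * ρ a), Module.End.mul_apply, hz, map_smul]
      -- the translates of `E` are independent eigenspaces of the same dimension
      have hpp := (Fact.out : p.Prime)
      have htwi : ∀ i : ℕ, ρ (g₀ ^ i) * ρ x = c ^ i • (ρ x * ρ (g₀ ^ i)) := by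
        intro i
        induction i with
        | zero => simp
        | succ i hi =>
          rw [pow_succ, map_mul, mul_assoc, htw, mul_smul_comm, ← mul_assoc, hi, smul_mul_assoc, smul_smul,
            mul_assoc, pow_succ, mul_comm]
      obtain ⟨j, hj⟩ := hP g₀
      have hcj : c ^ (p ^ j) = 1 := by
        have h1 := LinearMap.congr_fun (htwi (p ^ j)) y
        rw [hj, map_one, one_mul, mul_one, LinearMap.smul_apply,
          Module.End.mem_eigenspace_iff.1 hy, smul_smul] at h1
        have h2 : (c ^ (p ^ j) * μ - μ) • y = 0 := by rw [sub_smul, ← h1, sub_self]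
        exact (mul_eq_right₀ hμ).1 (sub_eq_zero.1 ((smul_eq_zero.1 h2).resolve_right hy0))
      obtain ⟨i₀, hi₀, hord⟩ := (Nat.dvd_prime_pow hpp).1 (orderOf_dvd_of_pow_eq_one hcj)
      have hple : p ≤ orderOf c := by
        rw [hord]
        refine Nat.le_self_pow (fun h0 => hc1 ?_) p
        rw [← orderOf_eq_one_iff, hord, h0, pow_zero]
      have hcinj : Set.InjOn (fun i : ℕ => (c⁻¹) ^ i * μ) (Finset.range p) := by
        intro a ha b hb hab
        have hab' := mul_right_cancel₀ hμ hab
        simp only [inv_pow, inv_inj] at hab'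
        exact pow_injOn_Iio_orderOf (lt_of_lt_of_le (Finset.mem_range.1 ha) hple)
          (lt_of_lt_of_le (Finset.mem_range.1 hb) hple) hab'
      have hc0 : c ≠ 0 := fun h => by
        rw [h, zero_pow (pow_ne_zero _ hpp.ne_zero)] at hcj; exact zero_ne_one hcj
      have hfr : ∀ i : ℕ, Module.finrank F E ≤ Module.finrank F ((ρ x).eigenspace ((c⁻¹) ^ i * μ)) := by
        intro i
        have hinj : Function.Injective (ρ (g₀ ^ i)) := fun a b hab => by
          have := congrArg (ρ (g₀ ^ i)⁻¹) hab
          rwa [← Module.End.mul_apply, ← Module.End.mul_apply, ← map_mul, inv_mul_cancel, map_one] at this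
        rw [LinearEquiv.finrank_eq (Submodule.equivMapOfInjective _ hinj E)]
        refine Submodule.finrank_mono ?_
        rintro _ ⟨z, hz, rfl⟩
        rw [SetLike.mem_coe, hE, Module.End.mem_eigenspace_iff] at hz
        rw [Module.End.mem_eigenspace_iff]
        have h1 := LinearMap.congr_fun (htwi i) z
        rw [Module.End.mul_apply, hz, map_smul, LinearMap.smul_apply, Module.End.mul_apply] at h1
        rw [mul_smul, h1, smul_smul, inv_pow, inv_mul_cancel₀ (pow_ne_zero i hc0), one_smul]
      have hpE : p * Module.finrank F E ≤ n := by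
        have hind := (Module.End.eigenspaces_iSupIndep (ρ x))
        have key : ∀ s : Finset ℕ, s ⊆ Finset.range p → s.card * Module.finrank F E ≤
            Module.finrank F ↥(⨆ i ∈ s, (ρ x).eigenspace ((c⁻¹) ^ i * μ)) := by
          intro s
          induction s using Finset.induction_on with
          | empty => simp
          | @insert a s ha hs =>
            intro hsub
            have hs' := hs ((Finset.subset_insert a s).trans hsub)
            rw [Finset.card_insert_of_notMem ha, add_mul, one_mul, Finset.iSup_insert]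
            set A := (ρ x).eigenspace ((c⁻¹) ^ a * μ)
            set B := ⨆ i ∈ s, (ρ x).eigenspace ((c⁻¹) ^ i * μ)
            have hd : Disjoint A B := by
              refine (hind ((c⁻¹) ^ a * μ)).mono le_rfl (iSup₂_le fun i hi => ?_)
              refine le_iSup₂_of_le ((c⁻¹) ^ i * μ) (fun heq => ha ?_) le_rfl
              rwa [← hcinj (hsub (Finset.mem_insert_of_mem hi)) (hsub (Finset.mem_insert_self a s)) heq]
            have h1 := Submodule.finrank_sup_add_finrank_inf_eq A B
            rw [hd.eq_bot, finrank_bot, add_zero] at h1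
            have : Module.finrank F E ≤ Module.finrank F A := hfr a
            omega
        have h2 := (key (Finset.range p) (Finset.Subset.refl _)).trans (Submodule.finrank_le _)
        rwa [Finset.card_range, hn] at h2
      have hpos : 0 < Module.finrank F E := by
        rw [pos_iff_ne_zero, ne_eq, Submodule.finrank_eq_zero]
        intro h; exact hy0 (by rwa [h, Submodule.mem_bot] at hy)
      have hlt : Module.finrank F E < n := by
        refine lt_of_lt_of_le ?_ hpE
        exact lt_mul_of_one_lt_left hpos hpp.one_lt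
      have hker := ih _ hlt E rfl M (hP.to_subgroup M) (restrictRep ρ M E hinv)
      have hk : Nat.log p (Module.finrank F E) + 1 ≤ Nat.log p n := by
        rw [Nat.succ_le_iff]
        have h3 : Nat.log p (Module.finrank F E * p) ≤ Nat.log p n :=
          Nat.log_mono_right (by rw [mul_comm]; exact hpE)
        rw [Nat.log_mul_base hpp.one_lt hpos.ne'] at h3
        omega
      have := LinearMap.congr_fun (MonoidHom.mem_ker.1 (hker (derivedSeries_antitone M hk hd'm))) ⟨y, hy⟩
      exact congrArg Subtype.val this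
    | zero => simp
    | add y z _ _ h1 h2 => simp only [map_add, h1, h2]

/-- A finite linear `p`-group in dimension `n` has derived length at most `log₂ n + 1`. -/
theorem derivedSeries_eq_bot_of_matrix {p : ℕ} [Fact p.Prime] {P : Type u} [Group P] [Finite P]
    (hP : IsPGroup p P) {F : Type v} [Field F] {n : ℕ}
    (ρ : P →* Matrix.GeneralLinearGroup (Fin n) F) (hρ : Function.Injective ρ) :
    derivedSeries P (Nat.log 2 n + 1) = ⊥ := by
  let K := AlgebraicClosure F
  let σ : P →* Module.End K (Fin n → K) :=
    ((Matrix.toLinAlgEquiv' (R := K) (n := Fin n)).toMonoidHom.comp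
      ((Units.coeHom (Matrix (Fin n) (Fin n) K)).comp (Matrix.GeneralLinearGroup.map (algebraMap F K)))).comp ρ
  have hσ : σ.ker = ⊥ := by
    rw [MonoidHom.ker_eq_bot_iff]
    intro a b hab
    apply hρ
    have h1 := (Matrix.toLinAlgEquiv' (R := K) (n := Fin n)).injective hab
    apply Units.ext
    ext i j
    have h2 := congrFun (congrFun h1 i) j
    exact (algebraMap F K).injective h2
  by_cases hp : (p : F) = 0
  · haveI : CharP F p := (CharP.charP_iff_prime_eq_zero Fact.out).2 hp
    haveI : CharP K p := charP_of_injective_algebraMap (algebraMap F K).injective p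
    rw [eq_bot_iff, ← hσ]
    intro g hg
    refine LinearMap.ext fun v => ?_
    have h := derivedSeries_le_lowSub σ _ hg n v (by
      have := fixSeries_eq_top hP σ
      rw [Module.finrank_fintype_fun_eq_card, Fintype.card_fin] at this
      rw [this]; trivial)
    rw [show n - 2 ^ (Nat.log 2 n + 1) = 0 by
      have := Nat.lt_pow_succ_log_self (b := 2) (by norm_num) n; omega] at h
    simpa [fixSeries, sub_eq_zero] using h
  · rw [eq_bot_iff, ← hσ]
    refine (derivedSeries_antitone P (Nat.succ_le_succ
      (Nat.log_anti_left (b := p) (c := 2) (by norm_num) (Fact.out : p.Prime).two_le (n := n)))).trans ?_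
    refine derivedSeries_le_ker_aux (p := p) (F := K) ?_ n (Fin n → K) (by simp) P hP σ
    rw [← map_natCast (algebraMap F K), ne_eq, map_eq_zero]
    exact hp

end H35
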