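import Mathlib

/-! Small general lemmas: generation by prime-power elements, conjugacy of p-subgroups modulo a
normal p'-subgroup, TI Sylow subgroups. -/

namespace H35

open Subgroup
open scoped Pointwise

variable {G : Type*} [Group G]

/-- A subgroup containing every element of prime power order is everything. -/
theorem eq_top_of_prime_pow_mem [Finite G] (H : Subgroup G)
    (h : ∀ (q b : ℕ) (x : G), q.Prime → orderOf x = q ^ b → x ∈ H) : H = ⊤ := by
  apply eq_top_of_card_eq
  apply Nat.dvd_antisymm (card_subgroup_dvd_card H)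
  rw [Nat.dvd_iff_prime_pow_dvd_dvd]
  intro q k hq hk
  haveI := Fact.mk hq
  obtain ⟨K, hK⟩ := Sylow.exists_subgroup_card_pow_prime q hk
  have hKH : K ≤ H := by
    intro x hx
    obtain ⟨b, hb⟩ := (IsPGroup.iff_orderOf.1 (IsPGroup.of_card hK)) ⟨x, hx⟩
    exact h q b x hq (by rwa [← Subgroup.orderOf_coe] at hb)
  rw [← hK]
  exact card_dvd_of_le hKH

theorem eq_one_of_mem_coprime_of_mem_pGroup {p : ℕ} {N P : Subgroup G} (hN : (Nat.card N).Coprime p)
    (hP : IsPGroup p P) {z : G} (hzN : z ∈ N) (hzP : z ∈ P) : z = 1 := by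
  obtain ⟨k, hk⟩ := hP ⟨z, hzP⟩
  have hk' : z ^ p ^ k = 1 := congrArg Subtype.val hk
  rw [← orderOf_eq_one_iff]
  exact Nat.eq_one_of_dvd_coprimes (hN.pow_right k) (Subgroup.orderOf_dvd_natCard N hzN)
    (orderOf_dvd_of_pow_eq_one hk')

/-- If `A` is a p-subgroup inside `B ⊔ N` (`N` a normal p'-subgroup, `B` a p-subgroup), then an element
of `N` conjugates `A` into `B`. -/
theorem exists_conj_mem_of_le_sup [Finite G] {p : ℕ} [Fact p.Prime] (N : Subgroup G) [N.Normal]
    (hN : (Nat.card N).Coprime p) {A B : Subgroup G} (hA : IsPGroup p A) (hB : IsPGroup p B)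
    (hAB : A ≤ B ⊔ N) : ∃ n ∈ N, ∀ a ∈ A, n * a * n⁻¹ ∈ B := by
  set π := QuotientGroup.mk' N with hπ
  have hsurj : Function.Surjective π := QuotientGroup.mk'_surjective N
  set M := (B.map π).comap π with hM
  have hsup : M = B ⊔ N := by rw [hM, comap_map_eq, hπ, QuotientGroup.ker_mk']
  have hBM : B ≤ M := le_comap_map _ _
  have hAM : A ≤ M := hsup ▸ hAB
  have hindex : ¬ p ∣ (B.subgroupOf M).index := by
    intro hd
    have hcardM : Nat.card M = Nat.card (B.map π) * Nat.card N := by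
      have e1 := card_mul_index M
      have e2 := card_mul_index (B.map π)
      have e3 : M.index = (B.map π).index := index_comap_of_surjective _ hsurj
      have e4 := card_eq_card_quotient_mul_card_subgroup N
      have e5 : 0 < (B.map π).index := Nat.pos_of_ne_zero index_ne_zero_of_finite
      rw [e3] at e1
      apply Nat.eq_of_mul_eq_mul_right e5
      rw [e1, e4, ← e2]
      ring
    have hmapP : Nat.card (B.map π) = Nat.card B := by
      refine (Nat.card_congr (Equiv.ofBijective (fun a : B => (⟨π a, a, a.2, rfl⟩ : B.map π)) ⟨?_, ?_⟩)).symm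
      · intro a b hab
        have hab' : π (a:G) = π b := congrArg Subtype.val hab
        exact Subtype.ext (inv_mul_eq_one.1 (eq_one_of_mem_coprime_of_mem_pGroup hN hB ((QuotientGroup.eq).1 hab')
          (B.mul_mem (B.inv_mem a.2) b.2)))
      · rintro ⟨_, a, ha, rfl⟩; exact ⟨⟨a, ha⟩, rfl⟩
    have h1 : (B.subgroupOf M).index = Nat.card N := by
      have := card_mul_index (B.subgroupOf M)
      rw [Nat.card_congr (subgroupOfEquivOfLe hBM).toEquiv, hcardM, hmapP] at this
      exact Nat.eq_of_mul_eq_mul_left Nat.card_pos this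
    exact (Fact.out : p.Prime).coprime_iff_not_dvd.1 hN.symm (h1 ▸ hd)
  let S : Sylow p M := (hB.comap_subtype).toSylow hindex
  have hQ : IsPGroup p (A.subgroupOf M) := hA.comap_subtype
  obtain ⟨T, hT⟩ := hQ.exists_le_sylow
  obtain ⟨u, hu⟩ := MulAction.exists_smul_eq M T S
  obtain ⟨a, ha, hau⟩ := Subgroup.mem_map.1 u.2
  refine ⟨a⁻¹ * u, (QuotientGroup.eq).1 hau, fun z hz => ?_⟩
  have h1 : (⟨z, hAM hz⟩ : M) ∈ (T : Subgroup M) := hT hz
  have h2 : u * (⟨z, hAM hz⟩ : M) * u⁻¹ ∈ (S : Subgroup M) := by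
    rw [← hu]
    exact Subgroup.smul_mem_pointwise_smul _ (MulAut.conj u) _ h1
  have h3 : (u:G) * z * (u:G)⁻¹ ∈ B := h2
  have h4 := B.mul_mem (B.mul_mem (B.inv_mem ha) h3) ha
  simpa [mul_assoc] using h4

/-- If one Sylow subgroup is TI, distinct Sylow subgroups meet trivially. -/
theorem sylow_inf_eq_bot_of_ti [Finite G] {p : ℕ} [Fact p.Prime] (P : Sylow p G)
    (hTI : ∀ g : G, g ∉ normalizer ((P : Subgroup G) : Set G) → (P : Subgroup G) ⊓ (MulAut.conj g • (P : Subgroup G)) = ⊥)
    {R S : Sylow p G} (hRS : R ≠ S) : (R : Subgroup G) ⊓ (S : Subgroup G) = ⊥ := by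
  obtain ⟨g, rfl⟩ := MulAction.exists_smul_eq G P R
  obtain ⟨h, rfl⟩ := MulAction.exists_smul_eq G P S
  have hn : g⁻¹ * h ∉ normalizer ((P : Subgroup G) : Set G) := by
    intro hn
    apply hRS
    have := Sylow.smul_eq_iff_mem_normalizer.2 hn
    nth_rw 1 [← this]
    rw [smul_smul, mul_inv_cancel_left]
  have h0 := hTI _ hn
  have e : MulAut.conj h = MulAut.conj g * MulAut.conj (g⁻¹ * h) := by rw [← map_mul, mul_inv_cancel_left]
  rw [Sylow.coe_subgroup_smul, Sylow.coe_subgroup_smul, e, mul_smul, ← Subgroup.smul_inf, h0, Subgroup.smul_bot]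

end H35
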