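import Mathlib

/-! An element of odd order that centralizes every real 2-element centralizes every 2-subgroup it normalizes. -/

namespace H35

open Subgroup

variable {G : Type*} [Group G]

theorem conj_fixed_of_real_fixed_aux [Finite G] (g : G) (m : ℕ) (hm : Odd m) (hgm : g ^ m = 1)
    (hreal : ∀ x : G, (∃ j : ℕ, orderOf x = 2 ^ j) → IsConj x x⁻¹ → g * x * g⁻¹ = x) (n : ℕ) :
    ∀ U : Subgroup G, Nat.card U ≤ n → IsPGroup 2 U → (∀ u ∈ U, g * u * g⁻¹ ∈ U) → ∀ u ∈ U, g * u * g⁻¹ = u := by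
  induction n with
  | zero => intro U h; exact absurd h (by simp [Nat.card_pos.ne'])
  | succ n ih =>
    intro U hcard hU hgU
    by_cases hUbot : U = ⊥
    · subst hUbot; intro u hu; rw [mem_bot.1 hu]; simp
    have hproper : ∀ V : Subgroup G, V ≤ U → V ≠ U → (∀ u ∈ V, g * u * g⁻¹ ∈ V) → ∀ u ∈ V, g * u * g⁻¹ = u := by
      intro V hV hne hg
      refine ih V ?_ (hU.to_le hV) hg
      by_contra hlt
      exact hne (eq_of_le_of_card_ge hV (by omega))
    -- a subgroup of index two
    obtain ⟨k₀, hk⟩ := hU.exists_card_eq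
    obtain ⟨k, rfl⟩ : ∃ j, k₀ = j + 1 := by
      rcases k₀ with _ | j
      · exact absurd (card_eq_one.1 (by simpa using hk)) hUbot
      · exact ⟨j, rfl⟩
    obtain ⟨W, hW⟩ := Sylow.exists_subgroup_card_pow_prime 2 (G := U) (n := k) (hk ▸ pow_dvd_pow 2 (by omega))
    have hWi : W.index = 2 := by
      have := card_mul_index W
      rw [hW, hk, pow_succ] at this
      exact Nat.eq_of_mul_eq_mul_left (pow_pos (by norm_num) k) this
    -- squares
    let V₀ : Subgroup G := closure ((fun u => u * u) '' (U : Set G))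
    have hsq : ∀ u ∈ U, u * u ∈ V₀ := fun u hu => subset_closure ⟨u, hu, rfl⟩
    have hV₀W : V₀ ≤ W.map U.subtype := by
      rw [closure_le]
      rintro _ ⟨u, hu, rfl⟩
      exact ⟨(⟨u, hu⟩ : U) * ⟨u, hu⟩, W.mul_self_mem_of_index_two hWi _, rfl⟩
    have hV₀U : V₀ ≤ U := hV₀W.trans (map_subtype_le W)
    have hV₀ne : V₀ ≠ U := by
      intro h
      have h1 : Nat.card U ≤ Nat.card (W.map U.subtype) := card_le_of_le (h.symm.le.trans hV₀W)
      rw [card_map_of_injective U.subtype_injective, hW, hk] at h1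
      exact absurd (Nat.pow_le_pow_iff_right (by norm_num : 1 < 2) |>.1 h1) (by omega)
    have hV₀g : ∀ u ∈ V₀, g * u * g⁻¹ ∈ V₀ := by
      intro u hu
      have hle : V₀ ≤ V₀.comap (MulAut.conj g).toMonoidHom := by
        rw [closure_le]
        rintro _ ⟨w, hw, rfl⟩
        show g * (w * w) * g⁻¹ ∈ V₀
        rw [show g * (w * w) * g⁻¹ = (g * w * g⁻¹) * (g * w * g⁻¹) by group]
        exact hsq _ (hgU w hw)
      exact hle hu
    have hfixV := hproper V₀ hV₀U hV₀ne hV₀g
    have hcomm_mem : ∀ a ∈ U, ∀ b ∈ U, a * b * a⁻¹ * b⁻¹ ∈ V₀ := by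
      intro a ha b hb
      have e : a * b * a⁻¹ * b⁻¹ = ((a * b) * (a * b)) * ((b⁻¹ * a⁻¹ * b) * (b⁻¹ * a⁻¹ * b)) * (b⁻¹ * b⁻¹) := by group
      rw [e]
      exact V₀.mul_mem (V₀.mul_mem (hsq _ (U.mul_mem ha hb)) (hsq _ (U.mul_mem (U.mul_mem (U.inv_mem hb) (U.inv_mem ha)) hb))) (hsq _ (U.inv_mem hb))
    have hV₀conj : ∀ a ∈ U, ∀ v ∈ V₀, a * v * a⁻¹ ∈ V₀ := by
      intro a ha v hv
      have := V₀.mul_mem (hcomm_mem a ha v (hV₀U hv)) hv
      rwa [inv_mul_cancel_right] at this
    -- D = [U, g]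
    let D : Subgroup G := closure ((fun u => u⁻¹ * (g * u * g⁻¹)) '' (U : Set G))
    have hDU : D ≤ U := by
      rw [closure_le]
      rintro _ ⟨u, hu, rfl⟩
      exact U.mul_mem (U.inv_mem hu) (hgU u hu)
    have hDg : ∀ u ∈ D, g * u * g⁻¹ ∈ D := by
      intro u hu
      have hle : D ≤ D.comap (MulAut.conj g).toMonoidHom := by
        rw [closure_le]
        rintro _ ⟨w, hw, rfl⟩
        exact subset_closure ⟨g * w * g⁻¹, hgU w hw, by simp only [MulEquiv.coe_toMonoidHom, MulAut.conj_apply]; group⟩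
      exact hle hu
    by_cases hD : D = U
    swap
    · intro u hu
      set d := u⁻¹ * (g * u * g⁻¹) with hd
      have hfix := hproper D hDU hD hDg
      have hdD : d ∈ D := subset_closure ⟨u, hu, rfl⟩
      have hgd := hfix d hdD
      have hpow : ∀ i : ℕ, g ^ i * u * (g ^ i)⁻¹ = u * d ^ i := by
        intro i
        induction i with
        | zero => simp
        | succ i hi =>
          calc g ^ (i + 1) * u * (g ^ (i + 1))⁻¹ = g * (g ^ i * u * (g ^ i)⁻¹) * g⁻¹ := by rw [pow_succ']; group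
            _ = g * (u * d ^ i) * g⁻¹ := by rw [hi]
            _ = (g * u * g⁻¹) * (g * d * g⁻¹) ^ i := by rw [conj_pow]; group
            _ = (u * d) * d ^ i := by rw [hgd, hd]; group
            _ = _ := by rw [pow_succ', mul_assoc]
      have h1 := hpow m
      rw [hgm] at h1
      simp only [one_mul, inv_one, mul_one] at h1
      have h1' : d ^ m = 1 := by
        calc d ^ m = u⁻¹ * (u * d ^ m) := by group
          _ = 1 := by rw [← h1]; group
      obtain ⟨j, hj⟩ := IsPGroup.iff_orderOf.1 hU ⟨d, hDU hdD⟩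
      rw [Subgroup.orderOf_mk] at hj
      have hd1 : d = 1 := by
        rw [← orderOf_eq_one_iff]
        exact Nat.eq_one_of_dvd_coprimes (Nat.Coprime.pow_left j (Nat.coprime_two_left.2 hm)) (hj ▸ dvd_rfl) (orderOf_dvd_of_pow_eq_one h1')
      rw [hd] at hd1
      exact (inv_mul_eq_one.1 hd1).symm
    -- V₀ is central in U
    have hcentral : ∀ v ∈ V₀, ∀ a ∈ U, a * v = v * a := by
      intro v hv
      have hle : D ≤ centralizer ({v} : Set G) := by
        rw [closure_le]
        rintro _ ⟨u, hu, rfl⟩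
        rw [SetLike.mem_coe, mem_centralizer_singleton_iff]
        have hgv : g * v * g⁻¹ = v := hfixV v hv
        have hguv := hfixV _ (hV₀conj u hu v hv)
        have h2 : (g * u * g⁻¹) * v * (g * u * g⁻¹)⁻¹ = u * v * u⁻¹ := by
          calc (g * u * g⁻¹) * v * (g * u * g⁻¹)⁻¹ = (g * u * g⁻¹) * (g * v * g⁻¹) * (g * u * g⁻¹)⁻¹ := by rw [hgv]
            _ = g * (u * v * u⁻¹) * g⁻¹ := by group
            _ = _ := hguv
        rw [mul_inv_eq_iff_eq_mul] at h2
        calc u⁻¹ * (g * u * g⁻¹) * v = u⁻¹ * ((g * u * g⁻¹) * v) := by group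
          _ = u⁻¹ * (u * v * u⁻¹ * (g * u * g⁻¹)) := by rw [h2]
          _ = _ := by group
      intro a ha
      exact mem_centralizer_singleton_iff.1 (hle (hD.symm ▸ ha : a ∈ D))
    let c : G → G → G := fun a b => a * b * a⁻¹ * b⁻¹
    have hc_mul_right : ∀ a ∈ U, ∀ b ∈ U, ∀ b' ∈ U, c a (b * b') = c a b * c a b' := by
      intro a ha b hb b' hb'
      calc c a (b * b') = c a b * (b * c a b' * b⁻¹) := by simp only [c]; group
        _ = _ := by rw [show b * c a b' = c a b' * b from hcentral _ (hcomm_mem a ha b' hb') b hb, mul_inv_cancel_right]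
    have hc_mul_left : ∀ a ∈ U, ∀ a' ∈ U, ∀ b ∈ U, c (a * a') b = c a' b * c a b := by
      intro a ha a' ha' b hb
      calc c (a * a') b = (a * c a' b * a⁻¹) * c a b := by simp only [c]; group
        _ = _ := by rw [show a * c a' b = c a' b * a from hcentral _ (hcomm_mem a' ha' b hb) a ha, mul_inv_cancel_right]
    let U' : Subgroup G := closure {z | ∃ a ∈ U, ∃ b ∈ U, c a b = z}
    have hU'V : U' ≤ V₀ := by
      rw [closure_le]; rintro _ ⟨a, ha, b, hb, rfl⟩; exact hcomm_mem a ha b hb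
    -- every square lies in U'
    let S : Subgroup G :=
      { carrier := {u | u ∈ U ∧ u * u ∈ U'}
        one_mem' := ⟨U.one_mem, by simp [U'.one_mem]⟩
        mul_mem' := by
          rintro a b ⟨ha, ha'⟩ ⟨hb, hb'⟩
          refine ⟨U.mul_mem ha hb, ?_⟩
          have e : a * b * (a * b) = a * a * (c a⁻¹ b) * (b * b) := by simp only [c]; group
          rw [e]
          exact U'.mul_mem (U'.mul_mem ha' (subset_closure ⟨a⁻¹, U.inv_mem ha, b, hb, rfl⟩)) hb'
        inv_mem' := by
          rintro a ⟨ha, ha'⟩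
          refine ⟨U.inv_mem ha, ?_⟩
          rw [← mul_inv_rev]; exact U'.inv_mem ha' }
    have hDS : D ≤ S := by
      rw [closure_le]
      rintro _ ⟨u, hu, rfl⟩
      set d := u⁻¹ * (g * u * g⁻¹) with hd
      have hdU : d ∈ U := U.mul_mem (U.inv_mem hu) (hgU u hu)
      refine ⟨hdU, ?_⟩
      have h1 : (u * d) * (u * d) = u * u := by
        rw [hd, mul_inv_cancel_left]
        calc g * u * g⁻¹ * (g * u * g⁻¹) = g * (u * u) * g⁻¹ := by group
          _ = _ := hfixV _ (hsq u hu)
      have h3 : d * (u * d) = u := by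
        have := congrArg (fun z => u⁻¹ * z) h1
        simpa [mul_assoc] using this
      have h4 : d * d = c d u := by
        calc d * d = d * u * (u⁻¹ * d) := by group
          _ = d * u * ((d * (u * d))⁻¹ * d) := by rw [h3]
          _ = d * u * d⁻¹ * u⁻¹ := by group
      rw [h4]
      exact subset_closure ⟨d, hdU, u, hu, rfl⟩
    intro u hu
    -- L = [u, U]
    let L : Subgroup G :=
      { carrier := {z | ∃ b ∈ U, c u b = z}
        one_mem' := ⟨1, U.one_mem, by simp [c]⟩
        mul_mem' := by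
          rintro _ _ ⟨a, ha, rfl⟩ ⟨b, hb, rfl⟩
          exact ⟨a * b, U.mul_mem ha hb, hc_mul_right u hu a ha b hb⟩
        inv_mem' := by
          rintro _ ⟨a, ha, rfl⟩
          refine ⟨a⁻¹, U.inv_mem ha, ?_⟩
          have := hc_mul_right u hu a ha a⁻¹ (U.inv_mem ha)
          rw [mul_inv_cancel] at this
          exact eq_inv_of_mul_eq_one_right (this.symm.trans (by simp [c])) }
    have hLV : L ≤ V₀ := by rintro _ ⟨b, hb, rfl⟩; exact hcomm_mem u hu b hb
    let R : Subgroup G :=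
      { carrier := {a | a ∈ U ∧ ∀ b ∈ U, c a b ∈ L}
        one_mem' := ⟨U.one_mem, fun b _ => by simp [c, L.one_mem]⟩
        mul_mem' := by
          rintro a a' ⟨ha, ha'⟩ ⟨hb, hb'⟩
          refine ⟨U.mul_mem ha hb, fun b hbU => ?_⟩
          rw [hc_mul_left a ha a' hb b hbU]
          exact L.mul_mem (hb' b hbU) (ha' b hbU)
        inv_mem' := by
          rintro a ⟨ha, ha'⟩
          refine ⟨U.inv_mem ha, fun b hbU => ?_⟩
          have := hc_mul_left a⁻¹ (U.inv_mem ha) a ha b hbU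
          rw [inv_mul_cancel] at this
          have h0 : c a b * c a⁻¹ b = 1 := this.symm.trans (by simp [c])
          rw [eq_inv_of_mul_eq_one_right h0]
          exact L.inv_mem (ha' b hbU) }
    have huR : u ∈ R := ⟨hu, fun b hb => ⟨b, hb, rfl⟩⟩
    have hRg : ∀ a ∈ R, g * a * g⁻¹ ∈ R := by
      rintro a ⟨ha, ha'⟩
      refine ⟨hgU a ha, fun b hb => ?_⟩
      have hginv : g⁻¹ * b * g ∈ U := by
        have hg' : ∀ i : ℕ, ∀ v ∈ U, g ^ i * v * (g ^ i)⁻¹ ∈ U := by
          intro i
          induction i with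
          | zero => simp
          | succ i hi =>
            intro v hv
            have := hi _ (hgU v hv)
            rw [pow_succ]
            convert this using 1
            group
        have hgi : g⁻¹ = g ^ (m - 1) := by
          rw [inv_eq_iff_mul_eq_one, ← pow_succ', Nat.sub_add_cancel hm.pos, hgm]
        have := hg' (m - 1) b hb
        rw [← hgi, inv_inv] at this
        exact this
      have h1 : c (g * a * g⁻¹) b = g * c a (g⁻¹ * b * g) * g⁻¹ := by simp only [c]; group
      rw [h1, hfixV _ (hcomm_mem a ha _ hginv)]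
      exact ha' _ hginv
    by_cases hR : R = U
    swap
    · exact hproper R (fun a ha => ha.1) hR hRg u huR
    have hU'L : U' ≤ L := by
      rw [closure_le]
      rintro _ ⟨a, ha, b, hb, rfl⟩
      exact (hR.symm ▸ ha : a ∈ R).2 b hb
    obtain ⟨b, hb, hbeq⟩ := hU'L (hDS (hD.symm ▸ hu : u ∈ D)).2
    refine hreal u ?_ (IsConj.symm (isConj_iff.2 ⟨b, ?_⟩))
    · obtain ⟨j, hj⟩ := IsPGroup.iff_orderOf.1 hU ⟨u, hu⟩
      exact ⟨j, by rwa [Subgroup.orderOf_mk] at hj⟩
    · calc b * u⁻¹ * b⁻¹ = u⁻¹ * (u * b * u⁻¹ * b⁻¹) := by group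
        _ = u⁻¹ * (u * u) := by rw [← hbeq]
        _ = u := by group

theorem commute_of_real_fixed [Finite G] {g : G} (hg : Odd (orderOf g))
    (hreal : ∀ x : G, (∃ j : ℕ, orderOf x = 2 ^ j) → IsConj x x⁻¹ → Commute g x) {U : Subgroup G}
    (hU : IsPGroup 2 U) (hgU : g ∈ normalizer (U : Set G)) {u : G} (hu : u ∈ U) : Commute g u :=
  mul_inv_eq_iff_eq_mul.1 (conj_fixed_of_real_fixed_aux g _ hg (pow_orderOf_eq_one g)
    (fun x h1 h2 => by rw [(hreal x h1 h2).eq, mul_inv_cancel_right]) _ U le_rfl hU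
    (fun v hv => (mem_normalizer_iff.1 hgU v).1 hv) u hu)

end H35
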