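import Mathlib
import Cfsg.Agent.H2.UniqueSubgroup
import Cfsg.Agent.H35.Basic

/-! Finite groups in which abelian subgroups of equal order are conjugate. -/

namespace H35

open Subgroup

variable {G : Type*} [Group G] [Finite G]

/-- A subgroup whose order is a power of `p` has a unique subgroup of order `p`, or exponent dividing `p`. -/
theorem unique_or_pow_eq_one_of_sq {p : ℕ} [Fact p.Prime]
    (hB : ∀ A B : Subgroup G, IsMulCommutative ↥A → IsMulCommutative ↥B → Nat.card ↥A = p ^ 2 →
      Nat.card ↥B = p ^ 2 → ∃ g : G, B = A.map (MulAut.conj g).toMonoidHom)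
    {P : Subgroup G} (hP : IsPGroup p P) :
    (∀ H K : Subgroup P, Nat.card H = p → Nat.card K = p → H = K) ∨ ∀ x ∈ P, x ^ p = 1 := by
  by_contra hcon
  push Not at hcon
  obtain ⟨⟨H, K, hH, hK, hne⟩, x, hxP, hx⟩ := hcon
  have hp := (Fact.out : p.Prime)
  haveI : Nontrivial P := ⟨⟨⟨x, hxP⟩, 1, fun h => hx (by have h' : x = 1 := congrArg Subtype.val h; simp [h'])⟩⟩
  haveI := hP.center_nontrivial
  obtain ⟨k, hk, hkc⟩ := ((hP.to_subgroup (Subgroup.center P)).nontrivial_iff_card).1 inferInstance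
  obtain ⟨⟨z, hz⟩, hzo⟩ := exists_prime_orderOf_dvd_card' (G := Subgroup.center P) p (hkc ▸ dvd_pow_self p hk.ne')
  rw [Subgroup.orderOf_mk] at hzo
  -- some element of order p outside ⟨z⟩
  obtain ⟨y, hy, hyz⟩ : ∃ y : P, orderOf y = p ∧ y ∉ zpowers z := by
    by_contra h
    push Not at h
    apply hne
    have key : ∀ L : Subgroup P, Nat.card L = p → L = zpowers z := by
      intro L hL
      apply eq_of_le_of_card_ge
      · intro y hy
        by_cases hy1 : y = 1
        · subst hy1; exact one_mem _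
        · apply h
          have := Subgroup.orderOf_dvd_natCard L hy
          rw [hL] at this
          exact ((Nat.dvd_prime hp).1 this).resolve_left (fun h1 => hy1 (orderOf_eq_one_iff.1 h1))
      · rw [Nat.card_zpowers, hzo, hL]
    rw [key H hH, key K hK]
  set E := closure ({z, y} : Set P) with hE
  haveI hEc : IsMulCommutative E := by
    apply isMulCommutative_closure
    rintro a (rfl | rfl) b (rfl | rfl)
    · rfl
    · exact (mem_center_iff.1 hz _).symm
    · exact mem_center_iff.1 hz _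
    · rfl
  have hEp : ∀ a ∈ E, a ^ p = 1 := by
    intro a ha
    induction ha using closure_induction with
    | mem b hb =>
      rcases hb with rfl | rfl
      · rw [← hzo]; exact pow_orderOf_eq_one _
      · rw [← hy]; exact pow_orderOf_eq_one _
    | one => simp
    | mul b c hb hc ihb ihc =>
      have : Commute b c := congrArg Subtype.val (mul_comm' (⟨b, hb⟩ : E) ⟨c, hc⟩)
      rw [this.mul_pow, ihb, ihc, one_mul]
    | inv b _ ih => rw [inv_pow, ih, inv_one]
  have hzE : zpowers z ≤ E := (zpowers_le).2 (subset_closure (Or.inl rfl))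
  have h2 : p ^ 2 ∣ Nat.card E := by
    obtain ⟨n, hn⟩ := (hP.to_subgroup E).exists_card_eq
    have hlt : Nat.card (zpowers z) < Nat.card E := by
      refine lt_of_le_of_ne (card_le_of_le hzE) fun h => hyz ?_
      rw [eq_of_le_of_card_ge hzE h.ge]
      exact subset_closure (Or.inr rfl)
    rw [Nat.card_zpowers, hzo, hn] at hlt
    rw [hn]
    apply pow_dvd_pow
    by_contra h
    have : p ^ n ≤ p ^ 1 := Nat.pow_le_pow_right hp.pos (by omega)
    rw [pow_one] at this
    omega
  obtain ⟨D, hD⟩ := Sylow.exists_subgroup_card_pow_prime p h2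
  set A := (D.map E.subtype).map P.subtype with hA
  have hAc : IsMulCommutative A := by
    refine ⟨⟨?_⟩⟩
    rintro ⟨_, _, ⟨u, hu, rfl⟩, rfl⟩ ⟨_, _, ⟨v, hv, rfl⟩, rfl⟩
    exact Subtype.ext (congrArg (fun w : E => ((w : P) : G)) (mul_comm' u v))
  have hAcard : Nat.card A = p ^ 2 := by
    rw [hA, card_map_of_injective P.subtype_injective, card_map_of_injective E.subtype_injective, hD]
  -- an element of order p ^ 2
  obtain ⟨j, hj⟩ := IsPGroup.iff_orderOf.1 hP ⟨x, hxP⟩
  rw [Subgroup.orderOf_mk] at hj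
  obtain ⟨i, rfl⟩ : ∃ i, j = i + 2 := by
    rcases j with _ | _ | j
    · exact absurd (by simp [orderOf_eq_one_iff.1 (by simpa using hj : orderOf x = 1)]) hx
    · exact absurd (orderOf_dvd_iff_pow_eq_one.1 (by simp [hj])) hx
    · exact ⟨j, rfl⟩
  have hw : orderOf (x ^ p ^ i) = p ^ 2 := by
    rw [orderOf_pow_of_dvd (pow_ne_zero _ hp.ne_zero) (hj ▸ pow_dvd_pow p (by omega)), hj,
      Nat.pow_div (by omega) hp.pos]
    congr 1; omega
  obtain ⟨g, hg⟩ := hB A (zpowers (x ^ p ^ i)) hAc inferInstance hAcard (by rw [Nat.card_zpowers, hw])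
  obtain ⟨_, ⟨_, ⟨u, -, rfl⟩, rfl⟩, hgu⟩ :=
    (hg ▸ mem_zpowers _ : x ^ p ^ i ∈ A.map (MulAut.conj g).toMonoidHom)
  have h1 : (x ^ p ^ i) ^ p = 1 := by
    rw [← hgu, ← map_pow, ← map_pow, show (E.subtype u) ^ p = 1 from hEp _ u.2]; simp
  have h3 := orderOf_dvd_of_pow_eq_one h1
  rw [hw] at h3
  have := Nat.le_of_dvd hp.pos h3
  have := hp.one_lt
  nlinarith

theorem unique_or_pow_eq_one {p : ℕ} [Fact p.Prime]
    (hB : ∀ A B : Subgroup G, IsMulCommutative ↥A → IsMulCommutative ↥B → Nat.card ↥A = Nat.card ↥B →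
      ∃ g : G, B = A.map (MulAut.conj g).toMonoidHom)
    {P : Subgroup G} (hP : IsPGroup p P) :
    (∀ H K : Subgroup P, Nat.card H = p → Nat.card K = p → H = K) ∨ ∀ x ∈ P, x ^ p = 1 :=
  unique_or_pow_eq_one_of_sq (fun A B hA hB' h1 h2 => hB A B hA hB' (h1.trans h2.symm)) hP

/-- For an odd prime a Sylow subgroup is cyclic or has exponent dividing `p`. -/
theorem cyclic_or_pow_eq_one {p : ℕ} [Fact p.Prime] (hp2 : p ≠ 2)
    (hB : ∀ A B : Subgroup G, IsMulCommutative ↥A → IsMulCommutative ↥B → Nat.card ↥A = Nat.card ↥B →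
      ∃ g : G, B = A.map (MulAut.conj g).toMonoidHom)
    {P : Subgroup G} (hP : IsPGroup p P) : IsCyclic P ∨ ∀ x ∈ P, x ^ p = 1 := by
  rcases unique_or_pow_eq_one hB hP with h | h
  · left
    exact (H2.cyclic_or_quaternion_of_unique hP h).resolve_right fun h' => hp2 h'.1
  · exact Or.inr h

/-- A normal subgroup contains every element whose order occurs in it. -/
theorem mem_normal_of_orderOf
    (hB : ∀ A B : Subgroup G, IsMulCommutative ↥A → IsMulCommutative ↥B → Nat.card ↥A = Nat.card ↥B →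
      ∃ g : G, B = A.map (MulAut.conj g).toMonoidHom)
    (M : Subgroup G) [M.Normal] {a m : G} (hm : m ∈ M) (hord : orderOf m = orderOf a) : a ∈ M := by
  obtain ⟨g, hg⟩ := hB (zpowers m) (zpowers a) inferInstance inferInstance
    (by rw [Nat.card_zpowers, Nat.card_zpowers, hord])
  obtain ⟨b, hb, hba⟩ := (hg ▸ mem_zpowers a : a ∈ (zpowers m).map (MulAut.conj g).toMonoidHom)
  rw [← hba]
  exact (inferInstance : M.Normal).conj_mem b ((zpowers_le).2 hm hb) g

end H35
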