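import Cfsg.Prelude.Def_Transfer
import Cfsg.Agent.H5.Frobenius
import Cfsg.Agent.H1.SchurZassenhausConj
import Cfsg.Agent.S4040
import Cfsg.Agent.H3.MinNormal
import Mathlib

/-!
Groups in which all centralizers of non-central elements are maximal subgroups.
-/

set_option autoImplicit false
set_option linter.all false

namespace H35

open Subgroup

universe u

section general

variable {Q : Type u} [Group Q] [Finite Q]

/-- Two self-normalising maximal Sylow subgroups for different primes, one of them odd, cannot occur. -/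
theorem not_two_nilpotent_maximal {p s : ℕ} [Fact p.Prime] [Fact s.Prime] (hps : p ≠ s)
    (P : Sylow p Q) (S : Sylow s Q) (hP : IsCoatom (P : Subgroup Q)) (hS : IsCoatom (S : Subgroup Q))
    (hPn : ¬ (P : Subgroup Q).Normal) (hSn : ¬ (S : Subgroup Q).Normal) : False := by
  classical
  have hsolv : Group.IsSolvable Q := by
    rcases Nat.Prime.eq_two_or_odd' (Fact.out : p.Prime) with hp2 | hp2
    · have hs2 : s ≠ 2 := fun h => hps (hp2.trans h.symm)
      obtain ⟨k, hk⟩ := IsPGroup.iff_card.1 S.isPGroup'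
      exact Cfsg.Agent.S4040.result (S : Subgroup Q) hS S.isPGroup'.isNilpotent
        (by rw [hk]; exact ((Fact.out : s.Prime).odd_of_ne_two hs2).pow)
    · obtain ⟨k, hk⟩ := IsPGroup.iff_card.1 P.isPGroup'
      exact Cfsg.Agent.S4040.result (P : Subgroup Q) hP P.isPGroup'.isNilpotent (by rw [hk]; exact hp2.pow)
  haveI := hsolv
  haveI : Nontrivial Q := by
    by_contra h
    rw [not_nontrivial_iff_subsingleton] at h
    exact hP.1 (Subsingleton.elim _ _)
  obtain ⟨N, hN, hNne, hmin⟩ := H3.exists_minNormal (G := Q)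
  haveI := hN
  obtain ⟨-, r, hr, -, hNr, -⟩ := H3.minNormal_elementary N hNne hmin
  haveI := Fact.mk hr
  -- `N` supplements one of the two maximal subgroups and is then the other Sylow subgroup
  have key : ∀ (a b : ℕ) (ha : a.Prime) (hb : b.Prime) (A : Sylow a Q) (B : Sylow b Q), a ≠ b →
      IsCoatom (B : Subgroup Q) → ¬ N ≤ (B : Subgroup Q) → b ∣ Nat.card Q → a ∣ Nat.card Q →
        (A : Subgroup Q).Normal := by
    intro a b ha hb A B hab hB hNB hbQ haQ
    haveI := Fact.mk ha
    haveI := Fact.mk hb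
    have htop : N ⊔ (B : Subgroup Q) = ⊤ :=
      (hB.le_iff.1 (le_sup_right (a := N))).resolve_right fun h => hNB (h ▸ le_sup_left)
    obtain ⟨i, hi⟩ := IsPGroup.iff_card.1 hNr
    obtain ⟨j, hj⟩ := IsPGroup.iff_card.1 B.isPGroup'
    have hd : Nat.card Q ∣ r ^ i * b ^ j := by
      have h1 := H1.card_sup_dvd_mul (B : Subgroup Q) N
      rw [sup_comm, htop, card_top, hi, hj, mul_comm] at h1
      exact h1
    have har : a = r := by
      rcases (Nat.Prime.dvd_mul ha).1 (haQ.trans hd) with h | h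
      · exact (Nat.prime_dvd_prime_iff_eq ha hr).1 (ha.dvd_of_dvd_pow h)
      · exact absurd ((Nat.prime_dvd_prime_iff_eq ha hb).1 (ha.dvd_of_dvd_pow h)) hab
    subst har
    have hNA : N = (A : Subgroup Q) := by
      refine eq_of_le_of_card_ge (hNr.le_sylow_of_normal A) ?_
      obtain ⟨k, hk⟩ := IsPGroup.iff_card.1 A.isPGroup'
      have h2 : Nat.card (A : Subgroup Q) ∣ a ^ i * b ^ j :=
        ((A : Subgroup Q).card_subgroup_dvd_card).trans hd
      rw [hk] at h2 ⊢
      rw [hi]
      exact Nat.le_of_dvd (pow_pos ha.pos i)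
        (((Nat.coprime_primes ha hb).2 hab |>.pow k j).dvd_of_dvd_mul_right h2)
    exact hNA ▸ hN
  have hPb : (P : Subgroup Q) ≠ ⊥ := fun h => hPn (h ▸ inferInstance)
  have hSb : (S : Subgroup Q) ≠ ⊥ := fun h => hSn (h ▸ inferInstance)
  have hdiv : ∀ (a : ℕ) (_ : Fact a.Prime) (A : Sylow a Q), (A : Subgroup Q) ≠ ⊥ → a ∣ Nat.card Q := by
    intro a _ A hA
    obtain ⟨k, hk⟩ := IsPGroup.iff_card.1 A.isPGroup'
    refine dvd_trans ?_ ((A : Subgroup Q).card_subgroup_dvd_card)
    rw [hk]
    exact dvd_pow_self a fun h0 => hA (Subgroup.card_eq_one.1 (by rw [hk, h0, pow_zero]))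
  by_cases hNP : N ≤ (P : Subgroup Q)
  · have hNS : ¬ N ≤ (S : Subgroup Q) := by
      intro h
      apply hNne
      have hcop : Nat.Coprime (Nat.card P) (Nat.card S) := by
        obtain ⟨i, hi⟩ := IsPGroup.iff_card.1 P.isPGroup'
        obtain ⟨j, hj⟩ := IsPGroup.iff_card.1 S.isPGroup'
        rw [hi, hj]
        exact ((Nat.coprime_primes Fact.out Fact.out).2 hps).pow i j
      exact le_bot_iff.1 (inf_eq_bot_of_coprime hcop ▸ le_inf hNP h)
    exact hPn (key p s Fact.out Fact.out P S hps hS hNS (hdiv s ‹_› S hSb) (hdiv p ‹_› P hPb))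
  · exact hSn (key s p Fact.out Fact.out S P (Ne.symm hps) hP hNP (hdiv p ‹_› P hPb) (hdiv s ‹_› S hSb))

/-- The nonidentity elements of the conjugates of a subgroup. -/
def conjUnion (A : Subgroup Q) : Set Q := {x | x ≠ 1 ∧ ∃ g : Q, g * x * g⁻¹ ∈ A}

theorem ncard_conjUnion_ge (A : Subgroup Q)
    (hTI : ∀ g a : Q, a ∈ A → a ≠ 1 → g * a * g⁻¹ ∈ A → g ∈ A) :
    A.index * (Nat.card A - 1) ≤ (conjUnion A).ncard := by
  classical
  let f : (Q ⧸ A) × {a : A // a ≠ 1} → Q := fun x => x.1.out * ((x.2 : A) : Q) * (x.1.out)⁻¹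
  have hf : Function.Injective f := by
    rintro ⟨g, a⟩ ⟨g', a'⟩ h
    simp only [f] at h
    have hmem : g'.out⁻¹ * g.out ∈ A := by
      refine hTI _ ((a : A) : Q) (a : A).2 (fun h' => a.2 (Subtype.ext h')) ?_
      have : g'.out⁻¹ * g.out * ((a : A) : Q) * (g'.out⁻¹ * g.out)⁻¹ = ((a' : A) : Q) := by
        calc g'.out⁻¹ * g.out * ((a : A) : Q) * (g'.out⁻¹ * g.out)⁻¹
            = g'.out⁻¹ * (g.out * ((a : A) : Q) * g.out⁻¹) * g'.out := by group
          _ = _ := by rw [h]; group
      rw [this]; exact (a' : A).2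
    have hgg : g' = g := by
      rw [← Quotient.out_eq g', ← Quotient.out_eq g]
      exact QuotientGroup.eq.2 hmem
    subst hgg
    simp only [mul_left_inj, mul_right_inj] at h
    exact Prod.ext rfl (Subtype.ext (Subtype.ext h))
  have hcard : Nat.card ((Q ⧸ A) × {a : A // a ≠ 1}) = A.index * (Nat.card A - 1) := by
    rw [Nat.card_prod, index]
    congr 1
    haveI := Fintype.ofFinite A
    rw [Nat.card_eq_fintype_card, Nat.card_eq_fintype_card, Fintype.card_subtype_compl,
      Fintype.card_subtype_eq]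
  rw [← hcard, ← Set.ncard_range_of_injective hf]
  refine Set.ncard_le_ncard ?_ (Set.toFinite _)
  rintro _ ⟨⟨g, a⟩, rfl⟩
  refine ⟨fun h => ?_, g.out⁻¹, ?_⟩
  · simp only [f] at h
    exact a.2 (Subtype.ext (conj_eq_one_iff.1 h))
  · simp only [f]
    simp [mul_assoc]

/-- Two self-normalising TI subgroups share a conjugate of a nonidentity element. -/
theorem exists_common_conj (A B : Subgroup Q) (hA : A ≠ ⊥) (hB : B ≠ ⊥)
    (hTA : ∀ g a : Q, a ∈ A → a ≠ 1 → g * a * g⁻¹ ∈ A → g ∈ A)
    (hTB : ∀ g a : Q, a ∈ B → a ≠ 1 → g * a * g⁻¹ ∈ B → g ∈ B) :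
    ∃ g x : Q, x ∈ A ∧ x ≠ 1 ∧ g * x * g⁻¹ ∈ B := by
  classical
  by_contra hc
  push Not at hc
  have hdisj : Disjoint (conjUnion A) (conjUnion B) := by
    rw [Set.disjoint_left]
    rintro x ⟨hx, g, hg⟩ ⟨-, g', hg'⟩
    refine hc (g' * g⁻¹) (g * x * g⁻¹) hg (fun h => hx (conj_eq_one_iff.1 h)) ?_
    have : g' * g⁻¹ * (g * x * g⁻¹) * (g' * g⁻¹)⁻¹ = g' * x * g'⁻¹ := by group
    rw [this]; exact hg'
  have hsub : conjUnion A ∪ conjUnion B ⊆ ({1}ᶜ : Set Q) := by
    rintro x (⟨hx, -⟩ | ⟨hx, -⟩) <;> exact hx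
  have h1 := Set.ncard_le_ncard hsub (Set.toFinite _)
  rw [Set.ncard_union_eq hdisj, Set.ncard_compl, Set.ncard_singleton] at h1
  have h2 := ncard_conjUnion_ge A hTA
  have h3 := ncard_conjUnion_ge B hTB
  have hA2 : 2 ≤ Nat.card A := (one_lt_card_iff_ne_bot A).2 hA
  have hB2 : 2 ≤ Nat.card B := (one_lt_card_iff_ne_bot B).2 hB
  have hAn := A.card_mul_index
  have hBn := B.card_mul_index
  rw [Nat.mul_sub, mul_one, mul_comm, hAn] at h2
  rw [Nat.mul_sub, mul_one, mul_comm, hBn] at h3
  have h4 : A.index * 2 ≤ Nat.card Q := by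
    rw [← hAn, mul_comm]; exact Nat.mul_le_mul_right _ hA2
  have h5 : B.index * 2 ≤ Nat.card Q := by
    rw [← hBn, mul_comm]; exact Nat.mul_le_mul_right _ hB2
  have h6 : 0 < Nat.card Q := Nat.card_pos
  omega

/-- A prime dividing the order of a self-normalising TI subgroup does not divide its index. -/
theorem not_dvd_index_of_ti (A : Subgroup Q)
    (hTI : ∀ g a : Q, a ∈ A → a ≠ 1 → g * a * g⁻¹ ∈ A → g ∈ A) {r : ℕ} [Fact r.Prime]
    (hr : r ∣ Nat.card A) : ¬ r ∣ A.index := by
  classical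
  obtain ⟨R⟩ : Nonempty (Sylow r A) := inferInstance
  set R₀ := (R : Subgroup A).map A.subtype with hR₀
  have hR₀A : R₀ ≤ A := map_subtype_le _
  obtain ⟨x, hx, hx1⟩ : ∃ x ∈ R₀, x ≠ 1 := R₀.bot_or_exists_ne_one.resolve_left (by
    rw [hR₀, map_eq_bot_iff_of_injective _ A.subtype_injective]
    exact R.ne_bot_of_dvd_card hr)
  have hN : normalizer (R₀ : Set Q) ≤ A := fun g hg =>
    hTI g x (hR₀A hx) hx1 (hR₀A ((mem_normalizer_iff.1 hg x).1 hx))
  obtain ⟨S, hS⟩ := (R.isPGroup'.map A.subtype).exists_le_sylow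
  have hSeq : (S : Subgroup Q) = R₀ := by
    by_contra hne
    haveI : Group.IsNilpotent (S : Subgroup Q) := S.isPGroup'.isNilpotent
    have hlt : R₀.subgroupOf (S : Subgroup Q) < ⊤ := lt_top_iff_ne_top.2 fun h =>
      hne (le_antisymm (subgroupOf_eq_top.1 h) hS)
    obtain ⟨y, hy, hyR⟩ := SetLike.exists_of_lt
      (Group.normalizerCondition_of_isNilpotent (G := (S : Subgroup Q)) _ hlt)
    rw [← subgroupOf_normalizer_eq hS] at hy
    have hyA : (y : Q) ∈ A := hN hy
    have hle : (R : Subgroup A) ≤ (S : Subgroup Q).subgroupOf A := fun z hz => hS (mem_map_of_mem _ hz)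
    have heq := R.is_maximal' (S.isPGroup'.comap_of_injective A.subtype A.subtype_injective) hle
    exact hyR ⟨⟨y, hyA⟩, heq.le (show (⟨y, hyA⟩ : A) ∈ (S : Subgroup Q).subgroupOf A from y.2), rfl⟩
  intro h
  refine S.not_dvd_index (h.trans (index_dvd_of_le ?_))
  rw [hSeq]; exact hR₀A

end general

section centmax

variable {G : Type u} [Group G] [Finite G]

local notation "π" => QuotientGroup.mk' (Subgroup.center G)

/-- The image of a centralizer in the central quotient. -/
def cbar (x : G) : Subgroup (G ⧸ center G) :=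
  (centralizer ({x} : Set G)).map (QuotientGroup.mk' (center G))

theorem center_le_cx (x : G) : center G ≤ centralizer ({x} : Set G) := center_le_centralizer _

theorem comap_cbar (x : G) : (cbar x).comap π = centralizer {x} := by
  rw [cbar, comap_map_eq_self (by rw [QuotientGroup.ker_mk']; exact center_le_cx x)]

theorem mk_mem_cbar {x g : G} : π g ∈ cbar x ↔ g * x = x * g := by
  rw [← mem_comap, comap_cbar, mem_centralizer_singleton_iff]

theorem self_mem_cbar (x : G) : π x ∈ cbar x := mk_mem_cbar.2 rfl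

theorem isCoatom_cbar {x : G} (hx : IsCoatom (centralizer ({x} : Set G))) : IsCoatom (cbar x) := by
  refine ⟨fun h => hx.1 (by rw [← comap_cbar x, h, comap_top]), fun b hb => ?_⟩
  have h1 : centralizer ({x} : Set G) < b.comap π := by
    rw [← comap_cbar x]
    exact (comap_lt_comap_of_surjective (QuotientGroup.mk'_surjective _)).2 hb
  rw [← map_comap_eq_self_of_surjective (QuotientGroup.mk'_surjective (center G)) b, hx.2 _ h1,
    map_top_of_surjective _ (QuotientGroup.mk'_surjective _)]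

/-- Lifting an element of prime power order. -/
theorem exists_lift_p (p : ℕ) [Fact p.Prime] (q : G ⧸ center G) (hq : ∃ k : ℕ, q ^ p ^ k = 1) :
    ∃ g : G, π g = q ∧ ∃ k : ℕ, g ^ p ^ k = 1 := by
  obtain ⟨g, rfl⟩ := QuotientGroup.mk'_surjective _ q
  obtain ⟨u, v, hg, hu, hv, hug, hvg⟩ := H5.exists_p_decomposition (p := p) g
  obtain ⟨k, hk⟩ := hq
  obtain ⟨j, hj⟩ := hu
  refine ⟨u, ?_, j, hj⟩
  have hcomm : Commute u v := by
    obtain ⟨a, rfl⟩ := mem_zpowers_iff.1 hug
    obtain ⟨b, rfl⟩ := mem_zpowers_iff.1 hvg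
    exact (Commute.refl g).zpow_zpow a b
  suffices hv1 : π v = 1 by rw [hg, map_mul, hv1, mul_one]
  have hvpow : (π v) ^ p ^ (k + j) = 1 := by
    have h1 : (π g) ^ p ^ (k + j) = 1 := by rw [pow_add, pow_mul, hk, one_pow]
    have h2 : u ^ p ^ (k + j) = 1 := by rw [add_comm, pow_add, pow_mul, hj, one_pow]
    rw [hg, map_mul, (hcomm.map π).mul_pow, ← map_pow, h2, map_one, one_mul] at h1
    exact h1
  have hd1 := orderOf_dvd_of_pow_eq_one hvpow
  have hd2 : orderOf (π v) ∣ orderOf v := orderOf_map_dvd π v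
  exact orderOf_eq_one_iff.1 (Nat.eq_one_of_dvd_coprimes (hv.symm.pow_left (k + j)) hd1 hd2)

theorem mk_eq_one {g : G} : π g = 1 ↔ g ∈ center G := QuotientGroup.eq_one_iff g

/-- Noncentral commuting elements of coprime prime power orders have the same centralizer. -/
theorem cx_eq_of_coprime (h : ∀ x : G, x ∉ center G → IsCoatom (centralizer ({x} : Set G)))
    {x y : G} (hx : x ∉ center G) (hy : y ∉ center G) (hxy : x * y = y * x)
    (hcop : Nat.Coprime (orderOf x) (orderOf y)) :
    centralizer ({x} : Set G) = centralizer {y} := by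
  have hmem : ∀ {a b : G}, a * b = b * a → Nat.Coprime (orderOf a) (orderOf b) →
      a ∈ zpowers (a * b) := by
    intro a b hab hc
    obtain ⟨m, hm⟩ := exists_pow_eq_self_of_coprime hc.symm
    refine ⟨((orderOf b * m : ℕ) : ℤ), ?_⟩
    simp only [zpow_natCast]
    rw [(show Commute a b from hab).mul_pow, pow_mul b, pow_orderOf_eq_one, one_pow, mul_one, pow_mul, hm]
  have h1 : x ∈ zpowers (x * y) := hmem hxy hcop
  have h2 : y ∈ zpowers (x * y) := by rw [hxy]; exact hmem hxy.symm hcop.symm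
  have hxy' : x * y ∉ center G := fun hc => hx ((zpowers_le.2 hc) h1)
  have hle : ∀ {a : G}, a ∈ zpowers (x * y) → a ∉ center G →
      centralizer ({x * y} : Set G) = centralizer {a} := by
    intro a ha ha'
    have h3 : centralizer ({x * y} : Set G) ≤ centralizer {a} := by
      intro g hg
      rw [mem_centralizer_singleton_iff] at hg ⊢
      obtain ⟨i, rfl⟩ := mem_zpowers_iff.1 ha
      exact (show Commute g (x * y) from hg).zpow_right i
    exact (((h _ hxy').le_iff.1 h3).resolve_left (h a ha').1).symm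
  rw [← hle h1 hx, hle h2 hy]

/-- An abelian centralizer is the centralizer of each of its noncentral elements. -/
theorem cx_eq_of_abelian (h : ∀ x : G, x ∉ center G → IsCoatom (centralizer ({x} : Set G)))
    {x w : G} (hx : x ∉ center G) (hab : IsMulCommutative (centralizer ({x} : Set G)))
    (hw : w ∈ centralizer ({x} : Set G)) (hwz : w ∉ center G) :
    centralizer ({w} : Set G) = centralizer {x} := by
  have hle : centralizer ({x} : Set G) ≤ centralizer {w} := fun g hg =>
    mem_centralizer_singleton_iff.2 (congrArg Subtype.val (hab.1.comm ⟨g, hg⟩ ⟨w, hw⟩))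
  exact ((h x hx).le_iff.1 hle).resolve_left (h w hwz).1

/-- The centralizer of a noncentral `p`-element is abelian or a `p`-group modulo the center. -/
theorem cx_dichotomy (h : ∀ x : G, x ∉ center G → IsCoatom (centralizer ({x} : Set G)))
    (p : ℕ) [Fact p.Prime] {x : G} (hx : x ∉ center G) (hxp : ∃ k : ℕ, x ^ p ^ k = 1) :
    IsMulCommutative (centralizer ({x} : Set G)) ∨ IsPGroup p (cbar x) := by
  classical
  refine or_iff_not_imp_right.2 fun hnp => ?_
  obtain ⟨q, hq, hqp, hqd⟩ : ∃ q : ℕ, q.Prime ∧ q ≠ p ∧ q ∣ Nat.card (cbar x) := by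
    by_contra hc
    push Not at hc
    exact hnp (IsPGroup.of_card (Nat.eq_prime_pow_of_unique_prime_dvd Nat.card_pos.ne'
      fun {d} hd hdd => by_contra fun hne => hc d hd hne hdd))
  haveI := Fact.mk hq
  obtain ⟨c, hc⟩ := exists_prime_orderOf_dvd_card' q hqd
  obtain ⟨y, hy, hyq⟩ := exists_lift_p q (c : G ⧸ center G) ⟨1, by
    rw [pow_one, ← hc]; exact_mod_cast congrArg Subtype.val (pow_orderOf_eq_one c)⟩
  have hyx : y * x = x * y := mk_mem_cbar.1 (hy.symm ▸ c.2)
  have hyz : y ∉ center G := fun h' => by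
    have hc1 : c = 1 := Subtype.ext (hy ▸ mk_eq_one.2 h')
    rw [hc1, orderOf_one] at hc; exact hq.one_lt.ne hc
  have hop : ∀ (r : ℕ) (a : G), r.Prime → (∃ k, a ^ r ^ k = 1) → ∀ (s : ℕ) (b : G), s.Prime →
      (∃ k, b ^ s ^ k = 1) → r ≠ s → Nat.Coprime (orderOf a) (orderOf b) := by
    rintro r a hr ⟨i, hi⟩ s b hs ⟨j, hj⟩ hrs
    exact Nat.Coprime.coprime_dvd_left (orderOf_dvd_of_pow_eq_one hi)
      (Nat.Coprime.coprime_dvd_right (orderOf_dvd_of_pow_eq_one hj)
        (((Nat.coprime_primes hr hs).2 hrs).pow i j))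
  have hxy : centralizer ({y} : Set G) = centralizer {x} :=
    cx_eq_of_coprime h hyz hx hyx (hop q y hq hyq p x Fact.out hxp hqp)
  set C := centralizer ({x} : Set G) with hC
  -- every element of `C` commutes with all of `C`
  suffices hall : ∀ c ∈ C, C ≤ centralizer {c} from
    ⟨⟨fun a b => Subtype.ext (mem_centralizer_singleton_iff.1 (hall b b.2 a.2))⟩⟩
  have hprime : ∀ (r : ℕ), r.Prime → ∀ a ∈ C, (∃ k, a ^ r ^ k = 1) → C ≤ centralizer {a} := by
    intro r hr a ha har
    by_cases haz : a ∈ center G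
    · exact fun g _ => mem_centralizer_singleton_iff.2 (mem_center_iff.1 haz g)
    by_cases hrp : r = p
    · subst hrp
      rw [← hxy] at ha ⊢
      rw [cx_eq_of_coprime h haz hyz (mem_centralizer_singleton_iff.1 ha)
        (hop r a hr har q y hq hyq (Ne.symm hqp))]
    · rw [cx_eq_of_coprime h haz hx (mem_centralizer_singleton_iff.1 ha)
        (hop r a hr har p x Fact.out hxp hrp)]
  intro c hcC g hg
  rw [mem_centralizer_singleton_iff]
  have : ∀ n : ℕ, ∀ c ∈ C, orderOf c = n → g * c = c * g := by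
    intro n
    induction n using Nat.strong_induction_on with
    | _ n ih =>
      intro c hcC hn
      by_cases hn1 : n = 1
      · rw [hn1, orderOf_eq_one_iff] at hn; simp [hn]
      obtain ⟨r, hr, hrn⟩ := Nat.exists_prime_and_dvd hn1
      haveI := Fact.mk hr
      obtain ⟨u, v, huv, hu, hv, huc, hvc⟩ := H5.exists_p_decomposition (p := r) c
      have hvlt : orderOf v < n := by
        rcases (Nat.le_of_dvd (hn ▸ orderOf_pos c) (hn ▸ orderOf_dvd_of_mem_zpowers hvc)).lt_or_eq with h' | h'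
        · exact h'
        · exact absurd (Nat.eq_one_of_dvd_coprimes hv (h'.symm ▸ hrn) dvd_rfl) hr.one_lt.ne'
      have h1 := mem_centralizer_singleton_iff.1 (hprime r hr u ((zpowers_le.2 hcC) huc) hu hg)
      have h2 := ih _ hvlt v ((zpowers_le.2 hcC) hvc) rfl
      rw [huv]
      exact (show Commute g u from h1).mul_right (show Commute g v from h2)
  exact this _ c hcC rfl

theorem ti_of_abelian (h : ∀ x : G, x ∉ center G → IsCoatom (centralizer ({x} : Set G)))
    {x : G} (hx : x ∉ center G) (hab : IsMulCommutative (centralizer ({x} : Set G)))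
    (hn : ¬ (cbar x).Normal) :
    ∀ g a : G ⧸ center G, a ∈ cbar x → a ≠ 1 → g * a * g⁻¹ ∈ cbar x → g ∈ cbar x := by
  intro g a ha ha1 hga
  have hN : normalizer (cbar x : Set (G ⧸ center G)) = cbar x :=
    ((isCoatom_cbar (h x hx)).le_iff.1 le_normalizer).resolve_left
      fun he => hn (normalizer_eq_top_iff.1 he)
  rw [← hN]
  obtain ⟨g, rfl⟩ := QuotientGroup.mk'_surjective _ g
  obtain ⟨a, rfl⟩ := QuotientGroup.mk'_surjective _ a
  rw [← map_inv, ← map_mul, ← map_mul, mk_mem_cbar] at hga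
  rw [mk_mem_cbar] at ha
  have haz : a ∉ center G := fun h' => ha1 (mk_eq_one.2 h')
  have hgaz : g * a * g⁻¹ ∉ center G := fun h' => haz (by
    have := (inferInstance : (center G).Normal).conj_mem _ h' g⁻¹
    simpa [mul_assoc] using this)
  have e1 := cx_eq_of_abelian h hx hab (mem_centralizer_singleton_iff.2 ha) haz
  have e2 := cx_eq_of_abelian h hx hab (mem_centralizer_singleton_iff.2 hga) hgaz
  refine le_normalizer_map π (mem_map_of_mem π ?_)
  rw [mem_normalizer_iff]
  intro c
  have hconj : g * c * g⁻¹ * (g * a * g⁻¹) = g * a * g⁻¹ * (g * c * g⁻¹) ↔ c * a = a * c := by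
    rw [show g * c * g⁻¹ * (g * a * g⁻¹) = g * (c * a) * g⁻¹ by group,
      show g * a * g⁻¹ * (g * c * g⁻¹) = g * (a * c) * g⁻¹ by group]
    simp
  have key : c ∈ centralizer ({a} : Set G) ↔ g * c * g⁻¹ ∈ centralizer ({g * a * g⁻¹} : Set G) := by
    rw [mem_centralizer_singleton_iff, mem_centralizer_singleton_iff, hconj]
  rw [e1, e2] at key
  exact key

/-- If the central quotient is not a group of prime power order, some centralizer of a noncentral
element of prime power order is normal. -/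
theorem exists_normal_cx (h : ∀ x : G, x ∉ center G → IsCoatom (centralizer ({x} : Set G)))
    (hnp : ∀ p : ℕ, p.Prime → ¬ IsPGroup p (G ⧸ center G)) :
    ∃ p : ℕ, p.Prime ∧ ∃ x : G, x ∉ center G ∧ (∃ k : ℕ, x ^ p ^ k = 1) ∧ (cbar x).Normal := by
  classical
  by_contra hcon
  push Not at hcon
  have hprime : ∀ r : ℕ, r.Prime → r ∣ Nat.card (G ⧸ center G) →
      ∃ x : G, x ∉ center G ∧ (∃ k : ℕ, x ^ r ^ k = 1) ∧ ¬ (cbar x).Normal ∧ orderOf (π x) = r := by
    intro r hr hd
    haveI := Fact.mk hr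
    obtain ⟨q, hq⟩ := exists_prime_orderOf_dvd_card' r hd
    obtain ⟨x, hx, hxr⟩ := exists_lift_p r q ⟨1, by rw [pow_one, ← hq, pow_orderOf_eq_one]⟩
    have hxz : x ∉ center G := fun h' => by
      rw [← hx, mk_eq_one.2 h', orderOf_one] at hq; exact hr.one_lt.ne hq
    obtain ⟨k, hk⟩ := hxr
    exact ⟨x, hxz, ⟨k, hk⟩, hcon r hr x hxz ⟨k, hk⟩, hx.symm ▸ hq⟩
  -- a centralizer which is a group of prime power order is a Sylow subgroup
  have hsyl : ∀ r : ℕ, r.Prime → ∀ x : G, x ∉ center G → IsPGroup r (cbar x) → ¬ (cbar x).Normal →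
      ∃ P : Sylow r (G ⧸ center G), (P : Subgroup (G ⧸ center G)) = cbar x := by
    intro r hr x hx hp hn
    haveI := Fact.mk hr
    obtain ⟨P, hP⟩ := hp.exists_le_sylow
    refine ⟨P, ((isCoatom_cbar (h x hx)).le_iff.1 hP).resolve_left fun htop => ?_⟩
    exact hnp r hr (IsPGroup.of_equiv (htop ▸ P.isPGroup') topEquiv)
  have htwo : ∀ r s : ℕ, r.Prime → s.Prime → r ≠ s → ∀ x y : G, x ∉ center G → y ∉ center G →
      IsPGroup r (cbar x) → IsPGroup s (cbar y) → ¬ (cbar x).Normal → ¬ (cbar y).Normal → False := by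
    intro r s hr hs hrs x y hx hy hpx hpy hnx hny
    haveI := Fact.mk hr
    haveI := Fact.mk hs
    obtain ⟨P, hP⟩ := hsyl r hr x hx hpx hnx
    obtain ⟨S, hS⟩ := hsyl s hs y hy hpy hny
    exact not_two_nilpotent_maximal hrs P S (hP ▸ isCoatom_cbar (h x hx)) (hS ▸ isCoatom_cbar (h y hy))
      (hP ▸ hnx) (hS ▸ hny)
  haveI : Nontrivial (G ⧸ center G) := by
    by_contra hs
    rw [not_nontrivial_iff_subsingleton] at hs
    exact hnp 2 Nat.prime_two fun g => ⟨0, Subsingleton.elim _ _⟩
  by_cases hA : ∃ r : ℕ, r.Prime ∧ ∃ x : G, x ∉ center G ∧ (∃ k : ℕ, x ^ r ^ k = 1) ∧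
      IsMulCommutative (centralizer ({x} : Set G))
  swap
  · -- no abelian centralizer
    push Not at hA
    have hb : ∀ r : ℕ, r.Prime → r ∣ Nat.card (G ⧸ center G) →
        ∃ x : G, x ∉ center G ∧ IsPGroup r (cbar x) ∧ ¬ (cbar x).Normal := by
      intro r hr hd
      haveI := Fact.mk hr
      obtain ⟨x, hx, ⟨k, hk⟩, hn, -⟩ := hprime r hr hd
      exact ⟨x, hx, (cx_dichotomy h r hx ⟨k, hk⟩).resolve_left (hA r hr x hx ⟨k, hk⟩), hn⟩
    obtain ⟨r, hr, hrd⟩ := Nat.exists_prime_and_dvd (Finite.one_lt_card (α := G ⧸ center G)).ne'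
    obtain ⟨s, hs, hsd, hsr⟩ : ∃ s : ℕ, s.Prime ∧ s ∣ Nat.card (G ⧸ center G) ∧ s ≠ r := by
      by_contra hc
      push Not at hc
      exact hnp r hr (IsPGroup.of_card (Nat.eq_prime_pow_of_unique_prime_dvd Nat.card_pos.ne'
        fun {d} hd hdd => hc d hd hdd))
    obtain ⟨x, hx, hpx, hnx⟩ := hb r hr hrd
    obtain ⟨y, hy, hpy, hny⟩ := hb s hs hsd
    exact htwo r s hr hs (Ne.symm hsr) x y hx hy hpx hpy hnx hny
  obtain ⟨r₀, hr₀, x, hx, ⟨k₀, hk₀⟩, hab⟩ := hA
  have hnx := hcon r₀ hr₀ x hx ⟨k₀, hk₀⟩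
  set A := cbar x with hAdef
  have hTI := ti_of_abelian h hx hab hnx
  have hAne : A ≠ ⊥ := fun h' => hx (mk_eq_one.1 (mem_bot.1 (h' ▸ self_mem_cbar x)))
  -- every prime either divides `A` or has a centralizer of prime power order
  have hsplit : ∀ r : ℕ, r.Prime → r ∣ Nat.card (G ⧸ center G) → r ∣ A.index →
      ∃ y : G, y ∉ center G ∧ IsPGroup r (cbar y) ∧ ¬ (cbar y).Normal := by
    intro r hr hd hri
    haveI := Fact.mk hr
    obtain ⟨y, hy, hyp, hn, hord⟩ := hprime r hr hd
    rcases cx_dichotomy h r hy hyp with hy' | hy'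
    · exfalso
      refine not_dvd_index_of_ti A hTI ?_ hri
      have hBne : cbar y ≠ ⊥ := fun h' => hy (mk_eq_one.1 (mem_bot.1 (h' ▸ self_mem_cbar y)))
      obtain ⟨g, a, ha, ha1, hga⟩ := exists_common_conj A (cbar y) hAne hBne hTI
        (ti_of_abelian h hy hy' hn)
      obtain ⟨g, rfl⟩ := QuotientGroup.mk'_surjective _ g
      obtain ⟨a, rfl⟩ := QuotientGroup.mk'_surjective _ a
      rw [← map_inv, ← map_mul, ← map_mul, mk_mem_cbar] at hga
      rw [hAdef, mk_mem_cbar] at ha
      have haz : a ∉ center G := fun h' => ha1 (mk_eq_one.2 h')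
      have hgaz : g * a * g⁻¹ ∉ center G := fun h' => haz (by
        have := (inferInstance : (center G).Normal).conj_mem _ h' g⁻¹
        simpa [mul_assoc] using this)
      have e1 := cx_eq_of_abelian h hx hab (mem_centralizer_singleton_iff.2 ha) haz
      have e2 := cx_eq_of_abelian h hy hy' (mem_centralizer_singleton_iff.2 hga) hgaz
      have hmem : g⁻¹ * y * g ∈ centralizer ({x} : Set G) := by
        rw [← e1, mem_centralizer_singleton_iff]
        have h1 : y ∈ centralizer ({g * a * g⁻¹} : Set G) := e2 ▸ mem_centralizer_singleton_iff.2 rfl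
        rw [mem_centralizer_singleton_iff] at h1
        calc g⁻¹ * y * g * a = g⁻¹ * (y * (g * a * g⁻¹)) * g := by group
          _ = g⁻¹ * (g * a * g⁻¹ * y) * g := by rw [h1]
          _ = a * (g⁻¹ * y * g) := by group
      have h2 : π (g⁻¹ * y * g) ∈ A := mem_map_of_mem π hmem
      have h3 := orderOf_dvd_natCard (⟨_, h2⟩ : A)
      rw [Subgroup.orderOf_mk, map_mul, map_mul, map_inv] at h3
      have h4 : orderOf ((π g)⁻¹ * π y * π g) = r := by
        rw [← hord]
        simpa using (MulAut.conj (π g)⁻¹).orderOf_eq (π y)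
      rwa [h4] at h3
    · exact ⟨y, hy, hy', hn⟩
  have hi1 : A.index ≠ 1 := fun h' => (isCoatom_cbar (h x hx)).1 (index_eq_one.1 h')
  obtain ⟨p, hp, hpi⟩ := Nat.exists_prime_and_dvd hi1
  haveI := Fact.mk hp
  have hdvd : ∀ {d}, d ∣ A.index → d ∣ Nat.card (G ⧸ center G) := fun hd => hd.trans A.index_dvd_card
  obtain ⟨y, hy, hpy, hny⟩ := hsplit p hp (hdvd hpi) hpi
  obtain ⟨P, hP⟩ := hsyl p hp y hy hpy hny
  have hidx : A.index = Nat.card (P : Subgroup (G ⧸ center G)) := by
    have honly : ∀ {d : ℕ}, d.Prime → d ∣ A.index → d = p := by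
      intro d hd hdi
      by_contra hne
      obtain ⟨z, hz, hpz, hnz⟩ := hsplit d hd (hdvd hdi) hdi
      exact htwo d p hd hp hne z y hz hy hpz hpy hnz hny
    have hpA : ¬ p ∣ Nat.card A := fun hd => not_dvd_index_of_ti A hTI hd hpi
    rw [Nat.eq_prime_pow_of_unique_prime_dvd index_ne_zero_of_finite honly, P.card_eq_multiplicity]
    congr 1
    have h1 := A.card_mul_index
    rw [Nat.eq_prime_pow_of_unique_prime_dvd index_ne_zero_of_finite honly] at h1
    rw [← h1, Nat.factorization_mul Nat.card_pos.ne' (pow_ne_zero _ hp.ne_zero), Finsupp.add_apply,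
      Nat.factorization_eq_zero_of_not_dvd hpA, hp.factorization_pow, Finsupp.single_eq_same, zero_add]
  -- the `p`-elements are too few
  have hpA : ¬ p ∣ Nat.card A := fun hd => not_dvd_index_of_ti A hTI hd hpi
  apply hny
  rw [← hP]
  set U := conjUnion A with hU
  set T : Set (G ⧸ center G) := {z | ∃ k : ℕ, z ^ p ^ k = 1} with hT
  have hdisj : Disjoint U T := by
    rw [Set.disjoint_left]
    rintro z ⟨hz1, g, hg⟩ ⟨k, hk⟩
    have h1 := orderOf_dvd_natCard (⟨_, hg⟩ : A)
    rw [Subgroup.orderOf_mk] at h1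
    rw [show orderOf (g * z * g⁻¹) = orderOf z from (MulAut.conj g).orderOf_eq z] at h1
    exact hz1 (orderOf_eq_one_iff.1 (Nat.eq_one_of_dvd_coprimes
      ((hp.coprime_iff_not_dvd.2 hpA).pow_left k) (orderOf_dvd_of_pow_eq_one hk) h1))
  have h1 := Set.ncard_union_eq hdisj (Set.toFinite _) (Set.toFinite _)
  have h2 : (U ∪ T).ncard ≤ Nat.card (G ⧸ center G) := by
    rw [← Set.ncard_univ]; exact Set.ncard_le_ncard (Set.subset_univ _) (Set.toFinite _)
  have h3 := ncard_conjUnion_ge A hTI
  rw [Nat.mul_sub, mul_one, mul_comm A.index, A.card_mul_index] at h3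
  have hsub : ∀ S : Sylow p (G ⧸ center G), ((S : Subgroup (G ⧸ center G)) : Set (G ⧸ center G)) ⊆ T := by
    intro S z hz
    obtain ⟨k, hk⟩ := S.isPGroup' ⟨z, hz⟩
    exact ⟨k, congrArg Subtype.val hk⟩
  have hle : T.ncard ≤ ((P : Subgroup (G ⧸ center G)) : Set (G ⧸ center G)).ncard := by
    rw [show ((P : Subgroup (G ⧸ center G)) : Set (G ⧸ center G)).ncard = A.index by
      rw [hidx, ← Nat.card_coe_set_eq]; rfl]
    rw [← hU] at h3
    omega
  have hTeq := Set.eq_of_subset_of_ncard_le (hsub P) hle (Set.toFinite _)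
  refine ⟨fun z hz g => ?_⟩
  have hz' : z ∈ T := hsub P hz
  obtain ⟨k, hk⟩ := hz'
  have : g * z * g⁻¹ ∈ T := ⟨k, by rw [conj_pow, hk, mul_one, mul_inv_cancel]⟩
  rw [← hTeq] at this
  exact this

/-- The structure of the central quotient. -/
theorem centMax_main (hna : ¬ IsMulCommutative G)
    (h : ∀ x : G, x ∉ center G → IsCoatom (centralizer ({x} : Set G))) :
    (∃ p : ℕ, p.Prime ∧ Cfsg.IsElementaryAbelian p (⊤ : Subgroup (G ⧸ center G))) ∨
    (¬ IsMulCommutative (G ⧸ center G) ∧ (∀ H : Subgroup (G ⧸ center G), H ≠ ⊤ → IsMulCommutative ↥H) ∧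
      ∃ p q a : ℕ, p.Prime ∧ q.Prime ∧ p ≠ q ∧ Nat.card (G ⧸ center G) = p ^ a * q ∧
        ∀ P : Subgroup (G ⧸ center G), Nat.card ↥P = p ^ a → P.Normal) := by
  classical
  by_cases hp : ∃ p : ℕ, p.Prime ∧ IsPGroup p (G ⧸ center G)
  · left
    obtain ⟨p, hpp, hQ⟩ := hp
    haveI := Fact.mk hpp
    refine ⟨p, hpp, ?_⟩
    haveI : Group.IsNilpotent (G ⧸ center G) := hQ.isNilpotent
    have hkey : ∀ x : G, x ∉ center G → commutator (G ⧸ center G) ≤ cbar x ∧ ∀ q, q ^ p ∈ cbar x := by
      intro x hx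
      have hco := isCoatom_cbar (h x hx)
      have hn : (cbar x).Normal :=
        (Group.normalizerCondition_of_isNilpotent (G := G ⧸ center G)).normal_of_coatom _ hco
      haveI := hn
      haveI : IsSimpleGroup ((G ⧸ center G) ⧸ cbar x) := by
        haveI : Nontrivial ((G ⧸ center G) ⧸ cbar x) := QuotientGroup.nontrivial_iff.2 hco.1
        refine ⟨fun N _ => ?_⟩
        rcases hco.le_iff.mp (QuotientGroup.le_comap_mk' _ N) with h' | h'
        · right
          rw [← map_comap_eq_self_of_surjective (QuotientGroup.mk'_surjective _) N, h',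
            map_top_of_surjective _ (QuotientGroup.mk'_surjective _)]
        · left
          rw [← map_comap_eq_self_of_surjective (QuotientGroup.mk'_surjective _) N, h']
          simp
      haveI : Group.IsNilpotent ((G ⧸ center G) ⧸ cbar x) := (hQ.to_quotient _).isNilpotent
      letI : CommGroup ((G ⧸ center G) ⧸ cbar x) := inferInstance
      refine ⟨fun z hz => ?_, fun q => ?_⟩
      · have := Abelianization.commutator_subset_ker (QuotientGroup.mk' (cbar x)) hz
        rwa [QuotientGroup.ker_mk'] at this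
      · have hcard : Nat.card ((G ⧸ center G) ⧸ cbar x) = p := by
          obtain ⟨k, hk⟩ := IsPGroup.iff_card.1 (hQ.to_quotient (cbar x))
          haveI : IsCyclic ((G ⧸ center G) ⧸ cbar x) := IsSimpleGroup.isCyclic
          have hpr := IsSimpleGroup.prime_card (α := (G ⧸ center G) ⧸ cbar x)
          rw [hk] at hpr ⊢
          rw [Nat.Prime.pow_eq_iff hpp |>.2 ⟨rfl, Nat.Prime.eq_one_of_pow hpr⟩]
        have h1 : (QuotientGroup.mk' (cbar x) q) ^ p = 1 := by rw [← hcard]; exact pow_card_eq_one'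
        rwa [← map_pow, QuotientGroup.mk'_apply, QuotientGroup.eq_one_iff] at h1
    have hcent : ∀ g : G, (∀ x, x ∉ center G → π g ∈ cbar x) → π g = 1 := by
      intro g hg
      rw [mk_eq_one, mem_center_iff]
      intro x
      by_cases hx : x ∈ center G
      · exact (mem_center_iff.1 hx g).symm
      · exact (mk_mem_cbar.1 (hg x hx)).symm
    refine ⟨⟨⟨fun a b => Subtype.ext ?_⟩⟩, fun a _ => ?_⟩
    · obtain ⟨u, hu⟩ := QuotientGroup.mk'_surjective (center G) (a : G ⧸ center G)
      obtain ⟨v, hv⟩ := QuotientGroup.mk'_surjective (center G) (b : G ⧸ center G)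
      show (a : G ⧸ center G) * b = b * a
      rw [← hu, ← hv, ← commutatorElement_eq_one_iff_mul_comm, ← map_commutatorElement]
      refine hcent _ fun x hx => (hkey x hx).1 ?_
      rw [map_commutatorElement, commutator_def]
      exact commutator_mem_commutator (mem_top _) (mem_top _)
    · obtain ⟨u, rfl⟩ := QuotientGroup.mk'_surjective (center G) a
      rw [← map_pow]
      exact hcent _ fun x hx => by rw [map_pow]; exact (hkey x hx).2 _
  right
  push Not at hp
  have hnaQ : ¬ IsCyclic (G ⧸ center G) := fun hc => hna (by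
    haveI := hc
    exact ⟨⟨commutative_of_cyclic_center_quotient (QuotientGroup.mk' (center G))
      (le_of_eq (QuotientGroup.ker_mk' _))⟩⟩)
  obtain ⟨p, hpp, x, hx, hxp, hn⟩ := exists_normal_cx h hp
  haveI := Fact.mk hpp
  haveI := hn
  set A := cbar x with hA
  have hcoA := isCoatom_cbar (h x hx)
  -- the index is a prime
  obtain ⟨y, hyA⟩ : ∃ y, y ∉ A := by
    by_contra hc; push Not at hc; exact hcoA.1 (eq_top_iff.2 fun z _ => hc z)
  obtain ⟨r, hr, d, hd, hdA⟩ : ∃ r : ℕ, r.Prime ∧ ∃ d : G ⧸ center G, (∃ k, d ^ r ^ k = 1) ∧ d ∉ A := by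
    have : ∀ n : ℕ, ∀ y : G ⧸ center G, orderOf y = n → y ∉ A →
        ∃ r : ℕ, r.Prime ∧ ∃ d : G ⧸ center G, (∃ k, d ^ r ^ k = 1) ∧ d ∉ A := by
      intro n
      induction n using Nat.strong_induction_on with
      | _ n ih =>
        intro y hn' hy
        by_cases hn1 : n = 1
        · rw [hn1, orderOf_eq_one_iff] at hn'; exact absurd (hn' ▸ one_mem A) hy
        obtain ⟨r, hr, hrn⟩ := Nat.exists_prime_and_dvd hn1
        haveI := Fact.mk hr
        obtain ⟨u, v, huv, hu, hv, huc, hvc⟩ := H5.exists_p_decomposition (p := r) y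
        by_cases huA : u ∈ A
        · have hvlt : orderOf v < n := by
            rcases (Nat.le_of_dvd (hn' ▸ orderOf_pos y) (hn' ▸ orderOf_dvd_of_mem_zpowers hvc)).lt_or_eq
              with h' | h'
            · exact h'
            · exact absurd (Nat.eq_one_of_dvd_coprimes hv (h'.symm ▸ hrn) dvd_rfl) hr.one_lt.ne'
          exact ih _ hvlt v rfl fun hvA => hy (huv ▸ mul_mem huA hvA)
        · exact ⟨r, hr, u, hu, huA⟩
    exact this _ y rfl hyA
  haveI := Fact.mk hr
  obtain ⟨w, rfl, hwr⟩ := exists_lift_p r d hd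
  have hwz : w ∉ center G := fun h' => hdA (by rw [mk_eq_one.2 h']; exact one_mem _)
  have hindex : A.index.Prime := by
    haveI : Nontrivial ((G ⧸ center G) ⧸ A) := QuotientGroup.nontrivial_iff.2 hcoA.1
    rw [index]
    by_contra hnpq
    obtain ⟨q, hq, hqd⟩ := Nat.exists_prime_and_dvd (Finite.one_lt_card (α := (G ⧸ center G) ⧸ A)).ne'
    haveI := Fact.mk hq
    obtain ⟨z, hz⟩ := exists_prime_orderOf_dvd_card' q hqd
    have h1 : A ≤ (zpowers z).comap (QuotientGroup.mk' A) := fun g hg => by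
      rw [mem_comap, QuotientGroup.mk'_apply, (QuotientGroup.eq_one_iff g).2 hg]; exact one_mem _
    rcases hcoA.le_iff.1 h1 with h' | h'
    · apply hnpq
      have h2 : zpowers z = ⊤ := by
        rw [← map_comap_eq_self_of_surjective (QuotientGroup.mk'_surjective A) (zpowers z), h',
          map_top_of_surjective _ (QuotientGroup.mk'_surjective A)]
      rw [← card_top (G := (G ⧸ center G) ⧸ A), ← h2, Nat.card_zpowers, hz]
      exact hq
    · have h2 : zpowers z = ⊥ := by
        rw [← map_comap_eq_self_of_surjective (QuotientGroup.mk'_surjective A) (zpowers z), h']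
        rw [Subgroup.map_eq_bot_iff, QuotientGroup.ker_mk']
      rw [zpowers_eq_bot] at h2
      rw [h2, orderOf_one] at hz
      exact hq.one_lt.ne hz
  have hAind : A.index = r := by
    obtain ⟨k, hk⟩ := hd
    have h1 : QuotientGroup.mk' A (π w) ≠ 1 := fun h' => hdA ((QuotientGroup.eq_one_iff _).1 h')
    have h2 : orderOf (QuotientGroup.mk' A (π w)) ∣ r ^ k :=
      orderOf_dvd_of_pow_eq_one (by rw [← map_pow, hk, map_one])
    have h3 : orderOf (QuotientGroup.mk' A (π w)) ∣ A.index := orderOf_dvd_natCard _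
    rcases (Nat.dvd_prime hindex).1 h3 with h' | h'
    · exact absurd (orderOf_eq_one_iff.1 h') h1
    · rw [h'] at h2
      exact (Nat.prime_dvd_prime_iff_eq hindex hr).1 (hindex.dvd_of_dvd_pow h2)
  set D := cbar w with hD
  have hcoD := isCoatom_cbar (h w hwz)
  have hDA : D ⊓ A = ⊥ := by
    rw [eq_bot_iff]
    intro z hz
    by_contra hz1
    rw [mem_bot] at hz1
    rcases cx_dichotomy h p hx hxp with hab | hpA
    · obtain ⟨u, rfl⟩ := QuotientGroup.mk'_surjective (center G) z
      have hz' := mem_inf.1 hz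
      have hu : u ∉ center G := fun h' => hz1 (mk_eq_one.2 h')
      have e := cx_eq_of_abelian h hx hab (mem_centralizer_singleton_iff.2 (mk_mem_cbar.1 hz'.2)) hu
      apply hdA
      rw [hA, mk_mem_cbar, ← mem_centralizer_singleton_iff, ← e, mem_centralizer_singleton_iff]
      exact (mk_mem_cbar.1 hz'.1).symm
    · have hrp : r ≠ p := by
        rintro rfl
        obtain ⟨k, hk⟩ := IsPGroup.iff_card.1 hpA
        exact hp r hr (IsPGroup.of_card (n := k + 1) (by rw [← A.card_mul_index, hAind, hk, pow_succ]))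
      obtain ⟨hzD, hzA⟩ := mem_inf.1 hz
      obtain ⟨k, hk⟩ := hpA ⟨z, hzA⟩
      obtain ⟨u, rfl, hup⟩ := exists_lift_p p z ⟨k, congrArg Subtype.val hk⟩
      have hu : u ∉ center G := fun h' => hz1 (mk_eq_one.2 h')
      have hcop : Nat.Coprime (orderOf u) (orderOf w) := by
        obtain ⟨i, hi⟩ := hup
        obtain ⟨j, hj⟩ := hwr
        exact Nat.Coprime.coprime_dvd_left (orderOf_dvd_of_pow_eq_one hi)
          (Nat.Coprime.coprime_dvd_right (orderOf_dvd_of_pow_eq_one hj)
            (((Nat.coprime_primes hpp hr).2 (Ne.symm hrp)).pow i j))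
      have e := cx_eq_of_coprime h hu hwz (mk_mem_cbar.1 hzD) hcop
      have habw : IsMulCommutative (centralizer ({w} : Set G)) := by
        refine (cx_dichotomy h r hwz hwr).resolve_right fun hrg => ?_
        obtain ⟨j, hj⟩ := hrg ⟨π u, hzD⟩
        have hj' : (π u) ^ r ^ j = 1 := congrArg Subtype.val hj
        have hk' : (π u) ^ p ^ k = 1 := congrArg Subtype.val hk
        exact hz1 (orderOf_eq_one_iff.1 (Nat.eq_one_of_dvd_coprimes
          (((Nat.coprime_primes hpp hr).2 (Ne.symm hrp)).pow k j)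
          (orderOf_dvd_of_pow_eq_one hk') (orderOf_dvd_of_pow_eq_one hj')))
      have hxw : x ∈ centralizer ({w} : Set G) := by
        rw [← e, mem_centralizer_singleton_iff]
        exact (mk_mem_cbar.1 hzA).symm
      have e2 := cx_eq_of_abelian h hwz habw hxw hx
      apply hdA
      rw [hA, mk_mem_cbar, ← mem_centralizer_singleton_iff, e2, mem_centralizer_singleton_iff]
  have hwD : π w ∈ D := self_mem_cbar w
  have hDcard : Nat.card D = r := by
    have h1 : Nat.card D ∣ r := by
      have h2 := relIndex_dvd_index_of_normal A D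
      rwa [← inf_relIndex_left, hDA, relIndex_bot_left, hAind] at h2
    refine ((Nat.dvd_prime hr).1 h1).resolve_left fun h' => hdA ?_
    rw [card_eq_one] at h'
    rw [h', mem_bot] at hwD
    rw [hwD]; exact one_mem _
  -- `A` is an irreducible module
  have hirr : ∀ S : Subgroup (G ⧸ center G), S ≤ A → D ≤ normalizer (S : Set _) → S = ⊥ ∨ S = A := by
    intro S hSA hSn
    rcases hcoD.le_iff.1 (le_sup_right : D ≤ S ⊔ D) with h' | h'
    · right
      refine le_antisymm hSA fun a ha => ?_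
      have : a ∈ S ⊔ D := h' ▸ mem_top a
      obtain ⟨s, hs, t, ht, rfl⟩ := H1.exists_mul_of_mem_sup hSn this
      have htA : t ∈ A := by simpa using mul_mem (inv_mem (hSA hs)) ha
      have : t = 1 := mem_bot.1 (hDA ▸ mem_inf.2 ⟨ht, htA⟩)
      rw [this, mul_one]; exact hs
    · left
      rw [eq_bot_iff, ← hDA]
      exact le_inf ((le_sup_left).trans h'.le) hSA
  have hAne : A ≠ ⊥ := fun h' => hx (mk_eq_one.1 (mem_bot.1 (h' ▸ self_mem_cbar x)))
  have hAcomm : IsMulCommutative A := by
    rcases cx_dichotomy h p hx hxp with hab | hpA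
    · exact ⟨⟨fun a b => by
        obtain ⟨_, u, hu, rfl⟩ := a
        obtain ⟨_, v, hv, rfl⟩ := b
        apply Subtype.ext
        show π u * π v = π v * π u
        have huv : u * v = v * u := congrArg Subtype.val (hab.1.comm ⟨u, hu⟩ ⟨v, hv⟩)
        rw [← map_mul, ← map_mul, huv]⟩⟩
    · haveI : Nontrivial A := (nontrivial_iff_ne_bot A).2 hAne
      haveI := hpA.center_nontrivial
      rcases hirr ((center A).map A.subtype) (map_subtype_le _) (by
        intro g _
        haveI : ((center A).map A.subtype).Normal := inferInstance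
        rw [normalizer_eq_top]; exact mem_top g) with h' | h'
      · rw [map_eq_bot_iff_of_injective _ A.subtype_injective] at h'
        exact absurd h' ((nontrivial_iff_ne_bot (center A)).1 inferInstance)
      · refine ⟨⟨fun a b => ?_⟩⟩
        have hb : (b : G ⧸ center G) ∈ (center A).map A.subtype := h'.symm ▸ b.2
        obtain ⟨b', hb', e⟩ := hb
        rw [← Subtype.ext e]
        exact mem_center_iff.1 hb' a
  have hAc : ∀ a ∈ A, ∀ b ∈ A, a * b = b * a := fun a ha b hb =>
    congrArg Subtype.val (hAcomm.1.comm ⟨a, ha⟩ ⟨b, hb⟩)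
  obtain ⟨q, hq, hqA⟩ := Nat.exists_prime_and_dvd (fun h' => hAne (card_eq_one.1 h') : Nat.card A ≠ 1)
  haveI := Fact.mk hq
  let Ω : Subgroup (G ⧸ center G) :=
    { carrier := {a | a ∈ A ∧ a ^ q = 1}
      one_mem' := ⟨one_mem _, one_pow _⟩
      mul_mem' := fun {a b} ha hb => ⟨mul_mem ha.1 hb.1, by
        rw [(show Commute a b from hAc a ha.1 b hb.1).mul_pow, ha.2, hb.2, one_mul]⟩
      inv_mem' := fun {a} ha => ⟨inv_mem ha.1, by rw [inv_pow, ha.2, inv_one]⟩ }
  have hΩ : Ω = A := by
    refine (hirr Ω (fun a ha => ha.1) ?_).resolve_left ?_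
    · intro g _
      haveI : Ω.Normal := ⟨fun a ha b => ⟨hn.conj_mem a ha.1 b, by rw [conj_pow, ha.2]; simp⟩⟩
      rw [normalizer_eq_top]; exact mem_top g
    · intro h'
      obtain ⟨a, ha⟩ := exists_prime_orderOf_dvd_card' q hqA
      have hmem : (a : G ⧸ center G) ∈ Ω :=
        ⟨a.2, by rw [← ha]; exact_mod_cast congrArg Subtype.val (pow_orderOf_eq_one a)⟩
      rw [h', mem_bot] at hmem
      rw [show a = 1 from Subtype.ext hmem, orderOf_one] at ha
      exact hq.one_lt.ne ha
  have hexp : ∀ a ∈ A, a ^ q = 1 := fun a ha => (hΩ.symm.le ha).2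
  have hqg : IsPGroup q A := fun a => ⟨1, Subtype.ext (by simpa using hexp a a.2)⟩
  obtain ⟨e, he⟩ := IsPGroup.iff_card.1 hqg
  have hcard : Nat.card (G ⧸ center G) = q ^ e * r := by rw [← he, ← hAind, A.card_mul_index]
  have hqr : q ≠ r := fun heq => hp r hr (IsPGroup.of_card (n := e + 1) (by rw [hcard, heq, pow_succ]))
  have hnc : ¬ IsMulCommutative (G ⧸ center G) := by
    intro hc
    have hDn : D.Normal := ⟨fun a ha b => by
      rw [mul_comm' b a, mul_inv_cancel_right]; exact ha⟩
    rcases hirr (A ⊓ ⊤) inf_le_left (by intro g _; rw [inf_top_eq, normalizer_eq_top]; exact mem_top g)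
      with h' | h'
    · exact hAne (by simpa using h')
    · have hA' : ∀ S : Subgroup (G ⧸ center G), S ≤ A → S = ⊥ ∨ S = A := fun S hS => hirr S hS (fun g _ => by
        haveI : S.Normal := ⟨fun a ha b => by rw [mul_comm' b a, mul_inv_cancel_right]; exact ha⟩
        rw [normalizer_eq_top]; exact mem_top g)
      obtain ⟨a, haA, ha1⟩ := A.bot_or_exists_ne_one.resolve_left hAne
      have hz : zpowers a = A := (hA' _ (zpowers_le.2 haA)).resolve_left (by simpa using ha1)
      have hcA : Nat.card A = q := by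
        rw [← hz, Nat.card_zpowers]; exact orderOf_eq_prime (hexp a haA) ha1
      have hoa : orderOf a = q := orderOf_eq_prime (hexp a haA) ha1
      have hod : orderOf (π w) = r := by
        have h1 := orderOf_dvd_natCard (⟨_, hwD⟩ : D)
        rw [Subgroup.orderOf_mk, hDcard] at h1
        exact ((Nat.dvd_prime hr).1 h1).resolve_left fun h2 =>
          hdA (by rw [orderOf_eq_one_iff.1 h2]; exact one_mem _)
      apply hnaQ
      refine isCyclic_of_orderOf_eq_card (a * π w) ?_
      rw [(show Commute a (π w) from mul_comm' a (π w)).orderOf_mul_eq_mul_orderOf_of_coprime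
        (by rw [hoa, hod]; exact (Nat.coprime_primes hq hr).2 hqr), hoa, hod,
        ← A.card_mul_index, hAind, hcA]
  refine ⟨hnc, fun H hH => ?_, q, r, e, hq, hr, hqr, hcard, ?_⟩
  · by_cases hHA : H ≤ A
    · exact ⟨⟨fun a b => Subtype.ext (hAc a (hHA a.2) b (hHA b.2))⟩⟩
    · have hT : (H ⊓ A).Normal := by
        rw [← normalizer_eq_top_iff, eq_top_iff,
          ← (hcoA.le_iff.1 (le_sup_right : A ≤ H ⊔ A)).resolve_right (fun h' => hHA (le_sup_left.trans h'.le))]
        refine sup_le (fun g hg => ?_) (fun g hg => ?_)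
        · rw [mem_normalizer_iff]
          intro a
          simp only [mem_inf]
          constructor
          · rintro ⟨h1, h2⟩
            exact ⟨mul_mem (mul_mem hg h1) (inv_mem hg), hn.conj_mem a h2 g⟩
          · rintro ⟨h1, h2⟩
            have e : a = g⁻¹ * (g * a * g⁻¹) * g := by group
            rw [e]
            exact ⟨mul_mem (mul_mem (inv_mem hg) h1) hg, by simpa using hn.conj_mem _ h2 g⁻¹⟩
        · rw [mem_normalizer_iff]
          intro a
          simp only [mem_inf]
          constructor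
          · rintro ⟨h1, h2⟩
            rw [hAc g hg a h2, mul_inv_cancel_right]; exact ⟨h1, h2⟩
          · rintro ⟨h1, h2⟩
            have ha : a ∈ A := by
              have e : a = g⁻¹ * (g * a * g⁻¹) * g := by group
              rw [e]; exact mul_mem (mul_mem (inv_mem hg) h2) hg
            rw [hAc g hg a ha, mul_inv_cancel_right] at h1; exact ⟨h1, ha⟩
      haveI := hT
      rcases hirr (H ⊓ A) inf_le_right (fun g _ => by rw [normalizer_eq_top]; exact mem_top g) with h' | h'
      · have h2 : Nat.card H ∣ r := by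
          have h3 := relIndex_dvd_index_of_normal A H
          rwa [← inf_relIndex_left, h', relIndex_bot_left, hAind] at h3
        rcases (Nat.dvd_prime hr).1 h2 with h3 | h3
        · haveI : Subsingleton H := (Nat.card_eq_one_iff_unique.1 h3).1
          exact ⟨⟨fun a b => Subsingleton.elim _ _⟩⟩
        · haveI : IsCyclic H := isCyclic_of_prime_card h3
          infer_instance
      · exact absurd ((hcoA.le_iff.1 (inf_eq_right.1 h')).resolve_right
          (fun h'' => hHA h''.le)) hH
  · intro P hP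
    have hle : P ≤ A := by
      intro a ha
      rw [← QuotientGroup.eq_one_iff, ← orderOf_eq_one_iff]
      have h1 : orderOf (QuotientGroup.mk' A a) ∣ q ^ e := by
        refine (orderOf_map_dvd _ a).trans ?_
        rw [← hP, ← Subgroup.orderOf_mk (H := P) a ha]
        exact orderOf_dvd_natCard _
      have h2 : orderOf (QuotientGroup.mk' A a) ∣ r := hAind ▸ orderOf_dvd_natCard _
      exact Nat.eq_one_of_dvd_coprimes ((Nat.Prime.coprime_iff_not_dvd hr).2
        (fun hd => hqr ((Nat.prime_dvd_prime_iff_eq hr hq).1 (hr.dvd_of_dvd_pow hd)).symm) |>.symm) h1 h2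
    rw [eq_of_le_of_card_ge hle (by rw [hP, he])]
    exact hn

end centmax

end H35
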