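import Cfsg.Agent.H35.CycAbExc
import Cfsg.Agent.H3.SubnormalJoin
import Cfsg.Agent.H33.CyclicSylow
import Cfsg.Agent.H13.CNOdd
import Cfsg.Agent.H91.DihedralLift

/-!
Groups with a cyclic Sylow `p`-subgroup all of whose `p'`-subgroups are abelian.
-/

set_option autoImplicit false
set_option linter.all false
set_option maxHeartbeats 1000000

open Cfsg Subgroup
open scoped Pointwise

namespace H35.CA

universe u

variable {G : Type u} [Group G] [Finite G] {p : ℕ} [Fact p.Prime]

theorem zpowers_eq_of_orderOf_eq {C : Subgroup G} [hc : IsCyclic C] {x y : G} (hx : x ∈ C) (hy : y ∈ C)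
    (h : orderOf x = orderOf y) : Subgroup.zpowers x = Subgroup.zpowers y := by
  classical
  haveI : Fintype C := Fintype.ofFinite _
  set d := orderOf x with hd
  set X : C := ⟨x, hx⟩ with hX
  have hXd : orderOf X = d := by rw [← Subgroup.orderOf_coe]
  have hsub : (Finset.univ.filter fun a : C => a ∈ Subgroup.zpowers X) ⊆
      Finset.univ.filter fun a : C => a ^ d = 1 := by
    intro a ha
    obtain ⟨k, rfl⟩ := Subgroup.mem_zpowers_iff.1 (Finset.mem_filter.1 ha).2
    refine Finset.mem_filter.2 ⟨Finset.mem_univ _, ?_⟩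
    rw [← zpow_natCast, ← zpow_mul, mul_comm, zpow_mul, zpow_natCast, ← hXd, pow_orderOf_eq_one, one_zpow]
  have heq := Finset.eq_of_subset_of_card_le hsub (by
    refine (IsCyclic.card_pow_eq_one_le (by rw [← hXd]; exact orderOf_pos X)).trans ?_
    rw [← hXd, ← Nat.card_zpowers, Nat.card_eq_fintype_card, Fintype.card_subtype])
  have hyx : y ∈ Subgroup.zpowers x := by
    have : (⟨y, hy⟩ : C) ∈ Finset.univ.filter fun a : C => a ^ d = 1 :=
      Finset.mem_filter.2 ⟨Finset.mem_univ _, Subtype.ext (by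
        rw [Subgroup.coe_pow, Subgroup.coe_one]
        show y ^ d = 1
        rw [h, pow_orderOf_eq_one])⟩
    rw [← heq] at this
    obtain ⟨k, hk⟩ := Subgroup.mem_zpowers_iff.1 (Finset.mem_filter.1 this).2
    exact Subgroup.mem_zpowers_iff.2 ⟨k, by simpa [X] using congrArg Subtype.val hk⟩
  symm
  refine Subgroup.eq_of_le_of_card_ge (Subgroup.zpowers_le.2 hyx) ?_
  rw [Nat.card_zpowers, Nat.card_zpowers]
  exact h.le

theorem mem_norm_zpowers {g x : G} (h : Subgroup.zpowers (g * x * g⁻¹) = Subgroup.zpowers x) :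
    g ∈ normalizer (Subgroup.zpowers x : Set G) := by
  rw [H3.mem_normalizer_iff_smul]
  show (Subgroup.zpowers x).map (MulAut.conj g).toMonoidHom = Subgroup.zpowers x
  rw [MonoidHom.map_zpowers]
  exact h

/-- A free action has divisible cardinality. -/
theorem free_dvd {Z α : Type u} [Group Z] [MulAction Z α] [Finite α]
    (h : ∀ (z : Z) (a : α), z • a = a → z = 1) : Nat.card Z ∣ Nat.card α := by
  rw [Nat.card_congr (MulAction.selfEquivOrbitsQuotientProd (G := Z) (X := α) (fun b => by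
    rw [eq_bot_iff]; exact fun z hz => Subgroup.mem_bot.2 (h z b (MulAction.mem_stabilizer_iff.1 hz)))),
    Nat.card_prod]
  exact dvd_mul_left _ _

theorem conj_mul_pow {K : Subgroup G} {a k : G} (ha : a ∈ normalizer (K : Set G)) (hk : k ∈ K) (m : ℕ) :
    ∃ k' ∈ K, (k * a) ^ m = k' * a ^ m := by
  induction m with
  | zero => exact ⟨1, one_mem _, by simp⟩
  | succ m ih =>
    obtain ⟨k', hk', e⟩ := ih
    refine ⟨k' * (a ^ m * k * (a ^ m)⁻¹), mul_mem hk' ?_, by rw [pow_succ, e, pow_succ]; group⟩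
    exact (Subgroup.mem_normalizer_iff.1 (pow_mem ha m) k).1 hk

/-- The hypotheses of a simple minimal counterexample. -/
structure Min (P : Sylow p G) : Prop where
  simple : IsSimpleGroup G
  cyc : IsCyclic (P : Subgroup G)
  ab : ∀ H : Subgroup G, ¬ p ∣ Nat.card H → ∀ a ∈ H, ∀ b ∈ H, a * b = b * a
  noNPC : ¬ HasNormalPComplement p G
  notNormal : ¬ (P : Subgroup G).Normal
  alt : ∀ H : Subgroup G, H ≠ ⊤ → HasNormalPComplement p H ∨ ∀ Q : Sylow p H, (Q : Subgroup H).Normal

namespace Min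

variable {P : Sylow p G} (m : Min P)
include m

theorem pPos : (P : Subgroup G) ≠ ⊥ := fun h => m.notNormal (h ▸ inferInstance)

theorem pComm : ∀ a ∈ (P : Subgroup G), ∀ b ∈ (P : Subgroup G), a * b = b * a := by
  intro a ha b hb
  haveI := m.cyc
  letI : CommGroup (P : Subgroup G) := IsCyclic.commGroup
  exact congrArg Subtype.val (mul_comm (⟨a, ha⟩ : (P : Subgroup G)) ⟨b, hb⟩)

theorem eq_top_or_bot (N : Subgroup G) (hN : N.Normal) : N = ⊥ ∨ N = ⊤ :=
  m.simple.eq_bot_or_eq_top_of_normal N hN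

theorem not_comm : ¬ ∀ a b : G, a * b = b * a := fun h =>
  m.notNormal ⟨fun x hx g => by rwa [h g x, mul_inv_cancel_right]⟩

theorem cent_ne_top {x : G} (hx : x ≠ 1) : centralizer ({x} : Set G) ≠ ⊤ := by
  intro h
  have hz : x ∈ center G := Subgroup.mem_center_iff.2 fun g =>
    (Subgroup.mem_centralizer_singleton_iff.1 (h ▸ Subgroup.mem_top g))
  rcases m.eq_top_or_bot (center G) inferInstance with e | e
  · rw [e, Subgroup.mem_bot] at hz; exact hx hz
  · exact m.not_comm fun a b => (Subgroup.mem_center_iff.1 (e ▸ Subgroup.mem_top b) a)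

theorem zp_norm_ne_top {x : G} (hx : x ≠ 1) : normalizer (Subgroup.zpowers x : Set G) ≠ ⊤ := by
  intro h
  rcases m.eq_top_or_bot _ (normalizer_eq_top_iff.1 h) with e | e
  · exact hx (Subgroup.mem_bot.1 (e ▸ Subgroup.mem_zpowers x))
  · refine m.not_comm fun a b => ?_
    obtain ⟨i, rfl⟩ := Subgroup.mem_zpowers_iff.1 (e ▸ Subgroup.mem_top a : a ∈ Subgroup.zpowers x)
    obtain ⟨k, rfl⟩ := Subgroup.mem_zpowers_iff.1 (e ▸ Subgroup.mem_top b : b ∈ Subgroup.zpowers x)
    rw [← zpow_add, ← zpow_add, add_comm]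

/-- A proper overgroup of the normalizer of `P` is contained in it. -/
theorem le_norm (H : Subgroup G) (hH : H ≠ ⊤) (hN : normalizer ((P : Subgroup G) : Set G) ≤ H) :
    H ≤ normalizer ((P : Subgroup G) : Set G) := by
  rcases m.alt H hH with h | h
  · exfalso
    refine m.noNPC (H33.hasNormalPComplement_of_cyclic P m.cyc fun v hv hvc => ?_)
    obtain ⟨z, hz, hz1⟩ := (Subgroup.ne_bot_iff_exists_ne_one).1 m.pPos |> fun ⟨⟨z, hz⟩, h⟩ =>
      (⟨z, hz, fun e => h (Subtype.ext e)⟩ : ∃ z, z ∈ (P : Subgroup G) ∧ z ≠ 1)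
    refine ⟨z, hz, hz1, ?_⟩
    have hvH := hN hv
    have hzH := hN (le_normalizer hz)
    have hvL : (⟨v, hvH⟩ : H) ∈ pResidual p H :=
      (H5.mem_pResidual_iff h).2 (by rwa [← Subgroup.orderOf_coe])
    have hn : (pResidual p H).Normal := inferInstance
    have hc : (⟨v, hvH⟩ * ⟨z, hzH⟩ * ⟨v, hvH⟩⁻¹ * ⟨z, hzH⟩⁻¹ : H) ∈ pResidual p H := by
      rw [mul_assoc, mul_assoc (⟨v, hvH⟩ : H), ]
      refine mul_mem hvL ?_
      have := hn.conj_mem _ (inv_mem hvL) ⟨z, hzH⟩
      simpa [mul_assoc] using this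
    have h1 := (H5.mem_pResidual_iff h).1 hc
    rw [← Subgroup.orderOf_coe] at h1
    have hcP : v * z * v⁻¹ * z⁻¹ ∈ (P : Subgroup G) :=
      mul_mem ((Subgroup.mem_normalizer_iff.1 hv z).1 hz) (inv_mem hz)
    obtain ⟨k, hk⟩ := P.isPGroup' ⟨_, hcP⟩
    have hk' : (v * z * v⁻¹ * z⁻¹) ^ p ^ k = 1 := congrArg Subtype.val hk
    have h2 : orderOf (v * z * v⁻¹ * z⁻¹) = 1 :=
      Nat.eq_one_of_dvd_coprimes (h1.pow_right k) dvd_rfl (orderOf_dvd_of_pow_eq_one hk')
    exact mul_inv_eq_iff_eq_mul.1 (mul_inv_eq_one.1 (orderOf_eq_one_iff.1 h2))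
  · intro g hg
    have hPH : (P : Subgroup G) ≤ H := le_normalizer.trans hN
    have hn := h (P.subtype hPH)
    rw [Sylow.coe_subtype] at hn
    exact (normal_subgroupOf_iff_le_normalizer hPH).1 hn hg

theorem norm_zpowers {x : G} (hx : x ∈ (P : Subgroup G)) (hx1 : x ≠ 1) :
    normalizer (Subgroup.zpowers x : Set G) ≤ normalizer ((P : Subgroup G) : Set G) := by
  refine m.le_norm _ (m.zp_norm_ne_top hx1) fun g hg => ?_
  haveI := m.cyc
  have hgx : g * x * g⁻¹ ∈ (P : Subgroup G) := (Subgroup.mem_normalizer_iff.1 hg x).1 hx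
  have hord : orderOf x = orderOf (g * x * g⁻¹) :=
    (orderOf_injective (MulAut.conj g).toMonoidHom (MulAut.conj g).injective x).symm
  exact mem_norm_zpowers (zpowers_eq_of_orderOf_eq hx hgx hord).symm

theorem mem_P_of_norm {x : G} (hx : ∃ k : ℕ, x ^ p ^ k = 1)
    (hxN : x ∈ normalizer ((P : Subgroup G) : Set G)) : x ∈ (P : Subgroup G) := by
  obtain ⟨k, hk⟩ := hx
  obtain ⟨i, -, hi⟩ := (Nat.dvd_prime_pow (Fact.out : p.Prime)).1 (orderOf_dvd_of_pow_eq_one hk)
  exact ((IsPGroup.inf_normalizer_sylow (IsPGroup.of_card (n := i)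
    (by rw [Nat.card_zpowers, hi])) P).le ⟨Subgroup.mem_zpowers x, hxN⟩).2

theorem pElem {x : G} (hx : x ∈ (P : Subgroup G)) : ∃ k : ℕ, x ^ p ^ k = 1 := by
  obtain ⟨k, hk⟩ := P.isPGroup' ⟨x, hx⟩
  exact ⟨k, congrArg Subtype.val hk⟩

theorem ti {x : G} (hx : x ∈ (P : Subgroup G)) (hx1 : x ≠ 1) {g : G}
    (h : g * x * g⁻¹ ∈ normalizer ((P : Subgroup G) : Set G)) :
    g ∈ normalizer ((P : Subgroup G) : Set G) := by
  haveI := m.cyc
  obtain ⟨k, hk⟩ := m.pElem hx
  have hP := m.mem_P_of_norm ⟨k, by rw [conj_pow, hk]; group⟩ h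
  have hord : orderOf x = orderOf (g * x * g⁻¹) :=
    (orderOf_injective (MulAut.conj g).toMonoidHom (MulAut.conj g).injective x).symm
  exact m.norm_zpowers hx hx1 (mem_norm_zpowers (zpowers_eq_of_orderOf_eq hx hP hord).symm)

theorem cent_le {x : G} (hx : x ∈ (P : Subgroup G)) (hx1 : x ≠ 1) {g : G} (h : g * x = x * g) :
    g ∈ normalizer ((P : Subgroup G) : Set G) :=
  m.ti hx hx1 (by rw [h, mul_inv_cancel_right]; exact le_normalizer hx)

theorem cent_all {x : G} (hx : x ∈ (P : Subgroup G)) (hx1 : x ≠ 1) {v : G} (hv : (orderOf v).Coprime p)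
    (h : v * x = x * v) : ∀ u ∈ (P : Subgroup G), v * u = u * v := by
  have hN := m.cent_le hx hx1 h
  obtain ⟨g, hg⟩ := (Subgroup.isCyclic_iff_exists_zpowers_eq_top _).1 m.cyc
  have hgP : g ∈ (P : Subgroup G) := hg ▸ Subgroup.mem_zpowers g
  obtain ⟨k, hk⟩ := m.pElem hgP
  obtain ⟨i, -, hi⟩ := (Nat.dvd_prime_pow (Fact.out : p.Prime)).1 (orderOf_dvd_of_pow_eq_one hk)
  have hvg : Commute v g := H33.commute_of_conj_mem_zpowers hv ⟨i, hi⟩
    (by rw [hg]; exact (Subgroup.mem_normalizer_iff.1 hN g).1 hgP) (hg.symm ▸ hx) hx1 h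
  intro u hu
  rw [← hg] at hu
  obtain ⟨j, rfl⟩ := Subgroup.mem_zpowers_iff.1 hu
  exact (hvg.zpow_right j).eq

theorem no_fix (h : ∀ v ∈ normalizer ((P : Subgroup G) : Set G), (orderOf v).Coprime p →
    ∃ z ∈ (P : Subgroup G), z ≠ 1 ∧ v * z = z * v) : False :=
  m.noNPC (H33.hasNormalPComplement_of_cyclic P m.cyc h)

theorem p_ne_two : p ≠ 2 := by
  intro hp
  subst hp
  refine m.no_fix fun v hv _ => ?_
  obtain ⟨⟨z, hz⟩, hz1, hz2⟩ : ∃ z : (P : Subgroup G), z ≠ 1 ∧ z ^ 2 = 1 := by
    obtain ⟨z, hz⟩ := exists_prime_orderOf_dvd_card' (G := (P : Subgroup G)) 2 (by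
      obtain ⟨k, hk⟩ := IsPGroup.iff_card.1 P.isPGroup'
      rw [hk]
      refine dvd_pow_self 2 fun e => m.pPos ?_
      rw [e, pow_zero] at hk
      exact Subgroup.eq_bot_of_card_eq _ hk)
    refine ⟨z, fun e => by simp [e] at hz, ?_⟩
    have := pow_orderOf_eq_one z
    rwa [hz] at this
  refine ⟨z, hz, fun e => hz1 (Subtype.ext e), ?_⟩
  haveI := m.cyc
  have hzne : z ≠ 1 := fun e => hz1 (Subtype.ext e)
  have hvz : v * z * v⁻¹ ∈ (P : Subgroup G) := (Subgroup.mem_normalizer_iff.1 hv z).1 hz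
  have hord : orderOf z = 2 := orderOf_eq_prime (congrArg Subtype.val hz2) hzne
  have h := zpowers_eq_of_orderOf_eq hz hvz
    ((orderOf_injective (MulAut.conj v).toMonoidHom (MulAut.conj v).injective z).symm)
  have hmem : v * z * v⁻¹ ∈ Subgroup.zpowers z := h ▸ Subgroup.mem_zpowers _
  obtain ⟨k, hk⟩ := (mem_powers_iff_mem_zpowers.2 hmem : v * z * v⁻¹ ∈ Submonoid.powers z)
  have hne : v * z * v⁻¹ ≠ 1 := fun e => hzne (conj_eq_one_iff.1 e)
  replace hk : z ^ k = v * z * v⁻¹ := hk
  rw [← pow_mod_orderOf, hord] at hk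
  rcases Nat.mod_two_eq_zero_or_one k with e | e <;> rw [e] at hk
  · exact absurd hk.symm (by simpa using hne)
  · rw [pow_one] at hk; exact mul_inv_eq_iff_eq_mul.1 hk.symm

theorem sylow_not_central {q : ℕ} [Fact q.Prime] (hqG : q ∣ Nat.card G) (hqp : q ≠ p) (Q : Sylow q G)
    (h : normalizer ((Q : Subgroup G) : Set G) ≤ centralizer ((Q : Subgroup G) : Set G)) : False := by
  have hc := MonoidHom.ker_transferSylow_isComplement' Q h
  rcases m.eq_top_or_bot _ (MonoidHom.normal_ker (MonoidHom.transferSylow Q h)) with e | e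
  · rw [e, Subgroup.isComplement'_bot_left] at hc
    refine m.noNPC (H5.hasNormalPComplement_of_not_dvd fun hd => hqp ?_)
    obtain ⟨k, hk⟩ := IsPGroup.iff_card.1 Q.isPGroup'
    rw [hc, Subgroup.card_top] at hk
    rw [hk] at hd
    exact ((Nat.prime_dvd_prime_iff_eq Fact.out Fact.out).1 ((Fact.out : p.Prime).dvd_of_dvd_pow hd)).symm
  · rw [e, Subgroup.isComplement'_top_left] at hc
    exact Q.ne_bot_of_dvd_card hqG hc

/-- An element of order `p` normalizing a Sylow subgroup. -/
theorem exists_z {q : ℕ} [Fact q.Prime] (hqG : q ∣ Nat.card G) (hqp : q ≠ p) (Q : Sylow q G) :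
    ∃ z : G, orderOf z = p ∧ z ∈ normalizer ((Q : Subgroup G) : Set G) := by
  by_cases h : p ∣ Nat.card (normalizer ((Q : Subgroup G) : Set G))
  · obtain ⟨z, hz⟩ := exists_prime_orderOf_dvd_card' p h
    exact ⟨z, by rw [← hz, Subgroup.orderOf_coe], z.2⟩
  · refine (m.sylow_not_central hqG hqp Q fun n hn => ?_).elim
    rw [Subgroup.mem_centralizer_iff]
    exact fun y hy => m.ab _ h y (le_normalizer hy) n hn

theorem conj_into_P {x : G} (hx : ∃ k : ℕ, x ^ p ^ k = 1) : ∃ g : G, g * x * g⁻¹ ∈ (P : Subgroup G) := by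
  obtain ⟨k, hk⟩ := hx
  obtain ⟨i, -, hi⟩ := (Nat.dvd_prime_pow (Fact.out : p.Prime)).1 (orderOf_dvd_of_pow_eq_one hk)
  obtain ⟨R, hR⟩ := (IsPGroup.of_card (n := i)
    (by rw [Nat.card_zpowers, hi]) : IsPGroup p (Subgroup.zpowers x)).exists_le_sylow
  obtain ⟨g, hg⟩ := MulAction.exists_smul_eq G R P
  refine ⟨g, ?_⟩
  have : MulAut.conj g x ∈ ((g • R : Sylow p G) : Subgroup G) := by
    rw [Sylow.coe_subgroup_smul, Subgroup.pointwise_smul_def]
    exact Subgroup.mem_map_of_mem _ (hR (Subgroup.mem_zpowers x))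
  rwa [hg] at this

theorem order_p_pow {z : G} (hz : orderOf z = p) : ∃ k : ℕ, z ^ p ^ k = 1 :=
  ⟨1, by rw [pow_one, ← hz, pow_orderOf_eq_one]⟩

theorem ne_one_of_order_p {z : G} (hz : orderOf z = p) : z ≠ 1 := fun e => by
  rw [e, orderOf_one] at hz; exact (Fact.out : p.Prime).one_lt.ne hz

/-- The `p`-part of an element of order divisible by `p`. -/
theorem exists_order_p {g : G} (h : p ∣ orderOf g) : ∃ n : ℕ, orderOf (g ^ n) = p := by
  obtain ⟨c, hc⟩ := h
  have hcpos : c ≠ 0 := by
    intro e; rw [e, mul_zero] at hc; exact (orderOf_pos g).ne' hc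
  refine ⟨c, ?_⟩
  rw [orderOf_pow' _ hcpos, hc, Nat.gcd_mul_left_left, Nat.mul_div_cancel _ (Nat.pos_of_ne_zero hcpos)]

/-- Two non-commuting involutions have a product of order divisible by `p`. -/
theorem dvd_order_prod {s t : G} (hs : s * s = 1) (ht : t * t = 1) (hne : ¬ s * t = t * s) :
    p ∣ orderOf (s * t) := by
  by_contra h
  apply hne
  set K := Subgroup.zpowers (s * t) with hK
  have hsinv : s⁻¹ = s := inv_eq_of_mul_eq_one_right hs
  have htinv : t⁻¹ = t := inv_eq_of_mul_eq_one_right ht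
  have hconj : s * (s * t) * s⁻¹ = (s * t)⁻¹ := by rw [mul_inv_rev, hsinv, htinv, ← mul_assoc, hs, one_mul]
  have hsN : s ∈ normalizer (K : Set G) := by
    refine mem_norm_zpowers ?_
    rw [hconj, Subgroup.zpowers_inv]
  have hmem : ∀ x ∈ Subgroup.zpowers s ⊔ K, ∃ k ∈ K, x = k ∨ x = k * s := by
    intro x hx
    rw [sup_comm, ← SetLike.mem_coe, Subgroup.coe_mul_of_right_le_normalizer_left K _ (Subgroup.zpowers_le.2 hsN)] at hx
    obtain ⟨k, hk, w, hw, rfl⟩ := hx
    refine ⟨k, hk, ?_⟩
    obtain ⟨i, rfl⟩ := Subgroup.mem_zpowers_iff.1 hw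
    have h2 : orderOf s ∣ 2 := orderOf_dvd_of_pow_eq_one (by rw [sq, hs])
    rcases Int.emod_two_eq i with e | e
    · left
      show k * s ^ i = k
      rw [← Int.mul_ediv_add_emod i 2, e, add_zero, zpow_mul, zpow_two, hs, one_zpow, mul_one]
    · right
      show k * s ^ i = k * s
      rw [← Int.mul_ediv_add_emod i 2, e, zpow_add, zpow_mul, zpow_two, hs, one_zpow, one_mul, zpow_one]
  have hH : ¬ p ∣ Nat.card (Subgroup.zpowers s ⊔ K : Subgroup G) := by
    intro hd
    obtain ⟨⟨x, hx⟩, hxp⟩ := exists_prime_orderOf_dvd_card' p hd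
    rw [← Subgroup.orderOf_coe] at hxp
    obtain ⟨k, hk, e | e⟩ := hmem x hx
    · subst e
      exact h (hxp ▸ (Nat.card_zpowers (s * t) ▸ Subgroup.orderOf_dvd_natCard K hk))
    · apply m.p_ne_two
      obtain ⟨i, rfl⟩ := Subgroup.mem_zpowers_iff.1 hk
      have h1 : x * x = 1 := by
        rw [e]
        calc (s * t) ^ i * s * ((s * t) ^ i * s) = (s * t) ^ i * (s * (s * t) ^ i * s⁻¹) * (s * s) := by group
          _ = 1 := by rw [← conj_zpow, hconj, hs, mul_one, inv_zpow, mul_inv_cancel]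
      have := orderOf_dvd_of_pow_eq_one (show x ^ 2 = 1 by rw [sq, h1])
      show p = 2
      rw [show orderOf (x : G) = p from hxp] at this
      exact (Nat.prime_dvd_prime_iff_eq Fact.out Nat.prime_two).1 this
  refine m.ab _ hH s (Subgroup.mem_sup_left (Subgroup.mem_zpowers s)) t ?_
  have : t = s⁻¹ * (s * t) := by group
  rw [this]
  exact mul_mem (inv_mem (Subgroup.mem_sup_left (Subgroup.mem_zpowers s)))
    (Subgroup.mem_sup_right (Subgroup.mem_zpowers _))

/-- A `p'`-element commuting with an element of order `p` has a conjugate centralizing `P`. -/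
theorem central_of_commute {v z : G} (hv : (orderOf v).Coprime p) (hz : orderOf z = p) (h : v * z = z * v) :
    ∃ g : G, (orderOf (g * v * g⁻¹)).Coprime p ∧ g * z * g⁻¹ ∈ (P : Subgroup G) ∧
      ∀ u ∈ (P : Subgroup G), g * v * g⁻¹ * u = u * (g * v * g⁻¹) := by
  obtain ⟨g, hg⟩ := m.conj_into_P (m.order_p_pow hz)
  have hv' : (orderOf (g * v * g⁻¹)).Coprime p := by
    rw [show g * v * g⁻¹ = (MulAut.conj g).toMonoidHom v from rfl,
      orderOf_injective _ (MulAut.conj g).injective]
    exact hv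
  refine ⟨g, hv', hg, m.cent_all hg (fun e => m.ne_one_of_order_p hz (conj_eq_one_iff.1 e)) hv' ?_⟩
  rw [show g * v * g⁻¹ * (g * z * g⁻¹) = g * (v * z) * g⁻¹ by group, h]; group

/-- Without elements centralizing `P`: centralizers of `p'`-elements are abelian `p'`-groups. -/
theorem cent_prime_to {hII : ∀ v : G, (orderOf v).Coprime p → v ≠ 1 → ¬ ∀ u ∈ (P : Subgroup G), v * u = u * v}
    {v : G} (hv : (orderOf v).Coprime p) (hv1 : v ≠ 1) :
    ¬ p ∣ Nat.card (centralizer ({v} : Set G)) := by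
  intro hd
  obtain ⟨⟨z, hzc⟩, hz⟩ := exists_prime_orderOf_dvd_card' p hd
  rw [← Subgroup.orderOf_coe] at hz
  obtain ⟨g, hg, -, hg'⟩ := m.central_of_commute hv hz (Subgroup.mem_centralizer_singleton_iff.1 hzc).symm
  exact hII _ hg (fun e => hv1 (conj_eq_one_iff.1 e)) hg'

/-- Without elements centralizing `P`: the centralizer of an element of order `p` in `P` is `P`. -/
theorem cent_p {hII : ∀ v : G, (orderOf v).Coprime p → v ≠ 1 → ¬ ∀ u ∈ (P : Subgroup G), v * u = u * v}
    {x g : G} (hx : x ∈ (P : Subgroup G)) (hx1 : x ≠ 1) (h : g * x = x * g) : g ∈ (P : Subgroup G) := by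
  obtain ⟨a, b, rfl, ha, hb, hag, hbg⟩ := H5.exists_p_decomposition (p := p) g
  have hcz : Subgroup.zpowers (a * b) ≤ centralizer ({x} : Set G) :=
    Subgroup.zpowers_le.2 (Subgroup.mem_centralizer_singleton_iff.2 h)
  have hbx := Subgroup.mem_centralizer_singleton_iff.1 (hcz hbg)
  have hax := Subgroup.mem_centralizer_singleton_iff.1 (hcz hag)
  have hb1 : b = 1 := by
    by_contra hb1
    exact hII b hb hb1 (m.cent_all hx hx1 hb hbx)
  rw [hb1, mul_one]
  exact m.mem_P_of_norm ha (m.cent_le hx hx1 hax)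

theorem even_case (hII : ∀ v : G, (orderOf v).Coprime p → v ≠ 1 → ¬ ∀ u ∈ (P : Subgroup G), v * u = u * v)
    (heven : 2 ∣ Nat.card G) : False := by
  classical
  haveI : Fintype G := Fintype.ofFinite G
  haveI : Fact (Nat.Prime 2) := ⟨Nat.prime_two⟩
  have hp2 := m.p_ne_two
  have hp := (Fact.out : p.Prime)
  let Q : Sylow 2 G := Classical.arbitrary _
  have hcop2 : ∀ t : G, t * t = 1 → (orderOf t).Coprime p := fun t ht =>
    Nat.Coprime.coprime_dvd_left (orderOf_dvd_of_pow_eq_one (by rw [sq, ht]))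
      ((Nat.coprime_primes Nat.prime_two hp).2 (Ne.symm hp2))
  have hQp : ¬ p ∣ Nat.card (Q : Subgroup G) := by
    obtain ⟨k, hk⟩ := IsPGroup.iff_card.1 Q.isPGroup'
    rw [hk]
    exact fun h => hp2 ((Nat.prime_dvd_prime_iff_eq hp Nat.prime_two).1 (hp.dvd_of_dvd_pow h))
  obtain ⟨⟨t, htQ⟩, ht⟩ := exists_prime_orderOf_dvd_card' (G := (Q : Subgroup G)) 2 (by
    obtain ⟨k, hk⟩ := IsPGroup.iff_card.1 Q.isPGroup'
    rw [hk]
    refine dvd_pow_self 2 fun e => Q.ne_bot_of_dvd_card heven ?_
    rw [e, pow_zero] at hk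
    exact Subgroup.eq_bot_of_card_eq _ hk)
  rw [← Subgroup.orderOf_coe] at ht
  have ht2 : t * t = 1 := by
    have := pow_orderOf_eq_one t
    rwa [show orderOf t = 2 from ht, sq] at this
  have ht1 : t ≠ 1 := fun e => by
    have : orderOf (t : G) = 2 := ht
    simp [e] at this
  set K : Subgroup G := centralizer ({t} : Set G) with hK
  have hKp : ¬ p ∣ Nat.card K := m.cent_prime_to (hII := hII) (hcop2 t ht2) ht1
  have hKab : ∀ a ∈ K, ∀ b ∈ K, a * b = b * a := m.ab K hKp
  have htK : t ∈ K := Subgroup.mem_centralizer_singleton_iff.2 rfl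
  have hKcop : ∀ v ∈ K, (orderOf v).Coprime p := fun v hv =>
    Nat.Coprime.coprime_dvd_left (Subgroup.orderOf_dvd_natCard K hv) ((hp.coprime_iff_not_dvd.2 hKp).symm)
  have hcent : ∀ v ∈ K, v ≠ 1 → centralizer ({v} : Set G) = K := by
    intro v hv hv1
    refine le_antisymm (fun g hg => ?_) (fun g hg => Subgroup.mem_centralizer_singleton_iff.2 (hKab g hg v hv))
    refine Subgroup.mem_centralizer_singleton_iff.2 (m.ab _ (m.cent_prime_to (hII := hII) (hKcop v hv) hv1) g hg t ?_)
    exact Subgroup.mem_centralizer_singleton_iff.2 (hKab t htK v hv)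
  have hQK : (Q : Subgroup G) ≤ K := fun g hg =>
    Subgroup.mem_centralizer_singleton_iff.2 (m.ab _ hQp g hg t htQ)
  have hconjcent : ∀ g v : G, centralizer ({g * v * g⁻¹} : Set G) =
      (centralizer ({v} : Set G)).map (MulAut.conj g).toMonoidHom := by
    intro g v
    ext x
    simp only [Subgroup.mem_map, Subgroup.mem_centralizer_singleton_iff]
    constructor
    · intro h
      refine ⟨g⁻¹ * x * g, ?_, by show g * (g⁻¹ * x * g) * g⁻¹ = x; group⟩
      calc g⁻¹ * x * g * v = g⁻¹ * (x * (g * v * g⁻¹)) * g := by group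
        _ = v * (g⁻¹ * x * g) := by rw [h]; group
    · rintro ⟨y, hy, rfl⟩
      show g * y * g⁻¹ * (g * v * g⁻¹) = g * v * g⁻¹ * (g * y * g⁻¹)
      rw [show g * y * g⁻¹ * (g * v * g⁻¹) = g * (y * v) * g⁻¹ by group, hy]; group
  set N := normalizer (K : Set G) with hN
  have hnorm_of : ∀ g v : G, v ∈ K → v ≠ 1 → g * v * g⁻¹ ∈ K → g ∈ N := by
    intro g v hv hv1 hgv
    rw [hN, H3.mem_normalizer_iff_smul]
    show K.map (MulAut.conj g).toMonoidHom = K
    conv_rhs => rw [← hcent _ hgv (fun e => hv1 (conj_eq_one_iff.1 e))]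
    rw [hconjcent, hcent v hv hv1]
  -- the normalizer
  obtain ⟨z, hzp, hzQ⟩ := m.exists_z heven (Ne.symm hp2) Q
  have hzN : z ∈ N := hnorm_of z t htK ht1 (hQK ((Subgroup.mem_normalizer_iff.1 hzQ t).1 htQ))
  have hpart : ∀ w ∈ N, (orderOf w).Coprime p → w ∈ K := by
    intro w hw hwc
    have hH : ¬ p ∣ Nat.card (K ⊔ Subgroup.zpowers w : Subgroup G) := by
      intro hd
      obtain ⟨⟨x, hx⟩, hxp⟩ := exists_prime_orderOf_dvd_card' p hd
      rw [← Subgroup.orderOf_coe] at hxp
      have hx' : x ∈ (K ⊔ Subgroup.zpowers w : Subgroup G) := hx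
      rw [← SetLike.mem_coe, Subgroup.coe_mul_of_right_le_normalizer_left K _ (Subgroup.zpowers_le.2 hw)] at hx'
      obtain ⟨k, hk, a, ha, rfl⟩ := hx'
      obtain ⟨k', hk', e⟩ := conj_mul_pow (Subgroup.zpowers_le.2 hw ha) hk (orderOf w)
      have ha1 : a ^ orderOf w = 1 := by
        obtain ⟨i, rfl⟩ := Subgroup.mem_zpowers_iff.1 ha
        rw [← zpow_natCast, ← zpow_mul, mul_comm, zpow_mul, zpow_natCast, pow_orderOf_eq_one, one_zpow]
      rw [ha1, mul_one] at e
      have hxp' : orderOf (k * a) = p := hxp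
      obtain ⟨n, hn⟩ := exists_pow_eq_self_of_coprime (x := k * a) (n := orderOf w) (by rw [hxp']; exact hwc)
      have hmem : k * a ∈ K := by rw [← hn, e]; exact pow_mem hk' n
      exact hKp (hxp' ▸ Subgroup.orderOf_dvd_natCard K hmem)
    exact Subgroup.mem_centralizer_singleton_iff.2
      (m.ab _ hH w (Subgroup.mem_sup_right (Subgroup.mem_zpowers w)) t (Subgroup.mem_sup_left htK))
  have hKN : K ≤ N := le_normalizer
  have hquot : IsPGroup p (↥N ⧸ K.subgroupOf N) := by
    intro gbar
    obtain ⟨⟨g, hg⟩, rfl⟩ := QuotientGroup.mk_surjective gbar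
    obtain ⟨a, b, hab, ⟨k, hk⟩, hb, ha', hb'⟩ := H5.exists_p_decomposition (p := p) g
    refine ⟨k, ?_⟩
    rw [← QuotientGroup.mk_pow, QuotientGroup.eq_one_iff, Subgroup.mem_subgroupOf]
    show g ^ p ^ k ∈ K
    obtain ⟨i, rfl⟩ := Subgroup.mem_zpowers_iff.1 ha'
    obtain ⟨l, rfl⟩ := Subgroup.mem_zpowers_iff.1 hb'
    have hcm : Commute (g ^ i) (g ^ l) := (Commute.refl g).zpow_zpow i l
    rw [hab, hcm.mul_pow, hk, one_mul]
    exact pow_mem (hpart _ (zpow_mem hg l) hb) _
  obtain ⟨a₀, hp0⟩ := IsPGroup.iff_card.1 hquot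
  have hNcard : Nat.card N = Nat.card K * p ^ a₀ := by
    rw [Subgroup.card_eq_card_quotient_mul_card_subgroup (K.subgroupOf N), hp0,
      Nat.card_congr (Subgroup.subgroupOfEquivOfLe hKN).toEquiv, mul_comm]
  -- a Sylow subgroup of the normalizer acts freely on the involutions of `K`
  let Z : Sylow p N := Classical.arbitrary _
  have hZcard : Nat.card (Z : Subgroup N) = p ^ a₀ := by
    rw [Z.card_eq_multiplicity, hNcard, Nat.factorization_mul Nat.card_pos.ne' (pow_ne_zero _ hp.ne_zero),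
      Finsupp.add_apply, Nat.factorization_eq_zero_of_not_dvd hKp, zero_add, hp.factorization_pow,
      Finsupp.single_eq_same]
  have ha0 : 1 ≤ a₀ := by
    by_contra h
    have : a₀ = 0 := by omega
    rw [this, pow_zero, mul_one] at hNcard
    exact hKp (hNcard ▸ (hzp ▸ Subgroup.orderOf_dvd_natCard N hzN))
  let J := {v : G // v ∈ K ∧ v * v = 1 ∧ v ≠ 1}
  letI act : MulAction (Z : Subgroup N) J :=
    { smul := fun g v => ⟨(g : N) * v.1 * ((g : N) : G)⁻¹,
        (Subgroup.mem_normalizer_iff.1 (g : N).2 v.1).1 v.2.1, by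
          rw [show ((g : N) : G) * v.1 * ((g : N) : G)⁻¹ * (((g : N) : G) * v.1 * ((g : N) : G)⁻¹) =
            ((g : N) : G) * (v.1 * v.1) * ((g : N) : G)⁻¹ by group, v.2.2.1]; group,
        fun e => v.2.2.2 (conj_eq_one_iff.1 e)⟩
      one_smul := fun v => Subtype.ext (show (1 : G) * v.1 * (1 : G)⁻¹ = v.1 by group)
      mul_smul := fun a b v => Subtype.ext (by
        show ((a : N) * (b : N) : G) * v.1 * ((a : N) * (b : N) : G)⁻¹ =
          ((a : N) : G) * (((b : N) : G) * v.1 * ((b : N) : G)⁻¹) * ((a : N) : G)⁻¹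
        group) }
  have hJfree : p ^ a₀ ∣ Nat.card J := by
    rw [← hZcard]
    refine free_dvd fun g v hgv => ?_
    have h1 : ((g : N) : G) * v.1 = v.1 * ((g : N) : G) := mul_inv_eq_iff_eq_mul.1 (congrArg Subtype.val hgv)
    have h2 : ((g : N) : G) ∈ K := by
      rw [← hcent v.1 v.2.1 v.2.2.2]; exact Subgroup.mem_centralizer_singleton_iff.2 h1
    obtain ⟨k, hk⟩ := Z.isPGroup' g
    have hk' : ((g : N) : G) ^ p ^ k = 1 := congrArg (fun a : (Z : Subgroup N) => ((a : N) : G)) hk
    exact Subtype.ext (Subtype.ext (orderOf_eq_one_iff.1 (Nat.eq_one_of_dvd_coprimes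
      ((hKcop _ h2).pow_right k) dvd_rfl (orderOf_dvd_of_pow_eq_one hk'))))
  set Jf : Finset G := Finset.univ.filter fun v => v ∈ K ∧ v * v = 1 ∧ v ≠ 1 with hJf
  have hJcard : Jf.card = Nat.card J := by
    rw [Nat.card_eq_fintype_card, Fintype.card_subtype]
  have hJpos : 0 < Jf.card := Finset.card_pos.2 ⟨t, by simp [hJf, htK, ht2, ht1]⟩
  -- all involutions
  set I : Finset G := Finset.univ.filter fun s => s * s = 1 ∧ s ≠ 1 with hI
  have hIconj : ∀ g s : G, s ∈ I → g * s * g⁻¹ ∈ I := by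
    intro g s hs
    simp only [hI, Finset.mem_filter, Finset.mem_univ, true_and] at hs ⊢
    refine ⟨?_, fun e => hs.2 (conj_eq_one_iff.1 e)⟩
    rw [show g * s * g⁻¹ * (g * s * g⁻¹) = g * (s * s) * g⁻¹ by group, hs.1]; group
  have hinto : ∀ s ∈ I, ∃ g : G, g * s * g⁻¹ ∈ K := by
    intro s hs
    simp only [hI, Finset.mem_filter, Finset.mem_univ, true_and] at hs
    obtain ⟨i, -, hi⟩ := (Nat.dvd_prime_pow Nat.prime_two).1
      ((orderOf_dvd_of_pow_eq_one (show s ^ 2 = 1 by rw [sq, hs.1])).trans (by norm_num : 2 ∣ 2 ^ 1))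
    obtain ⟨R, hR⟩ := (IsPGroup.of_card (n := i)
      (by rw [Nat.card_zpowers, hi]) : IsPGroup 2 (Subgroup.zpowers s)).exists_le_sylow
    obtain ⟨g, hg⟩ := MulAction.exists_smul_eq G R Q
    refine ⟨g, hQK ?_⟩
    have : MulAut.conj g s ∈ ((g • R : Sylow 2 G) : Subgroup G) := by
      rw [Sylow.coe_subgroup_smul, Subgroup.pointwise_smul_def]
      exact Subgroup.mem_map_of_mem _ (hR (Subgroup.mem_zpowers s))
    rwa [hg] at this
  have hIcard : I.card * Nat.card N = Nat.card G * Jf.card := by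
    rw [Nat.card_eq_fintype_card (α := G), ← Finset.card_univ, ← Finset.card_product,
      Finset.card_eq_sum_card_fiberwise (s := (Finset.univ : Finset G) ×ˢ Jf) (t := I)
        (f := fun pr : G × G => pr.1 * pr.2 * pr.1⁻¹) (fun pr hpr => by
          have h2 := (Finset.mem_product.1 hpr).2
          simp only [hJf, Finset.mem_filter, Finset.mem_univ, true_and] at h2
          exact hIconj _ _ (Finset.mem_filter.2 ⟨Finset.mem_univ _, h2.2⟩))]
    rw [Finset.sum_const_nat (m := Nat.card N) (fun s hs => ?_)]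
    obtain ⟨g, hg⟩ := hinto s hs
    have hs' := Finset.mem_filter.1 (hIconj g s hs)
    rw [Nat.card_eq_fintype_card, ← Finset.card_univ]
    symm
    refine Finset.card_bij (fun (n : N) _ => ((g⁻¹ * (n : G) : G), (n : G)⁻¹ * (g * s * g⁻¹) * (n : G)))
      (fun n _ => ?_) (fun a _ b _ hab => ?_) (fun pr hpr => ?_)
    · simp only [Finset.mem_filter, Finset.mem_product, Finset.mem_univ, true_and, hJf]
      refine ⟨⟨?_, ?_, ?_⟩, by group⟩
      · have := (Subgroup.mem_normalizer_iff.1 (inv_mem n.2) _).1 hg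
        rwa [inv_inv] at this
      · rw [show (n : G)⁻¹ * (g * s * g⁻¹) * (n : G) * ((n : G)⁻¹ * (g * s * g⁻¹) * (n : G)) =
          (n : G)⁻¹ * ((g * s * g⁻¹) * (g * s * g⁻¹)) * (n : G) by group, hs'.2.1]; group
      · intro e
        apply hs'.2.2
        rw [show g * s * g⁻¹ = (n : G) * ((n : G)⁻¹ * (g * s * g⁻¹) * (n : G)) * (n : G)⁻¹ by group, e]; group
    · exact Subtype.ext (mul_left_cancel (congrArg Prod.fst hab))
    · simp only [Finset.mem_filter, Finset.mem_product, Finset.mem_univ, true_and, hJf] at hpr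
      obtain ⟨⟨hv, -, hv1⟩, he⟩ := hpr
      have hmem : g * pr.1 ∈ N := hnorm_of _ pr.2 hv hv1 (by
        rw [show g * pr.1 * pr.2 * (g * pr.1)⁻¹ = g * (pr.1 * pr.2 * pr.1⁻¹) * g⁻¹ by group, he]; exact hg)
      refine ⟨⟨g * pr.1, hmem⟩, Finset.mem_univ _, Prod.ext ?_ ?_⟩
      · show g⁻¹ * (g * pr.1) = pr.1; group
      · show (g * pr.1)⁻¹ * (g * s * g⁻¹) * (g * pr.1) = pr.2
        rw [← he]; group
  have hcommCount : ∀ s ∈ I, (I.filter fun s' => s * s' = s' * s).card = Jf.card := by
    intro s hs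
    obtain ⟨g, hg⟩ := hinto s hs
    have hs1 := (Finset.mem_filter.1 hs).2.2
    have hcs : centralizer ({g * s * g⁻¹} : Set G) = K := hcent _ hg (fun e => hs1 (conj_eq_one_iff.1 e))
    refine Finset.card_bij (fun s' _ => g * s' * g⁻¹) (fun s' hs' => ?_)
      (fun a _ b _ hab => mul_left_cancel (mul_right_cancel hab)) (fun v hv => ?_)
    · simp only [Finset.mem_filter] at hs'
      have hI' := Finset.mem_filter.1 (hIconj g s' hs'.1)
      refine Finset.mem_filter.2 ⟨Finset.mem_univ _, ?_, hI'.2⟩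
      rw [← hcs, Subgroup.mem_centralizer_singleton_iff,
        show g * s' * g⁻¹ * (g * s * g⁻¹) = g * (s' * s) * g⁻¹ by group, ← hs'.2]
      group
    · simp only [hJf, Finset.mem_filter, Finset.mem_univ, true_and] at hv
      refine ⟨g⁻¹ * v * g, Finset.mem_filter.2 ⟨?_, ?_⟩, by group⟩
      · have := hIconj g⁻¹ v (Finset.mem_filter.2 ⟨Finset.mem_univ _, hv.2⟩)
        rwa [inv_inv] at this
      · have h1 := hKab _ hg v hv.1
        calc s * (g⁻¹ * v * g) = g⁻¹ * ((g * s * g⁻¹) * v) * g := by group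
          _ = g⁻¹ * (v * (g * s * g⁻¹)) * g := by rw [h1]
          _ = g⁻¹ * v * g * s := by group
  set C : Finset G := Finset.univ.filter fun c => c ≠ 1 ∧ ∃ g : G, g * c * g⁻¹ ∈ (P : Subgroup G) with hC
  have hpC : ∀ s ∈ I, ∀ s' ∈ I, (¬ s * s' = s' * s ↔ s * s' ∈ C) := by
    intro s hs s' hs'
    simp only [hI, Finset.mem_filter, Finset.mem_univ, true_and] at hs hs'
    constructor
    · intro hne
      refine Finset.mem_filter.2 ⟨Finset.mem_univ _, fun e => hne ?_, ?_⟩
      · have : s' = s := (eq_inv_of_mul_eq_one_right e).trans (inv_eq_of_mul_eq_one_right hs.1)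
        rw [this]
      · obtain ⟨k, hk⟩ := m.exists_order_p (m.dvd_order_prod hs.1 hs'.1 hne)
        obtain ⟨g, hg⟩ := m.conj_into_P (m.order_p_pow hk)
        refine ⟨g, m.cent_p (hII := hII) hg (fun e => m.ne_one_of_order_p hk (conj_eq_one_iff.1 e)) ?_⟩
        generalize s * s' = c
        calc g * c * g⁻¹ * (g * c ^ k * g⁻¹) = g * (c * c ^ k) * g⁻¹ := by
              simp only [mul_assoc, inv_mul_cancel_left]
          _ = g * (c ^ k * c) * g⁻¹ := by rw [(Commute.self_pow c k).eq]
          _ = _ := by simp only [mul_assoc, inv_mul_cancel_left]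
    · intro hmem hc
      obtain ⟨-, hne, g, hg⟩ := Finset.mem_filter.1 hmem
      have h2 : (s * s') ^ 2 = 1 := by
        rw [sq]
        calc s * s' * (s * s') = s * (s' * s) * s' := by group
          _ = 1 := by rw [← hc, show s * (s * s') * s' = (s * s) * (s' * s') by group, hs.1, hs'.1, one_mul]
      have h2' : (g * (s * s') * g⁻¹) ^ 2 = 1 := by rw [conj_pow, h2]; group
      obtain ⟨k, hk⟩ := m.pElem hg
      exact hne (conj_eq_one_iff.1 (orderOf_eq_one_iff.1 (Nat.eq_one_of_dvd_coprimes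
        (((Nat.coprime_primes Nat.prime_two hp).2 (Ne.symm hp2)).pow_right k)
        (orderOf_dvd_of_pow_eq_one h2') (orderOf_dvd_of_pow_eq_one hk))))
  -- involutions inverting elements of `P`
  set NP := normalizer ((P : Subgroup G) : Set G) with hNP
  set W : Finset G := I.filter fun s => s ∈ NP with hW
  have hWinv : ∀ x : G, x ∈ (P : Subgroup G) → x ≠ 1 → ∀ s ∈ I, (s * x * s * x = 1 ↔ s ∈ W) := by
    intro x hx hx1 s hs
    have hs' := (Finset.mem_filter.1 hs).2
    have hsinv : s⁻¹ = s := inv_eq_of_mul_eq_one_right hs'.1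
    constructor
    · intro h
      refine Finset.mem_filter.2 ⟨hs, m.ti hx hx1 ?_⟩
      rw [hsinv, eq_inv_of_mul_eq_one_left h]
      exact le_normalizer (inv_mem hx)
    · intro h
      have hsN := (Finset.mem_filter.1 h).2
      have hx' : s * x * s ∈ (P : Subgroup G) := by
        have := (Subgroup.mem_normalizer_iff.1 hsN x).1 hx
        rwa [hsinv] at this
      by_contra hne
      have hfix : s * (s * x * s * x) = (s * x * s * x) * s := by
        rw [show s * (s * x * s * x) = (s * s) * x * s * x by group, hs'.1, one_mul]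
        calc x * s * x = x * (s * x * s) * s := by rw [show x * (s * x * s) * s = x * (s * x) * (s * s) by group, hs'.1]; group
          _ = (s * x * s * x) * s := by rw [m.pComm x hx _ hx']
      exact hII s (hcop2 s hs'.1) hs'.2 (m.cent_all (mul_mem hx' hx) hne (hcop2 s hs'.1) hfix)
  have hWcard : W.card = 0 ∨ W.card = Nat.card (P : Subgroup G) := by
    rcases W.eq_empty_or_nonempty with e | ⟨t0, ht0⟩
    · exact Or.inl (by rw [e, Finset.card_empty])
    · right
      obtain ⟨ht0I, ht0N⟩ := Finset.mem_filter.1 ht0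
      have ht0' := (Finset.mem_filter.1 ht0I).2
      rw [Nat.card_eq_fintype_card, ← Finset.card_univ]
      symm
      refine Finset.card_bij (fun (u : (P : Subgroup G)) _ => t0 * (u : G)) (fun u _ => ?_)
        (fun a _ b _ hab => Subtype.ext (mul_left_cancel hab)) (fun s hs => ?_)
      · have h2 : t0 * (u : G) * t0 * u = 1 := by
          by_cases hu : (u : G) = 1
          · simp [hu, ht0'.1]
          · exact (hWinv u u.2 hu t0 ht0I).2 ht0
        refine Finset.mem_filter.2 ⟨Finset.mem_filter.2 ⟨Finset.mem_univ _, ?_, fun e => ?_⟩,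
          mul_mem ht0N (le_normalizer u.2)⟩
        · rw [← mul_assoc]; exact h2
        · have htP : t0 ∈ (P : Subgroup G) := by
            rw [eq_inv_of_mul_eq_one_left e]; exact inv_mem u.2
          exact hII t0 (hcop2 t0 ht0'.1) ht0'.2 (fun v hv => m.pComm t0 htP v hv)
      · obtain ⟨hsI, hsN⟩ := Finset.mem_filter.1 hs
        have hs' := (Finset.mem_filter.1 hsI).2
        obtain ⟨⟨x, hx⟩, hx1⟩ := Subgroup.ne_bot_iff_exists_ne_one.1 m.pPos
        have hx1' : x ≠ 1 := fun e => hx1 (Subtype.ext e)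
        have h1 := (hWinv x hx hx1' s hsI).2 hs
        have h2 := (hWinv x hx hx1' t0 ht0I).2 ht0
        have hP' : t0 * s ∈ (P : Subgroup G) := by
          refine m.cent_p (hII := hII) hx hx1' ?_
          have e1 : s * x = x⁻¹ * s := by
            have h1' : s * x * s = x⁻¹ := eq_inv_of_mul_eq_one_left h1
            rw [← h1', mul_assoc (s * x), hs'.1, mul_one]
          have e2 : t0 * x⁻¹ = x * t0 := by
            have h2' : t0 * x * t0 = x⁻¹ := eq_inv_of_mul_eq_one_left h2
            rw [← h2', ← mul_assoc, ← mul_assoc, ht0'.1, one_mul]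
          rw [mul_assoc, e1, ← mul_assoc, e2, mul_assoc]
        exact ⟨⟨t0 * s, hP'⟩, Finset.mem_univ _, by rw [← mul_assoc, ht0'.1, one_mul]⟩
  have hCcard : C.card * Nat.card NP = Nat.card G * (Nat.card (P : Subgroup G) - 1) := by
    set Ps : Finset G := Finset.univ.filter fun x => x ∈ (P : Subgroup G) ∧ x ≠ 1 with hPs
    have hPsc : Ps.card = Nat.card (P : Subgroup G) - 1 := by
      rw [Nat.card_eq_fintype_card, Fintype.card_subtype]
      rw [show Ps = (Finset.univ.filter fun x => x ∈ (P : Subgroup G)).erase 1 by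
        ext x; simp [hPs, and_comm]]
      rw [Finset.card_erase_of_mem (by simp [one_mem])]
    rw [← hPsc, Nat.card_eq_fintype_card (α := G), ← Finset.card_univ, ← Finset.card_product,
      Finset.card_eq_sum_card_fiberwise (s := (Finset.univ : Finset G) ×ˢ Ps) (t := C)
        (f := fun pr : G × G => pr.1 * pr.2 * pr.1⁻¹) (fun pr hpr => by
          have h2 := (Finset.mem_product.1 hpr).2
          simp only [hPs, Finset.mem_filter, Finset.mem_univ, true_and] at h2
          refine Finset.mem_filter.2 ⟨Finset.mem_univ _, fun e => h2.2 (conj_eq_one_iff.1 e), pr.1⁻¹, ?_⟩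
          rw [show pr.1⁻¹ * (pr.1 * pr.2 * pr.1⁻¹) * pr.1⁻¹⁻¹ = pr.2 by group]
          exact h2.1)]
    rw [Finset.sum_const_nat (m := Nat.card NP) (fun c hc => ?_)]
    obtain ⟨-, hc1, g, hg⟩ := Finset.mem_filter.1 hc
    rw [Nat.card_eq_fintype_card, ← Finset.card_univ]
    symm
    refine Finset.card_bij (fun (n : NP) _ => ((g⁻¹ * (n : G) : G), (n : G)⁻¹ * (g * c * g⁻¹) * (n : G)))
      (fun n _ => ?_) (fun a _ b _ hab => ?_) (fun pr hpr => ?_)
    · simp only [Finset.mem_filter, Finset.mem_product, Finset.mem_univ, true_and, hPs]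
      refine ⟨⟨?_, fun e => hc1 ?_⟩, by group⟩
      · have := (Subgroup.mem_normalizer_iff.1 (inv_mem n.2) _).1 hg
        rwa [inv_inv] at this
      · exact conj_eq_one_iff.1 (conj_eq_one_iff.1 (show (n : G)⁻¹ * (g * c * g⁻¹) * ((n : G)⁻¹)⁻¹ = 1 by
          rw [inv_inv]; exact e))
    · exact Subtype.ext (mul_left_cancel (congrArg Prod.fst hab))
    · simp only [Finset.mem_filter, Finset.mem_product, Finset.mem_univ, true_and, hPs] at hpr
      obtain ⟨⟨hv, hv1⟩, he⟩ := hpr
      have hmem : g * pr.1 ∈ NP := m.ti hv hv1 (by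
        rw [show g * pr.1 * pr.2 * (g * pr.1)⁻¹ = g * (pr.1 * pr.2 * pr.1⁻¹) * g⁻¹ by group, he]
        exact le_normalizer hg)
      refine ⟨⟨g * pr.1, hmem⟩, Finset.mem_univ _, Prod.ext ?_ ?_⟩
      · show g⁻¹ * (g * pr.1) = pr.1; group
      · show (g * pr.1)⁻¹ * (g * c * g⁻¹) * (g * pr.1) = pr.2
        rw [← he]; group
  have hpairs : ∑ s ∈ I, (I.filter fun s' => s * s' ∈ C).card =
      ∑ c ∈ C, (I.filter fun s => s * c * s * c = 1).card := by
    rw [← Finset.card_sigma, ← Finset.card_sigma]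
    refine Finset.card_bij (fun q _ => ⟨q.1 * q.2, q.1⟩) (fun q hq => ?_) (fun a _ b _ hab => ?_) (fun q hq => ?_)
    · simp only [Finset.mem_sigma, Finset.mem_filter] at hq ⊢
      obtain ⟨ht, hs, hc⟩ := hq
      refine ⟨hc, ht, ?_⟩
      rw [show q.1 * (q.1 * q.2) * q.1 * (q.1 * q.2) = (q.1 * q.1) * q.2 * (q.1 * q.1) * q.2 by group,
        (Finset.mem_filter.1 ht).2.1, one_mul, mul_one, (Finset.mem_filter.1 hs).2.1]
    · obtain ⟨t, s⟩ := a
      obtain ⟨t', s'⟩ := b
      simp only [Sigma.mk.injEq, heq_eq_eq] at hab ⊢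
      exact ⟨hab.2, mul_left_cancel (hab.2 ▸ hab.1 : t' * s = t' * s')⟩
    · obtain ⟨c, s⟩ := q
      simp only [Finset.mem_sigma, Finset.mem_filter] at hq ⊢
      obtain ⟨hc, hs, hinv⟩ := hq
      have hs' := (Finset.mem_filter.1 hs).2
      obtain ⟨-, hc1, g, hg⟩ := Finset.mem_filter.1 hc
      have hne : s * c ≠ 1 := by
        intro e
        have hcs : c = s := (eq_inv_of_mul_eq_one_right e).trans (inv_eq_of_mul_eq_one_right hs'.1)
        obtain ⟨k, hk⟩ := m.pElem hg
        have h2 : (g * c * g⁻¹) ^ 2 = 1 := by rw [conj_pow, hcs, sq, hs'.1]; group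
        exact hc1 (conj_eq_one_iff.1 (orderOf_eq_one_iff.1 (Nat.eq_one_of_dvd_coprimes
          (((Nat.coprime_primes Nat.prime_two hp).2 (Ne.symm hp2)).pow_right k)
          (orderOf_dvd_of_pow_eq_one h2) (orderOf_dvd_of_pow_eq_one hk))))
      refine ⟨⟨s, s * c⟩, ⟨hs, ?_, ?_⟩, ?_⟩
      · exact Finset.mem_filter.2 ⟨Finset.mem_univ _, by
          rw [show s * c * (s * c) = s * c * s * c by group]; exact hinv, hne⟩
      · rw [← mul_assoc, hs'.1, one_mul]; exact hc
      · simp only [Sigma.mk.injEq, heq_eq_eq, and_true]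
        rw [← mul_assoc, hs'.1, one_mul]
  rw [Finset.sum_const_nat (m := I.card - Jf.card) (fun s hs => by
      have hcongr : I.filter (fun s' => s * s' ∈ C) = I.filter (fun s' => ¬ s * s' = s' * s) :=
        Finset.filter_congr fun s' hs' => (hpC s hs s' hs').symm
      have h := Finset.card_filter_add_card_filter_not (s := I) (fun s' => s * s' = s' * s)
      rw [hcommCount s hs] at h
      rw [hcongr]; omega),
    Finset.sum_const_nat (m := W.card) (fun c hc => by
      obtain ⟨-, hc1, g, hg⟩ := Finset.mem_filter.1 hc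
      have hx1 : g * c * g⁻¹ ≠ 1 := fun e => hc1 (conj_eq_one_iff.1 e)
      refine Finset.card_bij (fun s _ => g * s * g⁻¹) (fun s hs => ?_)
        (fun a _ b _ hab => mul_left_cancel (mul_right_cancel hab)) (fun s hs => ?_)
      · simp only [Finset.mem_filter] at hs
        refine (hWinv _ hg hx1 _ (hIconj g s hs.1)).1 ?_
        rw [show g * s * g⁻¹ * (g * c * g⁻¹) * (g * s * g⁻¹) * (g * c * g⁻¹) = g * (s * c * s * c) * g⁻¹ by group,
          hs.2]
        group
      · have hsI := (Finset.mem_filter.1 hs).1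
        refine ⟨g⁻¹ * s * g, Finset.mem_filter.2 ⟨?_, ?_⟩, by group⟩
        · have := hIconj g⁻¹ s hsI; rwa [inv_inv] at this
        · have h := (hWinv _ hg hx1 s hsI).2 hs
          calc g⁻¹ * s * g * c * (g⁻¹ * s * g) * c = g⁻¹ * (s * (g * c * g⁻¹) * s * (g * c * g⁻¹)) * g := by group
            _ = 1 := by rw [h]; group)] at hpairs
  -- conjugates of `K`
  set n := N.index with hn
  have hnG : Nat.card N * n = Nat.card G := N.card_mul_index
  let R := {a : G ⧸ N // a ≠ (QuotientGroup.mk (1 : G))}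
  letI actR : MulAction K R :=
    { smul := fun k a => ⟨(k : G) • a.1, fun e => a.2 (by
        have e' := congrArg (fun b => (k : G)⁻¹ • b) e
        simp only [inv_smul_smul] at e'
        rw [e']
        show QuotientGroup.mk ((k : G)⁻¹ * 1) = _
        rw [mul_one, QuotientGroup.eq, inv_inv, mul_one]
        exact hKN k.2)⟩
      one_smul := fun a => Subtype.ext (show ((1 : K) : G) • a.1 = a.1 by rw [Subgroup.coe_one, one_smul])
      mul_smul := fun x y a => Subtype.ext (show ((x * y : K) : G) • a.1 = (x : G) • (y : G) • a.1 by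
        rw [Subgroup.coe_mul, mul_smul]) }
  have hKn : Nat.card K ∣ n - 1 := by
    have hRc : Nat.card R = n - 1 := by
      rw [hn, Subgroup.index, Nat.card_eq_fintype_card, Nat.card_eq_fintype_card, Fintype.card_subtype_compl]
      simp
    rw [← hRc]
    refine free_dvd fun k a hka => ?_
    obtain ⟨⟨g⟩, ha⟩ := a
    have h1 : (k : G) • (QuotientGroup.mk g : G ⧸ N) = QuotientGroup.mk g := congrArg Subtype.val hka
    have h2 : g⁻¹ * (k : G)⁻¹ * g ∈ N := by
      have := QuotientGroup.eq.1 h1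
      simpa [mul_assoc] using this
    by_contra hk1
    apply ha
    refine QuotientGroup.eq.2 ?_
    rw [mul_one]
    refine inv_mem ?_
    have h3 : g⁻¹ * (k : G)⁻¹ * g ∈ K := by
      refine hpart _ h2 ?_
      rw [show g⁻¹ * (k : G)⁻¹ * g = (MulAut.conj g⁻¹).toMonoidHom (k : G)⁻¹ by simp,
        orderOf_injective _ (MulAut.conj g⁻¹).injective, orderOf_inv]
      exact hKcop _ k.2
    have h4 : g⁻¹ ∈ N := hnorm_of g⁻¹ (k : G)⁻¹ (inv_mem k.2)
      (fun e => hk1 (Subtype.ext (inv_eq_one.1 e))) (by rwa [inv_inv])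
    simpa using inv_mem h4
  have hI_eq : I.card = n * Jf.card := by
    refine Nat.eq_of_mul_eq_mul_right (Nat.card_pos (α := N)) ?_
    rw [hIcard, ← hnG]; ring
  have hn0 : 0 < n := Nat.pos_of_ne_zero Subgroup.index_ne_zero_of_finite
  have hn1 : n ≠ 1 := by
    intro e
    rw [hn, Subgroup.index_eq_one, normalizer_eq_top_iff] at e
    rcases m.eq_top_or_bot K e with h | h
    · exact ht1 (Subgroup.mem_bot.1 (h ▸ htK))
    · exact m.not_comm fun a b => hKab a (h ▸ Subgroup.mem_top a) b (h ▸ Subgroup.mem_top b)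
  obtain ⟨e, he⟩ : Nat.card (P : Subgroup G) ∣ Nat.card NP := card_dvd_of_le le_normalizer
  obtain ⟨b, hb⟩ := IsPGroup.iff_card.1 P.isPGroup'
  have hb0 : b ≠ 0 := fun e => m.pPos (by rw [e, pow_zero] at hb; exact Subgroup.eq_bot_of_card_eq _ hb)
  obtain ⟨i, hi⟩ := hJfree
  rw [← hJcard] at hi
  obtain ⟨c, hc⟩ := hKn
  rw [hI_eq] at hpairs
  have hnJ : n * Jf.card - Jf.card = (Nat.card K * c) * Jf.card := by rw [← hc, Nat.sub_mul, one_mul]
  rw [hnJ] at hpairs
  have hc0 : 0 < Nat.card K * c := by rw [← hc]; omega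
  rcases hWcard with hW0 | hWP
  · rw [hW0, mul_zero] at hpairs
    rcases Nat.mul_eq_zero.1 hpairs with h | h
    · rcases Nat.mul_eq_zero.1 h with h | h <;> omega
    · rcases Nat.mul_eq_zero.1 h with h | h <;> omega
  · rw [hWP, hb] at hpairs
    rw [hb] at he
    rw [hb, he] at hCcard
    have hpb : 0 < p ^ b := pow_pos hp.pos b
    have key : p ^ a₀ * (i * i * c * e) = p ^ b - 1 := by
      have hpos : 0 < n * Nat.card K * p ^ a₀ * p ^ b :=
        Nat.mul_pos (Nat.mul_pos (Nat.mul_pos hn0 Nat.card_pos) (pow_pos hp.pos _)) hpb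
      refine Nat.eq_of_mul_eq_mul_left hpos ?_
      calc n * Nat.card K * p ^ a₀ * p ^ b * (p ^ a₀ * (i * i * c * e))
          = n * Jf.card * (Nat.card K * c * Jf.card) * (p ^ b * e) := by rw [hi]; ring
        _ = C.card * p ^ b * (p ^ b * e) := by rw [hpairs]
        _ = C.card * (p ^ b * e) * p ^ b := by ring
        _ = Nat.card G * (p ^ b - 1) * p ^ b := by rw [hCcard]
        _ = _ := by rw [← hnG, hNcard]; ring
    have h1 : p ∣ p ^ b - 1 := key ▸ Dvd.dvd.mul_right (dvd_pow_self p (by omega)) _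
    have h2 : p ∣ p ^ b := dvd_pow_self p hb0
    have h3 := Nat.dvd_sub h2 h1
    rw [show p ^ b - (p ^ b - 1) = 1 by omega] at h3
    exact hp.one_lt.ne' (Nat.dvd_one.1 h3)

theorem odd_case (hII : ∀ v : G, (orderOf v).Coprime p → v ≠ 1 → ¬ ∀ u ∈ (P : Subgroup G), v * u = u * v)
    (hodd : ¬ 2 ∣ Nat.card G) : False := by
  have hCN : IsCNGroup G := by
    intro g hg1
    have hab : ∀ a ∈ centralizer ({g} : Set G), ∀ b ∈ centralizer ({g} : Set G), a * b = b * a := by
      by_cases hd : p ∣ orderOf g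
      · obtain ⟨k, hk⟩ := m.exists_order_p hd
        obtain ⟨h, hh⟩ := m.conj_into_P (m.order_p_pow hk)
        have hmem : ∀ a ∈ centralizer ({g} : Set G), h * a * h⁻¹ ∈ (P : Subgroup G) := fun a ha => by
          refine m.cent_p (hII := hII) hh (fun e => m.ne_one_of_order_p hk (conj_eq_one_iff.1 e)) ?_
          have hc : Commute a g := Subgroup.mem_centralizer_singleton_iff.1 ha
          calc h * a * h⁻¹ * (h * g ^ k * h⁻¹) = h * (a * g ^ k) * h⁻¹ := by simp only [mul_assoc, inv_mul_cancel_left]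
            _ = h * (g ^ k * a) * h⁻¹ := by rw [(hc.pow_right k).eq]
            _ = _ := by simp only [mul_assoc, inv_mul_cancel_left]
        intro a ha b hb
        have h1 := m.pComm _ (hmem a ha) _ (hmem b hb)
        refine mul_left_cancel (a := h) (mul_right_cancel (b := h⁻¹) ?_)
        simpa only [mul_assoc, inv_mul_cancel_left] using h1
      · exact m.ab _ (m.cent_prime_to (hII := hII)
          ((Fact.out : p.Prime).coprime_iff_not_dvd.2 hd).symm hg1)
    letI : CommGroup (centralizer ({g} : Set G)) :=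
      { (inferInstance : Group (centralizer ({g} : Set G))) with
        mul_comm := fun a b => Subtype.ext (hab a a.2 b b.2) }
    exact CommGroup.isNilpotent
  have hsol : Group.IsSolvable G :=
    H13.CN.solvable_of_odd (Nat.odd_iff.2 (Nat.two_dvd_ne_zero.1 hodd)) hCN
  haveI := m.simple
  exact m.not_comm (IsSimpleGroup.comm_iff_isSolvable.2 hsol)

theorem caseI {v₀ : G} (hv₀ : (orderOf v₀).Coprime p) (hv₀1 : v₀ ≠ 1)
    (hc₀ : ∀ u ∈ (P : Subgroup G), v₀ * u = u * v₀) : False := by
  classical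
  haveI : Fintype G := Fintype.ofFinite G
  have hp := (Fact.out : p.Prime)
  have hp2 := m.p_ne_two
  haveI := m.cyc
  set N := normalizer ((P : Subgroup G) : Set G) with hN
  have hPN : (P : Subgroup G) ≤ N := le_normalizer
  -- the complement
  haveI hPn : ((P : Subgroup G).subgroupOf N).Normal := normal_in_normalizer
  have hidx : ((P : Subgroup G).subgroupOf N).index = (P : Subgroup G).relIndex N := rfl
  have hcopN : Nat.Coprime (Nat.card ((P : Subgroup G).subgroupOf N)) ((P : Subgroup G).subgroupOf N).index := by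
    rw [Nat.card_congr (Subgroup.subgroupOfEquivOfLe hPN).toEquiv]
    exact Nat.Coprime.coprime_dvd_right (Subgroup.relIndex_dvd_index_of_le hPN)
      (P.card_coprime_index)
  obtain ⟨A', hA'⟩ := Subgroup.exists_right_complement'_of_coprime hcopN
  set A : Subgroup G := A'.map N.subtype with hAdef
  have hAN : A ≤ N := map_subtype_le A'
  have hAcard : Nat.card A = (P : Subgroup G).relIndex N := by
    rw [hAdef, Subgroup.card_map_of_injective N.subtype_injective]
    exact hA'.symm.index_eq_card.symm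
  have hAp : ¬ p ∣ Nat.card A := fun h => P.not_dvd_index (h.trans (hAcard ▸ Subgroup.relIndex_dvd_index_of_le hPN))
  have hAab : ∀ a ∈ A, ∀ b ∈ A, a * b = b * a := m.ab A hAp
  have hAcop : ∀ a ∈ A, (orderOf a).Coprime p := fun a ha =>
    Nat.Coprime.coprime_dvd_left (Subgroup.orderOf_dvd_natCard A ha) ((hp.coprime_iff_not_dvd.2 hAp).symm)
  have hPA1 : ∀ x, x ∈ (P : Subgroup G) → x ∈ A → x = 1 := fun x hx hxA => by
    obtain ⟨k, hk⟩ := m.pElem hx
    exact orderOf_eq_one_iff.1 (Nat.eq_one_of_dvd_coprimes ((hAcop x hxA).pow_right k) dvd_rfl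
      (orderOf_dvd_of_pow_eq_one hk))
  have hdec : ∀ g ∈ N, ∃ u ∈ (P : Subgroup G), ∃ a ∈ A, g = u * a := by
    intro g hg
    obtain ⟨⟨u, a⟩, hua⟩ := hA'.existsUnique (⟨g, hg⟩ : N) |>.exists
    exact ⟨((u : N) : G), u.2, ((a : N) : G), ⟨(a : N), a.2, rfl⟩, congrArg Subtype.val hua.symm⟩
  have hAcent : ∀ v : G, (orderOf v).Coprime p → (∀ u ∈ (P : Subgroup G), v * u = u * v) → v ∈ A := by
    intro v hv hvc
    by_cases hx : v = 1
    · rw [hx]; exact one_mem A
    obtain ⟨⟨x, hxP⟩, hx1⟩ := Subgroup.ne_bot_iff_exists_ne_one.1 m.pPos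
    obtain ⟨u, hu, a, ha, e⟩ := hdec v (m.cent_le hxP (fun h => hx1 (Subtype.ext h)) (hvc x hxP))
    have hua : Commute u a := by
      show u * a = a * u
      have h1 := hvc u hu
      rw [e, mul_assoc] at h1
      exact (mul_left_cancel h1).symm
    have h2 : u ^ (Nat.card A * orderOf v) = 1 := by
      have : v ^ (Nat.card A * orderOf v) = 1 := by rw [mul_comm, pow_mul, pow_orderOf_eq_one, one_pow]
      rw [e, hua.mul_pow, pow_mul a, ← Nat.card_zpowers] at this
      have ha1 : a ^ Nat.card A = 1 := by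
        obtain ⟨c, hc⟩ := Subgroup.orderOf_dvd_natCard A ha
        rw [hc, pow_mul, pow_orderOf_eq_one, one_pow]
      rw [ha1, one_pow, mul_one, Nat.card_zpowers, ← e] at this
      exact this
    obtain ⟨k, hk⟩ := m.pElem hu
    have hu1 : u = 1 := orderOf_eq_one_iff.1 (Nat.eq_one_of_dvd_coprimes
      ((Nat.Coprime.mul_left ((hp.coprime_iff_not_dvd.2 hAp).symm) hv).pow_right k)
      (orderOf_dvd_of_pow_eq_one h2) (orderOf_dvd_of_pow_eq_one hk))
    rw [e, hu1, one_mul]; exact ha
  have hCeq : ∀ v ∈ A, v ≠ 1 → (∀ u ∈ (P : Subgroup G), v * u = u * v) → centralizer ({v} : Set G) = N := by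
    intro v hv hv1 hvc
    have hle : N ≤ centralizer ({v} : Set G) := fun g hg => by
      obtain ⟨u, hu, a, ha, rfl⟩ := hdec g hg
      refine Subgroup.mem_centralizer_singleton_iff.2 ?_
      rw [mul_assoc, hAab a ha v hv, ← mul_assoc, ← hvc u hu, mul_assoc]
    exact le_antisymm (m.le_norm _ (m.cent_ne_top hv1) hle) hle
  have hselfN : ∀ g : G, MulAut.conj g • N = N → g ∈ N := by
    intro g hg
    obtain ⟨⟨x, hxP⟩, hx1⟩ := Subgroup.ne_bot_iff_exists_ne_one.1 m.pPos
    refine m.ti hxP (fun h => hx1 (Subtype.ext h)) (?_ : g * x * g⁻¹ ∈ N)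
    have : MulAut.conj g • x ∈ MulAut.conj g • N := Subgroup.smul_mem_pointwise_smul x _ _ (hPN hxP)
    rwa [hg, MulAut.smul_def, MulAut.conj_apply] at this
  -- a distinguished element and its Sylow subgroup
  have hv₀A := hAcent v₀ hv₀ hc₀
  obtain ⟨q, hq, hqd⟩ := Nat.exists_prime_and_dvd (n := orderOf v₀) (fun e => hv₀1 (orderOf_eq_one_iff.1 e))
  haveI : Fact q.Prime := ⟨hq⟩
  set y0 := v₀ ^ (orderOf v₀ / q) with hy0
  have hy0ord : orderOf y0 = q := orderOf_pow_orderOf_div (orderOf_pos v₀).ne' hqd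
  have hy0A : y0 ∈ A := pow_mem hv₀A _
  have hy01 : y0 ≠ 1 := fun e => by rw [e, orderOf_one] at hy0ord; exact hq.one_lt.ne hy0ord
  have hy0c : ∀ u ∈ (P : Subgroup G), y0 * u = u * y0 := fun u hu => ((show Commute v₀ u from hc₀ u hu).pow_left _).eq
  have hCy0 := hCeq y0 hy0A hy01 hy0c
  have hqA : q ∣ Nat.card A := hy0ord ▸ Subgroup.orderOf_dvd_natCard A hy0A
  have hqp : q ≠ p := fun e => hAp (e ▸ hqA)
  have hqG : q ∣ Nat.card G := hqA.trans (card_subgroup_dvd_card A)
  have hpG : IsPGroup q (Subgroup.zpowers (⟨y0, hy0A⟩ : A)) := IsPGroup.of_card (n := 1) (by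
    rw [Nat.card_zpowers, ← Subgroup.orderOf_coe, pow_one]; exact hy0ord)
  obtain ⟨Q0, hQ0⟩ := hpG.exists_le_sylow
  obtain ⟨Q, hQ⟩ := (Q0.isPGroup'.map A.subtype).exists_le_sylow
  have hy0Q : y0 ∈ (Q : Subgroup G) := hQ ⟨⟨y0, hy0A⟩, hQ0 (Subgroup.mem_zpowers _), rfl⟩
  have hQp : ¬ p ∣ Nat.card (Q : Subgroup G) := by
    obtain ⟨k, hk⟩ := IsPGroup.iff_card.1 Q.isPGroup'
    rw [hk]
    exact fun h => hqp ((Nat.prime_dvd_prime_iff_eq hp hq).1 (hp.dvd_of_dvd_pow h)).symm
  have hQN : (Q : Subgroup G) ≤ N := fun g hg => by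
    rw [← hCy0]
    exact Subgroup.mem_centralizer_singleton_iff.2 (m.ab _ hQp g hg y0 hy0Q)
  have hQeq : (Q0 : Subgroup A).map A.subtype = (Q : Subgroup G) := by
    refine Subgroup.eq_of_le_of_card_ge hQ ?_
    rw [Subgroup.card_map_of_injective A.subtype_injective]
    obtain ⟨k, hk⟩ := IsPGroup.iff_card.1 Q.isPGroup'
    rw [hk]
    refine Nat.le_of_dvd Nat.card_pos (Q0.pow_dvd_card_of_pow_dvd_card ?_)
    have h1 : q ^ k ∣ Nat.card (P : Subgroup G) * Nat.card A := by
      rw [← hk, hAcard, ← Nat.card_congr (Subgroup.subgroupOfEquivOfLe hPN).toEquiv]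
      show _ ∣ _ * ((P : Subgroup G).subgroupOf N).index
      rw [Subgroup.card_mul_index]
      exact card_dvd_of_le hQN
    obtain ⟨l, hl⟩ := IsPGroup.iff_card.1 P.isPGroup'
    rw [hl] at h1
    exact (Nat.Coprime.pow _ _ ((Nat.coprime_primes hq hp).2 hqp)).dvd_of_dvd_mul_left h1
  have hQA : (Q : Subgroup G) ≤ A := hQeq ▸ map_subtype_le _
  have hCQle : centralizer ((Q : Subgroup G) : Set G) ≤ N := fun g hg => by
    rw [← hCy0]
    exact Subgroup.mem_centralizer_singleton_iff.2 ((Subgroup.mem_centralizer_iff.1 hg y0 hy0Q).symm)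
  by_cases hQc : ∀ b ∈ (Q : Subgroup G), ∀ u ∈ (P : Subgroup G), b * u = u * b
  · have hCQ : N ≤ centralizer ((Q : Subgroup G) : Set G) := fun g hg => by
      obtain ⟨u, hu, a, ha, rfl⟩ := hdec g hg
      refine Subgroup.mem_centralizer_iff.2 fun b hb => ?_
      rw [← mul_assoc, hQc b hb u hu, mul_assoc, hAab b (hQA hb) a ha, mul_assoc]
    refine m.sylow_not_central hqG hqp Q fun g hg => hCQ (hselfN g ?_)
    have hNeq : centralizer ((Q : Subgroup G) : Set G) = N := le_antisymm hCQle hCQ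
    refine Subgroup.eq_of_le_of_card_ge ?_ ?_
    · intro x hx
      rw [Subgroup.mem_pointwise_smul_iff_inv_smul_mem, ← hNeq] at hx
      rw [← hNeq]
      refine Subgroup.mem_centralizer_iff.2 fun b hb => ?_
      have hb' : g⁻¹ * b * g ∈ (Q : Subgroup G) := by
        have := (Subgroup.mem_normalizer_iff.1 (inv_mem hg) b).1 hb
        rwa [inv_inv] at this
      have h := Subgroup.mem_centralizer_iff.1 hx _ hb'
      simp only [MulAut.smul_def, ← map_inv, MulAut.conj_apply, inv_inv] at h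
      calc b * x = g * (g⁻¹ * b * g * (g⁻¹ * x * g)) * g⁻¹ := by group
        _ = x * b := by rw [h]; group
    · rw [Subgroup.pointwise_smul_def]
      exact (Subgroup.card_map_of_injective (K := N)
        (f := MulDistribMulAction.toMonoidEnd (MulAut G) G (MulAut.conj g)) (MulAut.conj g).injective).ge
  push Not at hQc
  obtain ⟨b0, hb0, u0, hu0, hb0u⟩ := hQc
  have hCQA : ∀ g : G, g ∈ centralizer ((Q : Subgroup G) : Set G) ↔ g ∈ A := by
    intro g
    constructor
    · intro hg
      obtain ⟨u, hu, a, ha, e⟩ := hdec g (hCQle hg)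
      by_cases hu1 : u = 1
      · rw [e, hu1, one_mul]; exact ha
      exfalso
      have hb := Subgroup.mem_centralizer_iff.1 hg b0 hb0
      have hbu : b0 * u = u * b0 := by
        rw [e, ← mul_assoc, mul_assoc u a b0, hAab a ha b0 (hQA hb0), ← mul_assoc u b0 a] at hb
        exact mul_right_cancel hb
      exact hb0u (m.cent_all hu hu1 (hAcop b0 (hQA hb0)) hbu u0 hu0)
    · exact fun hg => Subgroup.mem_centralizer_iff.2 fun b hb => hAab b (hQA hb) g hg
  obtain ⟨z, hzp, hzQ⟩ := m.exists_z hqG hqp Q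
  have hzA : ∀ a ∈ A, z * a * z⁻¹ ∈ A := by
    intro a ha
    rw [← hCQA, Subgroup.mem_centralizer_iff]
    intro b hb
    have hb' : z⁻¹ * b * z ∈ (Q : Subgroup G) := by
      have := (Subgroup.mem_normalizer_iff.1 (inv_mem hzQ) b).1 hb
      rwa [inv_inv] at this
    calc b * (z * a * z⁻¹) = z * ((z⁻¹ * b * z) * a) * z⁻¹ := by group
      _ = z * (a * (z⁻¹ * b * z)) * z⁻¹ := by rw [hAab _ (hQA hb') a ha]
      _ = z * a * z⁻¹ * b := by group
  have hzne := m.ne_one_of_order_p hzp
  have hzpow : ∀ (k : ℕ), ∀ a ∈ A, z ^ k * a * (z ^ k)⁻¹ ∈ A := by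
    intro k
    induction k with
    | zero => intro a ha; simpa using ha
    | succ k ih =>
      intro a ha
      have := hzA _ (ih a ha)
      rwa [show z * (z ^ k * a * (z ^ k)⁻¹) * z⁻¹ = z ^ (k + 1) * a * (z ^ (k + 1))⁻¹ by
        rw [pow_succ']; group] at this
  -- fixed point free
  have hfpf : ∀ a ∈ A, z * a = a * z → a = 1 := by
    intro a ha h
    by_contra ha1
    obtain ⟨g, hg, hgz, hgc⟩ := m.central_of_commute (hAcop a ha) hzp h.symm
    have hga := hCeq _ (hAcent _ hg hgc) (fun e => ha1 (conj_eq_one_iff.1 e)) hgc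
    have hAz : ∀ b ∈ A, b * z = z * b := by
      intro b hb
      have hbN : g * b * g⁻¹ ∈ N := by
        rw [← hga, Subgroup.mem_centralizer_singleton_iff,
          show g * b * g⁻¹ * (g * a * g⁻¹) = g * (b * a) * g⁻¹ by group, hAab b hb a ha]
        group
      have h1 : g * (z * b * z⁻¹ * b⁻¹) * g⁻¹ ∈ (P : Subgroup G) := by
        rw [show g * (z * b * z⁻¹ * b⁻¹) * g⁻¹ =
          g * z * g⁻¹ * ((g * b * g⁻¹) * (g * z * g⁻¹)⁻¹ * (g * b * g⁻¹)⁻¹) by group]
        exact mul_mem hgz ((Subgroup.mem_normalizer_iff.1 hbN _).1 (inv_mem hgz))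
      have h2 : z * b * z⁻¹ * b⁻¹ ∈ A := mul_mem (hzA b hb) (inv_mem hb)
      obtain ⟨k, hk⟩ := m.pElem h1
      rw [conj_pow, conj_eq_one_iff] at hk
      have h3 : z * b * z⁻¹ * b⁻¹ = 1 := orderOf_eq_one_iff.1 (Nat.eq_one_of_dvd_coprimes
        ((hAcop _ h2).pow_right k) dvd_rfl (orderOf_dvd_of_pow_eq_one hk))
      exact (mul_inv_eq_iff_eq_mul.1 (mul_inv_eq_one.1 h3)).symm
    have hzN : z ∈ N := by
      rw [← hCy0]; exact Subgroup.mem_centralizer_singleton_iff.2 (hAz y0 hy0A).symm
    have hzP := m.mem_P_of_norm (m.order_p_pow hzp) hzN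
    refine m.no_fix fun v hv _ => ⟨z, hzP, hzne, ?_⟩
    obtain ⟨u, hu, b, hb, rfl⟩ := hdec v hv
    rw [mul_assoc, hAz b hb, ← mul_assoc, m.pComm u hu z hzP, mul_assoc]
  have hnz : ∀ k : ℕ, ¬ p ∣ k → ∀ a ∈ A, z ^ k * a = a * z ^ k → a = 1 := by
    intro k hk a ha h
    refine hfpf a ha ?_
    have hcop : k.Coprime (orderOf z) := by rw [hzp]; exact (hp.coprime_iff_not_dvd.2 hk).symm
    obtain ⟨n, hn⟩ := exists_pow_eq_self_of_coprime hcop
    rw [← hn]
    exact ((show Commute (z ^ k) a from h).pow_left n).eq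
  -- the action on a subgroup of order `p`
  obtain ⟨x1, hx1ord⟩ := exists_prime_orderOf_dvd_card' (G := (P : Subgroup G)) p (by
    obtain ⟨k, hk⟩ := IsPGroup.iff_card.1 P.isPGroup'
    rw [hk]
    exact dvd_pow_self p fun e => m.pPos (by rw [e, pow_zero] at hk; exact Subgroup.eq_bot_of_card_eq _ hk))
  obtain ⟨x1, hx1P⟩ := x1
  rw [← Subgroup.orderOf_coe] at hx1ord
  change orderOf x1 = p at hx1ord
  set X := Subgroup.zpowers x1 with hX
  have hAX : A ≤ normalizer (X : Set G) := fun a ha => mem_norm_zpowers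
    (zpowers_eq_of_orderOf_eq hx1P ((Subgroup.mem_normalizer_iff.1 (hAN ha) x1).1 hx1P)
      (orderOf_injective (MulAut.conj a).toMonoidHom (MulAut.conj a).injective x1).symm).symm
  let φ : A →* MulAut X := (Subgroup.normalizerMonoidHom X).comp (Subgroup.inclusion hAX)
  have hφker : ∀ a : A, φ a = 1 → ∀ u ∈ (P : Subgroup G), (a : G) * u = u * (a : G) := by
    intro a h
    refine m.cent_all hx1P (fun e => by rw [e, orderOf_one] at hx1ord; exact hp.one_lt.ne hx1ord)
      (hAcop _ a.2) ?_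
    have h1 := congrArg Subtype.val (DFunLike.congr_fun h ⟨x1, Subgroup.mem_zpowers x1⟩)
    have h2 : (a : G) * x1 * (a : G)⁻¹ = x1 := h1
    exact mul_inv_eq_iff_eq_mul.1 h2
  let cz : A →* A :=
    { toFun := fun a => ⟨z * (a : G) * z⁻¹, hzA a a.2⟩
      map_one' := Subtype.ext (by simp)
      map_mul' := fun a b => Subtype.ext (by simp [mul_assoc]) }
  let ψ : A →* MulAut X × MulAut X := φ.prod (φ.comp cz)
  have hψ : Function.Injective ψ := by
    rw [injective_iff_map_eq_one]
    intro a ha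
    have h1 := hφker a (congrArg Prod.fst ha)
    have h2 := hφker (cz a) (congrArg Prod.snd ha)
    by_contra hne
    have hne' : (a : G) ≠ 1 := fun e => hne (Subtype.ext e)
    have e1 := hCeq _ a.2 hne' h1
    have e2 := hCeq _ (cz a).2 (fun e => hne' (conj_eq_one_iff.1 e)) h2
    have hzN : z ∈ N := by
      refine hselfN z (Subgroup.eq_of_le_of_card_ge ?_ ?_)
      · intro w hw
        rw [Subgroup.mem_pointwise_smul_iff_inv_smul_mem, ← e1, Subgroup.mem_centralizer_singleton_iff] at hw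
        rw [← e2, Subgroup.mem_centralizer_singleton_iff]
        simp only [MulAut.smul_def, ← map_inv, MulAut.conj_apply, inv_inv] at hw
        show w * (z * (a : G) * z⁻¹) = z * (a : G) * z⁻¹ * w
        calc w * (z * (a : G) * z⁻¹) = z * (z⁻¹ * w * z * (a : G)) * z⁻¹ := by group
          _ = _ := by rw [hw]; group
      · rw [Subgroup.pointwise_smul_def]
        exact (Subgroup.card_map_of_injective (K := N)
          (f := MulDistribMulAction.toMonoidEnd (MulAut G) G (MulAut.conj z)) (MulAut.conj z).injective).ge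
    have hzP := m.mem_P_of_norm (m.order_p_pow hzp) hzN
    exact hne' (hfpf _ a.2 (h1 z hzP).symm)
  have hXcard : Nat.card X = p := by rw [hX, Nat.card_zpowers, hx1ord]
  have hUcard : Nat.card (MulAut X) = p - 1 := by
    rw [IsCyclic.card_mulAut, hXcard, Nat.totient_prime hp]
  haveI hUcyc : IsCyclic (MulAut X) := by
    haveI : NeZero (Nat.card X) := ⟨by rw [hXcard]; exact hp.ne_zero⟩
    haveI : IsCyclic (ZMod (Nat.card X))ˣ := by rw [hXcard]; infer_instance
    exact isCyclic_of_surjective _ (IsCyclic.mulAutMulEquiv X).symm.surjective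
  haveI : Fintype (MulAut X) := Fintype.ofFinite _
  -- the elements of prime exponent
  have hprime : ∀ r : ℕ, r.Prime → r ∣ Nat.card A → r = 2 ∧ p = 3 := by
    intro r hr hrA
    haveI : Fact r.Prime := ⟨hr⟩
    let T : Subgroup A :=
      { carrier := {a | a ^ r = 1}
        one_mem' := one_pow r
        mul_mem' := fun {a b} ha hb => by
          show (a * b) ^ r = 1
          rw [(show Commute a b from Subtype.ext (hAab a a.2 b b.2)).mul_pow, ha, hb, one_mul]
        inv_mem' := fun {a} ha => by show a⁻¹ ^ r = 1; rw [inv_pow, ha, inv_one] }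
    obtain ⟨a0, ha0⟩ := exists_prime_orderOf_dvd_card' r hrA
    have ha0T : a0 ∈ T := by show a0 ^ r = 1; rw [← ha0, pow_orderOf_eq_one]
    have hTr : IsPGroup r T := fun a => ⟨1, by rw [pow_one]; exact Subtype.ext a.2⟩
    obtain ⟨k, hk⟩ := IsPGroup.iff_card.1 hTr
    have hTle : Nat.card T ≤ r * r := by
      let S := (Finset.univ.filter fun a : MulAut X => a ^ r = 1)
      have hS : S.card ≤ r := IsCyclic.card_pow_eq_one_le hr.pos
      haveI : Fintype A := Fintype.ofFinite _
      rw [Nat.card_eq_fintype_card, Fintype.card_subtype]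
      refine le_trans ?_ ((Finset.card_product S S).le.trans (Nat.mul_le_mul hS hS))
      refine Finset.card_le_card_of_injOn ψ (fun a ha => ?_) hψ.injOn
      have ha' : a ^ r = 1 := (Finset.mem_filter.1 ha).2
      have := congrArg ψ ha'
      rw [map_pow, map_one] at this
      exact Finset.mem_product.2 ⟨Finset.mem_filter.2 ⟨Finset.mem_univ _, congrArg Prod.fst this⟩,
        Finset.mem_filter.2 ⟨Finset.mem_univ _, congrArg Prod.snd this⟩⟩
    let B := {a : T // a ≠ 1}
    letI actB : MulAction (Subgroup.zpowers z) B :=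
      { smul := fun w a => ⟨⟨⟨(w : G) * ((a.1 : A) : G) * (w : G)⁻¹, by
            obtain ⟨n, hn⟩ := (mem_powers_iff_mem_zpowers.2 w.2 : (w : G) ∈ Submonoid.powers z)
            rw [← hn]; exact hzpow n _ (a.1 : A).2⟩, Subtype.ext (by
            show ((w : G) * ((a.1 : A) : G) * (w : G)⁻¹) ^ r = 1
            rw [conj_pow, show ((a.1 : A) : G) ^ r = 1 from congrArg Subtype.val a.1.2]; group)⟩,
            fun e => a.2 (Subtype.ext (Subtype.ext (conj_eq_one_iff.1
              (congrArg (fun b : T => ((b : A) : G)) e))))⟩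
        one_smul := fun a => Subtype.ext (Subtype.ext (Subtype.ext
          (show (1 : G) * ((a.1 : A) : G) * (1 : G)⁻¹ = _ by group)))
        mul_smul := fun v w a => Subtype.ext (Subtype.ext (Subtype.ext
          (show ((v : G) * w) * ((a.1 : A) : G) * ((v : G) * w)⁻¹ =
            (v : G) * ((w : G) * ((a.1 : A) : G) * (w : G)⁻¹) * (v : G)⁻¹ by group))) }
    have hdvd : p ∣ Nat.card B := by
      have hfree := free_dvd (Z := Subgroup.zpowers z) (α := B) (fun w a hwa => ?_)
      · rwa [Nat.card_zpowers, hzp] at hfree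
      · obtain ⟨n, hn⟩ := (mem_powers_iff_mem_zpowers.2 w.2 : (w : G) ∈ Submonoid.powers z)
        by_contra hw
        have hh : (w : G) * ((a.1 : A) : G) = ((a.1 : A) : G) * (w : G) :=
          mul_inv_eq_iff_eq_mul.1 (congrArg (fun b : B => ((b.1 : A) : G)) hwa)
        refine a.2 (Subtype.ext (Subtype.ext (hnz n (fun hd => hw (Subtype.ext ?_)) _ (a.1 : A).2 ?_)))
        · obtain ⟨c, hc⟩ := hd
          rw [← hn]
          show z ^ n = 1
          rw [hc, pow_mul, ← hzp, pow_orderOf_eq_one, one_pow]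
        · rw [← hn] at hh; exact hh
    have hBcard : Nat.card B = r ^ k - 1 := by
      haveI : Fintype T := Fintype.ofFinite _
      rw [← hk, Nat.card_eq_fintype_card, Nat.card_eq_fintype_card, Fintype.card_subtype_compl]
      simp
    have hk1 : k ≠ 0 := by
      intro e
      rw [e, pow_zero] at hk
      have h1 := Subgroup.mem_bot.1 (Subgroup.eq_bot_of_card_eq _ hk ▸ ha0T)
      rw [h1, orderOf_one] at ha0
      exact hr.one_lt.ne ha0
    have hk2 : k ≤ 2 := by
      by_contra hlt
      have : r ^ 3 ≤ r ^ k := Nat.pow_le_pow_right hr.pos (by omega)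
      have : r * r < r ^ 3 := by
        rw [show r ^ 3 = r * r * r by ring]
        exact lt_mul_of_one_lt_right (Nat.mul_pos hr.pos hr.pos) hr.one_lt
      omega
    have hrp : r ∣ p - 1 := by
      have h1 : r ∣ Nat.card (MulAut X × MulAut X) := by
        rw [← ha0, ← orderOf_injective ψ hψ]
        exact orderOf_dvd_natCard _
      rw [Nat.card_prod, hUcard] at h1
      exact (hr.dvd_mul.1 h1).elim id id
    have hrlt : r < p := by
      have := Nat.le_of_dvd (by have := hp.two_le; omega) hrp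
      have := hp.two_le
      omega
    rw [hBcard] at hdvd
    interval_cases k
    · exact absurd rfl hk1
    · rw [pow_one] at hdvd
      have := Nat.le_of_dvd (by have := hr.two_le; omega) hdvd
      omega
    · rw [show r ^ 2 - 1 = (r + 1) * (r - 1) by rw [← Nat.sq_sub_sq r 1, one_pow]] at hdvd
      rcases hp.dvd_mul.1 hdvd with h | h
      · have hle := Nat.le_of_dvd (by omega) h
        have heq : p = r + 1 := by omega
        have hpodd : Odd p := hp.odd_of_ne_two hp2
        have hreven : Even r := by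
          rcases Nat.even_or_odd r with h' | h'
          · exact h'
          · rw [heq] at hpodd; exact absurd hpodd (Nat.not_odd_iff_even.2 h'.add_one)
        have hr2 : r = 2 := (Nat.prime_dvd_prime_iff_eq Nat.prime_two hr).1 hreven.two_dvd |>.symm
        exact ⟨hr2, by omega⟩
      · have := Nat.le_of_dvd (by have := hr.two_le; omega) h
        omega
  obtain ⟨hq2, hp3⟩ := hprime q hq hqA
  subst hq2
  haveI : Fintype A := Fintype.ofFinite _
  -- exponent two
  have hexp2 : ∀ a : A, a * a = 1 := by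
    intro a
    apply hψ
    rw [map_mul, map_one]
    have hu : ∀ w : MulAut X, w * w = 1 := fun w => by
      have h := pow_card_eq_one' (x := w)
      rwa [hUcard, hp3, show (3 - 1 : ℕ) = 2 from rfl, sq] at h
    exact Prod.ext (hu _) (hu _)
  have hA4 : Nat.card A ≤ 4 := by
    refine (Nat.card_le_card_of_injective ψ hψ).trans ?_
    rw [Nat.card_prod, hUcard, hp3]
  set y := y0 with hy
  have hyy : y * y = 1 := congrArg Subtype.val (hexp2 ⟨y0, hy0A⟩)
  -- three distinct conjugates of `y`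
  set y1 := z * y * z⁻¹ with hy1
  set y2 := z ^ 2 * y * (z ^ 2)⁻¹ with hy2
  have hy1A : y1 ∈ A := hzA y hy0A
  have hy2A : y2 ∈ A := hzpow 2 y hy0A
  have hne01 : y ≠ y1 := fun e => hy01 (hfpf y hy0A (mul_inv_eq_iff_eq_mul.1 (e.symm)))
  have hne02 : y ≠ y2 := fun e => hy01 (hnz 2 (by rw [hp3]; norm_num) y hy0A (mul_inv_eq_iff_eq_mul.1 e.symm))
  have hne12 : y1 ≠ y2 := fun e => hne01 (by
    have := congrArg (fun w => z⁻¹ * w * z) e
    simpa [hy1, hy2, pow_two, mul_assoc] using this)
  have hAcases : ∀ a ∈ A, a = 1 ∨ a = y ∨ a = y1 ∨ a = y2 := by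
    intro a ha
    by_contra hc
    push Not at hc
    obtain ⟨h1, h2, h3, h4⟩ := hc
    have hy11 : y1 ≠ 1 := fun e => hy01 (conj_eq_one_iff.1 e)
    have hy21 : y2 ≠ 1 := fun e => hy01 (conj_eq_one_iff.1 e)
    have hsub : ({1, y, y1, y2, a} : Finset G) ⊆ Finset.univ.filter (· ∈ A) := by
      intro w hw
      simp only [Finset.mem_insert, Finset.mem_singleton] at hw
      refine Finset.mem_filter.2 ⟨Finset.mem_univ _, ?_⟩
      rcases hw with rfl | rfl | rfl | rfl | rfl
      exacts [one_mem A, hy0A, hy1A, hy2A, ha]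
    have h := Finset.card_le_card hsub
    rw [← Fintype.card_subtype, ← Nat.card_eq_fintype_card] at h
    rw [Finset.card_insert_of_notMem (by simp [hy01.symm, hy11.symm, hy21.symm, h1.symm]),
      Finset.card_insert_of_notMem (by simp [hne01, hne02, h2.symm]),
      Finset.card_insert_of_notMem (by simp [hne12, h3.symm]),
      Finset.card_insert_of_notMem (by simp [h4.symm]), Finset.card_singleton] at h
    have : Nat.card {w : G // w ∈ A} = Nat.card A := rfl
    omega
  -- an inverting element and centralizers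
  obtain ⟨aI, haIA, haI⟩ : ∃ a ∈ A, ∃ u ∈ (P : Subgroup G), a * u ≠ u * a :=
    ⟨b0, hQA hb0, u0, hu0, hb0u⟩
  have haI1 : ∀ u ∈ (P : Subgroup G), u ≠ 1 → aI * u ≠ u * aI := fun u hu hu1 h => by
    obtain ⟨w, hw, hw'⟩ := haI
    exact hw' (m.cent_all hu hu1 (hAcop aI haIA) h w hw)
  have haa : aI * aI = 1 := congrArg Subtype.val (hexp2 ⟨aI, haIA⟩)
  have hainv : aI⁻¹ = aI := inv_eq_of_mul_eq_one_right haa
  have hinvert : ∀ u ∈ (P : Subgroup G), aI * u * aI⁻¹ = u⁻¹ := by
    intro u hu
    have hu' : aI * u * aI ∈ (P : Subgroup G) := by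
      have := (Subgroup.mem_normalizer_iff.1 (hAN haIA) u).1 hu
      rwa [hainv] at this
    have h1 : u * (aI * u * aI) = 1 := by
      by_contra hne
      refine haI1 _ (mul_mem hu hu') hne ?_
      calc aI * (u * (aI * u * aI)) = (aI * u * aI) * u * aI := by simp only [mul_assoc]
        _ = u * (aI * u * aI) * aI := by rw [m.pComm _ hu' u hu]
    rw [hainv]; exact eq_inv_of_mul_eq_one_right h1
  have haIy : aI ≠ y := fun e => by
    obtain ⟨w, hw, hw'⟩ := haI
    exact hw' (e ▸ hy0c w hw)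
  have haI11 : aI ≠ 1 := fun e => by
    obtain ⟨w, hw, hw'⟩ := haI
    exact hw' (by simp [e])
  have hcover : ∀ a ∈ A, a = 1 ∨ a = y ∨ a = aI ∨ a = aI * y := by
    intro a ha
    have hay : aI * y ≠ 1 := fun e => haIy ((eq_inv_of_mul_eq_one_left e).trans (inv_eq_of_mul_eq_one_right hyy))
    rcases hAcases a ha with h | h | h | h <;> rcases hAcases aI haIA with h' | h' | h' | h' <;>
      rcases hAcases (aI * y) (mul_mem haIA hy0A) with h'' | h'' | h'' | h'' <;>
      first
        | exact absurd h' haI11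
        | exact absurd h' haIy
        | exact absurd h'' hay
        | exact absurd (mul_eq_right.1 h'') haI11
        | exact absurd (mul_eq_left.1 (h''.trans h'.symm)) hy01
        | exact Or.inl h
        | exact Or.inr (Or.inl h)
        | exact Or.inr (Or.inr (Or.inl (h.trans h'.symm)))
        | exact Or.inr (Or.inr (Or.inr (h.trans h''.symm)))
  -- the model
  obtain ⟨g0, hg0⟩ := (Subgroup.isCyclic_iff_exists_zpowers_eq_top _).1 m.cyc
  have hg0P : g0 ∈ (P : Subgroup G) := hg0 ▸ Subgroup.mem_zpowers g0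
  set Nn := orderOf g0 with hNn
  have hPcard : Nat.card (P : Subgroup G) = Nn := by rw [← hg0, Nat.card_zpowers]
  obtain ⟨n, hn⟩ := IsPGroup.iff_card.1 P.isPGroup'
  rw [hPcard, hp3] at hn
  have hn0 : 0 < n := by
    rcases Nat.eq_zero_or_pos n with e | e
    · exfalso; rw [e, pow_zero] at hn
      exact m.pPos (Subgroup.eq_bot_of_card_eq _ (hPcard.trans hn))
    · exact e
  haveI : NeZero Nn := ⟨(orderOf_pos g0).ne'⟩
  let L1 : DihedralGroup Nn →* G := H91.dihedralLift g0 aI (pow_orderOf_eq_one g0) haa (hinvert g0 hg0P)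
  let L2 : DihedralGroup 1 →* G := H91.dihedralLift 1 y (one_pow 1) hyy (by simp)
  have hpow : ∀ k : ℕ, g0 ^ k ∈ (P : Subgroup G) := fun k => pow_mem hg0P k
  have hyL : ∀ w, L2 w = 1 ∨ L2 w = y := by
    rintro (i | i)
    · exact Or.inl (one_pow _)
    · right; show y * 1 ^ _ = y; rw [one_pow, mul_one]
  have hL1 : ∀ w, Commute (L1 w) y := by
    rintro (i | i)
    · exact (show Commute (g0 ^ i.val) y from (hy0c _ (hpow _)).symm)
    · exact (show Commute aI y from hAab aI haIA y hy0A).mul_left (hy0c _ (hpow _)).symm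
  have comm : ∀ a b, Commute (L1 a) (L2 b) := by
    intro a b
    rcases hyL b with e | e <;> rw [e]
    · exact Commute.one_right _
    · exact hL1 a
  let j : E Nn →* G := MonoidHom.noncommCoprod L1 L2 comm
  have hy_cent : ∀ u ∈ (P : Subgroup G), u ≠ 1 → ∀ a ∈ A, a * u = u * a → a = 1 ∨ a = y := by
    intro u hu hu1 a ha h
    rcases hcover a ha with e | e | e | e
    · exact Or.inl e
    · exact Or.inr e
    · exact absurd (e ▸ h) (haI1 u hu hu1)
    · exfalso
      refine haI1 u hu hu1 ?_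
      rw [e, mul_assoc, hy0c u hu, ← mul_assoc, ← mul_assoc] at h
      exact mul_right_cancel h
  have hval0 : ∀ i : ZMod Nn, g0 ^ i.val = 1 → i = 0 := by
    intro i h
    apply ZMod.val_injective
    rw [ZMod.val_zero]
    exact Nat.eq_zero_of_dvd_of_lt (orderOf_dvd_of_pow_eq_one h) (ZMod.val_lt i)
  have hinj : Function.Injective j := by
    rw [injective_iff_map_eq_one]
    rintro ⟨w1, w2⟩ h
    have h' : L1 w1 * L2 w2 = 1 := h
    have hw : ∀ w : DihedralGroup 1, L2 w = 1 → w = 1 := by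
      rintro (i | i) h1
      · rw [Subsingleton.elim i 0]; rfl
      · exfalso
        have : y * 1 ^ i.val = 1 := h1
        rw [one_pow, mul_one] at this
        exact hy01 this
    rcases w1 with i | i
    · have h1 : g0 ^ i.val * L2 w2 = 1 := h'
      rcases hyL w2 with e | e
      · rw [e, mul_one] at h1
        rw [hval0 i h1, DihedralGroup.r_zero, hw w2 e]; rfl
      · rw [e] at h1
        exact absurd (hPA1 y (by rw [eq_inv_of_mul_eq_one_right h1]; exact inv_mem (hpow _)) hy0A) hy01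
    · exfalso
      have h1 : aI * g0 ^ i.val * L2 w2 = 1 := h'
      rcases hyL w2 with e | e
      · rw [e, mul_one] at h1
        exact haI11 (hPA1 aI (by rw [eq_inv_of_mul_eq_one_left h1]; exact inv_mem (hpow _)) haIA)
      · rw [e, mul_assoc, ← hy0c _ (hpow _), ← mul_assoc] at h1
        exact haIy ((eq_inv_of_mul_eq_one_left (hPA1 (aI * y) (by
          rw [eq_inv_of_mul_eq_one_left h1]; exact inv_mem (hpow _)) (mul_mem haIA hy0A))).trans
          (inv_eq_of_mul_eq_one_right hyy))
  have hrange : j.range = N := by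
    refine le_antisymm ?_ ?_
    · rintro _ ⟨⟨w1, w2⟩, rfl⟩
      refine mul_mem ?_ ?_
      · rcases w1 with i | i
        · exact hPN (hpow _)
        · exact mul_mem (hAN haIA) (hPN (hpow _))
      · rcases hyL w2 with e | e <;> rw [e]
        exacts [one_mem _, hAN hy0A]
    · intro g hg
      obtain ⟨u, hu, a, ha, rfl⟩ := hdec g hg
      refine mul_mem ?_ ?_
      · rw [← hg0] at hu
        obtain ⟨k, rfl⟩ := (mem_powers_iff_mem_zpowers.2 hu : u ∈ Submonoid.powers g0)
        refine ⟨(DihedralGroup.r (k : ZMod Nn), 1), ?_⟩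
        show g0 ^ (k : ZMod Nn).val * L2 1 = g0 ^ k
        rw [map_one, mul_one, ZMod.val_natCast]
        exact pow_mod_orderOf g0 k
      · have hya : y ∈ j.range := ⟨(1, DihedralGroup.sr 0), by
          show L1 1 * (y * 1 ^ _) = y
          rw [map_one, one_mul, one_pow, mul_one]⟩
        have haa' : aI ∈ j.range := ⟨(DihedralGroup.sr 0, 1), by
          show aI * g0 ^ (0 : ZMod Nn).val * L2 1 = aI
          simp⟩
        rcases hcover a ha with e | e | e | e <;> rw [e]
        exacts [one_mem _, hya, haa', mul_mem haa' hya]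
  have hjy : j (1, DihedralGroup.sr 0) = y := by
    show L1 1 * (y * 1 ^ _) = y
    rw [map_one, one_mul, one_pow, mul_one]
  have hQ2 : (Q : Subgroup G) = A := by
    refine le_antisymm hQA ?_
    have h2 : IsPGroup 2 A := fun a => ⟨1, by rw [pow_one, sq]; exact hexp2 a⟩
    obtain ⟨R, hR⟩ := h2.exists_le_sylow
    have hR' : (R : Subgroup G) ≤ A := by
      have hRp : ¬ p ∣ Nat.card (R : Subgroup G) := by
        obtain ⟨k, hk⟩ := IsPGroup.iff_card.1 R.isPGroup'
        rw [hk]
        exact fun h => hp2 ((Nat.prime_dvd_prime_iff_eq hp Nat.prime_two).1 (hp.dvd_of_dvd_pow h))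
      intro w hw
      have hwN : w ∈ N := by
        rw [← hCy0]; exact Subgroup.mem_centralizer_singleton_iff.2 (m.ab _ hRp w hw y0 (hR hy0A))
      exact (hCQA w).1 (Subgroup.mem_centralizer_iff.2 fun b hb => m.ab _ hRp b (hR (hQA hb)) w hw)
    have hc1 : Nat.card (R : Subgroup G) = Nat.card (Q : Subgroup G) := by
      rw [R.card_eq_multiplicity, Q.card_eq_multiplicity]
    intro w hw
    rw [Subgroup.eq_of_le_of_card_ge hQA (by rw [← hc1]; exact Nat.le_of_dvd Nat.card_pos (card_dvd_of_le hR))]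
    exact hw
  have hinvol : ∀ s : G, s * s = 1 → s ≠ 1 → IsConj y s := by
    intro s hs hs1
    obtain ⟨R, hR⟩ := (IsPGroup.of_card (n := 1) (by
      rw [Nat.card_zpowers, pow_one]
      exact orderOf_eq_prime (by rw [sq, hs]) hs1) : IsPGroup 2 (Subgroup.zpowers s)).exists_le_sylow
    obtain ⟨g, hg⟩ := MulAction.exists_smul_eq G R Q
    have hgs : MulAut.conj g s ∈ ((g • R : Sylow 2 G) : Subgroup G) := by
      rw [Sylow.coe_subgroup_smul, Subgroup.pointwise_smul_def]
      exact Subgroup.mem_map_of_mem _ (hR (Subgroup.mem_zpowers s))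
    rw [hg, hQ2] at hgs
    have hy' : IsConj y (g * s * g⁻¹) := by
      rcases hAcases _ hgs with e | e | e | e
      · exact absurd (conj_eq_one_iff.1 e) hs1
      · rw [show g * s * g⁻¹ = y from e]
      · exact isConj_iff.2 ⟨z, e.symm⟩
      · exact isConj_iff.2 ⟨z ^ 2, e.symm⟩
    exact hy'.trans (isConj_iff.2 ⟨g, rfl⟩).symm
  haveI : DecidableEq G := Classical.decEq G
  refine Exc.false' (G := G) (N := Nn) ⟨⟨n, hn0, hn⟩, j, hinj, ?_, ?_, ?_, ?_, ?_, ?_⟩
  · intro g hg
    rw [hjy] at hg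
    rw [hrange, ← hCy0]
    exact Subgroup.mem_centralizer_singleton_iff.2 hg
  · intro i hi h hh
    rw [hrange] at hh ⊢
    have e : j (DihedralGroup.r i, 1) = g0 ^ i.val := by
      show g0 ^ i.val * L2 1 = _
      rw [map_one, mul_one]
    rw [e] at hh
    exact m.ti (hpow _) (fun e' => hi (hval0 i e')) hh
  · intro s hs hs1
    rw [hjy]; exact hinvol s hs hs1
  · intro s hs hne
    rw [hjy] at hne ⊢
    obtain ⟨k, hk⟩ := m.exists_order_p (m.dvd_order_prod hyy hs (fun e => hne e.symm))
    obtain ⟨h, hh⟩ := m.conj_into_P (m.order_p_pow hk)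
    have hh1 : h * (y * s) ^ k * h⁻¹ ≠ 1 := fun e => m.ne_one_of_order_p hk (conj_eq_one_iff.1 e)
    have hcomm' : (h * (y * s) * h⁻¹) * (h * (y * s) ^ k * h⁻¹) =
        (h * (y * s) ^ k * h⁻¹) * (h * (y * s) * h⁻¹) := by
      generalize y * s = c
      calc h * c * h⁻¹ * (h * c ^ k * h⁻¹) = h * (c * c ^ k) * h⁻¹ := by simp only [mul_assoc, inv_mul_cancel_left]
        _ = h * (c ^ k * c) * h⁻¹ := by rw [(Commute.self_pow c k).eq]
        _ = _ := by simp only [mul_assoc, inv_mul_cancel_left]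
    obtain ⟨u, hu, a, ha, hua⟩ := hdec _ (m.cent_le hh hh1 hcomm')
    have hac : a = 1 ∨ a = y := by
      refine hy_cent _ hh hh1 a ha ?_
      rw [hua, mul_assoc, ← mul_assoc _ u a, ← m.pComm u hu _ hh, mul_assoc u _ a] at hcomm'
      exact mul_left_cancel hcomm'
    rw [← hg0] at hu
    obtain ⟨l, hl⟩ := (mem_powers_iff_mem_zpowers.2 hu : u ∈ Submonoid.powers g0)
    replace hl : g0 ^ l = u := hl
    have hu1 : u ≠ 1 := by
      intro e
      rw [e, one_mul] at hua
      refine hne ?_
      have h2 : (y * s) * (y * s) = 1 := by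
        have ha2 : a * a = 1 := congrArg Subtype.val (hexp2 ⟨a, ha⟩)
        rw [← hua] at ha2
        have : h * ((y * s) * (y * s)) * h⁻¹ = 1 := by
          rw [← ha2]; group
        exact conj_eq_one_iff.1 this
      calc s * y = (y * y) * (s * y) * (s * s) := by rw [hyy, hs, one_mul, mul_one]
        _ = y * ((y * s) * (y * s)) * s := by simp only [mul_assoc]
        _ = y * s := by rw [h2, mul_one]
    have hr : g0 ^ (l : ZMod Nn).val = u := by
      rw [ZMod.val_natCast, ← hl]; exact pow_mod_orderOf g0 l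
    have hi : (l : ZMod Nn) ≠ 0 := fun e => hu1 (by rw [← hr, e, ZMod.val_zero, pow_zero])
    rcases hac with e | e
    · refine ⟨h⁻¹, (l : ZMod Nn), 1, hi, ?_⟩
      show y * s = h⁻¹ * (g0 ^ _ * L2 1) * h⁻¹⁻¹
      rw [map_one, hr, ← e, ← hua]; group
    · refine ⟨h⁻¹, (l : ZMod Nn), DihedralGroup.sr 0, hi, ?_⟩
      show y * s = h⁻¹ * (g0 ^ _ * (y * 1 ^ _)) * h⁻¹⁻¹
      rw [hr, one_pow, mul_one]
      calc y * s = h⁻¹ * (h * (y * s) * h⁻¹) * h⁻¹⁻¹ := by group
        _ = _ := by rw [hua, e]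
  · intro hd
    rw [hrange] at hd
    exact Q.not_dvd_index (hd.trans (Subgroup.index_dvd_of_le hQN))
  · intro hd
    rw [hrange, ← hp3] at hd
    exact P.not_dvd_index (hd.trans (Subgroup.index_dvd_of_le hPN))

theorem false' : False := by
  by_cases h : ∃ v : G, (orderOf v).Coprime p ∧ v ≠ 1 ∧ ∀ u ∈ (P : Subgroup G), v * u = u * v
  · obtain ⟨v, h1, h2, h3⟩ := h
    exact m.caseI h1 h2 h3
  · have hII : ∀ v : G, (orderOf v).Coprime p → v ≠ 1 → ¬ ∀ u ∈ (P : Subgroup G), v * u = u * v :=
      fun v h1 h2 h3 => h ⟨v, h1, h2, h3⟩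
    by_cases heven : 2 ∣ Nat.card G
    · exact m.even_case hII heven
    · exact m.odd_case hII heven

end Min

end H35.CA

namespace H35.CA

universe w

section reduction

variable {G : Type w} [Group G] [Finite G] {p : ℕ} [Fact p.Prime]

theorem isCyclic_of_equiv {A B : Type*} [Group A] [Group B] [IsCyclic A] (e : A ≃* B) : IsCyclic B :=
  isCyclic_of_surjective e.toMonoidHom e.surjective

theorem sub_cyclic (P : Sylow p G) (hc : IsCyclic (P : Subgroup G)) (H : Subgroup G) (Q : Sylow p H) :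
    IsCyclic (Q : Subgroup H) := by
  obtain ⟨R, hR⟩ := (Q.isPGroup'.map H.subtype).exists_le_sylow
  obtain ⟨g, hg⟩ := MulAction.exists_smul_eq G P R
  haveI := hc
  haveI : IsCyclic (R : Subgroup G) := by
    rw [← hg, Sylow.coe_subgroup_smul, Subgroup.pointwise_smul_def]
    exact isCyclic_of_equiv (Subgroup.equivMapOfInjective (P : Subgroup G) _ (MulAut.conj g).injective)
  haveI : IsCyclic ((Q : Subgroup H).map H.subtype) := Subgroup.isCyclic_of_le hR
  exact isCyclic_of_equiv (Subgroup.equivMapOfInjective (Q : Subgroup H) H.subtype H.subtype_injective).symm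

theorem map_char_normal {N : Subgroup G} [N.Normal] (L : Subgroup N) [L.Characteristic] :
    (L.map N.subtype).Normal := inferInstance

/-- A normal `p`-subgroup reduces the statement to proper subgroups. -/
theorem of_normal_pgroup (P : Sylow p G) (hc : IsCyclic (P : Subgroup G))
    (halt : ∀ H : Subgroup G, H ≠ ⊤ → HasNormalPComplement p H ∨ ∀ Q : Sylow p H, (Q : Subgroup H).Normal)
    (hnoP' : ∀ N : Subgroup G, N.Normal → N ≠ ⊤ → ¬ p ∣ Nat.card N → N = ⊥)
    (P0 : Subgroup G) [P0.Normal] (hP0 : IsPGroup p P0) (hne : P0 ≠ ⊥) :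
    HasNormalPComplement p G ∨ (P : Subgroup G).Normal := by
  have hP0P : P0 ≤ (P : Subgroup G) := by
    obtain ⟨R, hR⟩ := hP0.exists_le_sylow
    obtain ⟨g, hg⟩ := MulAction.exists_smul_eq G R P
    rw [← hg, Sylow.coe_subgroup_smul,
      ← (H3.mem_normalizer_iff_smul P0 g).1 (normalizer_eq_top_iff.2 (inferInstance : P0.Normal) ▸ Subgroup.mem_top g)]
    exact Subgroup.pointwise_smul_le_pointwise_smul_iff.2 hR
  set C := centralizer (P0 : Set G) with hC
  haveI : C.Normal := inferInstance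
  by_cases hCtop : C = ⊤
  · left
    refine H33.hasNormalPComplement_of_cyclic P hc fun v _ _ => ?_
    obtain ⟨⟨z, hz⟩, hz1⟩ := Subgroup.ne_bot_iff_exists_ne_one.1 hne
    refine ⟨z, hP0P hz, fun e => hz1 (Subtype.ext e), ?_⟩
    exact (Subgroup.mem_centralizer_iff.1 (show v ∈ C from hCtop ▸ Subgroup.mem_top v) z hz).symm
  · have hPC : (P : Subgroup G) ≤ C := by
      intro x hx
      haveI := hc
      letI : CommGroup (P : Subgroup G) := IsCyclic.commGroup
      exact Subgroup.mem_centralizer_iff.2 fun y hy =>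
        congrArg Subtype.val (mul_comm (⟨y, hP0P hy⟩ : (P : Subgroup G)) ⟨x, hx⟩)
    have key : C ≤ normalizer ((P : Subgroup G) : Set G) → (P : Subgroup G).Normal := by
      intro h
      refine ⟨fun x hx g => ?_⟩
      have hmem : g * x * g⁻¹ ∈ C := (inferInstance : C.Normal).conj_mem x (hPC hx) g
      obtain ⟨k, hk⟩ := P.isPGroup' ⟨x, hx⟩
      have hk' : (g * x * g⁻¹) ^ p ^ k = 1 := by
        rw [conj_pow, show x ^ p ^ k = 1 from congrArg Subtype.val hk]; group
      obtain ⟨i, -, hi⟩ := (Nat.dvd_prime_pow (Fact.out : p.Prime)).1 (orderOf_dvd_of_pow_eq_one hk')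
      exact ((IsPGroup.inf_normalizer_sylow (IsPGroup.of_card (n := i)
        (by rw [Nat.card_zpowers, hi])) P).le ⟨Subgroup.mem_zpowers _, h hmem⟩).2
    right
    refine key ?_
    rcases halt C hCtop with h | h
    · have hL : (pResidual p C).map C.subtype = ⊥ := by
        refine hnoP' _ inferInstance (fun e => hCtop ?_) ?_
        · exact top_le_iff.1 (e ▸ map_subtype_le _)
        · rw [Subgroup.card_map_of_injective C.subtype_injective]
          exact H5.hasNormalPComplement_iff_not_dvd.1 h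
      rw [Subgroup.map_eq_bot_iff_of_injective _ C.subtype_injective] at hL
      have hCp : IsPGroup p C := by
        intro x
        obtain ⟨k, hk⟩ := H5.isPGroup_quotient_pResidual (G := C) (p := p) (QuotientGroup.mk x)
        refine ⟨k, ?_⟩
        rw [← QuotientGroup.mk_pow, QuotientGroup.eq_one_iff, hL, Subgroup.mem_bot] at hk
        exact hk
      rw [P.is_maximal' hCp hPC]
      exact le_normalizer
    · have hn := h (P.subtype hPC)
      rw [Sylow.coe_subtype] at hn
      exact (normal_subgroupOf_iff_le_normalizer hPC).1 hn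

theorem main_aux (n : ℕ) : ∀ (G : Type w) [Group G] [Finite G], Nat.card G ≤ n → ∀ P : Sylow p G,
    IsCyclic (P : Subgroup G) → (∀ H : Subgroup G, ¬ p ∣ Nat.card H → ∀ a ∈ H, ∀ b ∈ H, a * b = b * a) →
    HasNormalPComplement p G ∨ (P : Subgroup G).Normal := by
  induction n with
  | zero => intro G _ _ h; exact absurd h (by simp [Nat.card_pos.ne'])
  | succ n ih =>
    intro G _ _ hcard P hc hab
    have halt : ∀ H : Subgroup G, H ≠ ⊤ →
        HasNormalPComplement p H ∨ ∀ Q : Sylow p H, (Q : Subgroup H).Normal := by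
      intro H hH
      by_cases h : HasNormalPComplement p H
      · exact Or.inl h
      refine Or.inr fun Q => (ih H ?_ Q (sub_cyclic P hc H Q) (fun K hK a ha b hb => ?_)).resolve_left h
      · have h1 := Subgroup.card_le_card_group H
        have h2 : Nat.card H ≠ Nat.card G := fun e => hH (H.eq_top_of_card_eq e)
        omega
      · have := hab (K.map H.subtype) (by rwa [Subgroup.card_map_of_injective H.subtype_injective])
          _ ⟨a, ha, rfl⟩ _ ⟨b, hb, rfl⟩
        exact Subtype.ext this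
    by_cases hA : ∃ N : Subgroup G, N.Normal ∧ N ≠ ⊤ ∧ N ≠ ⊥ ∧ ¬ p ∣ Nat.card N
    · obtain ⟨N, hN, -, hNne, hNp⟩ := hA
      have hqc : Nat.card (G ⧸ N) ≤ n := by
        have h1 : 1 < Nat.card N := (Subgroup.one_lt_card_iff_ne_bot N).2 hNne
        have h2 := Subgroup.card_eq_card_quotient_mul_card_subgroup N
        have h3 : 0 < Nat.card (G ⧸ N) := Nat.card_pos
        nlinarith
      let f := QuotientGroup.mk' N
      have hf : Function.Surjective f := QuotientGroup.mk'_surjective N
      have hker : Nat.card f.ker = Nat.card N := by rw [QuotientGroup.ker_mk']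
      have hcomap : ∀ K : Subgroup (G ⧸ N), Nat.card (K.comap f) = Nat.card K * Nat.card N := by
        intro K
        have h1 := Subgroup.index_comap_of_surjective K hf
        have h2 := (K.comap f).card_mul_index
        have h3 := K.card_mul_index
        have h4 := Subgroup.card_eq_card_quotient_mul_card_subgroup N
        rw [h1, h4, ← h3] at h2
        refine Nat.eq_of_mul_eq_mul_right (Nat.pos_of_ne_zero (Subgroup.index_ne_zero_of_finite (H := K))) ?_
        rw [h2]; ring
      have hcyc' : IsCyclic ((P.mapSurjective hf : Sylow p (G ⧸ N)) : Subgroup (G ⧸ N)) := by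
        rw [Sylow.coe_mapSurjective]
        haveI := hc
        exact isCyclic_of_surjective (f.subgroupMap (P : Subgroup G)) (MonoidHom.subgroupMap_surjective f _)
      rcases ih (G ⧸ N) hqc (P.mapSurjective hf) hcyc' (fun K hK a ha b hb => by
          obtain ⟨a, rfl⟩ := hf a
          obtain ⟨b, rfl⟩ := hf b
          rw [← map_mul, ← map_mul, hab (K.comap f) (by
            rw [hcomap]; exact fun h => ((Fact.out : p.Prime).dvd_mul.1 h).elim hK hNp) a ha b hb]) with h | h
      · left
        have hd := H5.hasNormalPComplement_iff_not_dvd.1 h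
        haveI : ((pResidual p (G ⧸ N)).comap f).Normal := inferInstance
        refine H5.hasNormalPComplement_of_normal ((pResidual p (G ⧸ N)).comap f) ?_ ?_
        · rw [hcomap]; exact fun h => ((Fact.out : p.Prime).dvd_mul.1 h).elim hd hNp
        · rw [Subgroup.index_comap_of_surjective _ hf]; exact H5.exists_index_pResidual_eq
      · rw [Sylow.coe_mapSurjective] at h
        by_cases hcent : ∀ x ∈ (P : Subgroup G), ∀ y ∈ N, x * y = y * x
        · right
          refine ⟨fun x hx g => ?_⟩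
          have hmem : g * x * g⁻¹ ∈ ((P : Subgroup G).map f).comap f := by
            rw [Subgroup.mem_comap, map_mul, map_mul, map_inv]
            exact h.conj_mem _ ⟨x, hx, rfl⟩ _
          rw [Subgroup.comap_map_eq, QuotientGroup.ker_mk'] at hmem
          have hle : (P : Subgroup G) ⊔ N ≤ normalizer ((P : Subgroup G) : Set G) := by
            refine sup_le le_normalizer fun y hy => centralizer_le_normalizer _ ?_
            exact Subgroup.mem_centralizer_iff.2 fun x hx => hcent x hx y hy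
          obtain ⟨k, hk⟩ := P.isPGroup' ⟨x, hx⟩
          have hk' : (g * x * g⁻¹) ^ p ^ k = 1 := by
            rw [conj_pow, show x ^ p ^ k = 1 from congrArg Subtype.val hk]; group
          obtain ⟨i, -, hi⟩ := (Nat.dvd_prime_pow (Fact.out : p.Prime)).1 (orderOf_dvd_of_pow_eq_one hk')
          exact ((IsPGroup.inf_normalizer_sylow (IsPGroup.of_card (n := i)
            (by rw [Nat.card_zpowers, hi])) P).le ⟨Subgroup.mem_zpowers _, hle hmem⟩).2
        · left
          refine H33.hasNormalPComplement_of_cyclic P hc fun v hv hvc => ?_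
          obtain ⟨g, hg⟩ := (Subgroup.isCyclic_iff_exists_zpowers_eq_top _).1 hc
          have hgP : g ∈ (P : Subgroup G) := hg ▸ Subgroup.mem_zpowers g
          have hvN : ∀ y ∈ N, v * y = y * v := by
            have hH : ¬ p ∣ Nat.card (N ⊔ Subgroup.zpowers v : Subgroup G) := by
              intro hd
              obtain ⟨⟨x, hx⟩, hxp⟩ := exists_prime_orderOf_dvd_card' p hd
              rw [← Subgroup.orderOf_coe] at hxp
              have hx' : x ∈ (N ⊔ Subgroup.zpowers v : Subgroup G) := hx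
              rw [← SetLike.mem_coe, Subgroup.normal_mul] at hx'
              obtain ⟨k, hk, a, ha, rfl⟩ := hx'
              obtain ⟨k', hk', e⟩ := conj_mul_pow (K := N) (a := a)
                (by rw [normalizer_eq_top_iff.2 hN]; exact Subgroup.mem_top a) hk (orderOf v)
              have ha1 : a ^ orderOf v = 1 := by
                obtain ⟨i, rfl⟩ := Subgroup.mem_zpowers_iff.1 ha
                rw [← zpow_natCast, ← zpow_mul, mul_comm, zpow_mul, zpow_natCast, pow_orderOf_eq_one, one_zpow]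
              rw [ha1, mul_one] at e
              have hxp' : orderOf (k * a) = p := hxp
              obtain ⟨i, hi⟩ := exists_pow_eq_self_of_coprime (x := k * a) (n := orderOf v)
                (by rw [hxp']; exact hvc)
              have hmem : k * a ∈ N := by rw [← hi, e]; exact pow_mem hk' i
              exact hNp (hxp' ▸ Subgroup.orderOf_dvd_natCard N hmem)
            exact fun y hy => hab _ hH v (Subgroup.mem_sup_right (Subgroup.mem_zpowers v)) y (Subgroup.mem_sup_left hy)
          obtain ⟨a, ha⟩ := Subgroup.mem_zpowers_iff.1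
            (hg.symm ▸ (Subgroup.mem_normalizer_iff.1 hv g).1 hgP : v * g * v⁻¹ ∈ Subgroup.zpowers g)
          obtain ⟨k, hk⟩ := IsPGroup.iff_card.1 P.isPGroup'
          have hgord : orderOf g = p ^ k := by rw [← hk, ← hg, Nat.card_zpowers]
          have hg1 : g ≠ 1 := by
            intro e
            apply hcent
            intro x hx y _
            rw [← hg, e, Subgroup.zpowers_one_eq_bot, Subgroup.mem_bot] at hx
            simp [hx]
          refine ⟨g, hgP, hg1, H33.commute_of_conj_eq_zpow hvc ⟨k, hgord⟩ ?_ ha.symm⟩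
          by_contra hd
          apply hcent
          have hcn : g ^ (a - 1) ∈ centralizer (N : Set G) := by
            rw [zpow_sub, zpow_one, ha, show v * g * v⁻¹ * g⁻¹ = v * (g * v⁻¹ * g⁻¹) by group]
            have hvC : v ∈ centralizer (N : Set G) :=
              Subgroup.mem_centralizer_iff.2 fun y hy => (hvN y hy).symm
            exact mul_mem hvC ((inferInstance : (centralizer (N : Set G)).Normal).conj_mem _ (inv_mem hvC) g)
          have hgC : g ∈ centralizer (N : Set G) := by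
            have hcop : IsCoprime (a - 1) ((p ^ k : ℕ) : ℤ) := by
              push_cast
              exact ((Nat.prime_iff_prime_int.1 Fact.out).coprime_iff_not_dvd.2 hd).symm.pow_right
            obtain ⟨u, w, huw⟩ := hcop
            have hgk : g ^ ((p ^ k : ℕ) : ℤ) = 1 := by rw [← hgord, zpow_natCast, pow_orderOf_eq_one]
            have : g = (g ^ (a - 1)) ^ u := by
              conv_lhs => rw [← zpow_one g, ← huw, zpow_add, mul_comm u, zpow_mul, mul_comm w, zpow_mul, hgk,
                one_zpow, mul_one]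
            rw [this]; exact zpow_mem hcn u
          intro x hx y hy
          rw [← hg] at hx
          obtain ⟨i, rfl⟩ := Subgroup.mem_zpowers_iff.1 hx
          exact (Subgroup.mem_centralizer_iff.1 (zpow_mem hgC i) y hy).symm
    · have hnoP' : ∀ N : Subgroup G, N.Normal → N ≠ ⊤ → ¬ p ∣ Nat.card N → N = ⊥ := fun N h1 h2 h3 =>
        by_contra fun h4 => hA ⟨N, h1, h2, h4, h3⟩
      by_cases hsimple : ∀ N : Subgroup G, N.Normal → N = ⊥ ∨ N = ⊤
      · by_contra hcontra
        push Not at hcontra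
        obtain ⟨h1, h2⟩ := hcontra
        haveI : Nontrivial G := by
          by_contra hnt
          rw [not_nontrivial_iff_subsingleton] at hnt
          exact h2 ⟨fun x hx g => by rw [Subsingleton.elim (g * x * g⁻¹) x]; exact hx⟩
        exact Min.false' (P := P) ⟨⟨hsimple⟩, hc, hab, h1, h2, halt⟩
      · push Not at hsimple
        obtain ⟨N, hN, hNne, hNtop⟩ := hsimple
        have hNp : p ∣ Nat.card N := by_contra fun h => hNne (hnoP' N hN hNtop h)
        rcases halt N hNtop with h | h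
        · have hL : (pResidual p N).map N.subtype = ⊥ := by
            refine hnoP' _ inferInstance (fun e => hNtop (top_le_iff.1 (e ▸ map_subtype_le _))) ?_
            rw [Subgroup.card_map_of_injective N.subtype_injective]
            exact H5.hasNormalPComplement_iff_not_dvd.1 h
          rw [Subgroup.map_eq_bot_iff_of_injective _ N.subtype_injective] at hL
          refine of_normal_pgroup P hc halt hnoP' N (fun x => ?_) hNne
          obtain ⟨k, hk⟩ := H5.isPGroup_quotient_pResidual (G := N) (p := p) (QuotientGroup.mk x)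
          refine ⟨k, ?_⟩
          rw [← QuotientGroup.mk_pow, QuotientGroup.eq_one_iff, hL, Subgroup.mem_bot] at hk
          exact hk
        · let Q : Sylow p N := Classical.arbitrary _
          haveI : (Q : Subgroup N).Characteristic := Q.characteristic_of_normal (h Q)
          haveI : ((Q : Subgroup N).map N.subtype).Normal := map_char_normal _
          refine of_normal_pgroup P hc halt hnoP' _ (Q.isPGroup'.map N.subtype) fun e => ?_
          rw [Subgroup.map_eq_bot_iff_of_injective _ N.subtype_injective] at e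
          exact Q.ne_bot_of_dvd_card hNp e

theorem main {G : Type w} [Group G] [Finite G] (P : Sylow p G) (hc : IsCyclic (P : Subgroup G))
    (hab : ∀ H : Subgroup G, ¬ p ∣ Nat.card H → ∀ a ∈ H, ∀ b ∈ H, a * b = b * a) :
    HasNormalPComplement p G ∨ (P : Subgroup G).Normal :=
  main_aux _ G le_rfl P hc hab

end reduction

end H35.CA
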