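import Mathlib
import Cfsg.Agent.H5.Frobenius

/-! Sylow 2-subgroups with a cyclic subgroup of index at most 2. -/

namespace H35

open Subgroup

variable {G : Type*} [Group G]

/-- An element of odd order prime to 3 centralizes any 2-subgroup with a cyclic subgroup of index ≤ 2 that it normalizes. -/
theorem conj_fixed_of_cyclic_index_two_aux [Finite G] (g : G) (hodd : Odd (orderOf g)) (h3 : ¬ 3 ∣ orderOf g) (n : ℕ) :
    ∀ U : Subgroup G, Nat.card U ≤ n → IsPGroup 2 U → (∀ u ∈ U, g * u * g⁻¹ ∈ U) →
      (∃ c : G, Nat.card U ≤ 2 * Nat.card (U ⊓ zpowers c : Subgroup G)) → ∀ u ∈ U, g * u * g⁻¹ = u := by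
  induction n with
  | zero => intro U h; exact absurd h (by simp [Nat.card_pos.ne'])
  | succ n ih =>
    intro U hcard hU hgU ⟨c, hc⟩
    by_cases hUbot : U = ⊥
    · subst hUbot; intro u hu; rw [mem_bot.1 hu]; simp
    obtain ⟨k₀, hk⟩ := hU.exists_card_eq
    obtain ⟨k, rfl⟩ : ∃ j, k₀ = j + 1 := by
      rcases k₀ with _ | j
      · exact absurd (card_eq_one.1 (by simpa using hk)) hUbot
      · exact ⟨j, rfl⟩
    haveI : Fact (Nat.Prime 2) := ⟨Nat.prime_two⟩
    obtain ⟨W, hW⟩ := Sylow.exists_subgroup_card_pow_prime 2 (G := U) (n := k) (hk ▸ pow_dvd_pow 2 (by omega))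
    have hWi : W.index = 2 := by
      have := card_mul_index W
      rw [hW, hk, pow_succ] at this
      exact Nat.eq_of_mul_eq_mul_left (pow_pos (by norm_num) k) this
    let V₀ : Subgroup G := closure ((fun u => u * u) '' (U : Set G))
    have hsq : ∀ u ∈ U, u * u ∈ V₀ := fun u hu => subset_closure ⟨u, hu, rfl⟩
    have hV₀W : V₀ ≤ W.map U.subtype := by
      rw [closure_le]
      rintro _ ⟨u, hu, rfl⟩
      exact ⟨(⟨u, hu⟩ : U) * ⟨u, hu⟩, W.mul_self_mem_of_index_two hWi _, rfl⟩
    have hV₀U : V₀ ≤ U := hV₀W.trans (map_subtype_le W)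
    have hV₀lt : Nat.card V₀ ≤ n := by
      have h1 : Nat.card V₀ ≤ 2 ^ k := by
        have h2 := card_le_of_le hV₀W
        rwa [card_map_of_injective U.subtype_injective, hW] at h2
      have h3 : 2 ^ k < 2 ^ (k + 1) := by rw [pow_succ]; have := pow_pos (show 0 < 2 by norm_num) k; omega
      omega
    have hV₀g : ∀ u ∈ V₀, g * u * g⁻¹ ∈ V₀ := by
      intro u hu
      have hle : V₀ ≤ V₀.comap (MulAut.conj g).toMonoidHom := by
        rw [closure_le]
        rintro _ ⟨w, hw, rfl⟩
        show g * (w * w) * g⁻¹ ∈ V₀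
        rw [show g * (w * w) * g⁻¹ = (g * w * g⁻¹) * (g * w * g⁻¹) by group]
        exact hsq _ (hgU w hw)
      exact hle hu
    -- a generator of U ⊓ ⟨c⟩
    obtain ⟨⟨d, hd⟩, hdgen⟩ : ∃ d : (U ⊓ zpowers c : Subgroup G), zpowers d = ⊤ := by
      haveI : IsCyclic (U ⊓ zpowers c : Subgroup G) :=
        isCyclic_of_injective (inclusion (inf_le_right : U ⊓ zpowers c ≤ zpowers c)) (inclusion_injective _)
      obtain ⟨d, hd⟩ := IsCyclic.exists_generator (α := (U ⊓ zpowers c : Subgroup G))
      exact ⟨d, (eq_top_iff' _).2 hd⟩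
    have hdcard : Nat.card (U ⊓ zpowers c : Subgroup G) = orderOf d := by
      rw [← Subgroup.orderOf_mk d hd, ← Nat.card_zpowers, hdgen, card_top]
    have hd2 : d * d ∈ V₀ := hsq d hd.1
    have hdsq : orderOf d ≤ 2 * orderOf (d * d) := by
      rw [← pow_two, orderOf_pow' d two_ne_zero]
      have h1 : Nat.gcd (orderOf d) 2 ≤ 2 := Nat.le_of_dvd two_pos (Nat.gcd_dvd_right _ _)
      have h2 := Nat.div_mul_cancel (Nat.gcd_dvd_left (orderOf d) 2)
      nlinarith [Nat.zero_le (orderOf d / Nat.gcd (orderOf d) 2)]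
    have hV₀card : Nat.card U ≤ 4 * Nat.card V₀ := by
      have h1 : orderOf (d * d) ≤ Nat.card V₀ := Nat.le_of_dvd Nat.card_pos (orderOf_dvd_natCard V₀ hd2)
      omega
    have hfix : ∀ v ∈ V₀, g * v * g⁻¹ = v := by
      refine ih V₀ hV₀lt (hU.to_le hV₀U) hV₀g ⟨d * d, ?_⟩
      rw [inf_eq_right.2 ((zpowers_le).2 hd2), Nat.card_zpowers]
      have h1 : 2 * Nat.card V₀ ≤ Nat.card U := by
        have h2 := card_le_of_le hV₀W
        rw [card_map_of_injective U.subtype_injective, hW] at h2
        rw [hk, pow_succ]; omega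
      omega
    -- conjugation by g fixes every coset of V₀
    set m := orderOf g with hm
    intro u hu
    have hmem : ∀ i : ℕ, g ^ i * u * (g ^ i)⁻¹ ∈ U := by
      intro i
      induction i with
      | zero => simpa using hu
      | succ i hi =>
        have := hgU _ hi
        rw [pow_succ']
        convert this using 1
        group
    haveI : (V₀.subgroupOf U).Normal := by
      refine ⟨fun x hx a => ?_⟩
      have hx' : (x : G) ∈ V₀ := mem_subgroupOf.1 hx
      have hle : V₀ ≤ V₀.comap (MulAut.conj (a : G)).toMonoidHom := by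
        rw [closure_le]
        rintro _ ⟨w, hw, rfl⟩
        show (a : G) * (w * w) * (a : G)⁻¹ ∈ V₀
        rw [show (a : G) * (w * w) * (a : G)⁻¹ = ((a : G) * w * (a : G)⁻¹) * ((a : G) * w * (a : G)⁻¹) by group]
        exact hsq _ (U.mul_mem (U.mul_mem a.2 hw) (U.inv_mem a.2))
      exact mem_subgroupOf.2 (hle hx')
    have hcardQ : Nat.card (U ⧸ V₀.subgroupOf U) ≤ 4 := by
      have h1 := card_eq_card_quotient_mul_card_subgroup (V₀.subgroupOf U)
      rw [Nat.card_congr (subgroupOfEquivOfLe hV₀U).toEquiv] at h1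
      have h2 : 0 < Nat.card V₀ := Nat.card_pos
      nlinarith
    let φ₀ : U →* U := MonoidHom.mk' (fun v => ⟨g * v * g⁻¹, hgU v v.2⟩) (fun a b => Subtype.ext (by simp [mul_assoc]))
    let φ := QuotientGroup.map (V₀.subgroupOf U) (V₀.subgroupOf U) φ₀ (fun v hv => hV₀g v hv)
    have hiter : ∀ (i : ℕ) (v : U), ((φ₀^[i] v : U) : G) = g ^ i * v * (g ^ i)⁻¹ := by
      intro i
      induction i with
      | zero => simp
      | succ i hi =>
        intro v
        rw [Function.iterate_succ_apply', pow_succ']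
        show g * ((φ₀^[i] v : U) : G) * g⁻¹ = _
        rw [hi v]; group
    have hiterQ : ∀ (i : ℕ) (v : U), φ^[i] (v : U ⧸ V₀.subgroupOf U) = ((φ₀^[i] v : U) : U ⧸ V₀.subgroupOf U) := by
      intro i v
      induction i with
      | zero => simp
      | succ i hi => rw [Function.iterate_succ_apply', Function.iterate_succ_apply', hi]; rfl
    set q : U ⧸ V₀.subgroupOf U := ((⟨u, hu⟩ : U) : U ⧸ V₀.subgroupOf U) with hq
    have hper : Function.IsPeriodicPt φ m q := by
      show φ^[m] q = q
      rw [hiterQ]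
      congr 1
      apply Subtype.ext
      rw [hiter, hm, pow_orderOf_eq_one]; simp
    have hfixq : φ q = q := by
      have hp := hper.minimalPeriod_dvd
      have hpos : 0 < Function.minimalPeriod φ q := hper.minimalPeriod_pos hodd.pos
      have hle : Function.minimalPeriod φ q ≤ 3 := by
        by_contra hgt
        push Not at hgt
        -- the orbit and 1 are distinct points
        classical
        have := Fintype.ofFinite (U ⧸ V₀.subgroupOf U)
        have hinj : Function.Injective (fun o : Option (Fin (Function.minimalPeriod φ q)) => o.elim 1 fun i => φ^[i] q) := by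
          have h1 : ∀ i : ℕ, φ^[i] q ≠ 1 := by
            intro i hi
            have h2 : φ q = q := by
              have hmap1 : ∀ j, φ^[j] 1 = 1 := fun j => Function.iterate_fixed (map_one φ) j
              have hq1 : q = 1 := by
                have hle' : i ≤ m * (i + 1) := le_trans (Nat.le_succ i) (Nat.le_mul_of_pos_left _ hodd.pos)
                rw [← (hper.mul_const (i + 1)).eq, show m * (i + 1) = (m * (i + 1) - i) + i by omega,
                  Function.iterate_add_apply, hi, hmap1]
              rw [hq1, map_one]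
            have h3 : Function.minimalPeriod φ q ≤ 1 := Function.IsPeriodicPt.minimalPeriod_le one_pos (show φ^[1] q = q from h2)
            omega
          rintro (_ | i) (_ | j) h
          · rfl
          · exact absurd h.symm (h1 j)
          · exact absurd h (h1 i)
          · exact congrArg some (Fin.ext (Function.iterate_injOn_Iio_minimalPeriod i.2 j.2 h))
        have h4 := Nat.card_le_card_of_injective _ hinj
        rw [Finite.card_option, Nat.card_fin] at h4
        omega
      have h1 : Function.minimalPeriod φ q = 1 := by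
        interval_cases h : Function.minimalPeriod φ q
        · rfl
        · exact absurd (even_iff_two_dvd.2 hp) (Nat.not_even_iff_odd.2 hodd)
        · exact absurd hp h3
      exact Function.minimalPeriod_eq_one_iff_isFixedPt.1 h1
    have hd0 : u⁻¹ * (g * u * g⁻¹) ∈ V₀ := by
      have := (QuotientGroup.eq).1 hfixq.symm
      exact mem_subgroupOf.1 this
    set w := u⁻¹ * (g * u * g⁻¹) with hwdef
    have hgw := hfix w hd0
    have hpow : ∀ i : ℕ, g ^ i * u * (g ^ i)⁻¹ = u * w ^ i := by
      intro i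
      induction i with
      | zero => simp
      | succ i hi =>
        calc g ^ (i + 1) * u * (g ^ (i + 1))⁻¹ = g * (g ^ i * u * (g ^ i)⁻¹) * g⁻¹ := by rw [pow_succ']; group
          _ = g * (u * w ^ i) * g⁻¹ := by rw [hi]
          _ = (g * u * g⁻¹) * (g * w * g⁻¹) ^ i := by rw [conj_pow]; group
          _ = (u * w) * w ^ i := by rw [hgw, hwdef]; group
          _ = _ := by rw [pow_succ', mul_assoc]
    have h1 := hpow m
    rw [hm, pow_orderOf_eq_one] at h1
    simp only [one_mul, inv_one, mul_one] at h1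
    have hwm : w ^ orderOf g = 1 := by
      calc w ^ orderOf g = u⁻¹ * (u * w ^ orderOf g) := by group
        _ = 1 := by rw [← h1]; group
    obtain ⟨j, hj⟩ := IsPGroup.iff_orderOf.1 hU ⟨w, hV₀U hd0⟩
    rw [Subgroup.orderOf_mk] at hj
    have hw1 : w = 1 := by
      rw [← orderOf_eq_one_iff]
      exact Nat.eq_one_of_dvd_coprimes (Nat.Coprime.pow_left j (Nat.coprime_two_left.2 hodd)) (hj ▸ dvd_rfl)
        (orderOf_dvd_of_pow_eq_one hwm)
    rw [hwdef] at hw1
    exact (inv_mul_eq_one.1 hw1).symm

theorem normal_two_complement [Finite G] (a n : ℕ) (hG : Nat.card G = 2 ^ a * n) (hn : Odd n) (h3 : ¬ 3 ∣ n)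
    (hx : ∃ x : G, orderOf x = 2 ^ (a - 1)) : ∃ N : Subgroup G, N.Normal ∧ Nat.card N = n := by
  haveI : Fact (Nat.Prime 2) := ⟨Nat.prime_two⟩
  obtain ⟨x, hx⟩ := hx
  obtain ⟨P, hP⟩ := (IsPGroup.of_card (n := a - 1) (by rw [Nat.card_zpowers, hx]) : IsPGroup 2 (zpowers x)).exists_le_sylow
  have hfac : (Nat.card G).factorization 2 = a := by
    have hn0 : n ≠ 0 := hn.pos.ne'
    rw [hG, Nat.factorization_mul (by positivity) hn0, Nat.prime_two.factorization_pow]
    simp [Nat.factorization_eq_zero_of_not_dvd (fun h => Nat.not_even_iff_odd.2 hn (even_iff_two_dvd.2 h))]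
  have hPcard : Nat.card (P : Subgroup G) = 2 ^ a := by rw [P.card_eq_multiplicity, hfac]
  have h := H5.hasNormalPComplement_of_frobenius P fun Q hQP g hg hcop => by
    rw [mem_centralizer_iff]
    intro u hu
    have hodd : Odd (orderOf g) := Nat.coprime_two_right.1 hcop
    have hg3 : ¬ 3 ∣ orderOf g := by
      intro hd
      have h1 : 3 ∣ 2 ^ a * n := hG ▸ hd.trans (orderOf_dvd_natCard g)
      rcases (Nat.Prime.dvd_mul Nat.prime_three).1 h1 with h2 | h2
      · exact absurd (Nat.prime_three.dvd_of_dvd_pow h2) (by decide)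
      · exact h3 h2
    have hcyc : Nat.card Q ≤ 2 * Nat.card (Q ⊓ zpowers x : Subgroup G) := by
      have h1 : ((Q ⊓ zpowers x).subgroupOf Q).index ≤ ((zpowers x).subgroupOf (P : Subgroup G)).index := by
        show (Q ⊓ zpowers x).relIndex Q ≤ (zpowers x).relIndex (P : Subgroup G)
        rw [inf_relIndex_left]
        exact relIndex_le_of_le_right hQP
          (show (zpowers x).relIndex (P : Subgroup G) ≠ 0 from Subgroup.index_ne_zero_of_finite)
      have h2 : ((zpowers x).subgroupOf (P : Subgroup G)).index ≤ 2 := by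
        have e := card_mul_index ((zpowers x).subgroupOf (P : Subgroup G))
        rw [Nat.card_congr (subgroupOfEquivOfLe hP).toEquiv, Nat.card_zpowers, hx, hPcard] at e
        rcases a with _ | a
        · simp only [Nat.zero_sub, pow_zero, one_mul] at e; omega
        · rw [Nat.add_sub_cancel, pow_succ] at e
          exact (Nat.eq_of_mul_eq_mul_left (pow_pos two_pos a) e).le
      have h3 := card_mul_index ((Q ⊓ zpowers x).subgroupOf Q)
      rw [Nat.card_congr (subgroupOfEquivOfLe inf_le_left).toEquiv] at h3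
      have h4 := h1.trans h2
      nlinarith
    have := conj_fixed_of_cyclic_index_two_aux g hodd hg3 _ Q le_rfl (P.isPGroup'.to_le hQP)
      (fun v hv => (mem_normalizer_iff.1 hg v).1 hv) ⟨x, hcyc⟩ u hu
    exact (mul_inv_eq_iff_eq_mul.1 this).symm
  obtain ⟨N, hN, hc⟩ := (H5.hasNormalPComplement_iff_exists P).1 h
  refine ⟨N, hN, Nat.eq_of_mul_eq_mul_right (Nat.card_pos (α := (P : Subgroup G))) ?_⟩
  rw [hc.card_mul, hG, hPcard, mul_comm]

end H35
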