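import Mathlib

/-!
Lower bound for derangements: counting identities and the geometry of fixed-point sets of two-point stabilisers.
-/

set_option autoImplicit false
set_option linter.all false

open MulAction

namespace H35.Der

universe u v

variable {G : Type u} {Ω : Type v} [Group G] [MulAction G Ω]

/-- The two-point stabiliser. -/
def st2 (a b : Ω) : Subgroup G := stabilizer G a ⊓ stabilizer G b

/-- The three-point stabiliser. -/
def st3 (a b c : Ω) : Subgroup G := st2 a b ⊓ stabilizer G c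

theorem mem_st2 {a b : Ω} {g : G} : g ∈ (st2 a b : Subgroup G) ↔ g • a = a ∧ g • b = b := Iff.rfl

theorem mem_st3 {a b c : Ω} {g : G} : g ∈ (st3 a b c : Subgroup G) ↔ g • a = a ∧ g • b = b ∧ g • c = c :=
  ⟨fun h => ⟨h.1.1, h.1.2, h.2⟩, fun h => ⟨⟨h.1, h.2.1⟩, h.2.2⟩⟩

theorem st2_comm (a b : Ω) : (st2 a b : Subgroup G) = st2 b a := inf_comm _ _

theorem st3_le (a b c : Ω) : (st3 a b c : Subgroup G) ≤ st2 a b := inf_le_left

theorem st3_rot (a b c : Ω) : (st3 a b c : Subgroup G) = st3 b c a := by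
  unfold st3 st2; ac_rfl

theorem st3_swap (a b c : Ω) : (st3 a b c : Subgroup G) = st3 b a c := by
  unfold st3; rw [st2_comm]

theorem card_map_conj (g : G) (K : Subgroup G) :
    Nat.card (K.map (MulAut.conj g).toMonoidHom : Subgroup G) = Nat.card K :=
  Subgroup.card_map_of_injective (MulAut.conj g).injective

theorem st2_smul (g : G) (a b : Ω) :
    (st2 (g • a) (g • b) : Subgroup G) = (st2 a b).map (MulAut.conj g).toMonoidHom := by
  unfold st2
  rw [stabilizer_smul_eq_stabilizer_map_conj, stabilizer_smul_eq_stabilizer_map_conj,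
    Subgroup.map_inf _ _ _ (MulAut.conj g).injective]

theorem card_st3_smul (g : G) (a b c : Ω) :
    Nat.card (st3 (g • a) (g • b) (g • c) : Subgroup G) = Nat.card (st3 a b c : Subgroup G) := by
  unfold st3
  rw [st2_smul, stabilizer_smul_eq_stabilizer_map_conj, ← Subgroup.map_inf _ _ _ (MulAut.conj g).injective,
    card_map_conj]

/-- The action is transitive on pairs of distinct points. -/
def TwoTrans (G : Type u) (Ω : Type v) [Group G] [MulAction G Ω] : Prop :=
  ∀ a b a' b' : Ω, a ≠ b → a' ≠ b' → ∃ g : G, g • a = a' ∧ g • b = b'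

/-- The block through two points. -/
noncomputable def block (G : Type u) {Ω : Type v} [Group G] [MulAction G Ω] [Fintype Ω] (a b : Ω) : Finset Ω :=
  @Finset.filter _ (fun c => (st2 a b : Subgroup G) ≤ stabilizer G c) (Classical.decPred _) Finset.univ

/-- The fixed points of an element. -/
noncomputable def fix (Ω : Type v) {G : Type u} [Group G] [MulAction G Ω] [Fintype Ω] (g : G) : Finset Ω :=
  @Finset.filter _ (fun c => g • c = c) (Classical.decPred _) Finset.univ

section

variable [Fintype Ω]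

theorem mem_block {a b c : Ω} : c ∈ block G a b ↔ (st2 a b : Subgroup G) ≤ stabilizer G c := by
  simp [block]

theorem mem_fix {g : G} {c : Ω} : c ∈ fix Ω g ↔ g • c = c := by simp [fix]

theorem left_mem_block (a b : Ω) : a ∈ block G a b := mem_block.2 inf_le_left

theorem right_mem_block (a b : Ω) : b ∈ block G a b := mem_block.2 inf_le_right

theorem block_subset_fix {a b : Ω} {g : G} (hg : g ∈ (st2 a b : Subgroup G)) : block G a b ⊆ fix Ω g :=
  fun c hc => mem_fix.2 (mem_block.1 hc hg)

variable [Finite G]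

theorem card_st2 (ht : TwoTrans G Ω) {a b a' b' : Ω} (h : a ≠ b) (h' : a' ≠ b') :
    Nat.card (st2 a' b' : Subgroup G) = Nat.card (st2 a b : Subgroup G) := by
  obtain ⟨g, rfl, rfl⟩ := ht a b a' b' h h'
  rw [st2_smul, card_map_conj]

theorem st2_eq_of_mem (ht : TwoTrans G Ω) {a b c d : Ω} (h : a ≠ b) (hcd : c ≠ d)
    (hc : c ∈ block G a b) (hd : d ∈ block G a b) : (st2 c d : Subgroup G) = st2 a b :=
  (Subgroup.eq_of_le_of_card_ge (le_inf (mem_block.1 hc) (mem_block.1 hd)) (card_st2 ht h hcd).le).symm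

theorem block_eq_of_mem (ht : TwoTrans G Ω) {a b c d : Ω} (h : a ≠ b) (hcd : c ≠ d)
    (hc : c ∈ block G a b) (hd : d ∈ block G a b) : block G c d = block G a b := by
  ext e; rw [mem_block, mem_block, st2_eq_of_mem ht h hcd hc hd]

theorem card_block (ht : TwoTrans G Ω) {a b a' b' : Ω} (h : a ≠ b) (h' : a' ≠ b') :
    (block G a' b').card = (block G a b).card := by
  classical
  obtain ⟨g, rfl, rfl⟩ := ht a b a' b' h h'
  rw [← Finset.card_image_of_injective (block G a b) (MulAction.injective g)]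
  congr 1
  ext e
  rw [Finset.mem_image, mem_block, st2_smul]
  constructor
  · intro he
    refine ⟨g⁻¹ • e, mem_block.2 fun x hx => ?_, smul_inv_smul g e⟩
    have := he ⟨x, hx, rfl⟩
    rw [mem_stabilizer_iff] at this ⊢
    simp only [MulEquiv.coe_toMonoidHom, MulAut.conj_apply, mul_smul] at this
    have h2 := congrArg (g⁻¹ • ·) this
    simpa using h2
  · rintro ⟨c, hc, rfl⟩ _ ⟨x, hx, rfl⟩
    have := mem_block.1 hc hx
    rw [mem_stabilizer_iff] at this ⊢
    simp only [MulEquiv.coe_toMonoidHom, MulAut.conj_apply, mul_smul, inv_smul_smul, this]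

/-- Blocks through two points fixed by `x` and a moved point meet only in the moved point. -/
theorem block_inter (ht : TwoTrans G Ω) {x : G} {γ γ' μ ν : Ω} (hμ : x • μ ≠ μ) (hγ : x • γ = γ)
    (hγ' : x • γ' = γ') (hne : γ ≠ γ') (h1 : ν ∈ block G γ μ) (h2 : ν ∈ block G γ' μ) : ν = μ := by
  by_contra hν
  have hγμ : γ ≠ μ := fun e => hμ (e ▸ hγ)
  have hγ'μ : γ' ≠ μ := fun e => hμ (e ▸ hγ')
  have e1 := st2_eq_of_mem ht hγμ hν h1 (right_mem_block γ μ)
  have e2 := st2_eq_of_mem ht hγ'μ hν h2 (right_mem_block γ' μ)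
  have hmem : γ' ∈ block G γ μ := by
    rw [mem_block, ← e1, e2]; exact inf_le_left
  have hx : x ∈ (st2 γ μ : Subgroup G) := by
    rw [← st2_eq_of_mem ht hγμ hne (left_mem_block γ μ) hmem]
    exact ⟨hγ, hγ'⟩
  exact hμ hx.2

/-- Each fixed point of `x` gives `F - 2` moved points on its block through a moved point. -/
theorem fix_bound (ht : TwoTrans G Ω) {a b : Ω} (hab : a ≠ b) {x : G} {μ : Ω} (hμ : x • μ ≠ μ) :
    (fix Ω x).card * ((block G a b).card - 2) + 1 + (fix Ω x).card ≤ Fintype.card Ω := by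
  classical
  set Φ := fix Ω x with hΦ
  have hΦμ : ∀ γ ∈ Φ, γ ≠ μ := fun γ hγ e => hμ (e ▸ mem_fix.1 hγ)
  let P : Ω → Finset Ω := fun γ => ((block G γ μ).erase μ).erase γ
  have hP : ∀ γ ∈ Φ, (P γ).card = (block G a b).card - 2 := by
    intro γ hγ
    show (((block G γ μ).erase μ).erase γ).card = _
    rw [Finset.card_erase_of_mem (Finset.mem_erase.2 ⟨hΦμ γ hγ, left_mem_block γ μ⟩),
      Finset.card_erase_of_mem (right_mem_block γ μ), card_block ht hab (hΦμ γ hγ)]
    omega
  have hdisj : (Φ : Set Ω).PairwiseDisjoint P := by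
    intro γ hγ γ' hγ' hne
    show Disjoint (P γ) (P γ')
    rw [Finset.disjoint_left]
    intro ν h1 h2
    simp only [P, Finset.mem_erase] at h1 h2
    exact h1.2.1 (block_inter ht hμ (mem_fix.1 hγ) (mem_fix.1 hγ') hne h1.2.2 h2.2.2)
  have hsub : Φ.biUnion P ⊆ (Finset.univ \ Φ).erase μ := by
    intro ν hν
    obtain ⟨γ, hγ, h⟩ := Finset.mem_biUnion.1 hν
    simp only [P, Finset.mem_erase] at h
    refine Finset.mem_erase.2 ⟨h.2.1, Finset.mem_sdiff.2 ⟨Finset.mem_univ _, fun hνΦ => ?_⟩⟩
    have hγμ := hΦμ γ hγ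
    have hx : x ∈ (st2 γ μ : Subgroup G) := by
      rw [← st2_eq_of_mem ht hγμ h.1 h.2.2 (left_mem_block γ μ)]
      exact ⟨mem_fix.1 hνΦ, mem_fix.1 hγ⟩
    exact hμ hx.2
  have h := Finset.card_le_card hsub
  rw [Finset.card_biUnion hdisj, Finset.sum_const_nat hP,
    Finset.card_erase_of_mem (Finset.mem_sdiff.2 ⟨Finset.mem_univ _, fun h => hΦμ μ h rfl⟩),
    Finset.card_univ_diff] at h
  have h1 : Φ.card < Fintype.card Ω := Finset.card_lt_univ_of_notMem (fun h => hΦμ μ h rfl)
  omega

/-- An element fixing a point outside the block of two of its fixed points fixes at least `F (F - 1) + 1` points. -/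
theorem fix_big (ht : TwoTrans G Ω) {a b δ : Ω} (hab : a ≠ b) {x : G} (hx : x ∈ (st2 a b : Subgroup G))
    (hδ : x • δ = δ) (hδB : δ ∉ block G a b) :
    (block G a b).card * ((block G a b).card - 1) + 1 ≤ (fix Ω x).card := by
  classical
  set B := block G a b with hB
  have hne : ∀ c ∈ B, c ≠ δ := fun c hc e => hδB (e ▸ hc)
  let P : Ω → Finset Ω := fun c => (block G c δ).erase δ
  have hP : ∀ c ∈ B, (P c).card = B.card - 1 := by
    intro c hc
    show ((block G c δ).erase δ).card = _
    rw [Finset.card_erase_of_mem (right_mem_block c δ), card_block ht hab (hne c hc)]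
  have hdisj : (B : Set Ω).PairwiseDisjoint P := by
    intro c hc c' hc' hcc
    show Disjoint (P c) (P c')
    rw [Finset.disjoint_left]
    intro ν h1 h2
    simp only [P, Finset.mem_erase] at h1 h2
    have e1 := block_eq_of_mem ht (hne c hc) h1.1 h1.2 (right_mem_block c δ)
    have e2 := block_eq_of_mem ht (hne c' hc') h2.1 h2.2 (right_mem_block c' δ)
    have hc'm : c' ∈ block G c δ := by rw [← e1, e2]; exact left_mem_block _ _
    have e3 := block_eq_of_mem ht (hne c hc) hcc (left_mem_block c δ) hc'm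
    rw [block_eq_of_mem ht hab hcc hc hc'] at e3
    refine hδB ?_
    rw [hB, e3]; exact right_mem_block c δ
  have hsub : B.biUnion P ⊆ (fix Ω x).erase δ := by
    intro ν hν
    obtain ⟨c, hc, h⟩ := Finset.mem_biUnion.1 hν
    simp only [P, Finset.mem_erase] at h
    exact Finset.mem_erase.2 ⟨h.1, block_subset_fix (g := x) ⟨mem_fix.1 (block_subset_fix hx hc), hδ⟩ h.2⟩
  have h := Finset.card_le_card hsub
  rw [Finset.card_biUnion hdisj, Finset.sum_const_nat hP, Finset.card_erase_of_mem (mem_fix.2 hδ)] at h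
  have h1 : 0 < (fix Ω x).card := Finset.card_pos.2 ⟨δ, mem_fix.2 hδ⟩
  omega

end

end H35.Der
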