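import Cfsg.Agent.H35.Derangements

/-!
Lower bound for derangements: power sums and orbits of two-point stabilisers.
-/

set_option autoImplicit false
set_option linter.all false
set_option maxHeartbeats 800000

open MulAction

namespace H35.Der

universe u v

variable {G : Type u} {Ω : Type v} [Group G] [MulAction G Ω] [Fintype Ω]

/-- The derangements, as a cardinal. -/
noncomputable def nder (G : Type u) (Ω : Type v) [Group G] [MulAction G Ω] : ℕ :=
  Nat.card {g : G // ∀ ω : Ω, g • ω ≠ ω}

/-- The sum of the orders of the three-point stabilisers over the third point. -/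
noncomputable def sig (G : Type u) {Ω : Type v} [Group G] [MulAction G Ω] [Fintype Ω] (a b : Ω) : ℕ :=
  ∑ c : Ω, Nat.card (st3 a b c : Subgroup G)

/-- The points whose orbit under the two-point stabiliser has at least three points. -/
noncomputable def big (G : Type u) {Ω : Type v} [Group G] [MulAction G Ω] [Fintype Ω] (a b : Ω) : Finset Ω :=
  Finset.univ.filter fun c => 3 * Nat.card (st3 a b c : Subgroup G) ≤ Nat.card (st2 a b : Subgroup G)

/-- The orbit of a point under the two-point stabiliser. -/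
noncomputable def orb (G : Type u) {Ω : Type v} [Group G] [MulAction G Ω] [Fintype Ω] (a b c : Ω) : Finset Ω :=
  @Finset.filter _ (fun d => ∃ g ∈ (st2 a b : Subgroup G), g • c = d) (Classical.decPred _) Finset.univ

theorem mem_big {a b c : Ω} :
    c ∈ big G a b ↔ 3 * Nat.card (st3 a b c : Subgroup G) ≤ Nat.card (st2 a b : Subgroup G) := by
  simp [big]

theorem mem_orb {a b c d : Ω} : d ∈ orb G a b c ↔ ∃ g ∈ (st2 a b : Subgroup G), g • c = d := by simp [orb]

theorem self_mem_orb (a b c : Ω) : c ∈ orb G a b c := mem_orb.2 ⟨1, one_mem _, one_smul _ _⟩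

theorem st2_self (a : Ω) : (st2 a a : Subgroup G) = stabilizer G a := inf_idem _

theorem st3_self (a c : Ω) : (st3 a a c : Subgroup G) = st2 a c := by rw [st3, st2_self]; rfl

variable [Fintype G]

theorem card_filter_eq {P : G → Prop} [DecidablePred P] {K : Subgroup G} (h : ∀ g, P g ↔ g ∈ K) :
    (Finset.univ.filter P).card = Nat.card K := by
  rw [← Fintype.card_subtype, ← Nat.card_eq_fintype_card]
  exact Nat.card_congr (Equiv.subtypeEquivRight h)

theorem sum_fix_mul (f : G → ℕ) [∀ a : Ω, DecidablePred fun g : G => g • a = a] :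
    ∑ g : G, (fix Ω g).card * f g = ∑ a : Ω, ∑ g ∈ Finset.univ.filter (fun g : G => g • a = a), f g := by
  classical
  have : ∀ g : G, (fix Ω g).card * f g = ∑ a : Ω, if g • a = a then f g else 0 := by
    intro g
    rw [← Finset.sum_filter, Finset.sum_const, smul_eq_mul]
    congr 2
    ext c; simp [mem_fix]
  simp_rw [this]
  rw [Finset.sum_comm]
  exact Finset.sum_congr rfl fun a _ => by rw [Finset.sum_filter]

theorem card_fix_eq (g : G) [DecidablePred fun ω : Ω => g • ω = ω] :
    (fix Ω g).card = (Finset.univ.filter fun ω : Ω => g • ω = ω).card := by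
  congr 1; ext c; simp [mem_fix]

theorem sum_fix_subgroup (K : Subgroup G) [DecidablePred (· ∈ K)] :
    ∑ g ∈ Finset.univ.filter (· ∈ K), (fix Ω g).card = ∑ c : Ω, Nat.card (K ⊓ stabilizer G c : Subgroup G) := by
  classical
  simp_rw [card_fix_eq, Finset.card_filter]
  rw [Finset.sum_comm]
  refine Finset.sum_congr rfl fun c _ => ?_
  rw [← Finset.card_filter, Finset.filter_filter]
  exact card_filter_eq fun g => Iff.rfl

theorem moment_one : ∑ g : G, (fix Ω g).card = ∑ a : Ω, Nat.card (stabilizer G a) := by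
  classical
  have h := sum_fix_mul (Ω := Ω) (fun _ : G => 1)
  simp only [mul_one, Finset.sum_const, smul_eq_mul] at h
  rw [h]
  exact Finset.sum_congr rfl fun a _ => card_filter_eq fun g => Iff.rfl

theorem moment_two : ∑ g : G, (fix Ω g).card * (fix Ω g).card =
    ∑ a : Ω, ∑ b : Ω, Nat.card (st2 a b : Subgroup G) := by
  classical
  rw [sum_fix_mul]
  refine Finset.sum_congr rfl fun a _ => ?_
  rw [← show (Finset.univ.filter (· ∈ stabilizer G a)) = Finset.univ.filter (fun g : G => g • a = a) by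
    ext g; simp]
  exact sum_fix_subgroup _

theorem moment_three : ∑ g : G, (fix Ω g).card * ((fix Ω g).card * (fix Ω g).card) =
    ∑ a : Ω, ∑ b : Ω, sig G a b := by
  classical
  rw [sum_fix_mul]
  refine Finset.sum_congr rfl fun a _ => ?_
  simp_rw [card_fix_eq, Finset.card_filter, Finset.sum_mul, boole_mul]
  rw [Finset.sum_comm]
  refine Finset.sum_congr rfl fun b _ => ?_
  rw [← Finset.sum_filter, Finset.filter_filter, sig]
  simp_rw [← Finset.card_filter, ← card_fix_eq]
  rw [← show (Finset.univ.filter (· ∈ (st2 a b : Subgroup G))) =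
    Finset.univ.filter (fun g : G => g • a = a ∧ g • b = b) by ext g; simp [mem_st2]]
  exact sum_fix_subgroup _

theorem card_stab_mul (hT : IsPretransitive G Ω) (a : Ω) :
    Nat.card (stabilizer G a) * Fintype.card Ω = Nat.card G := by
  haveI := hT
  rw [← Nat.card_eq_fintype_card (α := Ω), ← index_stabilizer_of_transitive G a]
  exact Subgroup.card_mul_index _

theorem moment_one_eq (hT : IsPretransitive G Ω) [Nonempty Ω] : ∑ g : G, (fix Ω g).card = Nat.card G := by
  rw [moment_one]
  obtain ⟨a⟩ := ‹Nonempty Ω›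
  have h : ∀ b : Ω, Nat.card (stabilizer G b) = Nat.card (stabilizer G a) := fun b =>
    Nat.eq_of_mul_eq_mul_right Fintype.card_pos ((card_stab_mul hT b).trans (card_stab_mul hT a).symm)
  rw [Finset.sum_congr rfl fun b _ => h b, Finset.sum_const, smul_eq_mul, Finset.card_univ, mul_comm,
    card_stab_mul hT]

theorem card_orb_mul (a b c : Ω) :
    (orb G a b c).card * Nat.card (st3 a b c : Subgroup G) = Nat.card (st2 a b : Subgroup G) := by
  classical
  set H := (st2 a b : Subgroup G)
  have h1 : (stabilizer H c) = (stabilizer G c).subgroupOf H := by ext g; rfl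
  have h2 : (MulAction.orbit H c).ncard = (orb G a b c).card := by
    rw [← Set.ncard_coe_finset]
    congr 1
    ext d
    simp only [MulAction.mem_orbit_iff, Finset.mem_coe, mem_orb]
    exact ⟨fun ⟨g, hg⟩ => ⟨g, g.2, hg⟩, fun ⟨g, hg, he⟩ => ⟨⟨g, hg⟩, he⟩⟩
  have h3 := (stabilizer H c).index_mul_card
  rw [index_stabilizer, h2, h1] at h3
  rw [← h3]
  congr 1
  have h4 : (stabilizer G c).subgroupOf H = (st3 a b c).subgroupOf H :=
    (Subgroup.inf_subgroupOf_left (stabilizer G c) H).symm
  rw [h4]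
  exact (Nat.card_congr (Subgroup.subgroupOfEquivOfLe (inf_le_left : st3 a b c ≤ H)).toEquiv).symm

theorem st3_card_of_mem_orb {a b c d : Ω} (h : d ∈ orb G a b c) :
    Nat.card (st3 a b d : Subgroup G) = Nat.card (st3 a b c : Subgroup G) := by
  obtain ⟨g, hg, rfl⟩ := mem_orb.1 h
  conv_lhs => rw [← hg.1, ← hg.2]
  exact card_st3_smul g a b c

theorem orb_eq_of_mem {a b c d : Ω} (h : d ∈ orb G a b c) : orb G a b d = orb G a b c := by
  obtain ⟨g, hg, rfl⟩ := mem_orb.1 h
  ext e
  simp only [mem_orb]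
  constructor
  · rintro ⟨k, hk, rfl⟩; exact ⟨k * g, mul_mem hk hg, mul_smul _ _ _⟩
  · rintro ⟨k, hk, rfl⟩; exact ⟨k * g⁻¹, mul_mem hk (inv_mem hg), by rw [mul_smul, inv_smul_smul]⟩

theorem orb_subset_big {a b c : Ω} (hc : c ∈ big G a b) : orb G a b c ⊆ big G a b := fun d hd =>
  mem_big.2 (by rw [st3_card_of_mem_orb hd]; exact mem_big.1 hc)

theorem three_le_orb {a b c : Ω} (hc : c ∈ big G a b) : 3 ≤ (orb G a b c).card := by
  have h := card_orb_mul (G := G) a b c
  have h2 := mem_big.1 hc
  rw [← h] at h2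
  exact Nat.le_of_mul_le_mul_right h2 Nat.card_pos

theorem lt_st3_iff {a b c : Ω} :
    Nat.card (st3 a b c : Subgroup G) < Nat.card (st2 a b : Subgroup G) ↔ c ∉ block G a b := by
  rw [mem_block]
  constructor
  · intro h hle
    rw [show (st3 a b c : Subgroup G) = st2 a b from inf_eq_left.2 hle] at h
    exact lt_irrefl _ h
  · intro h
    refine lt_of_le_of_ne (Subgroup.card_le_of_le (st3_le a b c)) fun e => h ?_
    rw [← Subgroup.eq_of_le_of_card_ge (st3_le a b c) e.ge]
    exact inf_le_right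

theorem two_le_orb {a b c : Ω} (hc : c ∉ block G a b) : 2 ≤ (orb G a b c).card := by
  have h := card_orb_mul (G := G) a b c
  have h2 := lt_st3_iff.2 hc
  by_contra hlt
  interval_cases hh : (orb G a b c).card
  · rw [zero_mul] at h; exact Nat.card_pos.ne h
  · rw [one_mul] at h; omega

theorem orb_two_of_not_big {a b c : Ω} (hc : c ∉ block G a b) (hb : c ∉ big G a b) : (orb G a b c).card = 2 := by
  have h2 := two_le_orb hc
  by_contra hne
  apply hb
  rw [mem_big, ← card_orb_mul (G := G) a b c]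
  exact Nat.mul_le_mul_right _ (by omega)

theorem two_mul_st3 {a b c : Ω} (hc : c ∉ block G a b) (hb : c ∉ big G a b) :
    2 * Nat.card (st3 a b c : Subgroup G) = Nat.card (st2 a b : Subgroup G) := by
  rw [← card_orb_mul (G := G) a b c, orb_two_of_not_big hc hb]

theorem not_block_of_big {a b c : Ω} (hb : c ∈ big G a b) : c ∉ block G a b := by
  rw [← lt_st3_iff]
  have := mem_big.1 hb
  have : 0 < Nat.card (st3 a b c : Subgroup G) := Nat.card_pos
  omega

/-- Squares in the two-point stabiliser fix the points outside `big`. -/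
theorem sq_fix {a b c : Ω} (hb : c ∉ big G a b) {g : G} (hg : g ∈ (st2 a b : Subgroup G)) :
    g • g • c = c := by
  classical
  by_cases hc : c ∈ block G a b
  · have := mem_block.1 hc hg; rw [mem_stabilizer_iff] at this; rw [this, this]
  by_cases h1 : g • c = c
  · rw [h1, h1]
  have hmem : ({c, g • c} : Finset Ω) ⊆ orb G a b c := by
    intro d hd
    simp only [Finset.mem_insert, Finset.mem_singleton] at hd
    rcases hd with rfl | rfl
    exacts [self_mem_orb a b d, mem_orb.2 ⟨g, hg, rfl⟩]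
  have heq := Finset.eq_of_subset_of_card_le hmem
    (by rw [orb_two_of_not_big hc hb, Finset.card_pair (Ne.symm h1)])
  have h2 : g • g • c ∈ orb G a b c := mem_orb.2 ⟨g * g, mul_mem hg hg, mul_smul _ _ _⟩
  rw [← heq, Finset.mem_insert, Finset.mem_singleton] at h2
  rcases h2 with h2 | h2
  · exact h2
  · exact absurd (smul_left_cancel g h2) h1

variable (ht : TwoTrans G Ω)
include ht

theorem pretransitive_of_twoTrans : IsPretransitive G Ω := by
  refine ⟨fun a b => ?_⟩
  by_cases h : a = b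
  · exact ⟨1, by rw [one_smul, h]⟩
  · obtain ⟨g, hg, -⟩ := ht a b b a h (Ne.symm h)
    exact ⟨g, hg⟩

theorem card_st2_mul {a b : Ω} (hab : a ≠ b) :
    (Fintype.card Ω - 1) * Nat.card (st2 a b : Subgroup G) = Nat.card (stabilizer G a) := by
  classical
  have h := card_orb_mul (G := G) a a b
  rw [st3_self, st2_self] at h
  rw [← h]
  congr 1
  rw [← Finset.card_univ, ← Finset.card_erase_of_mem (Finset.mem_univ a)]
  congr 1
  ext d
  simp only [Finset.mem_erase, Finset.mem_univ, and_true, mem_orb, st2_self, mem_stabilizer_iff]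
  constructor
  · intro hd
    obtain ⟨g, hga, hgb⟩ := ht a b a d hab (Ne.symm hd)
    exact ⟨g, hga, hgb⟩
  · rintro ⟨g, hg, rfl⟩ e
    exact hab (smul_left_cancel g (hg.trans e.symm))

theorem card_group {a b : Ω} (hab : a ≠ b) :
    Nat.card G = Fintype.card Ω * (Fintype.card Ω - 1) * Nat.card (st2 a b : Subgroup G) := by
  rw [mul_assoc, card_st2_mul ht hab, mul_comm, card_stab_mul (pretransitive_of_twoTrans ht)]

theorem sig_eq {a b a' b' : Ω} (h : a ≠ b) (h' : a' ≠ b') : sig G a' b' = sig G a b := by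
  obtain ⟨g, rfl, rfl⟩ := ht a b a' b' h h'
  rw [sig, ← Equiv.sum_comp (MulAction.toPerm g)]
  exact Finset.sum_congr rfl fun c _ => card_st3_smul g a b c

theorem sum_st2_eq {a : Ω} (hn : 2 ≤ Fintype.card Ω) :
    ∑ b : Ω, Nat.card (st2 a b : Subgroup G) = 2 * Nat.card (stabilizer G a) := by
  classical
  obtain ⟨b₀, hb₀⟩ := Fintype.exists_ne_of_one_lt_card hn a
  rw [← Finset.add_sum_erase _ _ (Finset.mem_univ a), st2_self,
    Finset.sum_congr rfl fun b hb => (card_st2 ht (Ne.symm hb₀) (Ne.symm (Finset.ne_of_mem_erase hb))),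
    Finset.sum_const, Finset.card_erase_of_mem (Finset.mem_univ a), Finset.card_univ, smul_eq_mul,
    card_st2_mul ht (Ne.symm hb₀)]
  ring

theorem moment_two_eq (hn : 2 ≤ Fintype.card Ω) :
    ∑ g : G, (fix Ω g).card * (fix Ω g).card = 2 * Nat.card G := by
  haveI : Nonempty Ω := Fintype.card_pos_iff.1 (by omega)
  rw [moment_two, Finset.sum_congr rfl fun a _ => sum_st2_eq ht hn, ← Finset.mul_sum, ← moment_one,
    moment_one_eq (pretransitive_of_twoTrans ht)]

theorem moment_three_eq {a b : Ω} (hab : a ≠ b) :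
    ∑ g : G, (fix Ω g).card * ((fix Ω g).card * (fix Ω g).card) =
      2 * Nat.card G + Fintype.card Ω * (Fintype.card Ω - 1) * sig G a b := by
  classical
  have hn : 2 ≤ Fintype.card Ω := by
    have := Finset.card_le_univ ({a, b} : Finset Ω); rwa [Finset.card_pair hab] at this
  haveI : Nonempty Ω := ⟨a⟩
  rw [moment_three]
  have h : ∀ c : Ω, ∑ d : Ω, sig G c d = 2 * Nat.card (stabilizer G c) + (Fintype.card Ω - 1) * sig G a b := by
    intro c
    rw [← Finset.add_sum_erase _ _ (Finset.mem_univ c),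
      Finset.sum_congr rfl fun d hd => sig_eq ht hab (Ne.symm (Finset.ne_of_mem_erase hd)),
      Finset.sum_const, Finset.card_erase_of_mem (Finset.mem_univ c), Finset.card_univ, smul_eq_mul, sig]
    congr 1
    rw [Finset.sum_congr rfl fun d _ => congrArg (fun K : Subgroup G => Nat.card K) (st3_self c d), sum_st2_eq ht hn]
  rw [Finset.sum_congr rfl fun c _ => h c, Finset.sum_add_distrib, ← Finset.mul_sum, ← moment_one,
    moment_one_eq (pretransitive_of_twoTrans ht), Finset.sum_const, Finset.card_univ, smul_eq_mul, ← mul_assoc]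

/-- The moment criterion. -/
theorem criterion [FaithfulSMul G Ω] {a b : Ω} (hab : a ≠ b) (h2 : 2 ≤ Nat.card (st2 a b : Subgroup G))
    (hc : (2 * Nat.card (st2 a b : Subgroup G) - 1) * sig G a b ≤
      Fintype.card Ω * Nat.card (st2 a b : Subgroup G) ^ 2) :
    2 * Nat.card G ≤ Fintype.card Ω * nder G Ω := by
  classical
  have hn : 2 ≤ Fintype.card Ω := by
    have := Finset.card_le_univ ({a, b} : Finset Ω); rwa [Finset.card_pair hab] at this
  haveI : Nonempty Ω := ⟨a⟩
  obtain ⟨n, hnn⟩ : ∃ n, n = Fintype.card Ω := ⟨_, rfl⟩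
  obtain ⟨h, hh⟩ : ∃ h, h = Nat.card (st2 a b : Subgroup G) := ⟨_, rfl⟩
  obtain ⟨σ, hσ⟩ : ∃ σ, σ = sig G a b := ⟨_, rfl⟩
  have e0 : (∑ g : G, ((fix Ω g).card : ℤ)) = Nat.card G := by exact_mod_cast moment_one_eq (pretransitive_of_twoTrans ht)
  have e1 : (∑ g : G, ((fix Ω g).card : ℤ) * (fix Ω g).card) = 2 * Nat.card G := by exact_mod_cast moment_two_eq ht hn
  have e2 : (∑ g : G, ((fix Ω g).card : ℤ) * ((fix Ω g).card * (fix Ω g).card)) =
      2 * Nat.card G + n * (n - 1) * σ := by
    have := moment_three_eq ht hab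
    rw [← hnn, ← hσ] at this
    have hz := congrArg (fun x : ℕ => (x : ℤ)) this
    push_cast [Nat.cast_sub (show 1 ≤ n by omega)] at hz
    exact hz
  have eG : (Nat.card G : ℤ) = n * (n - 1) * h := by
    rw [card_group ht hab, ← hnn, ← hh]; push_cast [Nat.cast_sub (show 1 ≤ n by omega)]; ring
  have e3 : (∑ g : G, (1 : ℤ)) = Nat.card G := by simp [Nat.card_eq_fintype_card]
  set D : ℤ := 2 * (h : ℤ) - 1 with hD
  set M : ℤ := (n : ℤ) * ((h : ℤ) - 1) with hM
  let φ : G → ℤ := fun g => (((fix Ω g).card : ℤ) - 1) * (D * (fix Ω g).card - M) ^ 2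
  have hsum : ∑ g : G, φ g = D ^ 2 * (n * (n - 1) * σ) - 2 * D * M * Nat.card G := by
    have : ∀ g : G, φ g = D ^ 2 * (((fix Ω g).card : ℤ) * ((fix Ω g).card * (fix Ω g).card))
        - (D ^ 2 + 2 * D * M) * (((fix Ω g).card : ℤ) * (fix Ω g).card)
        + (2 * D * M + M ^ 2) * ((fix Ω g).card : ℤ) - M ^ 2 * 1 := fun g => by simp only [φ]; ring
    rw [Finset.sum_congr rfl fun g _ => this g]
    simp only [Finset.sum_add_distrib, Finset.sum_sub_distrib, ← Finset.mul_sum]
    rw [e0, e1, e2, e3]; ring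
  let φ' : G → ℤ := fun g =>
    (if g = 1 then ((n : ℤ) - 1) * ((n : ℤ) * h) ^ 2 else 0) - M ^ 2 * (if ∀ ω : Ω, g • ω ≠ ω then 1 else 0)
  have hle : ∀ g : G, φ' g ≤ φ g := by
    intro g
    by_cases hd : ∀ ω : Ω, g • ω ≠ ω
    · have h0 : (fix Ω g).card = 0 := by
        rw [Finset.card_eq_zero]; ext c; simp [mem_fix, hd c]
      have hg : g ≠ 1 := fun e => hd a (by rw [e, one_smul])
      simp only [φ, φ', if_neg hg, if_pos hd, h0]; push_cast; nlinarith
    · have h0 : 1 ≤ (fix Ω g).card := by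
        simp only [not_forall, not_not] at hd
        obtain ⟨ω, hω⟩ := hd
        exact Finset.card_pos.2 ⟨ω, mem_fix.2 hω⟩
      by_cases hg : g = 1
      · have h1 : (fix Ω g).card = n := by
          rw [hnn, ← Finset.card_univ]; congr 1; ext c; simp [mem_fix, hg]
        simp only [φ, φ', if_pos hg, if_neg hd, h1, hD, hM]
        nlinarith
      · simp only [φ, φ', if_neg hg, if_neg hd]
        have h0' : (0 : ℤ) ≤ ((fix Ω g).card : ℤ) - 1 := by omega
        nlinarith [mul_nonneg h0' (sq_nonneg (D * (fix Ω g).card - M))]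
  have hs := Finset.sum_le_sum fun g (_ : g ∈ (Finset.univ : Finset G)) => hle g
  have hs' : ∑ g : G, φ' g = ((n : ℤ) - 1) * ((n : ℤ) * h) ^ 2 - M ^ 2 * nder G Ω := by
    simp only [φ', Finset.sum_sub_distrib, Finset.sum_ite_eq', Finset.mem_univ, if_true, ← Finset.mul_sum,
      Finset.sum_boole]
    rw [nder, Nat.card_eq_fintype_card, Fintype.card_subtype]
  rw [hs', hsum, eG] at hs
  have hn1 : (2 : ℤ) ≤ n := by exact_mod_cast hnn ▸ hn
  have hh2 : (2 : ℤ) ≤ h := by exact_mod_cast hh ▸ h2
  have hc' : D * σ ≤ (n : ℤ) * (h : ℤ) ^ 2 := by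
    have hz : ((2 * h - 1) * σ : ℕ) ≤ n * h ^ 2 := by rw [hnn, hh, hσ]; exact hc
    have hz' : (((2 * h - 1) * σ : ℕ) : ℤ) ≤ ((n * h ^ 2 : ℕ) : ℤ) := by exact_mod_cast hz
    push_cast [Nat.cast_sub (show 1 ≤ 2 * h by omega)] at hz'
    exact hz'
  have key : M ^ 2 * (2 * ((n : ℤ) - 1) * h) ≤ M ^ 2 * nder G Ω := by
    have hpos : (0 : ℤ) ≤ (n : ℤ) * ((n : ℤ) - 1) * D := by
      have : (0 : ℤ) ≤ D := by rw [hD]; omega
      exact mul_nonneg (mul_nonneg (by omega) (by omega)) this
    have := mul_nonneg hpos (sub_nonneg.2 hc')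
    rw [hD, hM] at *
    nlinarith
  have hMpos : (0 : ℤ) < M ^ 2 := by
    have : (0 : ℤ) < M := by rw [hM]; nlinarith
    positivity
  have hδ := le_of_mul_le_mul_left key hMpos
  zify
  rw [eG, ← hnn]
  nlinarith

end H35.Der
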