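import Cfsg.Agent.H35.Derangements2

/-!
Lower bound for derangements: the moment criterion holds in every doubly transitive group of degree at least 7
with nontrivial two-point stabiliser.
-/

set_option autoImplicit false
set_option linter.all false
set_option maxHeartbeats 800000

open MulAction

namespace H35.Der

universe u v

variable {G : Type u} {Ω : Type v} [Group G] [MulAction G Ω] [Fintype Ω] [Fintype G]

/-- The moment criterion fails at a pair. -/
def Fail (G : Type u) {Ω : Type v} [Group G] [MulAction G Ω] [Fintype Ω] (a b : Ω) : Prop :=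
  Fintype.card Ω * Nat.card (st2 a b : Subgroup G) ^ 2 <
    (2 * Nat.card (st2 a b : Subgroup G) - 1) * sig G a b

theorem eq_of_half_lt {H J : Subgroup G} (hle : J ≤ H) (h : Nat.card H < 2 * Nat.card J) : J = H := by
  refine Subgroup.eq_of_le_of_card_ge hle ?_
  obtain ⟨k, hk⟩ := Subgroup.card_dvd_of_le hle
  have hH : 0 < Nat.card H := Nat.card_pos
  match k, hk with
  | 0, hk => omega
  | 1, hk => omega
  | (k + 2), hk => nlinarith

theorem le_normalizer_of_half {H K : Subgroup G} (hle : K ≤ H) (h : 2 * Nat.card K = Nat.card H) :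
    H ≤ Subgroup.normalizer (K : Set G) := by
  rw [← Subgroup.normal_subgroupOf_iff_le_normalizer hle]
  refine Subgroup.normal_of_index_eq_two ?_
  have h1 := (K.subgroupOf H).index_mul_card
  rw [Nat.card_congr (Subgroup.subgroupOfEquivOfLe hle).toEquiv, ← h] at h1
  exact Nat.eq_of_mul_eq_mul_right Nat.card_pos h1

theorem relIndex_mul_card' {K L : Subgroup G} (hle : K ≤ L) : K.relIndex L * Nat.card K = Nat.card L := by
  rw [Subgroup.relIndex, ← (K.subgroupOf L).index_mul_card,
    Nat.card_congr (Subgroup.subgroupOfEquivOfLe hle).toEquiv]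

theorem card_mod_fix {p : ℕ} [Fact p.Prime] {x : G} (hx : orderOf x = p) :
    Fintype.card Ω % p = (fix Ω x).card % p := by
  classical
  have hP : IsPGroup p (Subgroup.zpowers x) :=
    IsPGroup.of_card (n := 1) (by rw [Nat.card_zpowers, hx, pow_one])
  have h := hP.card_modEq_card_fixedPoints Ω
  have e : (fixedPoints (Subgroup.zpowers x) Ω) = (fix Ω x : Set Ω) := by
    ext c
    simp only [MulAction.mem_fixedPoints, Finset.mem_coe, mem_fix]
    constructor
    · intro h; exact h ⟨x, Subgroup.mem_zpowers x⟩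
    · rintro h ⟨g, hg⟩
      have : Subgroup.zpowers x ≤ stabilizer G c := Subgroup.zpowers_le.2 h
      exact this hg
  rw [Nat.card_coe_set_eq, e, Set.ncard_coe_finset, Nat.card_eq_fintype_card] at h
  exact h

theorem big_disjoint_block (a b : Ω) : ∀ c ∈ big G a b, c ∉ block G a b := fun c hc => not_block_of_big hc

theorem orb_mul_weight (a b c : Ω) :
    ∑ d ∈ orb G a b c, (Nat.card (st2 a b : Subgroup G) - 2 * Nat.card (st3 a b d : Subgroup G)) =
      ((orb G a b c).card - 2) * Nat.card (st2 a b : Subgroup G) := by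
  rw [Finset.sum_congr rfl fun d hd => by rw [st3_card_of_mem_orb hd], Finset.sum_const, smul_eq_mul,
    Nat.mul_sub, Nat.sub_mul]
  congr 1
  rw [← card_orb_mul (G := G) a b c]; ring

/-- Failure of the criterion bounds the weight of `big`. -/
theorem weight {a b : Ω} (hf : Fail G a b) :
    ∑ c ∈ big G a b, (Nat.card (st2 a b : Subgroup G) - 2 * Nat.card (st3 a b c : Subgroup G)) <
      (block G a b).card * (Nat.card (st2 a b : Subgroup G) - 1) := by
  classical
  set h := Nat.card (st2 a b : Subgroup G) with hh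
  have h1 : 1 ≤ h := Nat.card_pos
  let K : Ω → ℕ := fun c => Nat.card (st3 a b c : Subgroup G)
  let f : Ω → ℤ := fun c => (2 * (h : ℤ) - 1) * (K c : ℤ) - (h : ℤ) ^ 2
  have hle : ∀ c, f c ≤ (if c ∈ block G a b then (h : ℤ) * ((h - 1 : ℕ) : ℤ) else 0) -
      (if c ∈ big G a b then (h : ℤ) * ((h - 2 * K c : ℕ) : ℤ) else 0) := by
    intro c
    by_cases hB : c ∈ block G a b
    · have hT : c ∉ big G a b := fun e => not_block_of_big e hB
      have hK : K c = h := by
        show Nat.card (st3 a b c : Subgroup G) = h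
        rw [hh]; congr 2; exact inf_eq_left.2 (mem_block.1 hB)
      simp only [f, if_pos hB, if_neg hT, hK]; push_cast [Nat.cast_sub h1]; nlinarith
    · by_cases hT : c ∈ big G a b
      · have h3 : 3 * K c ≤ h := mem_big.1 hT
        simp only [f, if_neg hB, if_pos hT]; push_cast [Nat.cast_sub (show 2 * K c ≤ h by omega)]
        nlinarith
      · have h2 : 2 * K c = h := two_mul_st3 hB hT
        simp only [f, if_neg hB, if_neg hT]
        have : (h : ℤ) = 2 * (K c : ℤ) := by exact_mod_cast h2.symm
        rw [this]; nlinarith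
  have hs := Finset.sum_le_sum fun c (_ : c ∈ (Finset.univ : Finset Ω)) => hle c
  simp only [f, Finset.sum_sub_distrib, ← Finset.mul_sum, Finset.sum_ite_mem, Finset.univ_inter,
    Finset.sum_const, Finset.card_univ, nsmul_eq_mul, ← Nat.cast_sum] at hs
  have hf' : (Fintype.card Ω : ℤ) * (h : ℤ) ^ 2 < (2 * (h : ℤ) - 1) * (sig G a b : ℤ) := by
    have hz : ((Fintype.card Ω * h ^ 2 : ℕ) : ℤ) < (((2 * h - 1) * sig G a b : ℕ) : ℤ) := by exact_mod_cast hf
    push_cast [Nat.cast_sub (show 1 ≤ 2 * h by omega)] at hz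
    exact hz
  rw [sig] at hf'
  have : (h : ℤ) * ((∑ c ∈ big G a b, (h - 2 * K c) : ℕ) : ℤ) <
      (h : ℤ) * (((block G a b).card * (h - 1) : ℕ) : ℤ) := by
    push_cast at hs hf' ⊢; nlinarith
  exact_mod_cast lt_of_mul_lt_mul_left this (by positivity)

variable [FaithfulSMul G Ω] (ht : TwoTrans G Ω)
include ht

theorem fail_transfer {a b a' b' : Ω} (h : a ≠ b) (h' : a' ≠ b') (hf : Fail G a b) : Fail G a' b' := by
  unfold Fail at hf ⊢
  rw [card_st2 ht h h', sig_eq ht h h']; exact hf

omit ht in
theorem exists_moved {x : G} (hx : x ≠ 1) : ∃ μ : Ω, x • μ ≠ μ := by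
  by_contra hc
  exact hx (eq_of_smul_eq_smul fun μ : Ω => (by_contra fun e => hc ⟨μ, e⟩ : x • μ = μ).trans (one_smul G μ).symm)

/-- Every pair has a point with at least three images under its stabiliser. -/
theorem big_nonempty {a b : Ω} (hab : a ≠ b) (h3 : 3 ≤ Nat.card (st2 a b : Subgroup G)) :
    (big G a b).Nonempty := by
  classical
  by_contra hT
  rw [Finset.not_nonempty_iff_eq_empty] at hT
  have hall : ∀ p q : Ω, p ≠ q → ∀ c, c ∉ block G p q →
      2 * Nat.card (st3 p q c : Subgroup G) = Nat.card (st2 a b : Subgroup G) := by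
    intro p q hpq c hc
    rw [← card_st2 ht hab hpq]
    refine two_mul_st3 hc fun hb => ?_
    obtain ⟨g, rfl, rfl⟩ := ht a b p q hab hpq
    have h1 := mem_big.1 hb
    rw [show c = g • (g⁻¹ • c) from (smul_inv_smul g c).symm, card_st3_smul, card_st2 ht hab hpq] at h1
    have h2 : g⁻¹ • c ∈ big G a b := mem_big.2 h1
    rw [hT] at h2
    exact absurd h2 (Finset.notMem_empty _)
  have key : ∀ p q : Ω, p ≠ q → ∀ γ, γ ∉ block G p q → ∀ g ∈ (st2 p q : Subgroup G),
      g • γ ∈ block G p γ := by
    intro p q hpq γ hγ g hg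
    have hpγ : p ≠ γ := fun e => hγ (e ▸ left_mem_block p q)
    set H := (st2 p q : Subgroup G) with hH
    set H' := (st2 p γ : Subgroup G) with hH'
    have hcH : Nat.card H = Nat.card (st2 a b : Subgroup G) := card_st2 ht hab hpq
    have hcH' : Nat.card H' = Nat.card (st2 a b : Subgroup G) := card_st2 ht hab hpγ
    set K := (st3 p q γ : Subgroup G) with hK
    have hKH' : K ≤ H' := fun k hk => ⟨hk.1.1, hk.2⟩
    have hcK : 2 * Nat.card K = Nat.card (st2 a b : Subgroup G) := hall p q hpq γ hγ
    obtain ⟨ν, hν⟩ : ∃ ν, ¬ K ≤ stabilizer G ν := by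
      by_contra hc
      have hK1 : K = ⊥ := by
        rw [Subgroup.eq_bot_iff_forall]
        intro k hk
        by_contra hk1
        obtain ⟨μ, hμ⟩ := exists_moved (Ω := Ω) hk1
        exact hc ⟨μ, fun hle => hμ (hle hk)⟩
      rw [hK1, Subgroup.card_bot] at hcK
      omega
    have hpν : p ≠ ν := fun e => hν (e ▸ fun k hk => hk.1.1)
    set H'' := (st2 p ν : Subgroup G) with hH''
    have hcH'' : Nat.card H'' = Nat.card (st2 a b : Subgroup G) := card_st2 ht hab hpν
    have hνq : ν ∉ block G p q := fun e => hν (inf_le_left.trans (mem_block.1 e))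
    have hνγ : ν ∉ block G p γ := fun e => hν (hKH'.trans (mem_block.1 e))
    set P := (st3 p q ν : Subgroup G) with hP
    set Q := (st3 p γ ν : Subgroup G) with hQ
    have hcP : 2 * Nat.card P = Nat.card (st2 a b : Subgroup G) := hall p q hpq ν hνq
    have hcQ : 2 * Nat.card Q = Nat.card (st2 a b : Subgroup G) := hall p γ hpγ ν hνγ
    have hPH'' : P ≤ H'' := fun k hk => ⟨hk.1.1, hk.2⟩
    have hQH'' : Q ≤ H'' := fun k hk => ⟨hk.1.1, hk.2⟩
    have hPQ : ¬ P ≤ Q := by
      intro hle
      have hPK : P = K := Subgroup.eq_of_le_of_card_ge (fun k hk => ⟨hk.1, (hle hk).1.2⟩) (by omega)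
      exact hν (hPK ▸ fun k hk => hk.2)
    obtain ⟨x, hxP, hxQ⟩ := SetLike.not_le_iff_exists.1 hPQ
    have hxH : x ∈ H := hxP.1
    have hxH' : x ∉ H' := fun e => hxQ ⟨e, hxP.2⟩
    have hxK : x ∈ Subgroup.normalizer (K : Set G) :=
      le_normalizer_of_half (inf_le_left) (hcK.trans hcH.symm) hxH
    have hxQn : x ∈ Subgroup.normalizer (Q : Set G) :=
      le_normalizer_of_half hQH'' (hcQ.trans hcH''.symm) (hPH'' hxP)
    have hKQ : K ⊔ Q = H' := by
      refine eq_of_half_lt (sup_le hKH' inf_le_left) ?_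
      rw [hcH']
      have hlt : Nat.card K < Nat.card (K ⊔ Q : Subgroup G) := by
        refine lt_of_le_of_ne (Subgroup.card_le_of_le le_sup_left) fun e => ?_
        have e' := Subgroup.eq_of_le_of_card_ge (le_sup_left : K ≤ K ⊔ Q) e.ge
        have hQK : Q = K := Subgroup.eq_of_le_of_card_ge (le_sup_right.trans e'.ge) (by omega)
        exact hν (hQK ▸ fun k hk => hk.2)
      omega
    have hxN : x ∈ Subgroup.normalizer (H' : Set G) := by
      have hm : ∀ S : Subgroup G, x ∈ Subgroup.normalizer (S : Set G) →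
          S.map (MulAut.conj x).toMonoidHom = S := by
        intro S hS
        refine Subgroup.eq_of_le_of_card_ge ?_ (card_map_conj x S).ge
        rintro _ ⟨k, hk, rfl⟩
        exact (Subgroup.mem_normalizer_iff.1 hS k).1 hk
      have hmap : H'.map (MulAut.conj x).toMonoidHom = H' := by
        rw [← hKQ, Subgroup.map_sup, hm K hxK, hm Q hxQn]
      rw [Subgroup.mem_normalizer_iff]
      intro k
      constructor
      · intro hk; rw [← hmap]; exact ⟨k, hk, rfl⟩
      · intro hk
        rw [← hmap] at hk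
        obtain ⟨k', hk', e⟩ := hk
        rwa [← (MulAut.conj x).injective (e : MulAut.conj x k' = MulAut.conj x k)]
    have hHN : H ⊓ Subgroup.normalizer (H' : Set G) = H := by
      refine eq_of_half_lt inf_le_left ?_
      have hlt : K < H ⊓ Subgroup.normalizer (H' : Set G) := by
        refine lt_of_le_of_ne (le_inf inf_le_left (hKH'.trans Subgroup.le_normalizer)) fun e => hxH' ?_
        exact hKH' (e ▸ (⟨hxH, hxN⟩ : x ∈ H ⊓ Subgroup.normalizer (H' : Set G)))
      have : Nat.card K < Nat.card (H ⊓ Subgroup.normalizer (H' : Set G) : Subgroup G) := by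
        refine lt_of_le_of_ne (Subgroup.card_le_of_le hlt.le) fun e => hlt.ne ?_
        exact Subgroup.eq_of_le_of_card_ge hlt.le e.ge
      omega
    have hgN : g ∈ Subgroup.normalizer (H' : Set G) := (hHN.ge hg).2
    rw [mem_block]
    intro k hk
    rw [mem_stabilizer_iff]
    have hk' : g⁻¹ * k * g ∈ H' := by
      have := (Subgroup.mem_normalizer_iff.1 (inv_mem hgN) k).1 hk
      rwa [inv_inv] at this
    calc k • g • γ = g • (g⁻¹ * k * g) • γ := by simp [mul_smul]
      _ = g • γ := by rw [show (g⁻¹ * k * g) • γ = γ from hk'.2]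
  obtain ⟨g, hg, hg1⟩ : ∃ g ∈ (st2 a b : Subgroup G), g ≠ 1 := by
    by_contra hc
    have : (st2 a b : Subgroup G) = ⊥ := (Subgroup.eq_bot_iff_forall _).2
      fun g hg => by_contra fun e => hc ⟨g, hg, e⟩
    rw [this, Subgroup.card_bot] at h3; omega
  obtain ⟨γ, hγ⟩ := exists_moved (Ω := Ω) hg1
  have hγB : γ ∉ block G a b := fun e => hγ (mem_block.1 e hg)
  have h1 := key a b hab γ hγB g hg
  have h2 := key b a hab.symm γ
    (fun e => hγB (by rw [mem_block, st2_comm]; exact mem_block.1 e)) g (by rw [st2_comm]; exact hg)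
  exact hγ (block_inter ht hγ hg.1 hg.2 hab h1 h2)

omit [FaithfulSMul G Ω] in
theorem st3_eq_of_block {a b c μ ν : Ω} (hab : a ≠ b) (hc : c ∈ block G a b) (hμ : μ ∉ block G a b)
    (hν : ν ∈ block G c μ) (hνc : ν ≠ c) : (st3 a b ν : Subgroup G) = st3 a b μ := by
  have hcμ : c ≠ μ := fun e => hμ (e ▸ hc)
  have e := st2_eq_of_mem ht hcμ hνc.symm (left_mem_block c μ) hν
  have hHc : (st2 a b : Subgroup G) ≤ stabilizer G c := mem_block.1 hc
  ext g
  constructor
  · intro hg
    have : g ∈ (st2 c μ : Subgroup G) := e ▸ ⟨hHc hg.1, hg.2⟩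
    exact ⟨hg.1, this.2⟩
  · intro hg
    have : g ∈ (st2 c ν : Subgroup G) := e.symm ▸ ⟨hHc hg.1, hg.2⟩
    exact ⟨hg.1, this.2⟩

omit [FaithfulSMul G Ω] in
/-- The blocks from the points of a block to an outside point give many points with the same stabiliser. -/
theorem grid {a b μ : Ω} (hab : a ≠ b) (hμ : μ ∉ block G a b) (R : Finset Ω)
    (hR : ∀ ν, (st3 a b ν : Subgroup G) = st3 a b μ → ν ∈ R) :
    (block G a b).card * ((block G a b).card - 2) + 1 ≤ R.card := by
  classical
  set B := block G a b with hB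
  let P : Ω → Finset Ω := fun c => ((block G c μ).erase μ).erase c
  have hne : ∀ c ∈ B, c ≠ μ := fun c hc e => hμ (e ▸ hc)
  have hP : ∀ c ∈ B, (P c).card = B.card - 2 := by
    intro c hc
    show (((block G c μ).erase μ).erase c).card = _
    rw [Finset.card_erase_of_mem (Finset.mem_erase.2 ⟨hne c hc, left_mem_block c μ⟩),
      Finset.card_erase_of_mem (right_mem_block c μ), card_block ht hab (hne c hc), ← hB]
    omega
  have hdisj : (B : Set Ω).PairwiseDisjoint P := by
    intro c hc c' hc' hcc
    show Disjoint (P c) (P c')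
    rw [Finset.disjoint_left]
    intro ν h1 h2
    simp only [P, Finset.mem_erase] at h1 h2
    have e1 := block_eq_of_mem ht (hne c hc) h1.2.1 h1.2.2 (right_mem_block c μ)
    have e2 := block_eq_of_mem ht (hne c' hc') h2.2.1 h2.2.2 (right_mem_block c' μ)
    have hc'm : c' ∈ block G c μ := by rw [← e1, e2]; exact left_mem_block _ _
    have e3 := block_eq_of_mem ht (hne c hc) hcc (left_mem_block c μ) hc'm
    rw [block_eq_of_mem ht hab hcc hc hc'] at e3
    exact hμ (by rw [hB, e3]; exact right_mem_block c μ)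
  have hsub : B.biUnion P ⊆ R.erase μ := by
    intro ν hν
    obtain ⟨c, hc, h⟩ := Finset.mem_biUnion.1 hν
    simp only [P, Finset.mem_erase] at h
    exact Finset.mem_erase.2 ⟨h.2.1, hR ν (st3_eq_of_block ht hab hc hμ h.2.2 h.1)⟩
  have h := Finset.card_le_card hsub
  rw [Finset.card_biUnion hdisj, Finset.sum_const_nat hP, Finset.card_erase_of_mem (hR μ rfl)] at h
  have h1 : 0 < R.card := Finset.card_pos.2 ⟨μ, hR μ rfl⟩
  omega

omit [FaithfulSMul G Ω] in
theorem two_le_block {a b : Ω} (hab : a ≠ b) : 2 ≤ (block G a b).card := by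
  classical
  have := Finset.card_le_card (s := ({a, b} : Finset Ω)) (t := block G a b) (fun c hc => by
    simp only [Finset.mem_insert, Finset.mem_singleton] at hc
    rcases hc with rfl | rfl
    exacts [left_mem_block _ _, right_mem_block _ _])
  rwa [Finset.card_pair hab] at this

omit [FaithfulSMul G Ω] in
/-- The points with the stabiliser of a given point of `big` have weight less than `F`. -/
theorem same_weight {a b μ : Ω} (hab : a ≠ b) (hf : Fail G a b) (hμ : μ ∈ big G a b) :
    ((block G a b).card * ((block G a b).card - 2) + 1) * ((orb G a b μ).card - 2) <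
      (block G a b).card * (orb G a b μ).card := by
  classical
  have hw := weight hf
  set h := Nat.card (st2 a b : Subgroup G) with hh
  set l := (orb G a b μ).card with hl
  set k := Nat.card (st3 a b μ : Subgroup G) with hk
  have hlk : l * k = h := card_orb_mul a b μ
  let R := Finset.univ.filter fun ν : Ω => (st3 a b ν : Subgroup G) = st3 a b μ
  have hR : R ⊆ big G a b := fun ν hν => by
    rw [mem_big, (Finset.mem_filter.1 hν).2]; exact mem_big.1 hμ
  have hg := grid ht hab (not_block_of_big hμ) R fun ν hν => Finset.mem_filter.2 ⟨Finset.mem_univ _, hν⟩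
  have h1 : R.card * (h - 2 * k) < (block G a b).card * (h - 1) := by
    refine lt_of_le_of_lt ?_ hw
    rw [← smul_eq_mul, ← Finset.sum_const]
    refine le_trans (le_of_eq (Finset.sum_congr rfl fun ν hν => ?_)) (Finset.sum_le_sum_of_subset hR)
    rw [(Finset.mem_filter.1 hν).2]
  rw [show h - 2 * k = (l - 2) * k by rw [Nat.sub_mul, hlk]] at h1
  have h2 : R.card * (l - 2) * k < (block G a b).card * l * k := by
    rw [mul_assoc, mul_assoc, hlk]
    exact lt_of_lt_of_le h1 (Nat.mul_le_mul_left _ (Nat.sub_le _ _))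
  exact lt_of_le_of_lt (Nat.mul_le_mul_right _ hg) (Nat.lt_of_mul_lt_mul_right h2)

omit [FaithfulSMul G Ω] in
/-- A large block is impossible. -/
theorem block_le_four {a b μ : Ω} (hab : a ≠ b) (hf : Fail G a b) (hμ : μ ∈ big G a b) :
    (block G a b).card ≤ 4 := by
  have h := same_weight ht hab hf hμ
  have hl := three_le_orb hμ
  by_contra hF
  obtain ⟨F, hF'⟩ : ∃ F, (block G a b).card = F + 5 := ⟨(block G a b).card - 5, by omega⟩
  obtain ⟨l, hl'⟩ : ∃ l, (orb G a b μ).card = l + 3 := ⟨(orb G a b μ).card - 3, by omega⟩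
  rw [hF', hl', show F + 5 - 2 = F + 3 by omega, show l + 3 - 2 = l + 1 by omega] at h
  have h1 : l + 3 ≤ (F + 3) * (l + 1) := by nlinarith
  have h2 := Nat.mul_le_mul_left (F + 5) h1
  nlinarith

omit [FaithfulSMul G Ω] ht in
theorem orb_disjoint {a b c d : Ω} (h : d ∉ orb G a b c) : Disjoint (orb G a b c) (orb G a b d) := by
  rw [Finset.disjoint_left]
  intro e he he'
  refine h ?_
  rw [← orb_eq_of_mem he, orb_eq_of_mem he']
  exact self_mem_orb a b d

omit [FaithfulSMul G Ω] ht in
theorem orbit_weight {a b μ : Ω} (hf : Fail G a b) (hμ : μ ∈ big G a b) :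
    ((orb G a b μ).card - 2) < (block G a b).card := by
  have hw := lt_of_le_of_lt (Finset.sum_le_sum_of_subset (orb_subset_big hμ)) (weight hf)
  rw [orb_mul_weight] at hw
  exact Nat.lt_of_mul_lt_mul_right (lt_of_lt_of_le hw (Nat.mul_le_mul_left _ (Nat.sub_le _ _)))

omit [FaithfulSMul G Ω] ht in
theorem orbit_weight_two {a b μ ν : Ω} (hf : Fail G a b) (hμ : μ ∈ big G a b) (hν : ν ∈ big G a b)
    (hne : ν ∉ orb G a b μ) :
    ((orb G a b μ).card - 2) + ((orb G a b ν).card - 2) < (block G a b).card := by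
  classical
  have hsub := Finset.union_subset (orb_subset_big (G := G) hμ) (orb_subset_big (G := G) hν)
  have hw := lt_of_le_of_lt (Finset.sum_le_sum_of_subset hsub) (weight hf)
  rw [Finset.sum_union (orb_disjoint hne), orb_mul_weight, orb_mul_weight, ← Nat.add_mul] at hw
  exact Nat.lt_of_mul_lt_mul_right (lt_of_lt_of_le hw (Nat.mul_le_mul_left _ (Nat.sub_le _ _)))

omit [FaithfulSMul G Ω] ht in
/-- An element of order three of a two-point stabiliser fixes every point outside `big`. -/
theorem fix_of_order_three {a b c : Ω} {x : G} (hx : x ∈ (st2 a b : Subgroup G)) (ho : orderOf x = 3)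
    (hc : c ∉ big G a b) : x • c = c := by
  have h2 := sq_fix hc hx
  have h3 : x • x • x • c = c := by
    rw [← mul_smul, ← mul_smul, show x * x * x = x ^ 3 from (pow_three' x).symm, ← ho, pow_orderOf_eq_one, one_smul]
  rwa [h2] at h3

omit [FaithfulSMul G Ω] ht in
theorem exists_order_three {a b μ : Ω} (h : 3 * Nat.card (st3 a b μ : Subgroup G) = Nat.card (st2 a b : Subgroup G)) :
    ∃ x ∈ (st2 a b : Subgroup G), orderOf x = 3 := by
  haveI : Fact (Nat.Prime 3) := ⟨Nat.prime_three⟩
  obtain ⟨x, hx⟩ := exists_prime_orderOf_dvd_card' (G := (st2 a b : Subgroup G)) 3 ⟨_, h.symm⟩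
  exact ⟨x, x.2, (Subgroup.orderOf_coe x).trans hx⟩

omit ht in
theorem moved_card {a b : Ω} {x : G} (hx : x ∈ (st2 a b : Subgroup G)) (ho : orderOf x = 3) :
    3 ≤ Fintype.card Ω - (fix Ω x).card ∧ 3 ∣ Fintype.card Ω - (fix Ω x).card := by
  haveI : Fact (Nat.Prime 3) := ⟨Nat.prime_three⟩
  have hm := card_mod_fix (Ω := Ω) ho
  obtain ⟨μ, hμ⟩ := exists_moved (Ω := Ω) (fun e => by rw [e, orderOf_one] at ho; omega : x ≠ 1)
  have : (fix Ω x).card < Fintype.card Ω := Finset.card_lt_univ_of_notMem fun e => hμ (mem_fix.1 e)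
  omega

variable (hn : 7 ≤ Fintype.card Ω)
include hn

/-- Blocks of two points are impossible. -/
theorem block_two {a b μ : Ω} (hab : a ≠ b) (hf : Fail G a b) (h3 : 3 ≤ Nat.card (st2 a b : Subgroup G))
    (hμ : μ ∈ big G a b) (hF : (block G a b).card = 2) : False := by
  classical
  have hcard : ∀ p q : Ω, p ≠ q → (big G p q).card = 3 ∧
      ∀ ν ∈ big G p q, 3 * Nat.card (st3 p q ν : Subgroup G) = Nat.card (st2 p q : Subgroup G) := by
    intro p q hpq
    have hf' := fail_transfer ht hab hpq hf
    obtain ⟨ρ, hρ⟩ := big_nonempty ht hpq (by rw [card_st2 ht hab hpq]; exact h3)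
    have hF' : (block G p q).card = 2 := (card_block ht hab hpq).trans hF
    have hl : ∀ ν ∈ big G p q, (orb G p q ν).card = 3 := fun ν hν => by
      have := three_le_orb (G := G) hν; have := orbit_weight hf' hν; omega
    have heq : big G p q = orb G p q ρ := by
      refine (Finset.Subset.antisymm (fun ν hν => ?_) (orb_subset_big hρ))
      by_contra hne
      have := orbit_weight_two hf' hρ hν hne
      rw [hl ρ hρ, hl ν hν] at this; omega
    exact ⟨by rw [heq, hl ρ hρ], fun ν hν => by rw [← hl ν hν]; exact card_orb_mul p q ν⟩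
  obtain ⟨hT3, hK⟩ := hcard a b hab
  obtain ⟨x, hxH, hxo⟩ := exists_order_three (hK μ hμ)
  set T := big G a b with hT
  have hTeq : ∀ p q : Ω, p ≠ q → x • p = p → x • q = q → ∀ c, c ∈ big G p q ↔ x • c ≠ c := by
    intro p q hpq hp hq
    have hsub : Finset.univ \ fix Ω x ⊆ big G p q := by
      intro c hc
      rw [Finset.mem_sdiff, mem_fix] at hc
      by_contra hb
      exact hc.2 (fix_of_order_three ⟨hp, hq⟩ hxo hb)
    have hm := moved_card hxH hxo
    have heq := Finset.eq_of_subset_of_card_le hsub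
      (by rw [(hcard p q hpq).1, Finset.card_univ_diff]; exact hm.1)
    intro c
    rw [← heq, Finset.mem_sdiff, mem_fix]; simp
  have hmem : ∀ c, c ∈ T ↔ x • c ≠ c := hTeq a b hab hxH.1 hxH.2
  have hsym : ∀ p q c : Ω, p ≠ q → p ≠ c → (q ∈ big G p c ↔ c ∈ big G p q) := by
    intro p q c hpq hpc
    rw [mem_big, mem_big, card_st2 ht hab hpc, card_st2 ht hab hpq,
      show (st3 p c q : Subgroup G) = st3 p q c by unfold st3 st2; ac_rfl]
  -- the set `big` of a fixed and a moved point
  have hΦ : ∀ p ν, x • p = p → ν ∈ T → ∀ q, q ∈ big G p ν ↔ (q ≠ p ∧ x • q = q) := by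
    intro p ν hp hν
    have hpν : p ≠ ν := fun e => (hmem ν).1 hν (e ▸ hp)
    have hsub : (Finset.univ \ T).erase p ⊆ big G p ν := by
      intro q hq
      rw [Finset.mem_erase, Finset.mem_sdiff] at hq
      have hq' : x • q = q := not_not.1 fun e => hq.2.2 ((hmem q).2 e)
      rw [hsym p q ν hq.1.symm hpν, hTeq p q hq.1.symm hp hq']
      exact (hmem ν).1 hν
    have hpT : p ∈ Finset.univ \ T := Finset.mem_sdiff.2 ⟨Finset.mem_univ _, fun e => (hmem p).1 e hp⟩
    have heq := Finset.eq_of_subset_of_card_le hsub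
      (by rw [(hcard p ν hpν).1, Finset.card_erase_of_mem hpT, Finset.card_univ_diff, hT3]; omega)
    intro q
    rw [← heq, Finset.mem_erase, Finset.mem_sdiff, hmem]; simp
  obtain ⟨ν, hν⟩ := Finset.exists_mem_ne (show 1 < T.card by omega) μ
  have hμν : μ ≠ ν := hν.2.symm
  have hsub : big G μ ν ⊆ (T.erase μ).erase ν := by
    intro q hq
    have hqμ : q ≠ μ := fun e => not_block_of_big hq (by rw [e]; exact left_mem_block μ ν)
    have hqν : q ≠ ν := fun e => not_block_of_big hq (by rw [e]; exact right_mem_block μ ν)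
    refine Finset.mem_erase.2 ⟨hqν, Finset.mem_erase.2 ⟨hqμ, (hmem q).2 fun hq' => ?_⟩⟩
    have h1 : ν ∈ big G q μ := by
      have := mem_big.1 hq
      rw [mem_big, card_st2 ht hab hqμ, st3_rot]
      rwa [card_st2 ht hab hμν] at this
    exact (hmem ν).1 hν.1 ((hΦ q μ hq' hμ ν).1 h1).2
  have := Finset.card_le_card hsub
  rw [(hcard μ ν hμν).1, Finset.card_erase_of_mem (Finset.mem_erase.2 ⟨hν.2, hν.1⟩),
    Finset.card_erase_of_mem hμ, hT3] at this
  omega

/-- If all orbits in `big` have three points, the blocks have fewer than three points. -/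
theorem all_three {a b μ : Ω} (hab : a ≠ b) (hf : Fail G a b) (hμ : μ ∈ big G a b)
    (hF : (block G a b).card = 3 ∨ (block G a b).card = 4)
    (hl : ∀ ν ∈ big G a b, (orb G a b ν).card = 3) : False := by
  classical
  set h := Nat.card (st2 a b : Subgroup G) with hh
  set F := (block G a b).card with hFd
  set T := big G a b with hT
  have hK : ∀ ν ∈ T, 3 * Nat.card (st3 a b ν : Subgroup G) = h := fun ν hν => by
    rw [← hl ν hν]; exact card_orb_mul a b ν
  have hTF : T.card < 3 * F := by
    have hw := weight hf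
    rw [← hh, ← hFd, ← hT] at hw
    have : T.card * h ≤ 3 * ∑ c ∈ T, (h - 2 * Nat.card (st3 a b c : Subgroup G)) := by
      rw [Finset.mul_sum, ← smul_eq_mul, ← Finset.sum_const]
      exact Finset.sum_le_sum fun c hc => by have := hK c hc; omega
    have h1 : T.card * h < 3 * F * h := by
      have h2 := Nat.mul_le_mul_left F (Nat.sub_le h 1)
      rw [mul_assoc]; omega
    exact Nat.lt_of_mul_lt_mul_right h1
  obtain ⟨x, hxH, hxo⟩ := exists_order_three (hK μ hμ)
  have hm := moved_card hxH hxo
  have hsub : Finset.univ \ fix Ω x ⊆ T := by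
    intro c hc
    rw [Finset.mem_sdiff, mem_fix] at hc
    by_contra hb
    exact hc.2 (fix_of_order_three hxH hxo hb)
  have hMT := Finset.card_le_card hsub
  rw [Finset.card_univ_diff] at hMT
  obtain ⟨ρ, hρ⟩ := exists_moved (Ω := Ω) (fun e => by rw [e, orderOf_one] at hxo; omega : x ≠ 1)
  have hfb := fix_bound ht hab hρ
  rw [← hFd] at hfb
  have hBfix : block G a b ⊆ fix Ω x := block_subset_fix hxH
  have hΦB : fix Ω x = block G a b := by
    refine (Finset.Subset.antisymm (fun c hc => ?_) hBfix)
    by_contra hcB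
    have hb := fix_big ht hab hxH (mem_fix.1 hc) hcB
    rw [← hFd] at hb
    rcases hF with e | e <;> rw [e] at hfb hb hTF <;> norm_num at hb <;> omega
  rw [hΦB, ← hFd] at hfb hm hMT
  have hnF : (F = 3 ∧ Fintype.card Ω = 9) ∨ (F = 4 ∧ Fintype.card Ω = 13) := by
    obtain ⟨k, hk⟩ := hm.2
    rcases hF with e | e <;> rw [e] at hfb hTF hm hk hMT <;> norm_num at hfb <;> omega
  have hout : ∀ c, c ∉ block G a b → c ∈ T := fun c hc =>
    hsub (Finset.mem_sdiff.2 ⟨Finset.mem_univ _, fun e => hc (hΦB ▸ e)⟩)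
  -- a nontrivial element fixes no point outside the block
  have hone : ∀ c, c ∉ block G a b → Nat.card (st3 a b c : Subgroup G) = 1 := by
    intro c hc
    rw [Subgroup.card_eq_one, Subgroup.eq_bot_iff_forall]
    intro y hy
    by_contra hy1
    obtain ⟨σ, hσ⟩ := exists_moved (Ω := Ω) hy1
    have h1 := fix_bound ht hab hσ
    have h2 := fix_big ht hab hy.1 hy.2 hc
    rw [← hFd] at h1 h2
    rcases hnF with ⟨e, e'⟩ | ⟨e, e'⟩ <;> rw [e] at h1 h2 <;> norm_num at h1 h2 <;> omega
  have h33 : h = 3 := by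
    have h1 := hone μ (not_block_of_big hμ)
    have h2 := hK μ hμ
    omega
  have hσ : sig G a b = 3 * F + (Fintype.card Ω - F) := by
    rw [sig, ← Finset.sum_add_sum_compl (block G a b)]
    congr 1
    · rw [Finset.sum_const_nat (m := 3) fun c hc => ?_, ← hFd, mul_comm]
      rw [show (st3 a b c : Subgroup G) = st2 a b from inf_eq_left.2 (mem_block.1 hc)]; exact h33
    · rw [Finset.sum_const_nat (m := 1) fun c hc => hone c (Finset.mem_compl.1 hc),
        Finset.card_compl, mul_one]
  unfold Fail at hf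
  rw [← hh, h33, hσ] at hf
  rcases hnF with ⟨e, e'⟩ | ⟨e, e'⟩ <;> rw [e, e'] at hf <;> norm_num at hf

omit [FaithfulSMul G Ω] hn in
theorem four_case {a b μ : Ω} (hab : a ≠ b) (hf : Fail G a b) (hF : (block G a b).card = 3)
    (hμ : μ ∈ big G a b) (hl : (orb G a b μ).card ≠ 3) :
    4 * Nat.card (st3 a b μ : Subgroup G) = Nat.card (st2 a b : Subgroup G) ∧ (big G a b).card = 4 ∧
      ∀ ν ∈ big G a b, (st3 a b ν : Subgroup G) = st3 a b μ := by
  classical
  have h4 : (orb G a b μ).card = 4 := by
    have := three_le_orb (G := G) hμ; have := orbit_weight hf hμ; omega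
  have heq : big G a b = orb G a b μ := by
    refine Finset.Subset.antisymm (fun ν hν => ?_) (orb_subset_big hμ)
    by_contra hne
    have := orbit_weight_two hf hμ hν hne
    have := three_le_orb (G := G) hν
    omega
  refine ⟨by rw [← h4]; exact card_orb_mul a b μ, by rw [heq, h4], ?_⟩
  have hsub : (Finset.univ.filter fun ν : Ω => (st3 a b ν : Subgroup G) = st3 a b μ) ⊆ big G a b := by
    intro ν hν
    rw [mem_big, (Finset.mem_filter.1 hν).2]; exact mem_big.1 hμ
  have hg := grid ht hab (not_block_of_big hμ) _ fun ν hν =>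
    Finset.mem_filter.2 ⟨Finset.mem_univ ν, hν⟩
  rw [hF] at hg
  have he := Finset.eq_of_subset_of_card_le hsub (by rw [heq, h4]; exact hg)
  intro ν hν
  rw [← he] at hν
  exact (Finset.mem_filter.1 hν).2

/-- Blocks of three points with an orbit of four points are impossible. -/
theorem four {a b μ : Ω} (hab : a ≠ b) (hf : Fail G a b) (hF : (block G a b).card = 3)
    (hμ : μ ∈ big G a b) (hl : (orb G a b μ).card ≠ 3) : False := by
  classical
  obtain ⟨h4, hT4, hTall⟩ := four_case ht hab hf hF hμ hl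
  set h := Nat.card (st2 a b : Subgroup G) with hh
  set K := (st3 a b μ : Subgroup G) with hKd
  have haμ : a ≠ μ := fun e => not_block_of_big hμ (e ▸ left_mem_block a b)
  have hK' : (st3 a μ b : Subgroup G) = K := by rw [hKd]; unfold st3 st2; ac_rfl
  have hbμ : b ∈ big G a μ := by
    rw [mem_big, hK', card_st2 ht hab haμ, ← hh]
    have := mem_big.1 hμ; rwa [← hKd] at this
  have hl' : (orb G a μ b).card ≠ 3 := by
    intro e
    have := card_orb_mul (G := G) a μ b
    rw [e, hK', card_st2 ht hab haμ, ← hh, ← h4] at this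
    have : 0 < Nat.card K := Nat.card_pos
    omega
  obtain ⟨-, -, hTall'⟩ := four_case ht haμ (fail_transfer ht hab haμ hf)
    ((card_block ht hab haμ).trans hF) hbμ hl'
  have hfix : ∀ γ : Ω, K ≤ stabilizer G γ := by
    intro γ
    by_cases h1 : γ ∈ block G a b
    · exact (st3_le a b μ).trans (mem_block.1 h1)
    by_cases h2 : γ ∈ big G a b
    · rw [← hTall γ h2]; exact inf_le_right
    by_cases h3 : γ ∈ block G a μ
    · rw [← hK']; exact (st3_le a μ b).trans (mem_block.1 h3)
    by_cases h5 : γ ∈ big G a μ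
    · rw [← hK', ← hTall' γ h5]; exact inf_le_right
    have haγ : a ≠ γ := fun e => h1 (e ▸ left_mem_block a b)
    set P := (st3 a b γ : Subgroup G) with hP
    set Q := (st3 a μ γ : Subgroup G) with hQ
    have hcP : 2 * Nat.card P = h := two_mul_st3 h1 h2
    have hcQ : 2 * Nat.card Q = h := by
      rw [hh, ← card_st2 ht hab haμ]; exact two_mul_st3 h3 h5
    have hPL : P ≤ st2 a γ := fun k hk => ⟨hk.1.1, hk.2⟩
    have hQL : Q ≤ st2 a γ := fun k hk => ⟨hk.1.1, hk.2⟩
    have hPQ : P ⊓ Q ≤ K := fun k hk => ⟨hk.1.1, hk.2.1.2⟩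
    have r1 := relIndex_mul_card' hPL
    have r2 := relIndex_mul_card' hQL
    have r3 := relIndex_mul_card' (inf_le_left.trans hPL : P ⊓ Q ≤ st2 a γ)
    rw [card_st2 ht hab haγ, ← hh] at r1 r2 r3
    have hp2 : P.relIndex (st2 a γ) = 2 := Nat.eq_of_mul_eq_mul_right Nat.card_pos (r1.trans hcP.symm)
    have hq2 : Q.relIndex (st2 a γ) = 2 := Nat.eq_of_mul_eq_mul_right Nat.card_pos (r2.trans hcQ.symm)
    have r4 := Subgroup.relIndex_inf_le (H := P) (K := Q) (L := st2 a γ)
    rw [hp2, hq2] at r4
    have h5 : h ≤ 4 * Nat.card (P ⊓ Q : Subgroup G) := r3 ▸ Nat.mul_le_mul_right _ r4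
    have := Subgroup.eq_of_le_of_card_ge hPQ (by omega)
    rw [← this]
    exact inf_le_left.trans inf_le_right
  have hK1 : Nat.card K = 1 := by
    rw [Subgroup.card_eq_one, Subgroup.eq_bot_iff_forall]
    intro y hy
    by_contra hy1
    obtain ⟨σ, hσ⟩ := exists_moved (Ω := Ω) hy1
    exact hσ (hfix σ hy)
  have hh4 : h = 4 := by omega
  have hσ : sig G a b + 14 = 2 * Fintype.card Ω + 16 := by
    have hd : Disjoint (block G a b) (big G a b) :=
      Finset.disjoint_right.2 fun c hc => not_block_of_big hc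
    rw [sig, ← Finset.sum_add_sum_compl (block G a b ∪ big G a b), Finset.sum_union hd,
      Finset.sum_const_nat (s := block G a b) (m := 4) fun c hc => ?_,
      Finset.sum_const_nat (s := big G a b) (m := 1) fun c hc => ?_,
      Finset.sum_const_nat (s := (block G a b ∪ big G a b)ᶜ) (m := 2) fun c hc => ?_,
      Finset.card_compl, Finset.card_union_of_disjoint hd, hF, hT4]
    · omega
    · simp only [Finset.mem_compl, Finset.mem_union, not_or] at hc
      have := two_mul_st3 hc.1 hc.2
      omega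
    · rw [hTall c hc]; exact hK1
    · rw [show (st3 a b c : Subgroup G) = st2 a b from inf_eq_left.2 (mem_block.1 hc)]; exact hh4
  unfold Fail at hf
  rw [← hh, hh4] at hf
  norm_num at hf
  omega

/-- Two-point stabilisers of order two. -/
theorem not_fail_two {a b : Ω} (hab : a ≠ b) (h2 : Nat.card (st2 a b : Subgroup G) = 2) : ¬ Fail G a b := by
  classical
  haveI : Fact (Nat.Prime 2) := ⟨Nat.prime_two⟩
  have hF2 := two_le_block ht hab
  obtain ⟨x', hx'⟩ := exists_prime_orderOf_dvd_card' (G := (st2 a b : Subgroup G)) 2 (by rw [h2])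
  obtain ⟨x, hxH, hxo⟩ : ∃ x ∈ (st2 a b : Subgroup G), orderOf x = 2 :=
    ⟨x', x'.2, (Subgroup.orderOf_coe x').trans hx'⟩
  have hout : ∀ c, c ∉ block G a b → Nat.card (st3 a b c : Subgroup G) = 1 := fun c hc => by
    have := lt_st3_iff.2 hc
    have : 0 < Nat.card (st3 a b c : Subgroup G) := Nat.card_pos
    omega
  have hx1 : x ≠ 1 := fun e => by rw [e, orderOf_one] at hxo; omega
  have hΦ : fix Ω x = block G a b := by
    refine Finset.Subset.antisymm (fun c hc => ?_) (block_subset_fix hxH)
    by_contra hcB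
    have h1 := hout c hcB
    rw [Subgroup.card_eq_one, Subgroup.eq_bot_iff_forall] at h1
    exact hx1 (h1 x ⟨hxH, mem_fix.1 hc⟩)
  obtain ⟨μ, hμ⟩ := exists_moved (Ω := Ω) hx1
  have hfb := fix_bound ht hab hμ
  rw [hΦ] at hfb
  have hmod := card_mod_fix (Ω := Ω) hxo
  rw [hΦ] at hmod
  set F := (block G a b).card with hFd
  have hσ : sig G a b = 2 * F + (Fintype.card Ω - F) := by
    rw [sig, ← Finset.sum_add_sum_compl (block G a b)]
    congr 1
    · rw [Finset.sum_const_nat (m := 2) fun c hc => ?_, ← hFd, mul_comm]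
      rw [show (st3 a b c : Subgroup G) = st2 a b from inf_eq_left.2 (mem_block.1 hc)]; exact h2
    · rw [Finset.sum_const_nat (m := 1) fun c hc => hout c (Finset.mem_compl.1 hc),
        Finset.card_compl, mul_one]
  have hFn : F ≤ Fintype.card Ω := Finset.card_le_univ _
  unfold Fail
  rw [h2, hσ]
  norm_num
  rcases lt_or_ge F 4 with hF4 | hF4
  · rcases (show F = 2 ∨ F = 3 by omega) with e | e
    · omega
    · rw [e] at hmod hfb
      norm_num at hfb
      by_contra hc
      have hn7 : Fintype.card Ω = 7 := by omega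
      have hG : Nat.card G = 84 := by rw [card_group ht hab, hn7, h2]
      haveI : Fact (Nat.Prime 7) := ⟨by norm_num⟩
      let P : Sylow 7 G := default
      obtain ⟨k, hk⟩ := P.2.exists_card_eq
      have hmul := (P : Subgroup G).index_mul_card
      have hnd := P.not_dvd_index
      rw [hk, hG] at hmul
      have hk1 : k = 1 := by
        match k, hmul with
        | 0, hmul => exact absurd ⟨12, by omega⟩ hnd
        | 1, _ => rfl
        | (k + 2), hmul =>
          exfalso
          have : 49 ∣ 84 := ⟨(P : Subgroup G).index * 7 ^ k, by rw [← hmul]; ring⟩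
          omega
      rw [hk1] at hk hmul
      have hd := Sylow.card_dvd_index P
      rw [show (P : Subgroup G).index = 12 by omega] at hd
      have h17 := card_sylow_modEq_one 7 G
      have hle := Nat.le_of_dvd (by norm_num) hd
      have hS : Nat.card (Sylow 7 G) = 1 := by
        unfold Nat.ModEq at h17
        interval_cases hs : Nat.card (Sylow 7 G) <;> omega
      haveI : Subsingleton (Sylow 7 G) := (Nat.card_eq_one_iff_unique.1 hS).1
      have hN : (P : Subgroup G).Normal := Sylow.normal_of_subsingleton P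
      obtain ⟨z', hz'⟩ := exists_prime_orderOf_dvd_card' (G := (P : Subgroup G)) 7 (by rw [hk]; norm_num)
      obtain ⟨z, hzP, hzo⟩ : ∃ z ∈ (P : Subgroup G), orderOf z = 7 :=
        ⟨z', z'.2, (Subgroup.orderOf_coe z').trans hz'⟩
      have hPz : Subgroup.zpowers z = (P : Subgroup G) :=
        Subgroup.eq_of_le_of_card_ge (Subgroup.zpowers_le.2 hzP) (by rw [hk, Nat.card_zpowers, hzo]; norm_num)
      have hz1 : z • a ≠ a := by
        intro e
        have h1 : orderOf z ∣ Nat.card (stabilizer G a) := by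
          rw [← Nat.card_zpowers]; exact Subgroup.card_dvd_of_le (Subgroup.zpowers_le.2 e)
        rw [← card_st2_mul ht hab, hn7, h2, hzo] at h1
        omega
      have hfree : ∀ i : ℤ, z ^ i • a = a → z ^ i = 1 := by
        intro i hi
        by_contra hne
        have : z ∈ Subgroup.zpowers (z ^ i) := by
          have hle : Subgroup.zpowers (z ^ i) ≤ Subgroup.zpowers z :=
            Subgroup.zpowers_le.2 ⟨i, rfl⟩
          have hd : Nat.card (Subgroup.zpowers (z ^ i)) ∣ 7 := by
            rw [← hzo, ← Nat.card_zpowers]; exact Subgroup.card_dvd_of_le hle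
          rcases (Nat.dvd_prime (by norm_num : Nat.Prime 7)).1 hd with h1 | h1
          · rw [Nat.card_zpowers, orderOf_eq_one_iff] at h1; exact absurd h1 hne
          · rw [Subgroup.eq_of_le_of_card_ge hle (by rw [h1, Nat.card_zpowers, hzo])]
            exact Subgroup.mem_zpowers z
        exact hz1 (Subgroup.zpowers_le.2 (show z ^ i ∈ stabilizer G a from hi) this)
      have horb : ∀ c : Ω, ∃ i : ℤ, z ^ i • a = c := by
        intro c
        have hinj : Function.Injective fun g : Subgroup.zpowers z => (g : G) • a := by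
          rintro ⟨g, i, rfl⟩ ⟨g', j, rfl⟩ e
          apply Subtype.ext
          show z ^ i = z ^ j
          have : z ^ (-j + i) • a = a := by
            rw [zpow_add, mul_smul]
            show z ^ (-j) • (z ^ i • a) = a
            rw [show z ^ i • a = z ^ j • a from e, zpow_neg, inv_smul_smul]
          have := hfree _ this
          rw [zpow_add, zpow_neg, inv_mul_eq_one] at this
          exact this.symm
        have hbij : Function.Bijective fun g : Subgroup.zpowers z => (g : G) • a :=
          (Fintype.bijective_iff_injective_and_card _).2 ⟨hinj, by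
            rw [← Nat.card_eq_fintype_card, Nat.card_zpowers, hzo, hn7]⟩
        obtain ⟨⟨g, i, rfl⟩, hg⟩ := hbij.2 c
        exact ⟨i, hg⟩
      have hxx : x * x = 1 := by rw [← pow_two, ← hxo, pow_orderOf_eq_one]
      have hxi : x⁻¹ = x := inv_eq_of_mul_eq_one_right hxx
      obtain ⟨k', hk'⟩ : x * z * x⁻¹ ∈ Subgroup.zpowers z := by rw [hPz]; exact hN.conj_mem z hzP x
      have hk' : z ^ k' = x * z * x⁻¹ := hk'
      have hpow : ∀ i : ℤ, x * z ^ i * x⁻¹ = z ^ (k' * i) := fun i => by
        rw [← conj_zpow, ← hk', zpow_mul]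
      have hzz : z ^ (k' * k') = z := by
        rw [← hpow, hk', hxi, show x * (x * z * x) * x = (x * x) * z * (x * x) by group, hxx]; group
      have h7 : (7 : ℤ) ∣ (k' - 1) * (k' + 1) := by
        have : z ^ (k' * k' - 1) = 1 := by rw [zpow_sub, hzz, zpow_one, mul_inv_cancel]
        rw [← orderOf_dvd_iff_zpow_eq_one, hzo] at this
        rw [show (k' - 1) * (k' + 1) = k' * k' - 1 by ring]; exact_mod_cast this
      have hxa : x • a = a := hxH.1
      have hact : ∀ i : ℤ, x • (z ^ i • a) = z ^ (k' * i) • a := fun i => by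
        rw [← hpow, mul_smul, mul_smul, show x⁻¹ • a = a by rw [inv_smul_eq_iff, hxa]]
      rcases (Int.prime_iff_natAbs_prime.2 (by norm_num : Nat.Prime (7 : ℤ).natAbs)).dvd_or_dvd h7 with h | h
      · have hz : z ^ k' = z := by
          have : z ^ (k' - 1) = 1 := by rw [← orderOf_dvd_iff_zpow_eq_one, hzo]; exact_mod_cast h
          rwa [zpow_sub, zpow_one, mul_inv_eq_one] at this
        refine hμ ?_
        obtain ⟨i, rfl⟩ := horb μ
        rw [hact, zpow_mul, hz]
      · have hz : z ^ k' = z⁻¹ := by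
          have : z ^ (k' + 1) = 1 := by rw [← orderOf_dvd_iff_zpow_eq_one, hzo]; exact_mod_cast h
          rw [zpow_add, zpow_one] at this
          exact eq_inv_of_mul_eq_one_left this
        obtain ⟨i, hi⟩ := horb b
        have h1 := hact i
        rw [hi, hxH.2, zpow_mul, hz, inv_zpow] at h1
        have h3 : z ^ (2 * i) • a = a := by
          rw [two_mul, zpow_add, mul_smul, hi]
          conv_lhs => rw [h1, smul_inv_smul]
        have h4 := hfree _ h3
        rw [← orderOf_dvd_iff_zpow_eq_one, hzo] at h4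
        have h5 : z ^ i = 1 := by
          rw [← orderOf_dvd_iff_zpow_eq_one, hzo]
          omega
        rw [h5, one_smul] at hi
        exact hab hi
  · obtain ⟨f, hf⟩ : ∃ f, F = f + 4 := ⟨F - 4, by omega⟩
    rw [hf, show f + 4 - 2 = f + 2 by omega] at hfb
    have : 3 * F ≤ Fintype.card Ω := by nlinarith
    omega

/-- The moment criterion holds. -/
theorem not_fail {a b : Ω} (hab : a ≠ b) (h2 : 2 ≤ Nat.card (st2 a b : Subgroup G)) : ¬ Fail G a b := by
  intro hf
  rcases h2.eq_or_lt' with h | h
  · exact not_fail_two ht hn hab h hf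
  obtain ⟨μ, hμ⟩ := big_nonempty ht hab h
  have hF4 := block_le_four ht hab hf hμ
  have hF2 := two_le_block ht hab
  rcases (show (block G a b).card = 2 ∨ (block G a b).card = 3 ∨ (block G a b).card = 4 by omega) with e | e | e
  · exact block_two ht hn hab hf h hμ e
  · by_cases hl : ∀ ν ∈ big G a b, (orb G a b ν).card = 3
    · exact all_three ht hn hab hf hμ (Or.inl e) hl
    · simp only [not_forall] at hl
      obtain ⟨ν, hν, hl⟩ := hl
      exact four ht hn hab hf e hν hl
  · refine all_three ht hn hab hf hμ (Or.inr e) fun ν hν => ?_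
    have h3 := three_le_orb (G := G) hν
    have h4 := same_weight ht hab hf hν
    rw [e] at h4
    norm_num at h4
    omega

end H35.Der
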