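import Cfsg.Agent.H35.DerivedLinear

/-!
Derived length of Sylow subgroups of general linear groups over finite fields.
-/

set_option autoImplicit false
set_option linter.all false

namespace H35

open Subgroup

universe u v w

/-- Independent eigenspaces: `#s * d ≤ dim V`. -/
theorem card_mul_le_finrank {F : Type v} [Field F] {V : Type w} [AddCommGroup V] [Module F V]
    [FiniteDimensional F V] (f : Module.End F V) {ι : Type*} (s : Finset ι) (μ : ι → F)
    (hμ : Set.InjOn μ s) {d : ℕ} (hd : ∀ i ∈ s, d ≤ Module.finrank F (f.eigenspace (μ i))) :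
    s.card * d ≤ Module.finrank F V := by
  classical
  have hind := Module.End.eigenspaces_iSupIndep f
  suffices ∀ t : Finset ι, t ⊆ s → t.card * d ≤ Module.finrank F ↥(⨆ i ∈ t, f.eigenspace (μ i)) from
    (this s (Finset.Subset.refl s)).trans (Submodule.finrank_le _)
  intro t
  induction t using Finset.induction_on with
  | empty => simp
  | @insert a t ha ht =>
    intro hsub
    have ht' := ht ((Finset.subset_insert a t).trans hsub)
    rw [Finset.card_insert_of_notMem ha, add_mul, one_mul, Finset.iSup_insert]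
    set A := f.eigenspace (μ a)
    set B := ⨆ i ∈ t, f.eigenspace (μ i)
    have hdj : Disjoint A B := by
      refine (hind (μ a)).mono le_rfl (iSup₂_le fun i hi => ?_)
      refine le_iSup₂_of_le (μ i) (fun heq => ha ?_) le_rfl
      rwa [← hμ (hsub (Finset.mem_insert_of_mem hi)) (hsub (Finset.mem_insert_self a t)) heq]
    have h1 := Submodule.finrank_sup_add_finrank_inf_eq A B
    rw [hdj.eq_bot, finrank_bot, add_zero] at h1
    have : d ≤ Module.finrank F A := hd a (hsub (Finset.mem_insert_self a t))
    omega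

/-- A field automorphism fixing the entries of a matrix carries eigenspaces to eigenspaces. -/
theorem finrank_eigenspace_map {K : Type v} [Field K] {n : Type*} [Fintype n] [DecidableEq n]
    (φ : K ≃+* K) (A : Matrix n n K) (hA : A.map φ = A) (μ : K) :
    Module.finrank K (Module.End.eigenspace (Matrix.toLinAlgEquiv' A) (φ μ)) =
      Module.finrank K (Module.End.eigenspace (Matrix.toLinAlgEquiv' A) μ) := by
  set f : Module.End K (n → K) := Matrix.toLinAlgEquiv' A with hf
  have hcomm : ∀ v : n → K, f (φ ∘ v) = φ ∘ f v := by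
    intro v
    rw [hf, Matrix.toLinAlgEquiv'_apply, Matrix.toLinAlgEquiv'_apply]
    ext i
    have h := RingHom.map_mulVec (φ : K →+* K) A v i
    rw [show A.map (φ : K →+* K) = A from hA] at h
    simpa using h.symm
  have hmem : ∀ v : n → K, v ∈ f.eigenspace μ ↔ φ ∘ v ∈ f.eigenspace (φ μ) := by
    intro v
    rw [Module.End.mem_eigenspace_iff, Module.End.mem_eigenspace_iff, hcomm,
      show φ μ • (φ ∘ v) = φ ∘ (μ • v) by ext i; simp]
    exact (φ.injective.comp_left.eq_iff).symm
  let j : f.eigenspace μ ≃+ f.eigenspace (φ μ) :=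
    { toFun := fun v => ⟨φ ∘ (v : n → K), (hmem _).1 v.2⟩
      invFun := fun v => ⟨φ.symm ∘ (v : n → K), (hmem _).2 (by
        have : φ ∘ φ.symm ∘ (v : n → K) = v := by ext i; simp
        rw [this]; exact v.2)⟩
      left_inv := fun v => by apply Subtype.ext; ext i; simp
      right_inv := fun v => by apply Subtype.ext; ext i; simp
      map_add' := fun v w => by apply Subtype.ext; ext i; simp }
  have h := rank_eq_of_equiv_equiv φ j φ.bijective (fun r v => by apply Subtype.ext; ext i; simp [j])
  simp only [Module.finrank, h]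

set_option maxHeartbeats 1000000 in
/-- Upper bound for `p`-subgroups of `GL(n, q)`. -/
theorem derivedSeries_gl_le {p : ℕ} [Fact p.Prime] {P : Type u} [Group P] [Finite P]
    (hP : IsPGroup p P) {F : Type v} [Field F] [Fintype F] {q : ℕ} (hq : Fintype.card F = q)
    (hpq : ¬ p ∣ q) {n : ℕ} (ρ : P →* Matrix.GeneralLinearGroup (Fin n) F)
    (hρ : Function.Injective ρ) :
    derivedSeries P (Nat.log p (n / orderOf (q : ZMod p)) + 1) = ⊥ := by
  classical
  have hp := (Fact.out : p.Prime)
  by_contra hne
  set k := Nat.log p (n / orderOf (q : ZMod p)) + 1 with hk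
  set D := derivedSeries P k
  haveI : D.Normal := derivedSeries_normal P k
  -- a central element of order `p` inside
  obtain ⟨z, hzD, hzc, hz⟩ : ∃ z ∈ D, z ∈ Subgroup.center P ∧ orderOf z = p := by
    letI : MulAction P D := MulAction.compHom D (MulAut.conjNormal : P →* MulAut D)
    have hdvd : p ∣ Nat.card D := by
      obtain ⟨m, hm⟩ := IsPGroup.iff_card.mp (hP.to_subgroup D)
      rw [hm]
      refine dvd_pow_self p fun h0 => hne ?_
      rw [h0, pow_zero] at hm
      exact Subgroup.card_eq_one.mp hm
    obtain ⟨b, hb, hb1⟩ := hP.exists_fixed_point_of_prime_dvd_card_of_fixed_point D hdvd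
      (a := (1 : D)) (fun g => map_one ((MulAut.conjNormal : P →* MulAut D) g))
    have hbc : (b : P) ∈ Subgroup.center P := Subgroup.mem_center_iff.mpr fun g => by
      have h2 := congrArg Subtype.val (hb g)
      exact mul_inv_eq_iff_eq_mul.mp h2
    obtain ⟨m, hm⟩ := IsPGroup.iff_orderOf.mp hP (b : P)
    rcases m with _ | m
    · exact absurd (Subtype.ext (orderOf_eq_one_iff.mp (by simpa using hm)).symm) hb1
    · refine ⟨(b : P) ^ p ^ m, pow_mem b.2 _, pow_mem hbc _, ?_⟩
      rw [orderOf_pow_of_dvd (pow_ne_zero _ hp.ne_zero) (hm ▸ pow_dvd_pow p (Nat.le_succ m)), hm,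
        Nat.pow_div (Nat.le_succ m) hp.pos]
      simp
  let K := AlgebraicClosure F
  let σ : P →* Module.End K (Fin n → K) :=
    ((Matrix.toLinAlgEquiv' (R := K) (n := Fin n)).toMonoidHom.comp
      ((Units.coeHom (Matrix (Fin n) (Fin n) K)).comp (Matrix.GeneralLinearGroup.map (algebraMap F K)))).comp ρ
  have hσ : Function.Injective σ := by
    intro a b hab
    apply hρ
    have h1 := (Matrix.toLinAlgEquiv' (R := K) (n := Fin n)).injective hab
    apply Units.ext
    ext i j
    exact (algebraMap F K).injective (congrFun (congrFun h1 i) j)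
  obtain ⟨r, hr⟩ := CharP.exists F
  haveI := hr
  haveI : Fact r.Prime := ⟨CharP.char_is_prime F r⟩
  haveI : CharP K r := charP_of_injective_algebraMap (algebraMap F K).injective r
  obtain ⟨a, -, ha⟩ := FiniteField.card F r
  have hpK : (p : K) ≠ 0 := by
    intro h
    rw [CharP.cast_eq_zero_iff K r, Nat.prime_dvd_prime_iff_eq Fact.out hp] at h
    apply hpq
    rw [← hq, ha, h]
    exact dvd_pow_self p (PNat.ne_zero a)
  haveI : ExpChar K r := ExpChar.prime Fact.out
  haveI : PerfectRing K r := PerfectField.toPerfectRing r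
  -- an eigenvalue of `z` different from `1`
  obtain ⟨μ, y, hy, hy0, hμ1⟩ : ∃ μ : K, ∃ y, y ∈ (σ z).eigenspace μ ∧ y ≠ 0 ∧ μ ≠ 1 := by
    by_contra hall
    push Not at hall
    have hz1 : σ z = 1 := by
      refine LinearMap.ext fun v => ?_
      have hv : v ∈ ⨆ μ : K, (σ z).eigenspace μ := by rw [iSup_eigenspace_rep hpK hP σ z]; trivial
      induction hv using Submodule.iSup_induction' with
      | mem μ x hx =>
        rcases eq_or_ne x 0 with rfl | hx0
        · simp
        · have := hall μ x hx hx0
          rw [Module.End.mem_eigenspace_iff, this, one_smul] at hx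
          exact hx
      | zero => simp
      | add x y _ _ hx hy => simp only [map_add, hx, hy]
    have : z = 1 := hσ (hz1.trans (map_one σ).symm)
    rw [this, orderOf_one] at hz
    exact hp.one_lt.ne hz
  have hμp : μ ^ p = 1 := by
    have key : ∀ i : ℕ, σ (z ^ i) y = μ ^ i • y := by
      intro i
      induction i with
      | zero => simp
      | succ i ih =>
        rw [pow_succ', map_mul, Module.End.mul_apply, ih, map_smul, Module.End.mem_eigenspace_iff.1 hy,
          smul_smul, pow_succ]
    have h1 := key p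
    rw [← hz, pow_orderOf_eq_one, map_one, Module.End.one_apply, hz] at h1
    have h2 : (μ ^ p - 1) • y = 0 := by rw [sub_smul, ← h1, one_smul, sub_self]
    exact sub_eq_zero.1 ((smul_eq_zero.1 h2).resolve_right hy0)
  have hμo : orderOf μ = p := orderOf_eq_prime hμp hμ1
  set E := (σ z).eigenspace μ with hE
  set e := orderOf (q : ZMod p) with he
  -- the conjugate eigenspaces
  set φ : K ≃+* K := iterateFrobeniusEquiv K r a with hφ
  have hfix : ∀ x : F, φ (algebraMap F K x) = algebraMap F K x := by
    intro x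
    rw [hφ, iterateFrobeniusEquiv_def, ← ha, ← map_pow, FiniteField.pow_card]
  have hdim : ∀ i : ℕ, Module.finrank K ((σ z).eigenspace (μ ^ q ^ i)) = Module.finrank K E := by
    intro i
    induction i with
    | zero => rw [pow_zero, pow_one]
    | succ i ih =>
      rw [← ih]
      have hmap : φ (μ ^ q ^ i) = μ ^ q ^ (i + 1) := by
        rw [hφ, iterateFrobeniusEquiv_def, ← ha, hq, ← pow_mul, ← pow_succ]
      rw [← hmap]
      refine finrank_eigenspace_map φ _ ?_ _
      ext s t
      exact hfix _
  have hinjOn : Set.InjOn (fun i : ℕ => μ ^ q ^ i) (Finset.range e) := by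
    intro s hs t ht hst
    have hfin : IsOfFinOrder μ := orderOf_pos_iff.1 (by rw [hμo]; exact hp.pos)
    have h1 : q ^ s ≡ q ^ t [MOD p] := by
      have h0 := hfin.pow_eq_pow_iff_modEq.1 hst
      rwa [hμo] at h0
    rw [← ZMod.natCast_eq_natCast_iff, Nat.cast_pow, Nat.cast_pow] at h1
    exact pow_injOn_Iio_orderOf (Finset.mem_range.1 hs) (Finset.mem_range.1 ht) h1
  have hsum : e * Module.finrank K E ≤ n := by
    have h1 := card_mul_le_finrank (d := Module.finrank K E) (σ z) (Finset.range e)
      (fun i : ℕ => μ ^ q ^ i) hinjOn (fun i _ => le_of_eq (hdim i).symm)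
    rw [Finset.card_range, Module.finrank_fintype_fun_eq_card, Fintype.card_fin] at h1
    exact h1
  have he0 : 0 < e := by
    rw [he, orderOf_pos_iff]
    have hne0 : (q : ZMod p) ≠ 0 := fun h => hpq ((ZMod.natCast_eq_zero_iff q p).1 h)
    exact isOfFinOrder_iff_pow_eq_one.2
      ⟨p - 1, by have := hp.two_le; omega, ZMod.pow_card_sub_one_eq_one hne0⟩
  have hlog : Nat.log p (Module.finrank K E) + 1 ≤ k := by
    rw [hk]
    refine Nat.succ_le_succ (Nat.log_mono_right ?_)
    rw [Nat.le_div_iff_mul_le he0, mul_comm]; exact hsum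
  have hinv : ∀ g ∈ (⊤ : Subgroup P), ∀ v ∈ E, σ g v ∈ E := by
    intro g _ v hv
    rw [hE, Module.End.mem_eigenspace_iff] at hv ⊢
    rw [← Module.End.mul_apply, ← map_mul, ← Subgroup.mem_center_iff.mp hzc g, map_mul,
      Module.End.mul_apply, hv, map_smul]
  have hker := derivedSeries_le_ker_aux hpK (Module.finrank K E) E rfl P hP
    ((restrictRep σ ⊤ E hinv).comp (Subgroup.topEquiv (G := P)).symm.toMonoidHom)
    (derivedSeries_antitone P hlog hzD)
  have hfixy : σ z y = y :=
    congrArg Subtype.val (LinearMap.congr_fun (MonoidHom.mem_ker.1 hker) ⟨y, hy⟩)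
  rw [Module.End.mem_eigenspace_iff.1 hy] at hfixy
  have h2 : (μ - 1) • y = 0 := by rw [sub_smul, hfixy, one_smul, sub_self]
  exact hμ1 (sub_eq_zero.1 ((smul_eq_zero.1 h2).resolve_right hy0))

/-- The linear action of a wreath product. -/
def wreathRep {F : Type v} [Field F] {V : Type w} [AddCommGroup V] [Module F V] {W C : Type*}
    [Group W] [Group C] (ρ : W →* Module.End F V) : W ≀ᵣ C →* Module.End F (C → V) where
  toFun a :=
    { toFun := fun f x => ρ (a.left x) (f (a.right⁻¹ * x))
      map_add' := fun f g => by ext x; simp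
      map_smul' := fun c f => by ext x; simp }
  map_one' := by apply LinearMap.ext; intro f; ext x; simp
  map_mul' a b := by apply LinearMap.ext; intro f; ext x; simp [mul_assoc]

theorem wreathRep_injective {F : Type v} [Field F] {V : Type w} [AddCommGroup V] [Module F V]
    [Nontrivial V] {W C : Type*} [Group W] [Group C] (ρ : W →* Module.End F V)
    (hρ : Function.Injective ρ) : Function.Injective (wreathRep (C := C) ρ) := by
  classical
  rw [← MonoidHom.ker_eq_bot_iff, eq_bot_iff]
  intro a ha
  have key : ∀ (f : C → V) (x : C), ρ (a.left x) (f (a.right⁻¹ * x)) = f x := fun f x =>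
    congrFun (LinearMap.congr_fun (MonoidHom.mem_ker.1 ha) f) x
  have hr : a.right = 1 := by
    obtain ⟨v, hv⟩ := exists_ne (0 : V)
    by_contra h
    have h1 := key (Pi.single 1 v) 1
    rw [Pi.single_eq_same, mul_one, Pi.single_eq_of_ne (inv_ne_one.mpr h), map_zero] at h1
    exact hv h1.symm
  refine Subgroup.mem_bot.2 (RegularWreathProduct.ext ?_ hr)
  ext x
  apply hρ
  refine LinearMap.ext fun v => ?_
  have h1 := key (fun _ => v) x
  simpa using h1

/-- A `p`-subgroup of `GL(p ^ k * e, F)` of derived length above `k`. -/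
theorem exists_linear_pgroup_derived {p : ℕ} [Fact p.Prime] {F : Type v} [Field F] [Fintype F]
    {q : ℕ} (hq : Fintype.card F = q) {e : ℕ} (he : 0 < e) (hqe : (q : ZMod p) ^ e = 1) (k : ℕ) :
    ∃ (W : Type v) (_ : Group W) (_ : Finite W), IsPGroup p W ∧
      (∃ ρ : W →* Module.End F (Fin (p ^ k * e) → F), Function.Injective ρ) ∧ derivedSeries W k ≠ ⊥ := by
  classical
  have hp := (Fact.out : p.Prime)
  induction k with
  | zero =>
    have hdvd : p ∣ Nat.card (Matrix.GeneralLinearGroup (Fin e) F) := by
      rw [Matrix.card_GL_field, hq]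
      refine dvd_trans ?_ (Finset.dvd_prod_of_mem _ (Finset.mem_univ (⟨0, he⟩ : Fin e)))
      simp only [pow_zero]
      have h1 : ((1 : ℕ) : ZMod p) = ((q ^ e : ℕ) : ZMod p) := by simp [hqe]
      rw [ZMod.natCast_eq_natCast_iff] at h1
      refine (Nat.modEq_iff_dvd' ?_).1 h1
      exact Nat.one_le_pow _ _ (hq ▸ Fintype.card_pos)
    obtain ⟨g, hg⟩ := exists_prime_orderOf_dvd_card' p hdvd
    refine ⟨zpowers g, inferInstance, inferInstance, IsPGroup.of_card (n := 1) (by rw [Nat.card_zpowers, hg, pow_one]), ?_, ?_⟩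
    · rw [show p ^ 0 * e = e by simp]
      exact ⟨(Matrix.toLinAlgEquiv' (R := F) (n := Fin e)).toMonoidHom.comp
        ((Units.coeHom _).comp (zpowers g).subtype),
        (Matrix.toLinAlgEquiv' (R := F) (n := Fin e)).injective.comp
          (Units.val_injective.comp Subtype.val_injective)⟩
    · rw [derivedSeries_zero]
      intro h
      have h1 : Nat.card (⊤ : Subgroup (zpowers g)) = 1 := by rw [h]; simp
      rw [Subgroup.card_top, Nat.card_zpowers, hg] at h1
      exact hp.one_lt.ne' h1
  | succ k ih =>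
    obtain ⟨W, _, _, hW, ⟨ρ, hρ⟩, hne⟩ := ih
    haveI : NeZero p := ⟨hp.ne_zero⟩
    let C := ULift.{v} (Multiplicative (ZMod p))
    have hC : Nat.card C = p := by simp [C]
    haveI : Nontrivial C := Finite.one_lt_card_iff_nontrivial.mp (hC.symm ▸ hp.one_lt)
    haveI : NeZero (p ^ k * e) := ⟨(Nat.mul_pos (pow_pos hp.pos _) he).ne'⟩
    refine ⟨W ≀ᵣ C, inferInstance, inferInstance, ?_, ?_, wreath_derived_ne_bot hne⟩
    · obtain ⟨m, hm⟩ := IsPGroup.iff_card.mp hW
      exact IsPGroup.of_card (n := m * p + 1) (by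
        rw [RegularWreathProduct.card, hm, hC, pow_succ, pow_mul])
    · haveI : Fintype C := Fintype.ofFinite C
      have hfr : Module.finrank F (C → Fin (p ^ k * e) → F) = p ^ (k + 1) * e := by
        rw [Module.finrank_pi_fintype]
        simp only [Module.finrank_fintype_fun_eq_card, Fintype.card_fin, Finset.sum_const,
          Finset.card_univ, smul_eq_mul]
        rw [← Nat.card_eq_fintype_card, hC]; ring
      let L : (C → Fin (p ^ k * e) → F) ≃ₗ[F] (Fin (p ^ (k + 1) * e) → F) :=
        (Module.finBasisOfFinrankEq F _ hfr).equivFun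
      exact ⟨(L.conjAlgEquiv F).toMonoidHom.comp (wreathRep ρ),
        (L.conjAlgEquiv F).injective.comp (wreathRep_injective ρ hρ)⟩

/-- The lower bound for Sylow subgroups of `GL(n, q)`. -/
theorem derivedSeries_gl_ne_bot {p : ℕ} [Fact p.Prime] {F : Type v} [Field F] [Fintype F]
    {q : ℕ} (hq : Fintype.card F = q) {e : ℕ} (he : 0 < e) (hqe : (q : ZMod p) ^ e = 1) {n k : ℕ}
    (hn : p ^ k * e ≤ n) (P : Sylow p (Matrix.GeneralLinearGroup (Fin n) F)) :
    derivedSeries ↥(P : Subgroup (Matrix.GeneralLinearGroup (Fin n) F)) k ≠ ⊥ := by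
  classical
  obtain ⟨W, _, _, hW, ⟨ρ, hρ⟩, hne⟩ := exists_linear_pgroup_derived (p := p) hq he hqe k
  obtain ⟨r, rfl⟩ := Nat.exists_eq_add_of_le hn
  let m := p ^ k * e
  let ρ' : W →* Module.End F ((Fin m → F) × (Fin r → F)) :=
    { toFun := fun a => (ρ a).prodMap LinearMap.id
      map_one' := by simp [Module.End.one_eq_id]
      map_mul' := fun a b => by
        refine LinearMap.ext fun x => ?_
        simp [map_mul] }
  have hρ' : Function.Injective ρ' := fun a b hab => hρ (LinearMap.ext fun v =>
    congrArg Prod.fst (LinearMap.congr_fun hab (v, 0)))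
  let L : ((Fin m → F) × (Fin r → F)) ≃ₗ[F] (Fin (m + r) → F) :=
    (Module.finBasisOfFinrankEq F _ (by simp)).equivFun
  let τ : W →* Matrix (Fin (m + r)) (Fin (m + r)) F :=
    (Matrix.toLinAlgEquiv' (R := F) (n := Fin (m + r))).symm.toMonoidHom.comp
      ((L.conjAlgEquiv F).toMonoidHom.comp ρ')
  have hτ : Function.Injective τ :=
    (Matrix.toLinAlgEquiv' (R := F) (n := Fin (m + r))).symm.injective.comp
      ((L.conjAlgEquiv F).injective.comp hρ')
  let g : W →* Matrix.GeneralLinearGroup (Fin (m + r)) F := τ.toHomUnits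
  have hg : Function.Injective g := fun a b hab => hτ (congrArg Units.val hab)
  obtain ⟨Q, hQ⟩ := (hW.of_surjective g.rangeRestrict g.rangeRestrict_surjective :
    IsPGroup p g.range).exists_le_sylow
  let h : W →* ↥(P : Subgroup (Matrix.GeneralLinearGroup (Fin (m + r)) F)) :=
    (Q.equiv P).toMonoidHom.comp (g.codRestrict (Q : Subgroup _) fun w => hQ ⟨w, rfl⟩)
  have hh : Function.Injective h :=
    (Q.equiv P).injective.comp fun a b hab => hg (congrArg Subtype.val hab)
  intro hbot
  apply hne
  have h1 := map_derivedSeries_le_derivedSeries h k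
  rw [hbot, le_bot_iff, Subgroup.map_eq_bot_iff_of_injective _ hh] at h1
  exact h1

end H35
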