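import Mathlib

/-!
The generalized dihedral group of an abelian group.
-/

set_option autoImplicit false
set_option linter.all false

namespace H35.DA

universe v w

/-- Rotations and reflections indexed by an abelian group. -/
inductive GDih (A : Type v) : Type v
  | r : A → GDih A
  | sr : A → GDih A
  deriving DecidableEq

namespace GDih

variable {A : Type v} [AddCommGroup A]

def mul : GDih A → GDih A → GDih A
  | .r i, .r j => .r (i + j)
  | .r i, .sr j => .sr (j - i)
  | .sr i, .r j => .sr (i + j)
  | .sr i, .sr j => .r (j - i)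

def inv' : GDih A → GDih A
  | .r i => .r (-i)
  | .sr i => .sr i

instance : Group (GDih A) where
  mul := mul
  one := .r 0
  inv := inv'
  mul_assoc := by
    rintro (a | a) (b | b) (c | c) <;> show mul (mul _ _) _ = mul _ (mul _ _) <;> simp only [mul] <;>
      congr 1 <;> abel
  one_mul := by rintro (a | a) <;> show mul (.r 0) _ = _ <;> simp [mul]
  mul_one := by rintro (a | a) <;> show mul _ (.r 0) = _ <;> simp [mul]
  inv_mul_cancel := by rintro (a | a) <;> show mul (inv' _) _ = GDih.r 0 <;> simp [mul, inv']

@[simp] theorem r_mul_r (i j : A) : r i * r j = r (i + j) := rfl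
@[simp] theorem r_mul_sr (i j : A) : r i * sr j = sr (j - i) := rfl
@[simp] theorem sr_mul_r (i j : A) : sr i * r j = sr (i + j) := rfl
@[simp] theorem sr_mul_sr (i j : A) : sr i * sr j = r (j - i) := rfl
@[simp] theorem inv_r (i : A) : (r i)⁻¹ = r (-i) := rfl
@[simp] theorem inv_sr (i : A) : (sr i)⁻¹ = sr i := rfl
theorem r_zero : r (0 : A) = 1 := rfl
theorem one_def : (1 : GDih A) = r 0 := rfl
theorem sr_mul_self (i : A) : sr i * sr i = 1 := by rw [sr_mul_sr, sub_self]; rfl

def sumEquiv : A ⊕ A ≃ GDih A where
  toFun := Sum.elim r sr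
  invFun := fun | r i => Sum.inl i | sr i => Sum.inr i
  left_inv := by rintro (a | a) <;> rfl
  right_inv := by rintro (a | a) <;> rfl

instance [Fintype A] : Fintype (GDih A) := Fintype.ofEquiv _ sumEquiv

theorem card [Fintype A] : Fintype.card (GDih A) = 2 * Fintype.card A := by
  rw [Fintype.card_congr sumEquiv.symm, Fintype.card_sum, two_mul]

theorem nat_card [Fintype A] : Nat.card (GDih A) = 2 * Fintype.card A := by
  rw [Nat.card_eq_fintype_card, card]

/-- The hom out of a generalized dihedral group. -/
def lift {G : Type w} [Group G] (f : A → G) (a : G) (hf : ∀ i j, f (i + j) = f i * f j) (ha : a * a = 1)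
    (hinv : ∀ i, a * f i * a = (f i)⁻¹) : GDih A →* G where
  toFun
    | .r i => f i
    | .sr i => a * f i
  map_one' := by
    show f 0 = 1
    have h := hf 0 0
    rw [add_zero] at h
    exact mul_eq_left.1 h.symm
  map_mul' := by
    have h0 : f 0 = 1 := by
      have h := hf 0 0
      rw [add_zero] at h
      exact mul_eq_left.1 h.symm
    have hneg : ∀ i, (f i)⁻¹ = f (-i) := fun i =>
      inv_eq_of_mul_eq_one_right (by rw [← hf, add_neg_cancel, h0])
    have hswap : ∀ i, f i * a = a * f (-i) := fun i => by
      rw [← hneg, ← hinv, ← mul_assoc, ← mul_assoc, ha, one_mul]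
    rintro (i | i) (j | j)
    · exact hf i j
    · show a * f (j - i) = f i * (a * f j)
      rw [← mul_assoc, hswap, mul_assoc, ← hf, neg_add_eq_sub]
    · show a * f (i + j) = a * f i * f j
      rw [hf, mul_assoc]
    · show f (j - i) = a * f i * (a * f j)
      rw [mul_assoc a, ← mul_assoc (f i), hswap, mul_assoc a, ← mul_assoc a a, ha, one_mul, ← hf, neg_add_eq_sub]

end GDih

end H35.DA
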