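import Cfsg.Agent.H35.CycAbExc
import Cfsg.Agent.H35.GDih

/-!
No group has an involution with centralizer `D_{3^n} × C_2` (one class of involutions) in which
two non-commuting involutions always generate a subgroup of order divisible by three.
-/

set_option autoImplicit false
set_option maxHeartbeats 1000000
set_option linter.all false

open Cfsg
open scoped ComplexConjugate

namespace H35.DA

universe u v

abbrev E (A : Type v) [AddCommGroup A] : Type v := GDih A × DihedralGroup 1

/-- Elements with nontrivial rotation part taken from `X`. -/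
def rotSet {A : Type v} [AddCommGroup A] [Fintype A] [DecidableEq A] (X : Finset (A)) : Finset (E A) :=
  (X.map ⟨GDih.r, fun a b h => by simpa using h⟩) ×ˢ (Finset.univ : Finset (DihedralGroup 1))

theorem mem_rotSet {A : Type v} [AddCommGroup A] [Fintype A] [DecidableEq A] {X : Finset (A)} {m : E A} :
    m ∈ rotSet X ↔ ∃ i ∈ X, m.1 = GDih.r i := by
  simp only [rotSet, Finset.mem_product, Finset.mem_map, Finset.mem_univ, and_true,
    Function.Embedding.coeFn_mk]
  exact exists_congr fun i => and_congr_right fun _ => eq_comm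

theorem card_rotSet {A : Type v} [AddCommGroup A] [Fintype A] [DecidableEq A] (X : Finset (A)) : (rotSet X).card = X.card * 2 := by
  rw [rotSet, Finset.card_product, Finset.card_map, Finset.card_univ, DihedralGroup.card]

/-- The configuration. -/
structure Exc (G : Type u) [Group G] (A : Type v) [AddCommGroup A] [Fintype A] where
  red : A →+ ZMod 3
  red_surj : Function.Surjective red
  three : ∃ n, 0 < n ∧ (Fintype.card A) = 3 ^ n
  j : E A →* G
  inj : Function.Injective j
  cent : ∀ x : G, x * j (1, .sr 0) = j (1, .sr 0) * x → x ∈ j.range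
  ti : ∀ i : A, i ≠ 0 → ∀ h : G, h * j (.r i, 1) * h⁻¹ ∈ j.range → h ∈ j.range
  invol : ∀ s : G, s * s = 1 → s ≠ 1 → IsConj (j (1, .sr 0)) s
  pairs : ∀ s : G, s * s = 1 → ¬ s * j (1, .sr 0) = j (1, .sr 0) * s →
    ∃ (h : G) (i : A) (e : DihedralGroup 1), i ≠ 0 ∧
      j (1, .sr 0) * s = h * j (.r i, e) * h⁻¹
  odd_index : ¬ 2 ∣ j.range.index
  three_index : ¬ 3 ∣ j.range.index

variable {G : Type u} [Group G] [Fintype G] [DecidableEq G] {A : Type v} [AddCommGroup A] [Fintype A] [DecidableEq A]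

namespace Exc

/-- Reduction of a dihedral group modulo three. -/
def redHom (red : A →+ ZMod 3) : GDih A →* DihedralGroup 3 where
  toFun
    | .r i => .r (red i)
    | .sr i => .sr (red i)
  map_one' := by
    show DihedralGroup.r (red 0) = _
    simp
  map_mul' := by
    rintro (i | i) (k | k) <;> simp only [GDih.r_mul_r, GDih.r_mul_sr, GDih.sr_mul_r, GDih.sr_mul_sr,
      DihedralGroup.r_mul_r, DihedralGroup.r_mul_sr, DihedralGroup.sr_mul_r, DihedralGroup.sr_mul_sr, map_add, map_sub]

variable (S : Exc G A)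

/-- The distinguished involution. -/
def y : G := S.j (1, .sr 0)

/-- All involutions. -/
def invs (G : Type u) [Group G] [Fintype G] [DecidableEq G] : Finset G :=
  Finset.univ.filter fun t => t * t = 1 ∧ t ≠ 1

/-- The conjugates of a set. -/
def conjSet (T : Finset (E A)) : Finset G :=
  ((Finset.univ : Finset G) ×ˢ T).image fun p => p.1 * S.j p.2 * p.1⁻¹

theorem two_mul_ne {i : A} (hN : ∃ n, 0 < n ∧ (Fintype.card A) = 3 ^ n) (hi : i ≠ 0) : i + i ≠ 0 := by
  obtain ⟨n, -, hn⟩ := hN
  intro h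
  apply hi
  have h2 : addOrderOf i ∣ 2 := addOrderOf_dvd_of_nsmul_eq_zero (by rw [two_nsmul]; exact h)
  have h3 : addOrderOf i ∣ 3 ^ n := hn ▸ addOrderOf_dvd_card
  exact AddMonoid.addOrderOf_eq_one_iff.1
    (Nat.eq_one_of_dvd_coprimes (Nat.Coprime.pow_right n (by norm_num : Nat.Coprime 2 3)) h2 h3)

theorem rot_sq (i : A) (e : DihedralGroup 1) :
    ((GDih.r i, e) : E A) * (GDih.r i, e) = (GDih.r (i + i), 1) := by
  have : ∀ e : DihedralGroup 1, e * e = 1 := by decide
  rw [Prod.mk_mul_mk, GDih.r_mul_r, this]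

/-- The sets used are moved only by the centralizer. -/
theorem stay {X : Finset (A)} (hX : ∀ i ∈ X, i ≠ 0) {m : E A} (hm : m ∈ rotSet X) {h : G}
    (hh : h * S.j m * h⁻¹ ∈ S.j.range) : h ∈ S.j.range := by
  obtain ⟨i, hi, hm1⟩ := mem_rotSet.1 hm
  obtain ⟨a, e⟩ := m
  subst hm1
  refine S.ti (i + i) (two_mul_ne S.three (hX i hi)) h ?_
  rw [← rot_sq i e, map_mul,
    show h * (S.j (.r i, e) * S.j (.r i, e)) * h⁻¹ =
      (h * S.j (.r i, e) * h⁻¹) * (h * S.j (.r i, e) * h⁻¹) by group]
  exact mul_mem hh hh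

theorem rot_conj {X : Finset (A)} (hneg : ∀ i ∈ X, -i ∈ X) {m k : E A} (hm : m ∈ rotSet X) :
    k * m * k⁻¹ ∈ rotSet X := by
  obtain ⟨i, hi, h1⟩ := mem_rotSet.1 hm
  refine mem_rotSet.2 ?_
  rw [Prod.fst_mul, Prod.fst_mul, Prod.fst_inv, h1]
  rcases k.1 with l | l
  · exact ⟨i, hi, by simp [GDih.inv_r]⟩
  · exact ⟨-i, hneg i hi, by simp⟩

theorem card_conjSet {X : Finset (A)} (hX : ∀ i ∈ X, i ≠ 0) (hneg : ∀ i ∈ X, -i ∈ X) :
    (S.conjSet (rotSet X)).card * Nat.card S.j.range = Nat.card G * (X.card * 2) := by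
  classical
  rw [← card_rotSet, Nat.card_eq_fintype_card (α := G), ← Finset.card_univ, ← Finset.card_product]
  rw [Finset.card_eq_sum_card_image (fun p : G × E A => p.1 * S.j p.2 * p.1⁻¹)
    ((Finset.univ : Finset G) ×ˢ rotSet X)]
  rw [Finset.sum_const_nat (m := Nat.card S.j.range)]
  · rfl
  intro c hc
  obtain ⟨⟨z, m⟩, hzm, rfl⟩ := Finset.mem_image.1 hc
  have hm := (Finset.mem_product.1 hzm).2
  rw [Nat.card_congr (MonoidHom.ofInjective S.inj).toEquiv.symm, Nat.card_eq_fintype_card,
    ← Finset.card_univ]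
  symm
  refine Finset.card_bij (fun k _ => (z * S.j k, k⁻¹ * m * k)) (fun k _ => ?_) (fun a _ b _ hab => ?_)
    (fun p hp => ?_)
  · simp only [Finset.mem_filter, Finset.mem_product, Finset.mem_univ, true_and]
    refine ⟨?_, ?_⟩
    · have := rot_conj hneg (k := k⁻¹) hm
      rwa [inv_inv] at this
    · rw [map_mul, map_mul, map_inv]; group
  · exact S.inj (mul_left_cancel (congrArg Prod.fst hab))
  · simp only [Finset.mem_filter, Finset.mem_product, Finset.mem_univ, true_and] at hp
    obtain ⟨hp2, hpe⟩ := hp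
    have hin : p.1⁻¹ * z ∈ S.j.range := by
      refine S.stay hX hm (show p.1⁻¹ * z * S.j m * (p.1⁻¹ * z)⁻¹ ∈ S.j.range from ⟨p.2, ?_⟩)
      calc S.j p.2 = p.1⁻¹ * (p.1 * S.j p.2 * p.1⁻¹) * p.1 := by group
        _ = p.1⁻¹ * (z * S.j m * z⁻¹) * p.1 := by rw [hpe]
        _ = _ := by group
    obtain ⟨k, hk⟩ := hin
    refine ⟨k⁻¹, Finset.mem_univ _, Prod.ext ?_ (S.inj ?_)⟩
    · rw [map_inv, hk]; group
    · simp only [map_mul, map_inv, inv_inv, hk]
      calc p.1⁻¹ * z * S.j m * (p.1⁻¹ * z)⁻¹ = p.1⁻¹ * (z * S.j m * z⁻¹) * p.1 := by group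
        _ = p.1⁻¹ * (p.1 * S.j p.2 * p.1⁻¹) * p.1 := by rw [hpe]
        _ = S.j p.2 := by group

theorem y_inv : S.y ∈ invs G := by
  refine Finset.mem_filter.2 ⟨Finset.mem_univ _, ?_, fun h => ?_⟩
  · rw [y, ← map_mul, Prod.mk_mul_mk, one_mul, DihedralGroup.sr_mul_self, ← Prod.one_eq_mk, map_one]
  · have := S.inj (h.trans (map_one S.j).symm)
    simp [Prod.ext_iff] at this
    exact absurd this (by decide)

theorem cent_y : Nat.card {g : G // g * S.y = S.y * g} = Nat.card S.j.range := by
  refine Nat.card_congr (Equiv.subtypeEquivRight fun g => ⟨S.cent g, ?_⟩)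
  rintro ⟨k, rfl⟩
  show S.j k * S.j _ = S.j _ * S.j k
  rw [← map_mul, ← map_mul]
  congr 1
  have : ∀ e : DihedralGroup 1, e * .sr 0 = .sr 0 * e := by decide
  ext
  · simp
  · exact this k.2

theorem card_invs : (invs G).card * Nat.card S.j.range = Nat.card G := by
  classical
  have h := H12.card_conjClass_mul_card_centralizer S.y
  have e1 : Nat.card (Subgroup.centralizer ({S.y} : Set G)) = Nat.card S.j.range := by
    rw [← S.cent_y]
    exact Nat.card_congr (Equiv.subtypeEquivRight fun g => by simp [Subgroup.mem_centralizer_iff, eq_comm])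
  rw [e1] at h
  convert h using 3
  ext s
  simp only [invs, Finset.mem_filter, Finset.mem_univ, true_and]
  refine ⟨fun hs => S.invol s hs.1 hs.2, fun hs => ?_⟩
  obtain ⟨g, rfl⟩ := isConj_iff.1 hs
  obtain ⟨h1, h2⟩ := (Finset.mem_filter.1 S.y_inv).2
  refine ⟨?_, fun e => h2 (conj_eq_one_iff.1 e)⟩
  rw [show g * S.y * g⁻¹ * (g * S.y * g⁻¹) = g * (S.y * S.y) * g⁻¹ by group, h1]; group

theorem inverting {X : Finset (A)} (hX : ∀ i ∈ X, i ≠ 0) {m : E A} (hm : m ∈ rotSet X) :
    ((invs G).filter fun t => t * S.j m * t * S.j m = 1).card = (Fintype.card A) * 2 := by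
  classical
  obtain ⟨i, hi, hm1⟩ := mem_rotSet.1 hm
  obtain ⟨a, e⟩ := m
  subst hm1
  symm
  rw [show (Fintype.card A) * 2 = ((Finset.univ : Finset (A)) ×ˢ (Finset.univ : Finset (DihedralGroup 1))).card by
    rw [Finset.card_product, Finset.card_univ, Finset.card_univ, DihedralGroup.card]]
  have he1 : ∀ e : DihedralGroup 1, e * e = 1 := by decide
  refine Finset.card_bij (fun p _ => S.j (.sr p.1, p.2)) (fun p _ => ?_) (fun a _ b _ hab => ?_)
    (fun t ht => ?_)
  · simp only [Finset.mem_filter, invs, Finset.mem_univ, true_and]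
    refine ⟨⟨?_, fun h => ?_⟩, ?_⟩
    · rw [← map_mul, Prod.mk_mul_mk, GDih.sr_mul_self, he1, ← Prod.one_eq_mk, map_one]
    · have := S.inj (h.trans (map_one S.j).symm)
      simp [Prod.ext_iff, GDih.one_def] at this
    · rw [← map_mul, ← map_mul, ← map_mul]
      simp only [Prod.mk_mul_mk, GDih.sr_mul_r, GDih.sr_mul_sr, GDih.r_mul_r]
      rw [show p.2 * e * p.2 * e = (p.2 * e) * (p.2 * e) by simp only [mul_assoc], he1,
        show p.1 - (p.1 + i) + i = 0 by abel, GDih.r_zero, ← Prod.one_eq_mk, map_one]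
  · have := S.inj hab
    simpa [Prod.ext_iff] using this
  · simp only [Finset.mem_filter, invs, Finset.mem_univ, true_and] at ht
    obtain ⟨⟨ht2, htne⟩, hti⟩ := ht
    have htinv : t⁻¹ = t := inv_eq_of_mul_eq_one_right ht2
    have hconj : t * S.j (.r i, e) * t⁻¹ = (S.j (.r i, e))⁻¹ := by
      rw [htinv]; exact eq_inv_of_mul_eq_one_left hti
    obtain ⟨k, rfl⟩ := S.stay hX hm (h := t) (by rw [hconj]; exact ⟨_, map_inv S.j _⟩)
    have hk : k * (.r i, e) * k * (.r i, e) = 1 := S.inj (by simpa using hti)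
    have hk2 : k * k = 1 := S.inj (by simpa using ht2)
    obtain ⟨k1, k2⟩ := k
    simp only [Prod.mk_mul_mk, Prod.mk_eq_one] at hk hk2
    rcases k1 with l | l
    · exfalso
      obtain ⟨h1, -⟩ := hk
      obtain ⟨h2, -⟩ := hk2
      simp only [GDih.r_mul_r, GDih.one_def, GDih.r.injEq] at h1 h2
      refine two_mul_ne S.three (hX i hi) ?_
      rw [show i + i = (l + i + l + i) - (l + l) by abel, h1, h2, sub_zero]
    · exact ⟨(l, k2), Finset.mem_product.2 ⟨Finset.mem_univ _, Finset.mem_univ _⟩, rfl⟩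

/-- The number of involutions whose product with `y` lies in the set. -/
theorem count_pairs {X : Finset (A)} (hX : ∀ i ∈ X, i ≠ 0) (hneg : ∀ i ∈ X, -i ∈ X) :
    ((invs G).filter fun s => S.y * s ∈ S.conjSet (rotSet X)).card = X.card * 2 * ((Fintype.card A) * 2) := by
  classical
  set C := S.conjSet (rotSet X) with hC
  have hCconj : ∀ g c : G, c ∈ C → g * c * g⁻¹ ∈ C := by
    intro g c hc
    obtain ⟨⟨z, m⟩, hzm, rfl⟩ := Finset.mem_image.1 hc
    exact Finset.mem_image.2 ⟨(g * z, m), Finset.mem_product.2 ⟨Finset.mem_univ _, (Finset.mem_product.1 hzm).2⟩,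
      by group⟩
  have hIconj : ∀ g t : G, t ∈ invs G → g * t * g⁻¹ ∈ invs G := by
    intro g t ht
    simp only [invs, Finset.mem_filter, Finset.mem_univ, true_and] at ht ⊢
    refine ⟨?_, fun e => ht.2 (conj_eq_one_iff.1 e)⟩
    rw [show g * t * g⁻¹ * (g * t * g⁻¹) = g * (t * t) * g⁻¹ by group, ht.1]; group
  have hsame : ∀ t ∈ invs G, ((invs G).filter fun s => t * s ∈ C).card =
      ((invs G).filter fun s => S.y * s ∈ C).card := by
    intro t ht
    obtain ⟨g, hg⟩ := isConj_iff.1 (S.invol t (Finset.mem_filter.1 ht).2.1 (Finset.mem_filter.1 ht).2.2)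
    have hg' : g * S.y * g⁻¹ = t := hg
    subst hg'
    refine Finset.card_bij (fun s _ => g⁻¹ * s * g) (fun s hs => ?_) (fun a _ b _ hab => ?_) (fun s hs => ?_)
    · simp only [Finset.mem_filter] at hs ⊢
      refine ⟨by simpa using hIconj g⁻¹ s hs.1, ?_⟩
      have := hCconj g⁻¹ _ hs.2
      rw [show g⁻¹ * (g * S.y * g⁻¹ * s) * g⁻¹⁻¹ = S.y * (g⁻¹ * s * g) by group] at this
      exact this
    · exact mul_left_cancel (mul_right_cancel hab)
    · simp only [Finset.mem_filter] at hs ⊢
      refine ⟨g * s * g⁻¹, ⟨hIconj g s hs.1, ?_⟩, by group⟩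
      rw [show g * S.y * g⁻¹ * (g * s * g⁻¹) = g * (S.y * s) * g⁻¹ by group]
      exact hCconj g _ hs.2
  have hpairs : ∑ t ∈ invs G, ((invs G).filter fun s => t * s ∈ C).card =
      ∑ c ∈ C, ((invs G).filter fun t => t * c * t * c = 1).card := by
    rw [← Finset.card_sigma, ← Finset.card_sigma]
    refine Finset.card_bij (fun p _ => ⟨p.1 * p.2, p.1⟩) (fun p hp => ?_) (fun a _ b _ hab => ?_) (fun q hq => ?_)
    · simp only [Finset.mem_sigma, Finset.mem_filter] at hp ⊢
      obtain ⟨ht, hs, hc⟩ := hp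
      refine ⟨hc, ht, ?_⟩
      rw [show p.1 * (p.1 * p.2) * p.1 * (p.1 * p.2) = (p.1 * p.1) * p.2 * (p.1 * p.1) * p.2 by group,
        (Finset.mem_filter.1 ht).2.1, one_mul, mul_one, (Finset.mem_filter.1 hs).2.1]
    · obtain ⟨t, s⟩ := a
      obtain ⟨t', s'⟩ := b
      simp only [Sigma.mk.injEq, heq_eq_eq] at hab ⊢
      exact ⟨hab.2, mul_left_cancel (hab.2 ▸ hab.1 : t' * s = t' * s')⟩
    · obtain ⟨c, t⟩ := q
      simp only [Finset.mem_sigma, Finset.mem_filter] at hq ⊢
      obtain ⟨hc, ht, hinv⟩ := hq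
      have ht' := (Finset.mem_filter.1 ht).2
      have hne : t * c ≠ 1 := by
        intro e
        obtain ⟨⟨z, m⟩, hzm, hzc⟩ := Finset.mem_image.1 hc
        have hct : c = t := by
          rw [← inv_eq_of_mul_eq_one_right ht'.1]; exact eq_inv_of_mul_eq_one_right e
        obtain ⟨i, hi, hm1⟩ := mem_rotSet.1 (Finset.mem_product.1 hzm).2
        have h1 : m * m = 1 := S.inj (by
          have : c * c = 1 := by rw [hct]; exact ht'.1
          rw [← hzc] at this
          rw [map_one, map_mul]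
          calc S.j m * S.j m = z⁻¹ * (z * S.j m * z⁻¹ * (z * S.j m * z⁻¹)) * z := by group
            _ = 1 := by rw [this]; group)
        have h2 := congrArg Prod.fst h1
        rw [Prod.fst_mul, hm1, GDih.r_mul_r, Prod.fst_one, GDih.one_def,
          GDih.r.injEq] at h2
        exact two_mul_ne S.three (hX i hi) h2
      refine ⟨⟨t, t * c⟩, ⟨ht, ?_, ?_⟩, ?_⟩
      · exact Finset.mem_filter.2 ⟨Finset.mem_univ _, by
          rw [show t * c * (t * c) = t * c * t * c by group]; exact hinv, hne⟩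
      · rw [← mul_assoc, ht'.1, one_mul]; exact hc
      · simp only [Sigma.mk.injEq, heq_eq_eq, and_true]
        rw [← mul_assoc, ht'.1, one_mul]
  rw [Finset.sum_congr rfl hsame, Finset.sum_const, smul_eq_mul] at hpairs
  rw [Finset.sum_const_nat (m := (Fintype.card A) * 2) (fun c hc => by
    obtain ⟨⟨z, m⟩, hzm, rfl⟩ := Finset.mem_image.1 hc
    rw [← S.inverting hX (Finset.mem_product.1 hzm).2]
    refine Finset.card_bij (fun t _ => z⁻¹ * t * z) (fun t ht => ?_) (fun a _ b _ hab => ?_) (fun t ht => ?_)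
    · simp only [Finset.mem_filter] at ht ⊢
      refine ⟨by simpa using hIconj z⁻¹ t ht.1, ?_⟩
      calc z⁻¹ * t * z * S.j m * (z⁻¹ * t * z) * S.j m
          = z⁻¹ * (t * (z * S.j m * z⁻¹) * t * (z * S.j m * z⁻¹)) * z := by group
        _ = 1 := by rw [ht.2]; group
    · exact mul_left_cancel (mul_right_cancel hab)
    · simp only [Finset.mem_filter] at ht ⊢
      refine ⟨z * t * z⁻¹, ⟨hIconj z t ht.1, ?_⟩, by group⟩
      calc z * t * z⁻¹ * (z * S.j m * z⁻¹) * (z * t * z⁻¹) * (z * S.j m * z⁻¹)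
          = z * (t * S.j m * t * S.j m) * z⁻¹ := by group
        _ = 1 := by rw [ht.2]; group)] at hpairs
  have h1 := S.card_conjSet hX hneg
  have h2 := S.card_invs
  have hH : 0 < Nat.card S.j.range := Nat.card_pos
  have hI : 0 < (invs G).card := Finset.card_pos.2 ⟨_, S.y_inv⟩
  refine Nat.eq_of_mul_eq_mul_left (Nat.mul_pos hI hH) ?_
  calc (invs G).card * Nat.card S.j.range * ((invs G).filter fun s => S.y * s ∈ C).card
      = ((invs G).card * ((invs G).filter fun s => S.y * s ∈ C).card) * Nat.card S.j.range := by ring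
    _ = (C.card * Nat.card S.j.range) * ((Fintype.card A) * 2) := by rw [hpairs]; ring
    _ = (invs G).card * Nat.card S.j.range * (X.card * 2 * ((Fintype.card A) * 2)) := by rw [h1, h2]; ring

theorem card_range : Nat.card S.j.range = 4 * (Fintype.card A) := by
  rw [Nat.card_congr (MonoidHom.ofInjective S.inj).toEquiv.symm, Nat.card_prod, GDih.nat_card,
    DihedralGroup.nat_card]
  ring

theorem index_eq : S.j.range.index = (invs G).card := by
  have h := S.card_invs
  rw [← S.j.range.card_mul_index, mul_comm] at h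
  exact (Nat.eq_of_mul_eq_mul_left Nat.card_pos h).symm

include S in
/-- The number of involutions is small. -/
theorem invs_bound : (invs G).card + 2 * (Fintype.card A) ≤ 4 * (Fintype.card A) * (Fintype.card A) + 1 := by
  classical
  set X : Finset (A) := Finset.univ.filter (· ≠ 0) with hX
  have hXc : X.card = (Fintype.card A) - 1 := by
    rw [hX, Finset.filter_ne', Finset.card_erase_of_mem (Finset.mem_univ _), Finset.card_univ]
  have h := S.count_pairs (X := X) (fun i hi => (Finset.mem_filter.1 hi).2)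
    (fun i hi => by simpa [hX] using hi)
  have hsub : (invs G).filter (fun s => ¬ S.y * s ∈ S.conjSet (rotSet X)) ⊆
      insert S.y (((Finset.univ : Finset (A)) ×ˢ (Finset.univ : Finset (DihedralGroup 1))).image
        fun p => S.j (.sr p.1, p.2)) := by
    intro s hs
    simp only [Finset.mem_filter, invs, Finset.mem_univ, true_and] at hs
    obtain ⟨⟨hs2, hs1⟩, hnot⟩ := hs
    by_cases hc : s * S.j (1, .sr 0) = S.j (1, .sr 0) * s
    · obtain ⟨k, rfl⟩ := S.cent s hc
      have hk : k * k = 1 := S.inj (by simpa using hs2)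
      have hk1 : k ≠ 1 := fun e => hs1 (by rw [e, map_one])
      obtain ⟨k1, k2⟩ := k
      rw [Prod.mk_mul_mk, Prod.mk_eq_one] at hk
      rcases k1 with i | i
      · have h0 : i = 0 := by
          have h1 := hk.1
          rw [GDih.r_mul_r, GDih.one_def, GDih.r.injEq] at h1
          by_contra hne
          exact two_mul_ne S.three hne h1
        subst h0
        refine Finset.mem_insert.2 (Or.inl ?_)
        have : ∀ e : DihedralGroup 1, e ≠ 1 → e = .sr 0 := by decide
        have h2 := this k2 fun e => hk1 (by rw [e, GDih.r_zero]; rfl)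
        rw [h2, GDih.r_zero]; rfl
      · exact Finset.mem_insert_of_mem (Finset.mem_image.2 ⟨(i, k2), by simp, rfl⟩)
    · exfalso
      obtain ⟨g, i, e, hi, he⟩ := S.pairs s hs2 hc
      exact hnot (Finset.mem_image.2 ⟨(g, (.r i, e)), Finset.mem_product.2 ⟨Finset.mem_univ _,
        mem_rotSet.2 ⟨i, Finset.mem_filter.2 ⟨Finset.mem_univ _, hi⟩, rfl⟩⟩, he.symm⟩)
  have h2 : ((invs G).filter (fun s => ¬ S.y * s ∈ S.conjSet (rotSet X))).card ≤ (Fintype.card A) * 2 + 1 := by
    refine (Finset.card_le_card hsub).trans ((Finset.card_insert_le _ _).trans ?_)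
    refine Nat.add_le_add_right (Finset.card_image_le.trans ?_) 1
    rw [Finset.card_product, Finset.card_univ, Finset.card_univ, DihedralGroup.card]
  have h3 := Finset.card_filter_add_card_filter_not (s := invs G) (fun s => S.y * s ∈ S.conjSet (rotSet X))
  rw [h, hXc] at h3
  obtain ⟨n, hn, hN⟩ := S.three
  have hN3 : 3 ≤ (Fintype.card A) := by rw [hN]; exact Nat.le_self_pow hn.ne' 3
  have : ((Fintype.card A) - 1) * 2 * ((Fintype.card A) * 2) + 4 * (Fintype.card A) = 4 * (Fintype.card A) * (Fintype.card A) := by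
    obtain ⟨k, hk⟩ : ∃ k, (Fintype.card A) = k + 1 := ⟨(Fintype.card A) - 1, by omega⟩
    rw [hk]; simp; ring
  omega

include S in
theorem false' : False := by
  classical
  obtain ⟨n, hn, hN⟩ := S.three
  set cast3 := S.red with hcast
  set X : Finset (A) := Finset.univ.filter fun i => cast3 i ≠ 0 with hXdef
  have hX : ∀ i ∈ X, i ≠ 0 := fun i hi e => (Finset.mem_filter.1 hi).2 (by simp [e])
  have hneg : ∀ i ∈ X, -i ∈ X := fun i hi => by simpa [hXdef] using hi
  have hXc : X.card * 3 = (Fintype.card A) * 2 := by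
    have hfib : ∀ a : ZMod 3, (Finset.univ.filter fun i : A => cast3 i = a).card * 3 = (Fintype.card A) := by
      intro a
      obtain ⟨b, hb⟩ := S.red_surj a
      have hsame : ∀ a', (Finset.univ.filter fun i : A => cast3 i = a').card =
          (Finset.univ.filter fun i : A => cast3 i = 0).card := by
        intro a'
        obtain ⟨b', hb'⟩ := S.red_surj a'
        refine Finset.card_bij (fun i _ => i - b') (fun i hi => ?_) (fun p _ q _ h => sub_left_inj.1 h)
          (fun i hi => ⟨i + b', ?_, by abel⟩)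
        · simp only [Finset.mem_filter, Finset.mem_univ, true_and] at hi ⊢
          rw [map_sub, hi, hb', sub_self]
        · simp only [Finset.mem_filter, Finset.mem_univ, true_and] at hi ⊢
          rw [map_add, hi, hb', zero_add]
      have hsum := Finset.card_eq_sum_card_fiberwise (s := (Finset.univ : Finset (A)))
        (t := (Finset.univ : Finset (ZMod 3))) (f := fun i => cast3 i) (fun _ _ => by simp)
      rw [Finset.sum_congr rfl (fun a' _ => hsame a'), Finset.sum_const, Finset.card_univ,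
        Finset.card_univ, ZMod.card, smul_eq_mul] at hsum
      rw [hsame a]; omega
    have h := Finset.card_filter_add_card_filter_not (s := (Finset.univ : Finset (A))) (fun i => cast3 i = 0)
    rw [Finset.card_univ] at h
    have := hfib 0
    simp only [hXdef, ne_eq]
    omega
  set C := S.conjSet (rotSet X) with hC
  let f : G → ℂ := fun g => if g ∈ C then 3 else 0
  have hCiff : ∀ g c : G, c ∈ C → g * c * g⁻¹ ∈ C := by
    intro g c hc
    obtain ⟨⟨z, m⟩, hzm, rfl⟩ := Finset.mem_image.1 hc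
    exact Finset.mem_image.2 ⟨(g * z, m), Finset.mem_product.2 ⟨Finset.mem_univ _, (Finset.mem_product.1 hzm).2⟩,
      by group⟩
  have hf : IsClassFunction G f := by
    intro g h
    have : h * g * h⁻¹ ∈ C ↔ g ∈ C := ⟨fun hc => by
      have := hCiff h⁻¹ _ hc
      rwa [show h⁻¹ * (h * g * h⁻¹) * h⁻¹⁻¹ = g by group] at this, hCiff h g⟩
    simp only [f, this]
  have hnon2 : ∀ c ∈ C, c * c ≠ 1 := by
    intro c hc e
    obtain ⟨⟨z, m⟩, hzm, rfl⟩ := Finset.mem_image.1 hc
    obtain ⟨i, hi, hm1⟩ := mem_rotSet.1 (Finset.mem_product.1 hzm).2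
    have h1 : m * m = 1 := S.inj (by
      rw [map_one, map_mul]
      calc S.j m * S.j m = z⁻¹ * (z * S.j m * z⁻¹ * (z * S.j m * z⁻¹)) * z := by group
        _ = 1 := by rw [e]; group)
    have h2 := congrArg Prod.fst h1
    rw [Prod.fst_mul, hm1, GDih.r_mul_r, Prod.fst_one, GDih.one_def,
      GDih.r.injEq] at h2
    exact two_mul_ne S.three (hX i hi) h2
  have hG0 : (Nat.card G : ℂ) ≠ 0 := H12.card_ne_zero'
  have hH0 : (Nat.card S.j.range : ℂ) ≠ 0 := by exact_mod_cast (Nat.card_pos).ne'
  -- integral coefficients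
  have hcoef : ∀ χ : IrrCharacter G, ∃ z : ℤ, classInner f (χ : G → ℂ) = z := by
    intro χ
    have hgen : IsGeneralizedCharacter (E A)
        (fun m => (H35.Sq.alpha (redHom S.red m.1) : ℂ)) := by
      have hal : IsGeneralizedCharacter (DihedralGroup 3) (fun g => (H35.Sq.alpha g : ℂ)) := by
        convert H16.gen_sub (H16.gen_add (H35.Sq.gen_chi 0) (H35.Sq.gen_chi 1)) (H35.Sq.gen_chi 2) using 1
        funext g
        have : ∀ g : DihedralGroup 3, H35.Sq.alpha g =
            H35.Sq.chi 0 g + H35.Sq.chi 1 g - H35.Sq.chi 2 g := by decide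
        simp [this g]
      obtain ⟨p, q, hp, hq, e⟩ := hal
      refine ⟨fun m => p (redHom S.red m.1), fun m => q (redHom S.red m.1),
        H12.IsCharacter.comp hp ((redHom S.red).comp (MonoidHom.fst (GDih A) (DihedralGroup 1))),
        H12.IsCharacter.comp hq ((redHom S.red).comp (MonoidHom.fst (GDih A) (DihedralGroup 1))), ?_⟩
      funext m; exact congrFun e _
    obtain ⟨z, hz⟩ := H16.gen_inner_int hgen
      (H16.gen_of_char (H12.IsCharacter.comp (H12.isCharacter_irr χ) S.j))
    refine ⟨z, ?_⟩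
    rw [← hz, H12.classInner_def, H12.classInner_def]
    have hval : ∀ m : E A, (H35.Sq.alpha (redHom S.red m.1) : ℂ) = if m ∈ rotSet X then 3 else 0 := by
      intro m
      obtain ⟨a, e⟩ := m
      rcases a with i | i
      · have hiff : ((GDih.r i, e) : E A) ∈ rotSet X ↔ cast3 i ≠ 0 := by
          rw [mem_rotSet]
          constructor
          · rintro ⟨k, hk, hk'⟩
            rw [GDih.r.inj hk']; exact (Finset.mem_filter.1 hk).2
          · exact fun h => ⟨i, Finset.mem_filter.2 ⟨Finset.mem_univ _, h⟩, rfl⟩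
        show ((if cast3 i = 0 then (0 : ℤ) else 3 : ℤ) : ℂ) = _
        by_cases h : cast3 i = 0 <;> simp [h, hiff]
      · have hn : ((GDih.sr i, e) : E A) ∉ rotSet X := fun h => by
          obtain ⟨k, -, hk⟩ := mem_rotSet.1 h
          simp at hk
        rw [if_neg hn]
        exact Int.cast_zero
    simp only [hval, f, ite_mul, zero_mul, Finset.sum_ite_mem, Finset.univ_inter, ← Finset.mul_sum]
    -- sum over the conjugates
    have hsum : (Nat.card S.j.range : ℂ) * ∑ c ∈ C, conj ((χ : G → ℂ) c) =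
        (Nat.card G : ℂ) * ∑ m ∈ rotSet X, conj ((χ : G → ℂ) (S.j m)) := by
      have h1 : ∑ p ∈ (Finset.univ : Finset G) ×ˢ rotSet X, conj ((χ : G → ℂ) (p.1 * S.j p.2 * p.1⁻¹)) =
          (Nat.card G : ℂ) * ∑ m ∈ rotSet X, conj ((χ : G → ℂ) (S.j m)) := by
        rw [Finset.sum_product]
        simp only [H12.irr_isClassFunction χ _ _]
        rw [Finset.sum_const, Finset.card_univ, nsmul_eq_mul, Nat.card_eq_fintype_card]
      rw [← h1, ← Finset.sum_fiberwise_of_maps_to (t := C)
        (g := fun p : G × E A => p.1 * S.j p.2 * p.1⁻¹) (fun p hp => Finset.mem_image_of_mem _ hp),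
        Finset.mul_sum]
      refine Finset.sum_congr rfl fun c hc => ?_
      rw [Finset.sum_congr rfl (fun p hp => by rw [(Finset.mem_filter.1 hp).2]), Finset.sum_const, nsmul_eq_mul]
      congr 1
      norm_cast
      obtain ⟨⟨z, m⟩, hzm, rfl⟩ := Finset.mem_image.1 hc
      have hm := (Finset.mem_product.1 hzm).2
      rw [Nat.card_congr (MonoidHom.ofInjective S.inj).toEquiv.symm, Nat.card_eq_fintype_card,
        ← Finset.card_univ]
      refine Finset.card_bij (fun k _ => (z * S.j k, k⁻¹ * m * k)) (fun k _ => ?_) (fun a _ b _ hab => ?_)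
        (fun p hp => ?_)
      · simp only [Finset.mem_filter, Finset.mem_product, Finset.mem_univ, true_and]
        refine ⟨?_, ?_⟩
        · have := rot_conj hneg (k := k⁻¹) hm
          rwa [inv_inv] at this
        · rw [map_mul, map_mul, map_inv]; group
      · exact S.inj (mul_left_cancel (congrArg Prod.fst hab))
      · simp only [Finset.mem_filter, Finset.mem_product, Finset.mem_univ, true_and] at hp
        obtain ⟨hp2, hpe⟩ := hp
        have hin : p.1⁻¹ * z ∈ S.j.range := by
          refine S.stay hX hm (show p.1⁻¹ * z * S.j m * (p.1⁻¹ * z)⁻¹ ∈ S.j.range from ⟨p.2, ?_⟩)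
          calc S.j p.2 = p.1⁻¹ * (p.1 * S.j p.2 * p.1⁻¹) * p.1 := by group
            _ = p.1⁻¹ * (z * S.j m * z⁻¹) * p.1 := by rw [hpe]
            _ = _ := by group
        obtain ⟨k, hk⟩ := hin
        refine ⟨k⁻¹, Finset.mem_univ _, Prod.ext ?_ (S.inj ?_)⟩
        · rw [map_inv, hk]; group
        · simp only [map_mul, map_inv, inv_inv, hk]
          calc p.1⁻¹ * z * S.j m * (p.1⁻¹ * z)⁻¹ = p.1⁻¹ * (z * S.j m * z⁻¹) * p.1 := by group
            _ = p.1⁻¹ * (p.1 * S.j p.2 * p.1⁻¹) * p.1 := by rw [hpe]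
            _ = S.j p.2 := by group
    have hE : (Nat.card (E A) : ℂ) = (Nat.card S.j.range : ℂ) := by
      rw [Nat.card_congr (MonoidHom.ofInjective S.inj).toEquiv]
    rw [hE]
    field_simp
    simp only [Function.comp_apply]
    linear_combination hsum
  choose c hc using hcoef
  have hexp : ∀ g : G, f g = ∑ χ : IrrCharacter G, (c χ : ℂ) * (χ : G → ℂ) g := by
    intro g
    rw [H12.classFunction_apply_eq_sum hf g]
    exact Finset.sum_congr rfl fun χ _ => by rw [hc]
  have hCcard := S.card_conjSet hX hneg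
  rw [S.card_range] at hCcard
  have hC9 : C.card * 3 = Nat.card G := by
    have hh : C.card * (4 * (Fintype.card A)) * 3 = Nat.card G * (4 * (Fintype.card A)) := by
      rw [hCcard, mul_assoc (Nat.card G), mul_assoc X.card, mul_comm 2 3, ← mul_assoc X.card, hXc]
      ring
    have h' : C.card * 3 * (4 * (Fintype.card A)) = Nat.card G * (4 * (Fintype.card A)) := by rw [← hh]; ring
    exact Nat.eq_of_mul_eq_mul_right (by have := NeZero.pos (Fintype.card A); omega) h'
  have hnorm : ∑ χ, c χ * c χ = 3 := by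
    have h := H12.classInner_eq_sum_mul hf (f' := f) hf
    simp only [hc, map_intCast] at h
    have h2 : classInner f f = 3 := by
      rw [H12.classInner_def]
      have : ∀ g, f g * conj (f g) = if g ∈ C then 9 else 0 := fun g => by
        simp only [f]; split_ifs <;> simp [map_ofNat] <;> norm_num
      simp only [this, Finset.sum_ite_mem, Finset.univ_inter, Finset.sum_const, nsmul_eq_mul]
      rw [← hC9]; push_cast
      have : (C.card : ℂ) ≠ 0 := by
        have : 0 < Nat.card G := Nat.card_pos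
        have : C.card ≠ 0 := by omega
        exact_mod_cast this
      field_simp
      norm_num
    rw [h2] at h
    exact_mod_cast h.symm
  have hone : c (H12.oneIrr G) = 1 := by
    have h := hc (H12.oneIrr G)
    rw [H12.classInner_def] at h
    simp only [H12.oneIrr_apply, map_one, mul_one, f, Finset.sum_ite_mem, Finset.univ_inter,
      Finset.sum_const, nsmul_eq_mul] at h
    have e : (C.card : ℂ) * 3 = (Nat.card G : ℂ) := by exact_mod_cast hC9
    rw [e, inv_mul_cancel₀ hG0] at h
    exact_mod_cast h.symm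
  have hy2 : S.y ^ 2 = 1 := by rw [sq]; exact (Finset.mem_filter.1 S.y_inv).2.1
  choose v hv using fun χ : IrrCharacter G => H35.CA.invol_value (H12.isCharacter_irr χ) hy2
  have hd1 : ∑ χ, c χ * (H12.degree (χ : G → ℂ) : ℤ) = 0 := by
    have h := hexp 1
    have : (1 : G) ∉ C := fun h1 => hnon2 1 h1 (by simp)
    simp only [f, if_neg this, H35.Sq.Config.deg_eq] at h
    exact_mod_cast h.symm
  have hv1 : ∑ χ, c χ * v χ = 0 := by
    have h := hexp S.y
    have : S.y ∉ C := fun h1 => hnon2 _ h1 (Finset.mem_filter.1 S.y_inv).2.1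
    simp only [f, if_neg this, hv] at h
    exact_mod_cast h.symm
  have hvo : v (H12.oneIrr G) = 1 := by
    have := hv (H12.oneIrr G)
    rw [H12.oneIrr_apply] at this
    exact_mod_cast this.symm
  have hdo : (H12.degree ((H12.oneIrr G : IrrCharacter G) : G → ℂ) : ℤ) = 1 := by
    have := H35.Sq.Config.deg_eq (H12.oneIrr G)
    rw [H12.oneIrr_apply] at this
    exact_mod_cast this.symm
  have hcol : ∑ χ, v χ * v χ = 4 * ((Fintype.card A) : ℤ) := by
    have h := H12.column_orthogonality S.y S.y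
    rw [if_pos (IsConj.refl _)] at h
    have e1 : Nat.card (Subgroup.centralizer ({S.y} : Set G)) = 4 * (Fintype.card A) := by
      rw [← S.card_range, ← S.cent_y]
      exact Nat.card_congr (Equiv.subtypeEquivRight fun g => by simp [Subgroup.mem_centralizer_iff, eq_comm])
    rw [e1] at h
    simp only [hv, map_intCast] at h
    exact_mod_cast h
  -- the class formula
  have hM : ((invs G).card : ℂ) * (4 * (Fintype.card A)) = (Nat.card G : ℂ) := by
    have := S.card_invs
    rw [S.card_range] at this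
    exact_mod_cast this
  have hquad : (∑ χ, (c χ : ℚ) * ((v χ : ℚ) ^ 2 / (H12.degree (χ : G → ℂ) : ℚ))) * (invs G).card =
      8 * ((Fintype.card A) : ℚ) ^ 2 := by
    have h1 : ∑ χ : IrrCharacter G, (c χ : ℂ) * ((χ : G → ℂ) S.y * (χ : G → ℂ) S.y / (χ : G → ℂ) 1) =
        (Nat.card G : ℂ)⁻¹ * ∑ a : G, f (S.y * (a * S.y * a⁻¹)) := by
      simp only [hexp]
      rw [Finset.sum_comm, Finset.mul_sum]
      refine Finset.sum_congr rfl fun χ _ => ?_
      rw [← Finset.mul_sum, H12.irr_class_product]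
      field_simp
    have h2 : ∑ a : G, f (S.y * (a * S.y * a⁻¹)) =
        (4 * (Fintype.card A) : ℂ) * ∑ s ∈ invs G, f (S.y * s) := by
      rw [← Finset.sum_fiberwise_of_maps_to (t := invs G) (g := fun a : G => a * S.y * a⁻¹)
        (fun a _ => by
          obtain ⟨h1, h2⟩ := (Finset.mem_filter.1 S.y_inv).2
          refine Finset.mem_filter.2 ⟨Finset.mem_univ _, ?_, fun e => h2 (conj_eq_one_iff.1 e)⟩
          rw [show a * S.y * a⁻¹ * (a * S.y * a⁻¹) = a * (S.y * S.y) * a⁻¹ by group, h1]; group),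
        Finset.mul_sum]
      refine Finset.sum_congr rfl fun s hs => ?_
      rw [Finset.sum_congr rfl (fun a ha => by rw [(Finset.mem_filter.1 ha).2]), Finset.sum_const, nsmul_eq_mul]
      congr 1
      norm_cast
      obtain ⟨a₀, ha₀⟩ := isConj_iff.1 (S.invol s (Finset.mem_filter.1 hs).2.1 (Finset.mem_filter.1 hs).2.2)
      rw [← S.card_range, ← S.cent_y, Nat.card_eq_fintype_card, Fintype.card_subtype]
      refine Finset.card_bij (fun z _ => a₀⁻¹ * z) ?_ (fun a _ b _ h => mul_left_cancel h) ?_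
      · intro z hz
        simp only [Finset.mem_filter, Finset.mem_univ, true_and] at hz ⊢
        calc a₀⁻¹ * z * S.y = a₀⁻¹ * (z * S.y * z⁻¹) * z := by group
          _ = S.y * (a₀⁻¹ * z) := by rw [hz, ← show a₀ * S.y * a₀⁻¹ = s from ha₀]; group
      · intro g hg
        simp only [Finset.mem_filter, Finset.mem_univ, true_and] at hg
        refine ⟨a₀ * g, ?_, by group⟩
        simp only [Finset.mem_filter, Finset.mem_univ, true_and]
        calc a₀ * g * S.y * (a₀ * g)⁻¹ = a₀ * (g * S.y) * g⁻¹ * a₀⁻¹ := by group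
          _ = a₀ * S.y * a₀⁻¹ := by rw [hg]; group
          _ = s := ha₀
    have h3 : ∑ s ∈ invs G, f (S.y * s) = 8 * ((Fintype.card A) : ℂ) ^ 2 := by
      simp only [f]
      rw [← Finset.sum_filter, Finset.sum_const, nsmul_eq_mul, S.count_pairs hX hneg]
      have hh : X.card * 2 * ((Fintype.card A) * 2) * 3 = 8 * (Fintype.card A) ^ 2 := by
        calc X.card * 2 * ((Fintype.card A) * 2) * 3 = X.card * 3 * ((Fintype.card A) * 4) := by ring
          _ = 8 * (Fintype.card A) ^ 2 := by rw [hXc]; ring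
      exact_mod_cast hh
    apply Rat.cast_injective (α := ℂ)
    push_cast
    have h4 : ∑ χ : IrrCharacter G, (c χ : ℂ) * ((v χ : ℂ) ^ 2 / (H12.degree (χ : G → ℂ) : ℂ)) =
        (Nat.card G : ℂ)⁻¹ * ((4 * (Fintype.card A) : ℂ) * (8 * ((Fintype.card A) : ℂ) ^ 2)) := by
      rw [← h3, ← h2, ← h1]
      refine Finset.sum_congr rfl fun χ _ => ?_
      rw [hv, H12.irr_apply_one]; ring
    rw [h4]
    field_simp
    linear_combination hM
  -- the support
  set o := H12.oneIrr G with ho
  have hco : c o ≠ 0 := by rw [hone]; norm_num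
  have hex : ∃ p q, p ≠ o ∧ q ≠ o ∧ p ≠ q ∧ c p ≠ 0 ∧ c q ≠ 0 := by
    by_contra hne
    simp only [not_exists, not_and, not_not] at hne
    have hsum := hnorm
    rw [← Finset.add_sum_erase _ _ (Finset.mem_univ o), hone] at hsum
    by_cases hp : ∃ p, p ≠ o ∧ c p ≠ 0
    · obtain ⟨p, hp, hpc⟩ := hp
      rw [Finset.sum_eq_single_of_mem p (Finset.mem_erase.2 ⟨hp, Finset.mem_univ _⟩) (fun q hq hqp => by
        simp [hne p q hp (Finset.ne_of_mem_erase hq) (Ne.symm hqp) hpc])] at hsum
      rcases H35.Sq.unit_cases hnorm p with e | e | e <;> rw [e] at hsum <;> norm_num at hsum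
    · simp only [not_exists, not_and, not_not] at hp
      rw [Finset.sum_eq_zero (fun q hq => by simp [hp q (Finset.ne_of_mem_erase hq)])] at hsum
      norm_num at hsum
  obtain ⟨p, q, hpo, hqo, hpq, hpc, hqc⟩ := hex
  have hinj : Function.Injective ![o, p, q] := by
    intro a b h; fin_cases a <;> fin_cases b <;> simp_all [eq_comm]
  have hne3 : ∀ i, c (![o, p, q] i) ≠ 0 := by intro i; fin_cases i <;> simpa
  have e3 : ∀ F : IrrCharacter G → ℚ, ∑ χ, (c χ : ℚ) * F χ = F o + (c p : ℚ) * F p + (c q : ℚ) * F q := by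
    intro F
    rw [H35.Sq.sum_three hnorm _ hinj hne3 F, Fin.sum_univ_three]
    simp [hone]
  have hdeg : ∀ χ : IrrCharacter G, (0 : ℤ) < H12.degree (χ : G → ℂ) := fun χ => by
    exact_mod_cast H12.irr_degree_pos χ
  set D : ℤ := c p * H12.degree (p : G → ℂ) with hD
  set U : ℤ := c p * v p with hU
  have ed : 1 + D + c q * H12.degree (q : G → ℂ) = 0 := by
    have := e3 fun χ => (H12.degree (χ : G → ℂ) : ℚ)
    rw [show ∑ χ, (c χ : ℚ) * (H12.degree (χ : G → ℂ) : ℚ) = 0 by exact_mod_cast hd1] at this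
    have h' : ((1 + D + c q * H12.degree (q : G → ℂ) : ℤ) : ℚ) = 0 := by
      push_cast [hD]
      have := congrArg (fun z : ℤ => (z : ℚ)) hdo
      push_cast at this
      linarith
    exact_mod_cast h'
  have eu : 1 + U + c q * v q = 0 := by
    have := e3 fun χ => (v χ : ℚ)
    rw [show ∑ χ, (c χ : ℚ) * (v χ : ℚ) = 0 by exact_mod_cast hv1, hvo] at this
    have h' : ((1 + U + c q * v q : ℤ) : ℚ) = 0 := by push_cast [hU]; push_cast at this; linarith
    exact_mod_cast h'
  have usq : ∀ x, c x ≠ 0 → c x * c x = 1 := fun x hx => by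
    rcases H35.Sq.unit_cases hnorm x with e | e | e <;> simp_all
  have hD0 : D ≠ 0 := mul_ne_zero hpc (hdeg p).ne'
  have hD1 : 1 + D ≠ 0 := fun e => mul_ne_zero hqc (hdeg q).ne' (by linarith)
  have hkey : ((D : ℚ) - U) ^ 2 * (invs G).card = 8 * ((Fintype.card A) : ℚ) ^ 2 * ((D : ℚ) * (1 + D)) := by
    have h := hquad
    rw [e3, hvo, show (H12.degree ((o : IrrCharacter G) : G → ℂ) : ℚ) = 1 by
      have := congrArg (fun z : ℤ => (z : ℚ)) hdo
      simpa using this] at h
    have hp' : (c p : ℚ) * ((v p : ℚ) ^ 2 / H12.degree (p : G → ℂ)) = (U : ℚ) ^ 2 / D := by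
      rw [hU, hD]; push_cast
      have h1 : ((c p : ℚ)) ≠ 0 := by exact_mod_cast hpc
      have h2 : (H12.degree (p : G → ℂ) : ℚ) ≠ 0 := by exact_mod_cast (hdeg p).ne'
      field_simp
    have hq' : (c q : ℚ) * ((v q : ℚ) ^ 2 / H12.degree (q : G → ℂ)) = (-(1 + U) : ℚ) ^ 2 / (-(1 + D)) := by
      have e1 : (-(1 + U) : ℚ) = c q * v q := by
        have : ((1 + U + c q * v q : ℤ) : ℚ) = 0 := by exact_mod_cast eu
        push_cast at this; linarith
      have e2 : (-(1 + D) : ℚ) = c q * H12.degree (q : G → ℂ) := by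
        have : ((1 + D + c q * H12.degree (q : G → ℂ) : ℤ) : ℚ) = 0 := by exact_mod_cast ed
        push_cast at this; linarith
      rw [e1, e2]
      have h1 : ((c q : ℚ)) ≠ 0 := by exact_mod_cast hqc
      have h2 : (H12.degree (q : G → ℂ) : ℚ) ≠ 0 := by exact_mod_cast (hdeg q).ne'
      field_simp
    rw [hp', hq'] at h
    have hd0 : (D : ℚ) ≠ 0 := by exact_mod_cast hD0
    have hd1' : (1 + D : ℚ) ≠ 0 := by exact_mod_cast hD1
    push_cast at h
    field_simp at h
    linear_combination h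
  have hkeyZ : (D - U) ^ 2 * ((invs G).card : ℤ) = 8 * ((Fintype.card A) : ℤ) ^ 2 * (D * (1 + D)) := by
    exact_mod_cast hkey
  -- the number of involutions is prime to `6`
  have hcop : IsCoprime (8 * ((Fintype.card A) : ℤ) ^ 2) ((invs G).card : ℤ) := by
    rw [show (8 * ((Fintype.card A) : ℤ) ^ 2) = ((8 * (Fintype.card A) ^ 2 : ℕ) : ℤ) by push_cast; ring,
      Int.isCoprime_iff_nat_coprime, Int.natAbs_natCast, Int.natAbs_natCast]
    refine Nat.Coprime.mul_left ?_ ?_
    · rw [show (8 : ℕ) = 2 ^ 3 by norm_num]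
      refine Nat.Coprime.pow_left 3 ?_
      rw [← S.index_eq]
      exact (Nat.Prime.coprime_iff_not_dvd Nat.prime_two).2 S.odd_index
    · refine Nat.Coprime.pow_left 2 ?_
      rw [hN, ← S.index_eq]
      exact Nat.Coprime.pow_left n ((Nat.Prime.coprime_iff_not_dvd Nat.prime_three).2 S.three_index)
  obtain ⟨k, hk⟩ := hcop.symm.dvd_of_dvd_mul_left ⟨(D - U) ^ 2, by rw [← hkeyZ]; ring⟩
  have hIpos : (0 : ℤ) < (invs G).card := by exact_mod_cast Finset.card_pos.2 ⟨_, S.y_inv⟩
  have hsq : (D - U) ^ 2 = 8 * ((Fintype.card A) : ℤ) ^ 2 * k := by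
    refine mul_right_cancel₀ hIpos.ne' ?_
    rw [hkeyZ, hk]; ring
  have hDD : 0 < D * (1 + D) := by
    rcases lt_or_gt_of_ne hD0 with h | h
    · have : 1 + D ≤ 0 := by omega
      have : 1 + D < 0 := lt_of_le_of_ne this hD1
      exact mul_pos_of_neg_of_neg h this
    · exact mul_pos h (by omega)
  have hkpos : 1 ≤ k := by nlinarith
  have hN0 : (0 : ℤ) < (Fintype.card A) := by exact_mod_cast NeZero.pos (Fintype.card A)
  have hbound : ((invs G).card : ℤ) < 4 * ((Fintype.card A) : ℤ) ^ 2 := by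
    have h := S.invs_bound
    have : ((invs G).card : ℤ) + 2 * (Fintype.card A) ≤ 4 * ((Fintype.card A) : ℤ) * (Fintype.card A) + 1 := by exact_mod_cast h
    nlinarith
  have hgt : 2 * (D * (1 + D)) < (D - U) ^ 2 := by
    have h1 : (D - U) ^ 2 * ((invs G).card : ℤ) = 8 * ((Fintype.card A) : ℤ) ^ 2 * (D * (1 + D)) := hkeyZ
    have hp : 0 < ((Fintype.card A) : ℤ) ^ 2 * (D * (1 + D)) := mul_pos (pow_pos hN0 2) hDD
    by_contra hle
    push Not at hle
    have : (D - U) ^ 2 * ((invs G).card : ℤ) ≤ 2 * (D * (1 + D)) * ((invs G).card : ℤ) :=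
      mul_le_mul_of_nonneg_right hle hIpos.le
    nlinarith
  have hu3 : 1 + U * U + (1 + U) * (1 + U) ≤ 4 * ((Fintype.card A) : ℤ) := by
    rw [← hcol]
    have h := Finset.sum_le_sum_of_subset_of_nonneg (f := fun χ => v χ * v χ)
      (Finset.subset_univ ({o, p, q} : Finset (IrrCharacter G))) (fun x _ _ => mul_self_nonneg (v x))
    rw [Finset.sum_insert (by simp [Ne.symm hpo, Ne.symm hqo]), Finset.sum_insert (by simp [hpq]),
      Finset.sum_singleton, hvo] at h
    have e1 : U * U = v p * v p := by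
      rw [hU]; linear_combination (v p * v p) * usq p hpc
    have e2 : (1 + U) * (1 + U) = v q * v q := by
      rw [show 1 + U = -(c q * v q) by linarith]; linear_combination (v q * v q) * usq q hqc
    rw [e1, e2]; linarith
  have hP : ((Fintype.card A) : ℤ) = 3 ∨ 9 ≤ ((Fintype.card A) : ℤ) := by
    rcases Nat.lt_or_ge n 2 with h | h
    · have : n = 1 := by omega
      left; rw [hN, this]; norm_num
    · right
      have : 3 ^ 2 ≤ (Fintype.card A) := hN ▸ Nat.pow_le_pow_right (by norm_num) h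
      exact_mod_cast this
  have hN2 : ((Fintype.card A) : ℤ) ^ 2 * 8 ≤ (D - U) ^ 2 := by rw [hsq]; nlinarith
  refine H35.CA.Exc.final_arith (Fintype.card A) |D| U |U| hP (abs_nonneg _) (abs_nonneg _) ?_ ?_ ?_
  · have : (D - U) ^ 2 ≤ (|D| + |U|) ^ 2 := sq_le_sq' (by linarith [neg_abs_le D, le_abs_self U]) (by linarith [le_abs_self D, neg_abs_le U])
    linarith
  · have : (D - U) ^ 2 ≤ (|D| + |U|) ^ 2 := sq_le_sq' (by linarith [neg_abs_le D, le_abs_self U]) (by linarith [le_abs_self D, neg_abs_le U])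
    have h' : |D| ^ 2 - |D| ≤ D * (1 + D) := by
      rw [sq_abs]; nlinarith [neg_abs_le D]
    linarith
  · rw [sq_abs]
    nlinarith [neg_abs_le U]

end Exc

end H35.DA
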