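import Cfsg.Agent.H35.G24Sparse

/-!
Certificates: the root elements of `G₂(4)` normalise a 20-dimensional space of endomorphisms of the adjoint module
and its adjoint part; the quotient is a 6-dimensional module.
-/

set_option autoImplicit false
set_option maxRecDepth 20000

namespace H35.G24

/-- A certificate for a root element: root, parameter, matrix, induced matrix, conjugates of the basis. -/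
structure GenCert where
  /-- The root. -/
  r : ℕ
  /-- The parameter. -/
  t : ℕ
  /-- The matrix. -/
  g : SMat
  /-- The matrix on the quotient. -/
  ρ : SMat
  /-- Coefficients of the conjugates of the basis. -/
  comb : List (List (ℕ × ℕ))

/-- Spanning matrices: fourteen of the adjoint algebra, six of a complement. -/
def basisData : List (List (ℕ × ℕ × ℕ)) := [
  [(3, 3, 1), (4, 4, 1), (5, 5, 1), (7, 7, 1), (8, 8, 1), (10, 10, 1), (11, 11, 1), (12, 12, 1)],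
  [(2, 2, 1), (3, 3, 1), (5, 5, 1), (6, 6, 1), (9, 9, 1), (10, 10, 1), (12, 12, 1), (13, 13, 1)],
  [(0, 13, 1), (2, 1, 1), (3, 8, 1), (4, 10, 1), (5, 11, 1), (7, 12, 1)],
  [(0, 12, 1), (1, 12, 1), (2, 7, 1), (3, 0, 1), (3, 1, 1), (4, 9, 1), (6, 11, 1), (8, 13, 1)],
  [(1, 11, 1), (2, 5, 1), (3, 6, 1), (4, 0, 1), (9, 12, 1), (10, 13, 1)],
  [(0, 10, 1), (1, 10, 1), (2, 4, 1), (5, 0, 1), (5, 1, 1), (6, 8, 1), (7, 9, 1), (11, 13, 1)],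
  [(0, 9, 1), (3, 4, 1), (5, 7, 1), (6, 1, 1), (8, 10, 1), (11, 12, 1)],
  [(1, 8, 1), (2, 3, 1), (5, 6, 1), (7, 0, 1), (9, 10, 1), (12, 13, 1)],
  [(1, 7, 1), (3, 2, 1), (6, 5, 1), (8, 0, 1), (10, 9, 1), (13, 12, 1)],
  [(0, 6, 1), (4, 3, 1), (7, 5, 1), (9, 1, 1), (10, 8, 1), (12, 11, 1)],
  [(0, 5, 1), (1, 5, 1), (4, 2, 1), (8, 6, 1), (9, 7, 1), (10, 0, 1), (10, 1, 1), (13, 11, 1)],
  [(1, 4, 1), (5, 2, 1), (6, 3, 1), (11, 0, 1), (12, 9, 1), (13, 10, 1)],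
  [(0, 3, 1), (1, 3, 1), (7, 2, 1), (9, 4, 1), (11, 6, 1), (12, 0, 1), (12, 1, 1), (13, 8, 1)],
  [(0, 2, 1), (8, 3, 1), (10, 4, 1), (11, 5, 1), (12, 7, 1), (13, 1, 1)],
  [(2, 6, 1), (4, 8, 1), (7, 11, 1), (9, 13, 1)],
  [(2, 9, 1), (3, 10, 1), (5, 12, 1), (6, 13, 1)],
  [(3, 5, 1), (4, 7, 1), (8, 11, 1), (10, 12, 1)],
  [(5, 3, 1), (7, 4, 1), (11, 8, 1), (12, 10, 1)],
  [(6, 2, 1), (8, 4, 1), (11, 7, 1), (13, 9, 1)],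
  [(9, 2, 1), (10, 3, 1), (12, 5, 1), (13, 6, 1)]]

/-- Positions whose sums read off the six complementary coordinates. -/
def funcData : List (List (ℕ × ℕ)) := [
  [(9, 13)],
  [(6, 13)],
  [(10, 12)],
  [(12, 10)],
  [(13, 9)],
  [(13, 6)]]

/-- Certificate for `x_0(1)`. -/
def gen0_1 : GenCert := ⟨0, 1, [(0, 0, 1), (0, 13, 1), (1, 1, 1), (2, 1, 1), (2, 2, 1), (2, 13, 1), (3, 3, 1), (3, 8, 1), (4, 4, 1), (4, 10, 1), (5, 5, 1), (5, 11, 1), (6, 6, 1), (7, 7, 1), (7, 12, 1), (8, 8, 1), (9, 9, 1), (10, 10, 1), (11, 11, 1), (12, 12, 1), (13, 13, 1)],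
  [(0, 0, 1), (0, 5, 1), (1, 1, 1), (1, 4, 1), (2, 2, 1), (3, 3, 1), (4, 4, 1), (5, 5, 1)],
  [[(0, 1)], [(1, 1), (2, 1)], [(2, 1)], [(3, 1)], [(4, 1)], [(5, 1)], [(6, 1)], [(7, 1)], [(3, 1), (8, 1)], [(9, 1)], [(4, 1), (10, 1)], [(5, 1), (11, 1)], [(7, 1), (12, 1)], [(0, 1), (2, 1), (13, 1)], [(14, 1)], [(15, 1)], [(16, 1)], [(17, 1)], [(6, 1), (15, 1), (18, 1)], [(9, 1), (14, 1), (19, 1)]]⟩

/-- Certificate for `x_0(2)`. -/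
def gen0_2 : GenCert := ⟨0, 2, [(0, 0, 1), (0, 13, 2), (1, 1, 1), (2, 1, 2), (2, 2, 1), (2, 13, 3), (3, 3, 1), (3, 8, 2), (4, 4, 1), (4, 10, 2), (5, 5, 1), (5, 11, 2), (6, 6, 1), (7, 7, 1), (7, 12, 2), (8, 8, 1), (9, 9, 1), (10, 10, 1), (11, 11, 1), (12, 12, 1), (13, 13, 1)],
  [(0, 0, 1), (0, 5, 3), (1, 1, 1), (1, 4, 3), (2, 2, 1), (3, 3, 1), (4, 4, 1), (5, 5, 1)],
  [[(0, 1)], [(1, 1), (2, 2)], [(2, 1)], [(3, 1)], [(4, 1)], [(5, 1)], [(6, 1)], [(7, 1)], [(3, 2), (8, 1)], [(9, 1)], [(4, 2), (10, 1)], [(5, 2), (11, 1)], [(7, 2), (12, 1)], [(0, 2), (2, 3), (13, 1)], [(14, 1)], [(15, 1)], [(16, 1)], [(17, 1)], [(6, 2), (15, 3), (18, 1)], [(9, 2), (14, 3), (19, 1)]]⟩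

/-- Certificate for `x_0(3)`. -/
def gen0_3 : GenCert := ⟨0, 3, [(0, 0, 1), (0, 13, 3), (1, 1, 1), (2, 1, 3), (2, 2, 1), (2, 13, 2), (3, 3, 1), (3, 8, 3), (4, 4, 1), (4, 10, 3), (5, 5, 1), (5, 11, 3), (6, 6, 1), (7, 7, 1), (7, 12, 3), (8, 8, 1), (9, 9, 1), (10, 10, 1), (11, 11, 1), (12, 12, 1), (13, 13, 1)],
  [(0, 0, 1), (0, 5, 2), (1, 1, 1), (1, 4, 2), (2, 2, 1), (3, 3, 1), (4, 4, 1), (5, 5, 1)],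
  [[(0, 1)], [(1, 1), (2, 3)], [(2, 1)], [(3, 1)], [(4, 1)], [(5, 1)], [(6, 1)], [(7, 1)], [(3, 3), (8, 1)], [(9, 1)], [(4, 3), (10, 1)], [(5, 3), (11, 1)], [(7, 3), (12, 1)], [(0, 3), (2, 2), (13, 1)], [(14, 1)], [(15, 1)], [(16, 1)], [(17, 1)], [(6, 3), (15, 2), (18, 1)], [(9, 3), (14, 2), (19, 1)]]⟩

/-- Certificate for `x_1(1)`. -/
def gen1_1 : GenCert := ⟨1, 1, [(0, 0, 1), (0, 12, 1), (1, 1, 1), (1, 12, 1), (2, 2, 1), (2, 7, 1), (3, 0, 1), (3, 1, 1), (3, 3, 1), (3, 12, 1), (4, 4, 1), (4, 9, 1), (5, 5, 1), (6, 6, 1), (6, 11, 1), (7, 7, 1), (8, 8, 1), (8, 13, 1), (9, 9, 1), (10, 10, 1), (11, 11, 1), (12, 12, 1), (13, 13, 1)],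
  [(0, 0, 1), (1, 1, 1), (1, 3, 1), (2, 2, 1), (2, 5, 1), (3, 3, 1), (4, 4, 1), (5, 5, 1)],
  [[(0, 1), (3, 1)], [(1, 1), (3, 1)], [(2, 1)], [(3, 1)], [(4, 1)], [(5, 1)], [(6, 1)], [(2, 1), (7, 1)], [(8, 1)], [(4, 1), (9, 1)], [(10, 1)], [(6, 1), (11, 1)], [(0, 1), (1, 1), (3, 1), (12, 1)], [(8, 1), (13, 1)], [(14, 1)], [(15, 1)], [(16, 1)], [(5, 1), (15, 1), (17, 1)], [(18, 1)], [(10, 1), (16, 1), (19, 1)]]⟩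

/-- Certificate for `x_1(2)`. -/
def gen1_2 : GenCert := ⟨1, 2, [(0, 0, 1), (0, 12, 2), (1, 1, 1), (1, 12, 2), (2, 2, 1), (2, 7, 2), (3, 0, 2), (3, 1, 2), (3, 3, 1), (3, 12, 3), (4, 4, 1), (4, 9, 2), (5, 5, 1), (6, 6, 1), (6, 11, 2), (7, 7, 1), (8, 8, 1), (8, 13, 2), (9, 9, 1), (10, 10, 1), (11, 11, 1), (12, 12, 1), (13, 13, 1)],
  [(0, 0, 1), (1, 1, 1), (1, 3, 3), (2, 2, 1), (2, 5, 3), (3, 3, 1), (4, 4, 1), (5, 5, 1)],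
  [[(0, 1), (3, 2)], [(1, 1), (3, 2)], [(2, 1)], [(3, 1)], [(4, 1)], [(5, 1)], [(6, 1)], [(2, 2), (7, 1)], [(8, 1)], [(4, 2), (9, 1)], [(10, 1)], [(6, 2), (11, 1)], [(0, 2), (1, 2), (3, 3), (12, 1)], [(8, 2), (13, 1)], [(14, 1)], [(15, 1)], [(16, 1)], [(5, 2), (15, 3), (17, 1)], [(18, 1)], [(10, 2), (16, 3), (19, 1)]]⟩

/-- Certificate for `x_1(3)`. -/
def gen1_3 : GenCert := ⟨1, 3, [(0, 0, 1), (0, 12, 3), (1, 1, 1), (1, 12, 3), (2, 2, 1), (2, 7, 3), (3, 0, 3), (3, 1, 3), (3, 3, 1), (3, 12, 2), (4, 4, 1), (4, 9, 3), (5, 5, 1), (6, 6, 1), (6, 11, 3), (7, 7, 1), (8, 8, 1), (8, 13, 3), (9, 9, 1), (10, 10, 1), (11, 11, 1), (12, 12, 1), (13, 13, 1)],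
  [(0, 0, 1), (1, 1, 1), (1, 3, 2), (2, 2, 1), (2, 5, 2), (3, 3, 1), (4, 4, 1), (5, 5, 1)],
  [[(0, 1), (3, 3)], [(1, 1), (3, 3)], [(2, 1)], [(3, 1)], [(4, 1)], [(5, 1)], [(6, 1)], [(2, 3), (7, 1)], [(8, 1)], [(4, 3), (9, 1)], [(10, 1)], [(6, 3), (11, 1)], [(0, 3), (1, 3), (3, 2), (12, 1)], [(8, 3), (13, 1)], [(14, 1)], [(15, 1)], [(16, 1)], [(5, 3), (15, 2), (17, 1)], [(18, 1)], [(10, 3), (16, 2), (19, 1)]]⟩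

/-- Certificate for `x_2(1)`. -/
def gen2_1 : GenCert := ⟨2, 1, [(0, 0, 1), (1, 1, 1), (1, 11, 1), (2, 2, 1), (2, 5, 1), (2, 9, 1), (2, 12, 1), (3, 3, 1), (3, 6, 1), (3, 10, 1), (3, 13, 1), (4, 0, 1), (4, 4, 1), (4, 11, 1), (5, 5, 1), (5, 12, 1), (6, 6, 1), (6, 13, 1), (7, 7, 1), (8, 8, 1), (9, 9, 1), (9, 12, 1), (10, 10, 1), (10, 13, 1), (11, 11, 1), (12, 12, 1), (13, 13, 1)],
  [(0, 0, 1), (0, 3, 1), (1, 1, 1), (1, 5, 1), (2, 2, 1), (2, 4, 1), (3, 3, 1), (4, 4, 1), (5, 5, 1)],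
  [[(0, 1), (4, 1)], [(1, 1)], [(2, 1)], [(3, 1)], [(4, 1)], [(2, 1), (5, 1)], [(3, 1), (6, 1)], [(7, 1)], [(8, 1)], [(2, 1), (9, 1)], [(3, 1), (10, 1)], [(1, 1), (4, 1), (11, 1)], [(2, 1), (5, 1), (9, 1), (12, 1)], [(3, 1), (6, 1), (10, 1), (13, 1)], [(14, 1)], [(15, 1)], [(16, 1)], [(7, 1), (14, 1), (17, 1)], [(8, 1), (16, 1), (18, 1)], [(1, 1), (15, 1), (19, 1)]]⟩

/-- Certificate for `x_2(2)`. -/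
def gen2_2 : GenCert := ⟨2, 2, [(0, 0, 1), (1, 1, 1), (1, 11, 2), (2, 2, 1), (2, 5, 2), (2, 9, 3), (2, 12, 1), (3, 3, 1), (3, 6, 2), (3, 10, 3), (3, 13, 1), (4, 0, 2), (4, 4, 1), (4, 11, 3), (5, 5, 1), (5, 12, 3), (6, 6, 1), (6, 13, 3), (7, 7, 1), (8, 8, 1), (9, 9, 1), (9, 12, 2), (10, 10, 1), (10, 13, 2), (11, 11, 1), (12, 12, 1), (13, 13, 1)],
  [(0, 0, 1), (0, 3, 3), (1, 1, 1), (1, 5, 2), (2, 2, 1), (2, 4, 3), (3, 3, 1), (4, 4, 1), (5, 5, 1)],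
  [[(0, 1), (4, 2)], [(1, 1)], [(2, 1)], [(3, 1)], [(4, 1)], [(2, 2), (5, 1)], [(3, 2), (6, 1)], [(7, 1)], [(8, 1)], [(2, 3), (9, 1)], [(3, 3), (10, 1)], [(1, 2), (4, 3), (11, 1)], [(2, 1), (5, 3), (9, 2), (12, 1)], [(3, 1), (6, 3), (10, 2), (13, 1)], [(14, 1)], [(15, 1)], [(16, 1)], [(7, 2), (14, 3), (17, 1)], [(8, 2), (16, 3), (18, 1)], [(1, 3), (15, 2), (19, 1)]]⟩

/-- Certificate for `x_2(3)`. -/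
def gen2_3 : GenCert := ⟨2, 3, [(0, 0, 1), (1, 1, 1), (1, 11, 3), (2, 2, 1), (2, 5, 3), (2, 9, 2), (2, 12, 1), (3, 3, 1), (3, 6, 3), (3, 10, 2), (3, 13, 1), (4, 0, 3), (4, 4, 1), (4, 11, 2), (5, 5, 1), (5, 12, 2), (6, 6, 1), (6, 13, 2), (7, 7, 1), (8, 8, 1), (9, 9, 1), (9, 12, 3), (10, 10, 1), (10, 13, 3), (11, 11, 1), (12, 12, 1), (13, 13, 1)],
  [(0, 0, 1), (0, 3, 2), (1, 1, 1), (1, 5, 3), (2, 2, 1), (2, 4, 2), (3, 3, 1), (4, 4, 1), (5, 5, 1)],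
  [[(0, 1), (4, 3)], [(1, 1)], [(2, 1)], [(3, 1)], [(4, 1)], [(2, 3), (5, 1)], [(3, 3), (6, 1)], [(7, 1)], [(8, 1)], [(2, 2), (9, 1)], [(3, 2), (10, 1)], [(1, 3), (4, 2), (11, 1)], [(2, 1), (5, 2), (9, 3), (12, 1)], [(3, 1), (6, 2), (10, 3), (13, 1)], [(14, 1)], [(15, 1)], [(16, 1)], [(7, 3), (14, 2), (17, 1)], [(8, 3), (16, 2), (18, 1)], [(1, 2), (15, 3), (19, 1)]]⟩

/-- Certificate for `x_3(1)`. -/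
def gen3_1 : GenCert := ⟨3, 1, [(0, 0, 1), (0, 10, 1), (1, 1, 1), (1, 10, 1), (2, 2, 1), (2, 4, 1), (2, 6, 1), (2, 8, 1), (3, 3, 1), (4, 4, 1), (4, 8, 1), (5, 0, 1), (5, 1, 1), (5, 5, 1), (5, 10, 1), (6, 6, 1), (6, 8, 1), (7, 7, 1), (7, 9, 1), (7, 11, 1), (7, 13, 1), (8, 8, 1), (9, 9, 1), (9, 13, 1), (10, 10, 1), (11, 11, 1), (11, 13, 1), (12, 12, 1), (13, 13, 1)],
  [(0, 0, 1), (0, 4, 1), (1, 1, 1), (1, 2, 1), (2, 2, 1), (3, 3, 1), (3, 5, 1), (4, 4, 1), (5, 5, 1)],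
  [[(0, 1), (5, 1)], [(1, 1), (5, 1)], [(2, 1)], [(3, 1)], [(2, 1), (4, 1)], [(5, 1)], [(2, 1), (6, 1)], [(7, 1)], [(2, 1), (4, 1), (6, 1), (8, 1)], [(7, 1), (9, 1)], [(0, 1), (1, 1), (5, 1), (10, 1)], [(7, 1), (11, 1)], [(12, 1)], [(7, 1), (9, 1), (11, 1), (13, 1)], [(14, 1)], [(15, 1)], [(3, 1), (15, 1), (16, 1)], [(17, 1)], [(0, 1), (1, 1), (14, 1), (18, 1)], [(12, 1), (17, 1), (19, 1)]]⟩

/-- Certificate for `x_3(2)`. -/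
def gen3_2 : GenCert := ⟨3, 2, [(0, 0, 1), (0, 10, 2), (1, 1, 1), (1, 10, 2), (2, 2, 1), (2, 4, 2), (2, 6, 3), (2, 8, 1), (3, 3, 1), (4, 4, 1), (4, 8, 3), (5, 0, 2), (5, 1, 2), (5, 5, 1), (5, 10, 3), (6, 6, 1), (6, 8, 2), (7, 7, 1), (7, 9, 2), (7, 11, 3), (7, 13, 1), (8, 8, 1), (9, 9, 1), (9, 13, 3), (10, 10, 1), (11, 11, 1), (11, 13, 2), (12, 12, 1), (13, 13, 1)],
  [(0, 0, 1), (0, 4, 2), (1, 1, 1), (1, 2, 3), (2, 2, 1), (3, 3, 1), (3, 5, 3), (4, 4, 1), (5, 5, 1)],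
  [[(0, 1), (5, 2)], [(1, 1), (5, 2)], [(2, 1)], [(3, 1)], [(2, 2), (4, 1)], [(5, 1)], [(2, 3), (6, 1)], [(7, 1)], [(2, 1), (4, 3), (6, 2), (8, 1)], [(7, 2), (9, 1)], [(0, 2), (1, 2), (5, 3), (10, 1)], [(7, 3), (11, 1)], [(12, 1)], [(7, 1), (9, 3), (11, 2), (13, 1)], [(14, 1)], [(15, 1)], [(3, 2), (15, 3), (16, 1)], [(17, 1)], [(0, 3), (1, 3), (14, 2), (18, 1)], [(12, 2), (17, 3), (19, 1)]]⟩

/-- Certificate for `x_3(3)`. -/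
def gen3_3 : GenCert := ⟨3, 3, [(0, 0, 1), (0, 10, 3), (1, 1, 1), (1, 10, 3), (2, 2, 1), (2, 4, 3), (2, 6, 2), (2, 8, 1), (3, 3, 1), (4, 4, 1), (4, 8, 2), (5, 0, 3), (5, 1, 3), (5, 5, 1), (5, 10, 2), (6, 6, 1), (6, 8, 3), (7, 7, 1), (7, 9, 3), (7, 11, 2), (7, 13, 1), (8, 8, 1), (9, 9, 1), (9, 13, 2), (10, 10, 1), (11, 11, 1), (11, 13, 3), (12, 12, 1), (13, 13, 1)],
  [(0, 0, 1), (0, 4, 3), (1, 1, 1), (1, 2, 2), (2, 2, 1), (3, 3, 1), (3, 5, 2), (4, 4, 1), (5, 5, 1)],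
  [[(0, 1), (5, 3)], [(1, 1), (5, 3)], [(2, 1)], [(3, 1)], [(2, 3), (4, 1)], [(5, 1)], [(2, 2), (6, 1)], [(7, 1)], [(2, 1), (4, 2), (6, 3), (8, 1)], [(7, 3), (9, 1)], [(0, 3), (1, 3), (5, 2), (10, 1)], [(7, 2), (11, 1)], [(12, 1)], [(7, 1), (9, 2), (11, 3), (13, 1)], [(14, 1)], [(15, 1)], [(3, 3), (15, 2), (16, 1)], [(17, 1)], [(0, 2), (1, 2), (14, 3), (18, 1)], [(12, 3), (17, 2), (19, 1)]]⟩

/-- Certificate for `x_4(1)`. -/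
def gen4_1 : GenCert := ⟨4, 1, [(0, 0, 1), (0, 9, 1), (1, 1, 1), (2, 2, 1), (3, 3, 1), (3, 4, 1), (3, 5, 1), (3, 7, 1), (4, 4, 1), (4, 7, 1), (5, 5, 1), (5, 7, 1), (6, 1, 1), (6, 6, 1), (6, 9, 1), (7, 7, 1), (8, 8, 1), (8, 10, 1), (8, 11, 1), (8, 12, 1), (9, 9, 1), (10, 10, 1), (10, 12, 1), (11, 11, 1), (11, 12, 1), (12, 12, 1), (13, 13, 1)],
  [(0, 0, 1), (1, 0, 1), (1, 1, 1), (2, 2, 1), (2, 3, 1), (3, 3, 1), (4, 4, 1), (4, 5, 1), (5, 5, 1)],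
  [[(0, 1)], [(1, 1), (6, 1)], [(2, 1)], [(3, 1)], [(3, 1), (4, 1)], [(3, 1), (5, 1)], [(6, 1)], [(3, 1), (4, 1), (5, 1), (7, 1)], [(8, 1)], [(0, 1), (6, 1), (9, 1)], [(8, 1), (10, 1)], [(8, 1), (11, 1)], [(8, 1), (10, 1), (11, 1), (12, 1)], [(13, 1)], [(2, 1), (14, 1), (15, 1)], [(15, 1)], [(16, 1)], [(0, 1), (16, 1), (17, 1)], [(18, 1)], [(13, 1), (18, 1), (19, 1)]]⟩

/-- Certificate for `x_4(2)`. -/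
def gen4_2 : GenCert := ⟨4, 2, [(0, 0, 1), (0, 9, 2), (1, 1, 1), (2, 2, 1), (3, 3, 1), (3, 4, 2), (3, 5, 3), (3, 7, 1), (4, 4, 1), (4, 7, 3), (5, 5, 1), (5, 7, 2), (6, 1, 2), (6, 6, 1), (6, 9, 3), (7, 7, 1), (8, 8, 1), (8, 10, 2), (8, 11, 3), (8, 12, 1), (9, 9, 1), (10, 10, 1), (10, 12, 3), (11, 11, 1), (11, 12, 2), (12, 12, 1), (13, 13, 1)],
  [(0, 0, 1), (1, 0, 3), (1, 1, 1), (2, 2, 1), (2, 3, 2), (3, 3, 1), (4, 4, 1), (4, 5, 3), (5, 5, 1)],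
  [[(0, 1)], [(1, 1), (6, 2)], [(2, 1)], [(3, 1)], [(3, 2), (4, 1)], [(3, 3), (5, 1)], [(6, 1)], [(3, 1), (4, 3), (5, 2), (7, 1)], [(8, 1)], [(0, 2), (6, 3), (9, 1)], [(8, 2), (10, 1)], [(8, 3), (11, 1)], [(8, 1), (10, 3), (11, 2), (12, 1)], [(13, 1)], [(2, 2), (14, 1), (15, 3)], [(15, 1)], [(16, 1)], [(0, 3), (16, 2), (17, 1)], [(18, 1)], [(13, 2), (18, 3), (19, 1)]]⟩

/-- Certificate for `x_4(3)`. -/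
def gen4_3 : GenCert := ⟨4, 3, [(0, 0, 1), (0, 9, 3), (1, 1, 1), (2, 2, 1), (3, 3, 1), (3, 4, 3), (3, 5, 2), (3, 7, 1), (4, 4, 1), (4, 7, 2), (5, 5, 1), (5, 7, 3), (6, 1, 3), (6, 6, 1), (6, 9, 2), (7, 7, 1), (8, 8, 1), (8, 10, 3), (8, 11, 2), (8, 12, 1), (9, 9, 1), (10, 10, 1), (10, 12, 2), (11, 11, 1), (11, 12, 3), (12, 12, 1), (13, 13, 1)],
  [(0, 0, 1), (1, 0, 2), (1, 1, 1), (2, 2, 1), (2, 3, 3), (3, 3, 1), (4, 4, 1), (4, 5, 2), (5, 5, 1)],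
  [[(0, 1)], [(1, 1), (6, 3)], [(2, 1)], [(3, 1)], [(3, 3), (4, 1)], [(3, 2), (5, 1)], [(6, 1)], [(3, 1), (4, 2), (5, 3), (7, 1)], [(8, 1)], [(0, 3), (6, 2), (9, 1)], [(8, 3), (10, 1)], [(8, 2), (11, 1)], [(8, 1), (10, 2), (11, 3), (12, 1)], [(13, 1)], [(2, 3), (14, 1), (15, 2)], [(15, 1)], [(16, 1)], [(0, 2), (16, 3), (17, 1)], [(18, 1)], [(13, 3), (18, 2), (19, 1)]]⟩

/-- Certificate for `x_5(1)`. -/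
def gen5_1 : GenCert := ⟨5, 1, [(0, 0, 1), (1, 1, 1), (1, 8, 1), (2, 2, 1), (2, 3, 1), (3, 3, 1), (4, 4, 1), (5, 5, 1), (5, 6, 1), (6, 6, 1), (7, 0, 1), (7, 7, 1), (7, 8, 1), (8, 8, 1), (9, 9, 1), (9, 10, 1), (10, 10, 1), (11, 11, 1), (12, 12, 1), (12, 13, 1), (13, 13, 1)],
  [(0, 0, 1), (0, 2, 1), (1, 1, 1), (2, 2, 1), (3, 3, 1), (3, 4, 1), (4, 4, 1), (5, 5, 1)],
  [[(0, 1), (7, 1)], [(1, 1)], [(2, 1)], [(2, 1), (3, 1)], [(4, 1)], [(5, 1)], [(5, 1), (6, 1)], [(7, 1)], [(1, 1), (7, 1), (8, 1)], [(9, 1)], [(9, 1), (10, 1)], [(11, 1)], [(12, 1)], [(12, 1), (13, 1)], [(14, 1)], [(15, 1)], [(4, 1), (14, 1), (16, 1)], [(17, 1)], [(11, 1), (17, 1), (18, 1)], [(19, 1)]]⟩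

/-- Certificate for `x_5(2)`. -/
def gen5_2 : GenCert := ⟨5, 2, [(0, 0, 1), (1, 1, 1), (1, 8, 2), (2, 2, 1), (2, 3, 2), (3, 3, 1), (4, 4, 1), (5, 5, 1), (5, 6, 2), (6, 6, 1), (7, 0, 2), (7, 7, 1), (7, 8, 3), (8, 8, 1), (9, 9, 1), (9, 10, 2), (10, 10, 1), (11, 11, 1), (12, 12, 1), (12, 13, 2), (13, 13, 1)],
  [(0, 0, 1), (0, 2, 3), (1, 1, 1), (2, 2, 1), (3, 3, 1), (3, 4, 3), (4, 4, 1), (5, 5, 1)],
  [[(0, 1), (7, 2)], [(1, 1)], [(2, 1)], [(2, 2), (3, 1)], [(4, 1)], [(5, 1)], [(5, 2), (6, 1)], [(7, 1)], [(1, 2), (7, 3), (8, 1)], [(9, 1)], [(9, 2), (10, 1)], [(11, 1)], [(12, 1)], [(12, 2), (13, 1)], [(14, 1)], [(15, 1)], [(4, 2), (14, 3), (16, 1)], [(17, 1)], [(11, 2), (17, 3), (18, 1)], [(19, 1)]]⟩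

/-- Certificate for `x_5(3)`. -/
def gen5_3 : GenCert := ⟨5, 3, [(0, 0, 1), (1, 1, 1), (1, 8, 3), (2, 2, 1), (2, 3, 3), (3, 3, 1), (4, 4, 1), (5, 5, 1), (5, 6, 3), (6, 6, 1), (7, 0, 3), (7, 7, 1), (7, 8, 2), (8, 8, 1), (9, 9, 1), (9, 10, 3), (10, 10, 1), (11, 11, 1), (12, 12, 1), (12, 13, 3), (13, 13, 1)],
  [(0, 0, 1), (0, 2, 2), (1, 1, 1), (2, 2, 1), (3, 3, 1), (3, 4, 2), (4, 4, 1), (5, 5, 1)],
  [[(0, 1), (7, 3)], [(1, 1)], [(2, 1)], [(2, 3), (3, 1)], [(4, 1)], [(5, 1)], [(5, 3), (6, 1)], [(7, 1)], [(1, 3), (7, 2), (8, 1)], [(9, 1)], [(9, 3), (10, 1)], [(11, 1)], [(12, 1)], [(12, 3), (13, 1)], [(14, 1)], [(15, 1)], [(4, 3), (14, 2), (16, 1)], [(17, 1)], [(11, 3), (17, 2), (18, 1)], [(19, 1)]]⟩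

/-- Certificate for `x_6(1)`. -/
def gen6_1 : GenCert := ⟨6, 1, [(0, 0, 1), (1, 1, 1), (1, 7, 1), (2, 2, 1), (3, 2, 1), (3, 3, 1), (4, 4, 1), (5, 5, 1), (6, 5, 1), (6, 6, 1), (7, 7, 1), (8, 0, 1), (8, 7, 1), (8, 8, 1), (9, 9, 1), (10, 9, 1), (10, 10, 1), (11, 11, 1), (12, 12, 1), (13, 12, 1), (13, 13, 1)],
  [(0, 0, 1), (1, 1, 1), (2, 0, 1), (2, 2, 1), (3, 3, 1), (4, 3, 1), (4, 4, 1), (5, 5, 1)],
  [[(0, 1), (8, 1)], [(1, 1)], [(2, 1), (3, 1)], [(3, 1)], [(4, 1)], [(5, 1), (6, 1)], [(6, 1)], [(1, 1), (7, 1), (8, 1)], [(8, 1)], [(9, 1), (10, 1)], [(10, 1)], [(11, 1)], [(12, 1), (13, 1)], [(13, 1)], [(4, 1), (14, 1), (16, 1)], [(15, 1)], [(16, 1)], [(11, 1), (17, 1), (18, 1)], [(18, 1)], [(19, 1)]]⟩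

/-- Certificate for `x_6(2)`. -/
def gen6_2 : GenCert := ⟨6, 2, [(0, 0, 1), (1, 1, 1), (1, 7, 2), (2, 2, 1), (3, 2, 2), (3, 3, 1), (4, 4, 1), (5, 5, 1), (6, 5, 2), (6, 6, 1), (7, 7, 1), (8, 0, 2), (8, 7, 3), (8, 8, 1), (9, 9, 1), (10, 9, 2), (10, 10, 1), (11, 11, 1), (12, 12, 1), (13, 12, 2), (13, 13, 1)],
  [(0, 0, 1), (1, 1, 1), (2, 0, 3), (2, 2, 1), (3, 3, 1), (4, 3, 3), (4, 4, 1), (5, 5, 1)],
  [[(0, 1), (8, 2)], [(1, 1)], [(2, 1), (3, 2)], [(3, 1)], [(4, 1)], [(5, 1), (6, 2)], [(6, 1)], [(1, 2), (7, 1), (8, 3)], [(8, 1)], [(9, 1), (10, 2)], [(10, 1)], [(11, 1)], [(12, 1), (13, 2)], [(13, 1)], [(4, 2), (14, 1), (16, 3)], [(15, 1)], [(16, 1)], [(11, 2), (17, 1), (18, 3)], [(18, 1)], [(19, 1)]]⟩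

/-- Certificate for `x_6(3)`. -/
def gen6_3 : GenCert := ⟨6, 3, [(0, 0, 1), (1, 1, 1), (1, 7, 3), (2, 2, 1), (3, 2, 3), (3, 3, 1), (4, 4, 1), (5, 5, 1), (6, 5, 3), (6, 6, 1), (7, 7, 1), (8, 0, 3), (8, 7, 2), (8, 8, 1), (9, 9, 1), (10, 9, 3), (10, 10, 1), (11, 11, 1), (12, 12, 1), (13, 12, 3), (13, 13, 1)],
  [(0, 0, 1), (1, 1, 1), (2, 0, 2), (2, 2, 1), (3, 3, 1), (4, 3, 2), (4, 4, 1), (5, 5, 1)],
  [[(0, 1), (8, 3)], [(1, 1)], [(2, 1), (3, 3)], [(3, 1)], [(4, 1)], [(5, 1), (6, 3)], [(6, 1)], [(1, 3), (7, 1), (8, 2)], [(8, 1)], [(9, 1), (10, 3)], [(10, 1)], [(11, 1)], [(12, 1), (13, 3)], [(13, 1)], [(4, 3), (14, 1), (16, 2)], [(15, 1)], [(16, 1)], [(11, 3), (17, 1), (18, 2)], [(18, 1)], [(19, 1)]]⟩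

/-- Certificate for `x_7(1)`. -/
def gen7_1 : GenCert := ⟨7, 1, [(0, 0, 1), (0, 6, 1), (1, 1, 1), (2, 2, 1), (3, 3, 1), (4, 3, 1), (4, 4, 1), (5, 3, 1), (5, 5, 1), (6, 6, 1), (7, 3, 1), (7, 4, 1), (7, 5, 1), (7, 7, 1), (8, 8, 1), (9, 1, 1), (9, 6, 1), (9, 9, 1), (10, 8, 1), (10, 10, 1), (11, 8, 1), (11, 11, 1), (12, 8, 1), (12, 10, 1), (12, 11, 1), (12, 12, 1), (13, 13, 1)],
  [(0, 0, 1), (0, 1, 1), (1, 1, 1), (2, 2, 1), (3, 2, 1), (3, 3, 1), (4, 4, 1), (5, 4, 1), (5, 5, 1)],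
  [[(0, 1)], [(1, 1), (9, 1)], [(2, 1)], [(3, 1), (4, 1), (5, 1), (7, 1)], [(4, 1), (7, 1)], [(5, 1), (7, 1)], [(0, 1), (6, 1), (9, 1)], [(7, 1)], [(8, 1), (10, 1), (11, 1), (12, 1)], [(9, 1)], [(10, 1), (12, 1)], [(11, 1), (12, 1)], [(12, 1)], [(13, 1)], [(14, 1)], [(2, 1), (14, 1), (15, 1)], [(0, 1), (16, 1), (17, 1)], [(17, 1)], [(13, 1), (18, 1), (19, 1)], [(19, 1)]]⟩

/-- Certificate for `x_7(2)`. -/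
def gen7_2 : GenCert := ⟨7, 2, [(0, 0, 1), (0, 6, 2), (1, 1, 1), (2, 2, 1), (3, 3, 1), (4, 3, 2), (4, 4, 1), (5, 3, 3), (5, 5, 1), (6, 6, 1), (7, 3, 1), (7, 4, 3), (7, 5, 2), (7, 7, 1), (8, 8, 1), (9, 1, 2), (9, 6, 3), (9, 9, 1), (10, 8, 2), (10, 10, 1), (11, 8, 3), (11, 11, 1), (12, 8, 1), (12, 10, 3), (12, 11, 2), (12, 12, 1), (13, 13, 1)],
  [(0, 0, 1), (0, 1, 3), (1, 1, 1), (2, 2, 1), (3, 2, 2), (3, 3, 1), (4, 4, 1), (5, 4, 3), (5, 5, 1)],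
  [[(0, 1)], [(1, 1), (9, 2)], [(2, 1)], [(3, 1), (4, 2), (5, 3), (7, 1)], [(4, 1), (7, 3)], [(5, 1), (7, 2)], [(0, 2), (6, 1), (9, 3)], [(7, 1)], [(8, 1), (10, 2), (11, 3), (12, 1)], [(9, 1)], [(10, 1), (12, 3)], [(11, 1), (12, 2)], [(12, 1)], [(13, 1)], [(14, 1)], [(2, 2), (14, 3), (15, 1)], [(0, 3), (16, 1), (17, 2)], [(17, 1)], [(13, 2), (18, 1), (19, 3)], [(19, 1)]]⟩

/-- Certificate for `x_7(3)`. -/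
def gen7_3 : GenCert := ⟨7, 3, [(0, 0, 1), (0, 6, 3), (1, 1, 1), (2, 2, 1), (3, 3, 1), (4, 3, 3), (4, 4, 1), (5, 3, 2), (5, 5, 1), (6, 6, 1), (7, 3, 1), (7, 4, 2), (7, 5, 3), (7, 7, 1), (8, 8, 1), (9, 1, 3), (9, 6, 2), (9, 9, 1), (10, 8, 3), (10, 10, 1), (11, 8, 2), (11, 11, 1), (12, 8, 1), (12, 10, 2), (12, 11, 3), (12, 12, 1), (13, 13, 1)],
  [(0, 0, 1), (0, 1, 2), (1, 1, 1), (2, 2, 1), (3, 2, 3), (3, 3, 1), (4, 4, 1), (5, 4, 2), (5, 5, 1)],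
  [[(0, 1)], [(1, 1), (9, 3)], [(2, 1)], [(3, 1), (4, 3), (5, 2), (7, 1)], [(4, 1), (7, 2)], [(5, 1), (7, 3)], [(0, 3), (6, 1), (9, 2)], [(7, 1)], [(8, 1), (10, 3), (11, 2), (12, 1)], [(9, 1)], [(10, 1), (12, 2)], [(11, 1), (12, 3)], [(12, 1)], [(13, 1)], [(14, 1)], [(2, 3), (14, 2), (15, 1)], [(0, 2), (16, 1), (17, 3)], [(17, 1)], [(13, 3), (18, 1), (19, 2)], [(19, 1)]]⟩

/-- Certificate for `x_8(1)`. -/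
def gen8_1 : GenCert := ⟨8, 1, [(0, 0, 1), (0, 5, 1), (1, 1, 1), (1, 5, 1), (2, 2, 1), (3, 3, 1), (4, 2, 1), (4, 4, 1), (5, 5, 1), (6, 2, 1), (6, 6, 1), (7, 7, 1), (8, 2, 1), (8, 4, 1), (8, 6, 1), (8, 8, 1), (9, 7, 1), (9, 9, 1), (10, 0, 1), (10, 1, 1), (10, 5, 1), (10, 10, 1), (11, 7, 1), (11, 11, 1), (12, 12, 1), (13, 7, 1), (13, 9, 1), (13, 11, 1), (13, 13, 1)],
  [(0, 0, 1), (1, 1, 1), (2, 1, 1), (2, 2, 1), (3, 3, 1), (4, 0, 1), (4, 4, 1), (5, 3, 1), (5, 5, 1)],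
  [[(0, 1), (10, 1)], [(1, 1), (10, 1)], [(2, 1), (4, 1), (6, 1), (8, 1)], [(3, 1)], [(4, 1), (8, 1)], [(0, 1), (1, 1), (5, 1), (10, 1)], [(6, 1), (8, 1)], [(7, 1), (9, 1), (11, 1), (13, 1)], [(8, 1)], [(9, 1), (13, 1)], [(10, 1)], [(11, 1), (13, 1)], [(12, 1)], [(13, 1)], [(0, 1), (1, 1), (14, 1), (18, 1)], [(3, 1), (15, 1), (16, 1)], [(16, 1)], [(12, 1), (17, 1), (19, 1)], [(18, 1)], [(19, 1)]]⟩

/-- Certificate for `x_8(2)`. -/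
def gen8_2 : GenCert := ⟨8, 2, [(0, 0, 1), (0, 5, 2), (1, 1, 1), (1, 5, 2), (2, 2, 1), (3, 3, 1), (4, 2, 2), (4, 4, 1), (5, 5, 1), (6, 2, 3), (6, 6, 1), (7, 7, 1), (8, 2, 1), (8, 4, 3), (8, 6, 2), (8, 8, 1), (9, 7, 2), (9, 9, 1), (10, 0, 2), (10, 1, 2), (10, 5, 3), (10, 10, 1), (11, 7, 3), (11, 11, 1), (12, 12, 1), (13, 7, 1), (13, 9, 3), (13, 11, 2), (13, 13, 1)],
  [(0, 0, 1), (1, 1, 1), (2, 1, 3), (2, 2, 1), (3, 3, 1), (4, 0, 2), (4, 4, 1), (5, 3, 3), (5, 5, 1)],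
  [[(0, 1), (10, 2)], [(1, 1), (10, 2)], [(2, 1), (4, 2), (6, 3), (8, 1)], [(3, 1)], [(4, 1), (8, 3)], [(0, 2), (1, 2), (5, 1), (10, 3)], [(6, 1), (8, 2)], [(7, 1), (9, 2), (11, 3), (13, 1)], [(8, 1)], [(9, 1), (13, 3)], [(10, 1)], [(11, 1), (13, 2)], [(12, 1)], [(13, 1)], [(0, 3), (1, 3), (14, 1), (18, 2)], [(3, 2), (15, 1), (16, 3)], [(16, 1)], [(12, 2), (17, 1), (19, 3)], [(18, 1)], [(19, 1)]]⟩

/-- Certificate for `x_8(3)`. -/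
def gen8_3 : GenCert := ⟨8, 3, [(0, 0, 1), (0, 5, 3), (1, 1, 1), (1, 5, 3), (2, 2, 1), (3, 3, 1), (4, 2, 3), (4, 4, 1), (5, 5, 1), (6, 2, 2), (6, 6, 1), (7, 7, 1), (8, 2, 1), (8, 4, 2), (8, 6, 3), (8, 8, 1), (9, 7, 3), (9, 9, 1), (10, 0, 3), (10, 1, 3), (10, 5, 2), (10, 10, 1), (11, 7, 2), (11, 11, 1), (12, 12, 1), (13, 7, 1), (13, 9, 2), (13, 11, 3), (13, 13, 1)],
  [(0, 0, 1), (1, 1, 1), (2, 1, 2), (2, 2, 1), (3, 3, 1), (4, 0, 3), (4, 4, 1), (5, 3, 2), (5, 5, 1)],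
  [[(0, 1), (10, 3)], [(1, 1), (10, 3)], [(2, 1), (4, 3), (6, 2), (8, 1)], [(3, 1)], [(4, 1), (8, 2)], [(0, 3), (1, 3), (5, 1), (10, 2)], [(6, 1), (8, 3)], [(7, 1), (9, 3), (11, 2), (13, 1)], [(8, 1)], [(9, 1), (13, 2)], [(10, 1)], [(11, 1), (13, 3)], [(12, 1)], [(13, 1)], [(0, 2), (1, 2), (14, 1), (18, 3)], [(3, 3), (15, 1), (16, 2)], [(16, 1)], [(12, 3), (17, 1), (19, 2)], [(18, 1)], [(19, 1)]]⟩

/-- Certificate for `x_9(1)`. -/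
def gen9_1 : GenCert := ⟨9, 1, [(0, 0, 1), (1, 1, 1), (1, 4, 1), (2, 2, 1), (3, 3, 1), (4, 4, 1), (5, 2, 1), (5, 5, 1), (6, 3, 1), (6, 6, 1), (7, 7, 1), (8, 8, 1), (9, 2, 1), (9, 9, 1), (10, 3, 1), (10, 10, 1), (11, 0, 1), (11, 4, 1), (11, 11, 1), (12, 2, 1), (12, 5, 1), (12, 9, 1), (12, 12, 1), (13, 3, 1), (13, 6, 1), (13, 10, 1), (13, 13, 1)],
  [(0, 0, 1), (1, 1, 1), (2, 2, 1), (3, 0, 1), (3, 3, 1), (4, 2, 1), (4, 4, 1), (5, 1, 1), (5, 5, 1)],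
  [[(0, 1), (11, 1)], [(1, 1)], [(2, 1), (5, 1), (9, 1), (12, 1)], [(3, 1), (6, 1), (10, 1), (13, 1)], [(1, 1), (4, 1), (11, 1)], [(5, 1), (12, 1)], [(6, 1), (13, 1)], [(7, 1)], [(8, 1)], [(9, 1), (12, 1)], [(10, 1), (13, 1)], [(11, 1)], [(12, 1)], [(13, 1)], [(7, 1), (14, 1), (17, 1)], [(1, 1), (15, 1), (19, 1)], [(8, 1), (16, 1), (18, 1)], [(17, 1)], [(18, 1)], [(19, 1)]]⟩

/-- Certificate for `x_9(2)`. -/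
def gen9_2 : GenCert := ⟨9, 2, [(0, 0, 1), (1, 1, 1), (1, 4, 2), (2, 2, 1), (3, 3, 1), (4, 4, 1), (5, 2, 2), (5, 5, 1), (6, 3, 2), (6, 6, 1), (7, 7, 1), (8, 8, 1), (9, 2, 3), (9, 9, 1), (10, 3, 3), (10, 10, 1), (11, 0, 2), (11, 4, 3), (11, 11, 1), (12, 2, 1), (12, 5, 3), (12, 9, 2), (12, 12, 1), (13, 3, 1), (13, 6, 3), (13, 10, 2), (13, 13, 1)],
  [(0, 0, 1), (1, 1, 1), (2, 2, 1), (3, 0, 3), (3, 3, 1), (4, 2, 3), (4, 4, 1), (5, 1, 2), (5, 5, 1)],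
  [[(0, 1), (11, 2)], [(1, 1)], [(2, 1), (5, 2), (9, 3), (12, 1)], [(3, 1), (6, 2), (10, 3), (13, 1)], [(1, 2), (4, 1), (11, 3)], [(5, 1), (12, 3)], [(6, 1), (13, 3)], [(7, 1)], [(8, 1)], [(9, 1), (12, 2)], [(10, 1), (13, 2)], [(11, 1)], [(12, 1)], [(13, 1)], [(7, 2), (14, 1), (17, 3)], [(1, 3), (15, 1), (19, 2)], [(8, 2), (16, 1), (18, 3)], [(17, 1)], [(18, 1)], [(19, 1)]]⟩

/-- Certificate for `x_9(3)`. -/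
def gen9_3 : GenCert := ⟨9, 3, [(0, 0, 1), (1, 1, 1), (1, 4, 3), (2, 2, 1), (3, 3, 1), (4, 4, 1), (5, 2, 3), (5, 5, 1), (6, 3, 3), (6, 6, 1), (7, 7, 1), (8, 8, 1), (9, 2, 2), (9, 9, 1), (10, 3, 2), (10, 10, 1), (11, 0, 3), (11, 4, 2), (11, 11, 1), (12, 2, 1), (12, 5, 2), (12, 9, 3), (12, 12, 1), (13, 3, 1), (13, 6, 2), (13, 10, 3), (13, 13, 1)],
  [(0, 0, 1), (1, 1, 1), (2, 2, 1), (3, 0, 2), (3, 3, 1), (4, 2, 2), (4, 4, 1), (5, 1, 3), (5, 5, 1)],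
  [[(0, 1), (11, 3)], [(1, 1)], [(2, 1), (5, 3), (9, 2), (12, 1)], [(3, 1), (6, 3), (10, 2), (13, 1)], [(1, 3), (4, 1), (11, 2)], [(5, 1), (12, 2)], [(6, 1), (13, 2)], [(7, 1)], [(8, 1)], [(9, 1), (12, 3)], [(10, 1), (13, 3)], [(11, 1)], [(12, 1)], [(13, 1)], [(7, 3), (14, 1), (17, 2)], [(1, 2), (15, 1), (19, 3)], [(8, 3), (16, 1), (18, 2)], [(17, 1)], [(18, 1)], [(19, 1)]]⟩

/-- Certificate for `x_10(1)`. -/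
def gen10_1 : GenCert := ⟨10, 1, [(0, 0, 1), (0, 3, 1), (1, 1, 1), (1, 3, 1), (2, 2, 1), (3, 3, 1), (4, 4, 1), (5, 5, 1), (6, 6, 1), (7, 2, 1), (7, 7, 1), (8, 8, 1), (9, 4, 1), (9, 9, 1), (10, 10, 1), (11, 6, 1), (11, 11, 1), (12, 0, 1), (12, 1, 1), (12, 3, 1), (12, 12, 1), (13, 8, 1), (13, 13, 1)],
  [(0, 0, 1), (1, 1, 1), (2, 2, 1), (3, 1, 1), (3, 3, 1), (4, 4, 1), (5, 2, 1), (5, 5, 1)],
  [[(0, 1), (12, 1)], [(1, 1), (12, 1)], [(2, 1), (7, 1)], [(0, 1), (1, 1), (3, 1), (12, 1)], [(4, 1), (9, 1)], [(5, 1)], [(6, 1), (11, 1)], [(7, 1)], [(8, 1), (13, 1)], [(9, 1)], [(10, 1)], [(11, 1)], [(12, 1)], [(13, 1)], [(14, 1)], [(5, 1), (15, 1), (17, 1)], [(10, 1), (16, 1), (19, 1)], [(17, 1)], [(18, 1)], [(19, 1)]]⟩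

/-- Certificate for `x_10(2)`. -/
def gen10_2 : GenCert := ⟨10, 2, [(0, 0, 1), (0, 3, 2), (1, 1, 1), (1, 3, 2), (2, 2, 1), (3, 3, 1), (4, 4, 1), (5, 5, 1), (6, 6, 1), (7, 2, 2), (7, 7, 1), (8, 8, 1), (9, 4, 2), (9, 9, 1), (10, 10, 1), (11, 6, 2), (11, 11, 1), (12, 0, 2), (12, 1, 2), (12, 3, 3), (12, 12, 1), (13, 8, 2), (13, 13, 1)],
  [(0, 0, 1), (1, 1, 1), (2, 2, 1), (3, 1, 3), (3, 3, 1), (4, 4, 1), (5, 2, 3), (5, 5, 1)],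
  [[(0, 1), (12, 2)], [(1, 1), (12, 2)], [(2, 1), (7, 2)], [(0, 2), (1, 2), (3, 1), (12, 3)], [(4, 1), (9, 2)], [(5, 1)], [(6, 1), (11, 2)], [(7, 1)], [(8, 1), (13, 2)], [(9, 1)], [(10, 1)], [(11, 1)], [(12, 1)], [(13, 1)], [(14, 1)], [(5, 2), (15, 1), (17, 3)], [(10, 2), (16, 1), (19, 3)], [(17, 1)], [(18, 1)], [(19, 1)]]⟩

/-- Certificate for `x_10(3)`. -/
def gen10_3 : GenCert := ⟨10, 3, [(0, 0, 1), (0, 3, 3), (1, 1, 1), (1, 3, 3), (2, 2, 1), (3, 3, 1), (4, 4, 1), (5, 5, 1), (6, 6, 1), (7, 2, 3), (7, 7, 1), (8, 8, 1), (9, 4, 3), (9, 9, 1), (10, 10, 1), (11, 6, 3), (11, 11, 1), (12, 0, 3), (12, 1, 3), (12, 3, 2), (12, 12, 1), (13, 8, 3), (13, 13, 1)],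
  [(0, 0, 1), (1, 1, 1), (2, 2, 1), (3, 1, 2), (3, 3, 1), (4, 4, 1), (5, 2, 2), (5, 5, 1)],
  [[(0, 1), (12, 3)], [(1, 1), (12, 3)], [(2, 1), (7, 3)], [(0, 3), (1, 3), (3, 1), (12, 2)], [(4, 1), (9, 3)], [(5, 1)], [(6, 1), (11, 3)], [(7, 1)], [(8, 1), (13, 3)], [(9, 1)], [(10, 1)], [(11, 1)], [(12, 1)], [(13, 1)], [(14, 1)], [(5, 3), (15, 1), (17, 2)], [(10, 3), (16, 1), (19, 2)], [(17, 1)], [(18, 1)], [(19, 1)]]⟩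

/-- Certificate for `x_11(1)`. -/
def gen11_1 : GenCert := ⟨11, 1, [(0, 0, 1), (0, 2, 1), (1, 1, 1), (2, 2, 1), (3, 3, 1), (4, 4, 1), (5, 5, 1), (6, 6, 1), (7, 7, 1), (8, 3, 1), (8, 8, 1), (9, 9, 1), (10, 4, 1), (10, 10, 1), (11, 5, 1), (11, 11, 1), (12, 7, 1), (12, 12, 1), (13, 1, 1), (13, 2, 1), (13, 13, 1)],
  [(0, 0, 1), (1, 1, 1), (2, 2, 1), (3, 3, 1), (4, 1, 1), (4, 4, 1), (5, 0, 1), (5, 5, 1)],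
  [[(0, 1)], [(1, 1), (13, 1)], [(0, 1), (2, 1), (13, 1)], [(3, 1), (8, 1)], [(4, 1), (10, 1)], [(5, 1), (11, 1)], [(6, 1)], [(7, 1), (12, 1)], [(8, 1)], [(9, 1)], [(10, 1)], [(11, 1)], [(12, 1)], [(13, 1)], [(9, 1), (14, 1), (19, 1)], [(6, 1), (15, 1), (18, 1)], [(16, 1)], [(17, 1)], [(18, 1)], [(19, 1)]]⟩

/-- Certificate for `x_11(2)`. -/
def gen11_2 : GenCert := ⟨11, 2, [(0, 0, 1), (0, 2, 2), (1, 1, 1), (2, 2, 1), (3, 3, 1), (4, 4, 1), (5, 5, 1), (6, 6, 1), (7, 7, 1), (8, 3, 2), (8, 8, 1), (9, 9, 1), (10, 4, 2), (10, 10, 1), (11, 5, 2), (11, 11, 1), (12, 7, 2), (12, 12, 1), (13, 1, 2), (13, 2, 3), (13, 13, 1)],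
  [(0, 0, 1), (1, 1, 1), (2, 2, 1), (3, 3, 1), (4, 1, 3), (4, 4, 1), (5, 0, 3), (5, 5, 1)],
  [[(0, 1)], [(1, 1), (13, 2)], [(0, 2), (2, 1), (13, 3)], [(3, 1), (8, 2)], [(4, 1), (10, 2)], [(5, 1), (11, 2)], [(6, 1)], [(7, 1), (12, 2)], [(8, 1)], [(9, 1)], [(10, 1)], [(11, 1)], [(12, 1)], [(13, 1)], [(9, 2), (14, 1), (19, 3)], [(6, 2), (15, 1), (18, 3)], [(16, 1)], [(17, 1)], [(18, 1)], [(19, 1)]]⟩

/-- Certificate for `x_11(3)`. -/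
def gen11_3 : GenCert := ⟨11, 3, [(0, 0, 1), (0, 2, 3), (1, 1, 1), (2, 2, 1), (3, 3, 1), (4, 4, 1), (5, 5, 1), (6, 6, 1), (7, 7, 1), (8, 3, 3), (8, 8, 1), (9, 9, 1), (10, 4, 3), (10, 10, 1), (11, 5, 3), (11, 11, 1), (12, 7, 3), (12, 12, 1), (13, 1, 3), (13, 2, 2), (13, 13, 1)],
  [(0, 0, 1), (1, 1, 1), (2, 2, 1), (3, 3, 1), (4, 1, 2), (4, 4, 1), (5, 0, 2), (5, 5, 1)],
  [[(0, 1)], [(1, 1), (13, 3)], [(0, 3), (2, 1), (13, 2)], [(3, 1), (8, 3)], [(4, 1), (10, 3)], [(5, 1), (11, 3)], [(6, 1)], [(7, 1), (12, 3)], [(8, 1)], [(9, 1)], [(10, 1)], [(11, 1)], [(12, 1)], [(13, 1)], [(9, 3), (14, 1), (19, 2)], [(6, 3), (15, 1), (18, 2)], [(16, 1)], [(17, 1)], [(18, 1)], [(19, 1)]]⟩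

/-- The certificates of all root elements. -/
def genData : List GenCert := [gen0_1, gen0_2, gen0_3, gen1_1, gen1_2, gen1_3, gen2_1, gen2_2, gen2_3, gen3_1, gen3_2, gen3_3, gen4_1, gen4_2, gen4_3, gen5_1, gen5_2, gen5_3, gen6_1, gen6_2, gen6_3, gen7_1, gen7_2, gen7_3, gen8_1, gen8_2, gen8_3, gen9_1, gen9_2, gen9_3, gen10_1, gen10_2, gen10_3, gen11_1, gen11_2, gen11_3]

/-- A word of order 6. -/
def word6 : List GenCert := [gen6_2, gen5_3, gen7_2]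

/-- A word of order 7. -/
def word7 : List GenCert := [gen6_3, gen7_2, gen5_2, gen4_3]

/-- A word of order 10. -/
def word10 : List GenCert := [gen4_3, gen6_3, gen7_3]

/-- A word of order 13. -/
def word13 : List GenCert := [gen6_1, gen4_1, gen5_2, gen7_3]

/-- The `j`-th spanning matrix. -/
def basisS (j : ℕ) : SMat := basisData.getD j []

/-- A combination of the spanning matrices. -/
def combS : List (ℕ × ℕ) → SMat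
  | [] => []
  | e :: L => smulS e.2 (basisS (e.1 % 20)) ++ combS L

/-- The value of a coordinate functional on a packed matrix. -/
def funcS (k z : ℕ) : ℕ :=
  (funcData.getD k []).foldr (fun p s => ((z >>> (2 * (14 * (p.1 % 14) + p.2 % 14))) % 4) ^^^ s) 0

/-- The checks of one certificate. -/
def checkCert (c : GenCert) : Bool :=
  eqS 14 (mulS 14 c.g c.g) (oneS 14) &&
  (List.range 20).all fun j =>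
    let D := combS (c.comb.getD j [])
    eqS 14 (mulS 14 c.g (basisS j)) (mulS 14 D c.g) &&
    (List.range 6).all fun k =>
      funcS k (acc 14 D) % 4 == if j < 14 then 0 else ((acc 6 c.ρ) >>> (2 * (6 * k + (j - 14)))) % 4

set_option linter.style.maxHeartbeats false in
set_option maxHeartbeats 4000000 in
theorem genData_ok : genData.all checkCert = true := by decide +kernel

theorem func_basis_ok : (List.range 20).all (fun j => (List.range 6).all fun k =>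
    funcS k (acc 14 (basisS j)) % 4 == if j = 14 + k then 1 else 0) = true := by decide +kernel

/-- Coordinates of the adjoint module. -/
abbrev eIdx : Fin 14 ≃ Cfsg.Lie.chevG2.Idx := (finSumFinEquiv (m := 2) (n := 12)).symm

/-- The check that a certificate belongs to its root element. -/
def XMatchOK (c : GenCert) : Prop :=
  ∀ i j : Fin 14, Cfsg.Lie.chevG2.xMat K4 (Fin.ofNat 12 c.r) (K4.ofN c.t) (eIdx i) (eIdx j) =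
    dec 14 (acc 14 c.g) i j

end H35.G24
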