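import Cfsg.Agent.H35.G24Data

/-!
The six-dimensional module of `G₂(4)`, elements of orders 6, 10, 7 and 13.
-/

set_option autoImplicit false
set_option maxRecDepth 20000

namespace H35.G24

open Cfsg Cfsg.Lie Matrix

theorem xmatch_ok : genData.all (fun c => decide (∀ i j : Fin 14,
    chevG2.xMat K4 (Fin.ofNat 12 c.r) (K4.ofN c.t) (eIdx i) (eIdx j) = dec 14 (acc 14 c.g) i j)) = true := by
  decide +kernel

theorem cover_ok : ∀ (r : Fin 12) (t : K4), t = 0 ∨
    (genData.any fun c => c.r == r.val && c.t == t.v.val) = true := by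
  decide +kernel

/-- The group. -/
abbrev G24 : Type := ↥(chevG2.group K4)

/-- The endomorphisms of the adjoint module. -/
abbrev M14 : Type := Matrix (Fin 14) (Fin 14) K4

/-- The matrix of an invertible map of the adjoint module in the numbered coordinates. -/
def mat (g : GL chevG2.Idx K4) : M14 := (g : Matrix chevG2.Idx chevG2.Idx K4).submatrix eIdx eIdx

theorem mat_mul (g h : GL chevG2.Idx K4) : mat (g * h) = mat g * mat h :=
  (Matrix.submatrix_mul_equiv _ _ eIdx eIdx eIdx).symm

theorem mat_one : mat 1 = 1 := Matrix.submatrix_one_equiv eIdx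

theorem mat_injective : Function.Injective mat := by
  intro g h e
  refine Units.ext (Matrix.ext fun i j => ?_)
  have := congrFun (congrFun e (eIdx.symm i)) (eIdx.symm j)
  simpa [mat] using this

/-- The spanning matrices. -/
def bas (j : ℕ) : M14 := toMat 14 (basisS j)

/-- The space spanned by all the matrices. -/
def spW : Submodule K4 M14 := Submodule.span K4 (Set.range fun j : Fin 20 => bas j)

/-- Its adjoint part. -/
def spA : Submodule K4 M14 := Submodule.span K4 (Set.range fun j : Fin 14 => bas j)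

/-- A coordinate functional. -/
def coord (k : ℕ) : M14 →ₗ[K4] K4 where
  toFun M := ((funcData.getD k []).map fun p : ℕ × ℕ => M (Fin.ofNat 14 p.1) (Fin.ofNat 14 p.2)).sum
  map_add' M N := by
    induction funcData.getD k [] with
    | nil => simp
    | cons p L ih =>
      simp only [List.map_cons, List.sum_cons, Matrix.add_apply] at ih ⊢
      rw [ih]; ring
  map_smul' c M := by
    induction funcData.getD k [] with
    | nil => simp
    | cons p L ih =>
      simp only [List.map_cons, List.sum_cons, Matrix.smul_apply, smul_eq_mul, RingHom.id_apply] at ih ⊢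
      rw [ih]; ring

theorem coord_toMat (k : ℕ) (S : SMat) : coord k (toMat 14 S) = K4.ofN (funcS k (acc 14 S)) := by
  show ((funcData.getD k []).map fun p : ℕ × ℕ => toMat 14 S (Fin.ofNat 14 p.1) (Fin.ofNat 14 p.2)).sum = _
  unfold funcS
  induction funcData.getD k [] with
  | nil => rfl
  | cons p L ih =>
    rw [List.map_cons, List.sum_cons, ih, List.foldr_cons, K4.ofN_xor, ofN_mod, toMat_apply]
    rfl

theorem toMat_oneS14 : toMat 14 (oneS 14) = 1 := by
  ext i j
  rw [toMat_apply, Matrix.one_apply]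
  revert i j
  decide +kernel

theorem toMat_oneS6 : toMat 6 (oneS 6) = 1 := by
  ext i j
  rw [toMat_apply, Matrix.one_apply]
  revert i j
  decide +kernel

theorem xMat_zero : ∀ (r : Fin 12) (i j : Fin 14),
    chevG2.xMat K4 r 0 (eIdx i) (eIdx j) = if i = j then 1 else 0 := by
  decide +kernel

theorem ofN_eq_of_mod {a b : ℕ} (h : a % 4 = b % 4) : K4.ofN a = K4.ofN b := by
  rw [← ofN_mod a, h, ofN_mod]

theorem coord_bas (j : Fin 20) (k : Fin 6) :
    coord k (bas j) = if (j : ℕ) = 14 + k then 1 else 0 := by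
  rw [bas, coord_toMat]
  have h := func_basis_ok
  rw [List.all_eq_true] at h
  have h2 := h j.val (List.mem_range.2 j.2)
  rw [List.all_eq_true] at h2
  have h3 := beq_iff_eq.1 (h2 k.val (List.mem_range.2 k.2))
  rw [← ofN_mod, h3]
  split_ifs <;> rfl

/-- The six coordinates. -/
def crd : M14 →ₗ[K4] (Fin 6 → K4) := LinearMap.pi fun k : Fin 6 => coord k

/-- The part of a matrix of `spW` in `spA`. -/
def rest : M14 →ₗ[K4] M14 :=
  LinearMap.id - ∑ k : Fin 6, (coord k).smulRight (bas (14 + k))

theorem crd_bas_adj (j : Fin 14) : crd (bas j) = 0 := by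
  funext k
  show coord k (bas (⟨j, by omega⟩ : Fin 20)) = 0
  rw [coord_bas, if_neg (by show (j : ℕ) ≠ 14 + k; omega)]

theorem spA_le_ker : spA ≤ LinearMap.ker crd := by
  rw [spA, Submodule.span_le]
  rintro _ ⟨j, rfl⟩
  exact crd_bas_adj j

theorem rest_mem {v : M14} (hv : v ∈ spW) : rest v ∈ spA := by
  have h : spW ≤ Submodule.comap rest spA := by
    rw [spW, Submodule.span_le]
    rintro _ ⟨j, rfl⟩
    show rest (bas j) ∈ spA
    simp only [rest, LinearMap.sub_apply, LinearMap.id_coe, id_eq, LinearMap.coe_sum, Finset.sum_apply,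
      LinearMap.smulRight_apply]
    by_cases hj : (j : ℕ) < 14
    · rw [Finset.sum_eq_zero fun k _ => by rw [coord_bas, if_neg (by omega), zero_smul], sub_zero]
      exact Submodule.subset_span ⟨⟨j, hj⟩, rfl⟩
    · rw [Finset.sum_eq_single (⟨(j : ℕ) - 14, by omega⟩ : Fin 6)]
      · rw [coord_bas, if_pos (by show (j : ℕ) = 14 + ((j : ℕ) - 14); omega), one_smul,
          show 14 + ((⟨(j : ℕ) - 14, by omega⟩ : Fin 6) : ℕ) = j by show 14 + ((j : ℕ) - 14) = j; omega, sub_self]
        exact zero_mem _
      · intro k _ hk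
        rw [coord_bas, if_neg (fun e => hk (Fin.ext (by show (k : ℕ) = (j : ℕ) - 14; omega))), zero_smul]
      · simp
  exact h hv

/-- Conjugation. -/
def cj (g : GL chevG2.Idx K4) : M14 →ₗ[K4] M14 :=
  (LinearMap.mulLeft K4 (mat g)).comp (LinearMap.mulRight K4 (mat g⁻¹))

theorem cj_apply (g : GL chevG2.Idx K4) (v : M14) : cj g v = mat g * (v * mat g⁻¹) := rfl

theorem cj_mul (g h : GL chevG2.Idx K4) (v : M14) : cj (g * h) v = cj g (cj h v) := by
  simp only [cj_apply, _root_.mul_inv_rev, mat_mul, mul_assoc]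

theorem cj_one (v : M14) : cj 1 v = v := by
  simp only [cj_apply, inv_one, mat_one, one_mul, mul_one]

/-- Elements preserving both spaces. -/
def Good (g : GL chevG2.Idx K4) : Prop := (∀ v ∈ spW, cj g v ∈ spW) ∧ ∀ v ∈ spA, cj g v ∈ spA

theorem good_one : Good 1 :=
  ⟨fun v hv => by rwa [cj_one], fun v hv => by rwa [cj_one]⟩

theorem good_mul {g h : GL chevG2.Idx K4} (hg : Good g) (hh : Good h) : Good (g * h) :=
  ⟨fun v hv => by rw [cj_mul]; exact hg.1 _ (hh.1 v hv), fun v hv => by rw [cj_mul]; exact hg.2 _ (hh.2 v hv)⟩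

theorem combS_mem (L : List (ℕ × ℕ)) : toMat 14 (combS L) ∈ spW := by
  induction L with
  | nil => exact zero_mem _
  | cons e L ih =>
    rw [combS, toMat_append, toMat_smulS]
    exact add_mem (Submodule.smul_mem _ _ (Submodule.subset_span ⟨⟨e.1 % 20, Nat.mod_lt _ (by norm_num)⟩, rfl⟩)) ih

/-- What a checked certificate gives. -/
theorem cert_facts {c : GenCert} (hc : c ∈ genData) :
    ∃ g : G24, mat (g : GL chevG2.Idx K4) = toMat 14 c.g ∧ Good (g : GL chevG2.Idx K4) ∧
      ∀ i j : Fin 6, coord i (cj (g : GL chevG2.Idx K4) (bas (14 + j))) = toMat 6 c.ρ i j := by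
  have hck := List.all_eq_true.1 genData_ok c hc
  rw [checkCert, Bool.and_eq_true, List.all_eq_true] at hck
  obtain ⟨hinv, hall⟩ := hck
  have hx : ∀ i j : Fin 14, chevG2.xMat K4 (Fin.ofNat 12 c.r) (K4.ofN c.t) (eIdx i) (eIdx j) =
      toMat 14 c.g i j := fun i j => by
    rw [toMat_apply]; exact of_decide_eq_true (List.all_eq_true.1 xmatch_ok c hc) i j
  have hone : toMat 14 (oneS 14) = 1 := toMat_oneS14
  have hsq : toMat 14 c.g * toMat 14 c.g = 1 := by rw [← toMat_mulS, toMat_eq hinv, hone]
  set X : Matrix chevG2.Idx chevG2.Idx K4 := (toMat 14 c.g).submatrix eIdx.symm eIdx.symm with hX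
  have hXX : X * X = 1 := by
    rw [hX, Matrix.submatrix_mul_equiv, hsq, Matrix.submatrix_one_equiv]
  set u : GL chevG2.Idx K4 := ⟨X, X, hXX, hXX⟩ with hu
  have hXx : X = chevG2.xMat K4 (Fin.ofNat 12 c.r) (K4.ofN c.t) := by
    ext i j
    rw [hX, Matrix.submatrix_apply, ← hx, Equiv.apply_symm_apply, Equiv.apply_symm_apply]
  have hmem : u ∈ chevG2.group K4 := Subgroup.subset_closure ⟨Fin.ofNat 12 c.r, K4.ofN c.t, hXx⟩
  have hmat : mat u = toMat 14 c.g := by
    show X.submatrix eIdx eIdx = _
    rw [hX]; ext i j; simp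
  have hmat' : mat u⁻¹ = toMat 14 c.g := hmat
  have hconj : ∀ j, j < 20 → cj u (bas j) = toMat 14 (combS (c.comb.getD j [])) := by
    intro j hj
    have h := hall j (List.mem_range.2 hj)
    rw [Bool.and_eq_true] at h
    have e := toMat_eq h.1
    rw [toMat_mulS, toMat_mulS] at e
    rw [cj_apply, hmat, hmat', bas, ← mul_assoc, e, mul_assoc, hsq, mul_one]
  have hcoord : ∀ j, j < 20 → ∀ k : Fin 6, coord k (cj u (bas j)) =
      if j < 14 then 0 else K4.ofN ((acc 6 c.ρ) >>> (2 * (6 * (k : ℕ) + (j - 14)))) := by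
    intro j hj k
    have h := hall j (List.mem_range.2 hj)
    rw [Bool.and_eq_true, List.all_eq_true] at h
    have h3 := beq_iff_eq.1 (h.2 k.val (List.mem_range.2 k.2))
    rw [hconj j hj, coord_toMat, ← ofN_mod, h3]
    split_ifs
    · rfl
    · exact ofN_mod _
  refine ⟨⟨u, hmem⟩, hmat, ⟨?_, ?_⟩, fun i j => ?_⟩
  · intro v hv
    have h : spW ≤ Submodule.comap (cj u) spW := by
      rw [spW, Submodule.span_le]
      rintro _ ⟨j, rfl⟩
      show cj u (bas j) ∈ spW
      rw [hconj j j.2]
      exact combS_mem _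
    exact h hv
  · intro v hv
    have h : spA ≤ Submodule.comap (cj u) spA := by
      rw [spA, Submodule.span_le]
      rintro _ ⟨j, rfl⟩
      show cj u (bas j) ∈ spA
      have hW : cj u (bas j) ∈ spW := by rw [hconj j (by omega)]; exact combS_mem _
      have hr := rest_mem hW
      rwa [rest, LinearMap.sub_apply, LinearMap.id_coe, id_eq, LinearMap.coe_sum, Finset.sum_apply,
        Finset.sum_eq_zero (fun k _ => by
          rw [LinearMap.smulRight_apply, hcoord j (by omega) k, if_pos j.2, zero_smul]), sub_zero] at hr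
    exact h hv
  · rw [hcoord (14 + j) (by omega) i, if_neg (by omega), toMat_apply, Nat.add_sub_cancel_left]
    rfl

theorem good_all (g : G24) : Good (g : GL chevG2.Idx K4) := by
  obtain ⟨g, hg⟩ := g
  show Good g
  rw [ChevalleyDatum.group, ← Subgroup.mem_toSubmonoid, Subgroup.closure_toSubmonoid_of_finite] at hg
  induction hg using Submonoid.closure_induction with
  | one => exact good_one
  | mul a b _ _ ha hb => exact good_mul ha hb
  | mem x hx =>
    obtain ⟨r, t, hxr⟩ := hx
    rcases cover_ok r t with ht | hc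
    · have : x = 1 := by
        refine mat_injective ?_
        rw [mat_one]
        ext i j
        rw [mat, Matrix.submatrix_apply, hxr, ht, Matrix.one_apply]
        exact xMat_zero r i j
      rw [this]; exact good_one
    · rw [List.any_eq_true] at hc
      obtain ⟨c, hc, he⟩ := hc
      simp only [Bool.and_eq_true, beq_iff_eq] at he
      obtain ⟨u, hu, hgood, -⟩ := cert_facts hc
      have hrr : Fin.ofNat 12 c.r = r := Fin.ext (by
        show c.r % 12 = r.val; rw [he.1]; exact Nat.mod_eq_of_lt r.2)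
      have htt : K4.ofN c.t = t := K4.equivFin.injective (Fin.ext (by
        show c.t % 4 = t.v.val; rw [he.2]; exact Nat.mod_eq_of_lt t.v.2))
      have hxu : x = (u : GL chevG2.Idx K4) := by
        refine mat_injective (hu.symm ▸ ?_)
        ext i j
        rw [mat, Matrix.submatrix_apply, hxr, toMat_apply, ← hrr, ← htt]
        exact of_decide_eq_true (List.all_eq_true.1 xmatch_ok c hc) i j
      rw [hxu]; exact hgood

/-- The representation. -/
def rep : G24 →* Matrix (Fin 6) (Fin 6) K4 where
  toFun g := Matrix.of fun i j : Fin 6 => coord i (cj (g : GL chevG2.Idx K4) (bas (14 + j)))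
  map_one' := by
    ext i j
    show coord i (cj 1 (bas (14 + j))) = _
    rw [cj_one]
    have := coord_bas ⟨14 + j, by omega⟩ i
    rw [this, Matrix.one_apply]
    by_cases h : i = j
    · rw [if_pos h, if_pos (by rw [h])]
    · rw [if_neg h, if_neg (fun e => h (Fin.ext (by simp only at e; omega)))]
  map_mul' g h := by
    ext i j
    show coord i (cj ((g : GL chevG2.Idx K4) * h) (bas (14 + j))) = _
    rw [cj_mul, Matrix.mul_apply]
    set v := cj (h : GL chevG2.Idx K4) (bas (14 + j)) with hv
    have hW : v ∈ spW :=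
      (good_all h).1 _ (Submodule.subset_span ⟨⟨14 + j, by omega⟩, rfl⟩)
    have h0 : coord i (cj (g : GL chevG2.Idx K4) (rest v)) = 0 :=
      congrFun (LinearMap.mem_ker.1 (spA_le_ker ((good_all g).2 _ (rest_mem hW)))) i
    simp only [rest, LinearMap.sub_apply, LinearMap.id_coe, id_eq, LinearMap.coe_sum, Finset.sum_apply,
      LinearMap.smulRight_apply, map_sub, map_sum, map_smul, smul_eq_mul, sub_eq_zero] at h0
    rw [h0]
    exact Finset.sum_congr rfl fun k _ => mul_comm _ _

/-- The product of the matrices of a word. -/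
def wordG : List GenCert → SMat
  | [] => oneS 14
  | c :: L => mulS 14 c.g (wordG L)

/-- The product of the induced matrices of a word. -/
def wordR : List GenCert → SMat
  | [] => oneS 6
  | c :: L => mulS 6 c.ρ (wordR L)

theorem exists_word : ∀ L : List GenCert, (∀ c ∈ L, c ∈ genData) →
    ∃ x : G24, mat (x : GL chevG2.Idx K4) = toMat 14 (wordG L) ∧ rep x = toMat 6 (wordR L)
  | [], _ => ⟨1, by rw [OneMemClass.coe_one, mat_one]; exact toMat_oneS14.symm, by
      rw [map_one]; exact toMat_oneS6.symm⟩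
  | c :: L, h => by
    obtain ⟨u, hu, -, hr⟩ := cert_facts (h c (List.mem_cons_self ..))
    obtain ⟨x, hx, hxr⟩ := exists_word L fun d hd => h d (List.mem_cons_of_mem _ hd)
    refine ⟨u * x, ?_, ?_⟩
    · rw [Subgroup.coe_mul, mat_mul, hu, hx, wordG, toMat_mulS]
    · rw [map_mul, hxr, wordR, toMat_mulS]
      congr 1
      ext i j
      exact hr i j

end H35.G24
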