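import Cfsg.Agent.H35.G24Module
import Cfsg.Agent.H64.FpfSemidirect
import Cfsg.Agent.H52.B2Two
import Cfsg.Agent.S1059

/-!
Elements of orders 6 and 10 in `G₂(4)`; elements of order 7 and 13 fix no non-zero vector of the module.
-/

set_option autoImplicit false
set_option maxRecDepth 20000

namespace H35.G24

open Cfsg Cfsg.Lie Matrix

/-- The sparse matrix stored in a packed number. -/
def unpack (n z : ℕ) : SMat := (List.range (n * n)).map fun p => (p / n, p % n, (z >>> (2 * p)) % 4)

theorem toMat_map_list {n : ℕ} [NeZero n] (L : List ℕ) (f : ℕ → ℕ × ℕ × ℕ) :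
    toMat n (L.map f) = (L.map fun p =>
      Matrix.single (Fin.ofNat n (f p).1) (Fin.ofNat n (f p).2.1) (K4.ofN (f p).2.2)).sum := by
  induction L with
  | nil => rfl
  | cons p L ih => rw [List.map_cons, toMat, ih, List.map_cons, List.sum_cons]

theorem toMat_unpack {n : ℕ} [NeZero n] (z : ℕ) (i j : Fin n) : toMat n (unpack n z) i j = dec n z i j := by
  rw [unpack, toMat_map_list, ← List.sum_toFinset _ List.nodup_range, List.toFinset_range, Matrix.sum_apply]
  have hlt : n * i.val + j.val < n * n := by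
    have := Nat.mul_le_mul_left n (Nat.succ_le_of_lt i.2)
    have := j.2
    rw [Nat.mul_succ] at *
    omega
  rw [Finset.sum_eq_single (n * i.val + j.val)]
  · have h1 : Fin.ofNat n ((n * i.val + j.val) / n) = i := Fin.ext (by
      show (n * i.val + j.val) / n % n = i.val
      rw [Nat.mul_add_div (NeZero.pos n), Nat.div_eq_of_lt j.2, add_zero, Nat.mod_eq_of_lt i.2])
    have h2 : Fin.ofNat n ((n * i.val + j.val) % n) = j := Fin.ext (by
      show (n * i.val + j.val) % n % n = j.val
      rw [Nat.mod_mod, Nat.mul_add_mod, Nat.mod_eq_of_lt j.2])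
    simp only [h1, h2, Matrix.single_apply_same, ofN_mod, dec]
  · intro p hp hne
    refine Matrix.single_apply_of_ne _ _ _ _ _ fun h => hne ?_
    have h1 : p / n % n = i.val := congrArg Fin.val h.1
    have h2 : p % n % n = j.val := congrArg Fin.val h.2
    rw [Nat.mod_eq_of_lt (Nat.div_lt_of_lt_mul (Finset.mem_range.1 hp))] at h1
    rw [Nat.mod_mod] at h2
    rw [← h1, ← h2, Nat.div_add_mod]
  · intro h
    exact absurd (Finset.mem_range.2 hlt) h

/-- A compressed copy of a sparse matrix. -/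
def normS (n : ℕ) (S : SMat) : SMat := (unpack n (acc n S)).filter fun e => e.2.2 != 0

theorem toMat_filter {n : ℕ} [NeZero n] (S : SMat) : toMat n (S.filter fun e => e.2.2 != 0) = toMat n S := by
  induction S with
  | nil => rfl
  | cons e S ih =>
    rw [List.filter_cons]
    by_cases h : e.2.2 = 0
    · rw [if_neg (by simp [h]), toMat, ih, h, show K4.ofN 0 = 0 from rfl, Matrix.single_zero, zero_add]
    · rw [if_pos (by simpa using h), toMat, toMat, ih]

theorem toMat_normS {n : ℕ} [NeZero n] (S : SMat) : toMat n (normS n S) = toMat n S := by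
  ext i j
  rw [normS, toMat_filter, toMat_unpack, toMat_apply]

/-- Powers. -/
def powS (n : ℕ) (S : SMat) : ℕ → SMat
  | 0 => oneS n
  | m + 1 => normS n (mulS n (powS n S m) S)

/-- Sums of the first powers. -/
def sumS (n : ℕ) (S : SMat) : ℕ → SMat
  | 0 => []
  | m + 1 => powS n S m ++ sumS n S m

theorem toMat_powS14 (S : SMat) : ∀ m, toMat 14 (powS 14 S m) = toMat 14 S ^ m
  | 0 => by rw [powS, toMat_oneS14, pow_zero]
  | m + 1 => by rw [powS, toMat_normS, toMat_mulS, toMat_powS14 S m, pow_succ]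

theorem toMat_powS6 (S : SMat) : ∀ m, toMat 6 (powS 6 S m) = toMat 6 S ^ m
  | 0 => by rw [powS, toMat_oneS6, pow_zero]
  | m + 1 => by rw [powS, toMat_normS, toMat_mulS, toMat_powS6 S m, pow_succ]

theorem toMat_sumS (S : SMat) : ∀ m, toMat 6 (sumS 6 S m) = ∑ i ∈ Finset.range m, toMat 6 S ^ i
  | 0 => by simp [sumS, toMat]
  | m + 1 => by rw [sumS, toMat_append, toMat_powS6, toMat_sumS S m, Finset.sum_range_succ, add_comm]

/-- Whether the `m`-th power of a word is the identity. -/
def isOne (L : List GenCert) (m : ℕ) : Bool := eqS 14 (powS 14 (normS 14 (wordG L)) m) (oneS 14)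

set_option linter.style.maxHeartbeats false in
set_option maxHeartbeats 4000000 in
theorem words_ok : (isOne word6 6 && !isOne word6 2 && !isOne word6 3 && isOne word10 10 && !isOne word10 2 &&
    !isOne word10 5 && isOne word7 7 && !isOne word7 1 && isOne word13 13 && !isOne word13 1 &&
    eqS 6 (sumS 6 (normS 6 (wordR word7)) 7) [] && eqS 6 (sumS 6 (normS 6 (wordR word13)) 13) []) = true := by
  decide +kernel

theorem word_mem : (word6 ⊆ genData) ∧ (word7 ⊆ genData) ∧ (word10 ⊆ genData) ∧ (word13 ⊆ genData) := by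
  refine ⟨?_, ?_, ?_, ?_⟩ <;> (intro c hc; fin_cases hc <;> simp [genData])

theorem isOne_iff {L : List GenCert} {x : G24} (hx : mat (x : GL chevG2.Idx K4) = toMat 14 (wordG L)) (m : ℕ) :
    isOne L m = true ↔ x ^ m = 1 := by
  have hp : ∀ k : ℕ, mat ((x : GL chevG2.Idx K4) ^ k) = mat (x : GL chevG2.Idx K4) ^ k := fun k => by
    induction k with
    | zero => rw [pow_zero, pow_zero, mat_one]
    | succ k ih => rw [pow_succ, pow_succ, mat_mul, ih]
  have e : toMat 14 (powS 14 (normS 14 (wordG L)) m) = mat ((x : GL chevG2.Idx K4) ^ m) := by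
    rw [toMat_powS14, toMat_normS, hp, hx]
  constructor
  · intro h
    have h1 := toMat_eq h
    rw [e, toMat_oneS14, ← mat_one] at h1
    exact Subtype.ext (by rw [SubmonoidClass.coe_pow]; exact mat_injective h1)
  · intro h
    have h1 : (x : GL chevG2.Idx K4) ^ m = 1 := by rw [← SubmonoidClass.coe_pow, h]; rfl
    rw [isOne, eqS, beq_iff_eq]
    rw [h1, mat_one, ← toMat_oneS14] at e
    set a := powS 14 (normS 14 (wordG L)) m
    by_contra hne
    exact hne (acc_inj e)
where
  acc_inj {S T : SMat} (e : toMat 14 S = toMat 14 T) : acc 14 S = acc 14 T := by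
    have hb : ∀ U : SMat, acc 14 U < 2 ^ (2 * 196) := by
      intro U
      induction U with
      | nil => exact Nat.two_pow_pos _
      | cons f U ih =>
        refine Nat.xor_lt_two_pow ?_ ih
        rw [Nat.shiftLeft_eq]
        calc f.2.2 % 4 * 2 ^ (2 * (14 * (f.1 % 14) + f.2.1 % 14))
            < 4 * 2 ^ (2 * (14 * (f.1 % 14) + f.2.1 % 14)) :=
              Nat.mul_lt_mul_of_pos_right (Nat.mod_lt _ (by norm_num)) (Nat.two_pow_pos _)
          _ = 2 ^ (2 * (14 * (f.1 % 14) + f.2.1 % 14) + 2) := by rw [pow_add]; ring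
          _ ≤ 2 ^ (2 * 196) := Nat.pow_le_pow_right (by norm_num) (by omega)
    refine Nat.eq_of_testBit_eq fun b => ?_
    by_cases hb196 : b < 2 * 196
    · have hp : b / 2 < 196 := by omega
      have h := congrFun (congrFun e ⟨b / 2 / 14, by omega⟩) ⟨b / 2 % 14, by omega⟩
      rw [toMat_apply, toMat_apply, dec, dec] at h
      have h2 := congrArg (fun a : K4 => (a.v : ℕ)) h
      simp only [K4.ofN, show 14 * (b / 2 / 14) + b / 2 % 14 = b / 2 from Nat.div_add_mod _ _] at h2
      have h3 := congrArg (fun a : ℕ => Nat.testBit a (b % 2)) h2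
      simp only [show (4 : ℕ) = 2 ^ 2 from rfl, Nat.testBit_mod_two_pow, Nat.testBit_shiftRight,
        show 2 * (b / 2) + b % 2 = b from Nat.div_add_mod _ _, show b % 2 < 2 from Nat.mod_lt _ (by norm_num),
        decide_true, Bool.true_and] at h3
      exact h3
    · rw [Nat.testBit_eq_false_of_lt ((hb S).trans_le (Nat.pow_le_pow_right (by norm_num) (not_lt.1 hb196))),
        Nat.testBit_eq_false_of_lt ((hb T).trans_le (Nat.pow_le_pow_right (by norm_num) (not_lt.1 hb196)))]

theorem exists_orderOf_six : ∃ x : G24, orderOf x = 6 := by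
  obtain ⟨x, hx, -⟩ := exists_word word6 word_mem.1
  have h := words_ok
  simp only [Bool.and_eq_true, Bool.not_eq_true', ← Bool.not_eq_true, isOne_iff hx] at h
  refine ⟨x, ?_⟩
  have hd := orderOf_dvd_of_pow_eq_one h.1.1.1.1.1.1.1.1.1.1.1
  have h2 : ¬ orderOf x ∣ 2 := fun e => h.1.1.1.1.1.1.1.1.1.1.2 (orderOf_dvd_iff_pow_eq_one.1 e)
  have h3 : ¬ orderOf x ∣ 3 := fun e => h.1.1.1.1.1.1.1.1.1.2 (orderOf_dvd_iff_pow_eq_one.1 e)
  have hle := Nat.le_of_dvd (by norm_num) hd
  interval_cases ho : orderOf x <;> omega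

theorem exists_orderOf_ten : ∃ x : G24, orderOf x = 10 := by
  obtain ⟨x, hx, -⟩ := exists_word word10 word_mem.2.2.1
  have h := words_ok
  simp only [Bool.and_eq_true, Bool.not_eq_true', ← Bool.not_eq_true, isOne_iff hx] at h
  refine ⟨x, ?_⟩
  have hd := orderOf_dvd_of_pow_eq_one h.1.1.1.1.1.1.1.1.2
  have h2 : ¬ orderOf x ∣ 2 := fun e => h.1.1.1.1.1.1.1.2 (orderOf_dvd_iff_pow_eq_one.1 e)
  have h5 : ¬ orderOf x ∣ 5 := fun e => h.1.1.1.1.1.1.2 (orderOf_dvd_iff_pow_eq_one.1 e)
  have hle := Nat.le_of_dvd (by norm_num) hd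
  interval_cases ho : orderOf x <;> omega

theorem card_G24 : Nat.card G24 = 4 ^ 6 * (4 ^ 2 - 1) * (4 ^ 6 - 1) :=
  Cfsg.Agent.S1059.result K4.card_eq

/-- An element of order `p` with a vanishing sum of powers: every element of order `p` is fixed-point free. -/
theorem fpf_of_word {p : ℕ} [Fact p.Prime] (hdvd : ¬ p ^ 2 ∣ Nat.card G24) (hp : (p : K4) = 1)
    {x : G24} (hxo : orderOf x = p) (hsum : ∑ i ∈ Finset.range p, rep x ^ i = 0)
    {y : G24} (hy : orderOf y = p) {v : Fin 6 → K4} (hv : rep y *ᵥ v = v) : v = 0 := by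
  have hfac : (Nat.card G24).factorization p = 1 := by
    refine le_antisymm ?_ ?_
    · by_contra h
      exact hdvd (((Nat.Prime.pow_dvd_iff_le_factorization (Fact.out) Nat.card_pos.ne')).2 (by omega))
    · exact (Nat.Prime.dvd_iff_one_le_factorization Fact.out Nat.card_pos.ne').1 (hxo ▸ orderOf_dvd_natCard x)
  have hS : ∀ z : G24, orderOf z = p → ∃ P : Sylow p G24, (P : Subgroup G24) = Subgroup.zpowers z := fun z hz =>
    ⟨Sylow.ofCard (Subgroup.zpowers z) (by rw [Nat.card_zpowers, hz, hfac, pow_one]), rfl⟩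
  obtain ⟨P, hP⟩ := hS x hxo
  obtain ⟨Q, hQ⟩ := hS y hy
  obtain ⟨g, hg⟩ := MulAction.exists_smul_eq G24 Q P
  have hmem : x ∈ ((g • Q : Sylow p G24) : Subgroup G24) := by rw [hg, hP]; exact Subgroup.mem_zpowers x
  rw [Sylow.coe_subgroup_smul, hQ, Subgroup.mem_pointwise_smul_iff_inv_smul_mem] at hmem
  obtain ⟨k, hk⟩ := hmem
  have hxy : x = g * y ^ k * g⁻¹ := by
    have hk' : y ^ k = g⁻¹ * x * g := by simpa [MulAut.smul_def] using hk
    rw [hk']; group
  have hfix : rep (y ^ k) *ᵥ v = v := by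
    have hy' : rep (y⁻¹) *ᵥ v = v := by
      conv_lhs => rw [← hv, Matrix.mulVec_mulVec, ← map_mul, inv_mul_cancel, map_one, Matrix.one_mulVec]
    clear hk hxy
    induction k using Int.induction_on with
    | zero => rw [zpow_zero, map_one, Matrix.one_mulVec]
    | succ i ih => rw [_root_.zpow_add_one, map_mul, ← Matrix.mulVec_mulVec, hv, ih]
    | pred i ih => rw [_root_.zpow_sub_one, map_mul, ← Matrix.mulVec_mulVec, hy', ih]
  set w := rep g *ᵥ v with hw
  have hxw : rep x *ᵥ w = w := by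
    rw [hw, Matrix.mulVec_mulVec, ← map_mul, hxy, inv_mul_cancel_right, map_mul, ← Matrix.mulVec_mulVec, hfix]
  have hpw : ∀ i : ℕ, (rep x ^ i) *ᵥ w = w := fun i => by
    induction i with
    | zero => rw [pow_zero, Matrix.one_mulVec]
    | succ i ih => rw [pow_succ, ← Matrix.mulVec_mulVec, hxw, ih]
  have h0 : (∑ i ∈ Finset.range p, rep x ^ i) *ᵥ w = w := by
    rw [Matrix.sum_mulVec, Finset.sum_congr rfl fun i _ => hpw i, Finset.sum_const, Finset.card_range,
      ← Nat.cast_smul_eq_nsmul K4, hp, one_smul]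
  rw [hsum, Matrix.zero_mulVec] at h0
  have h1 : rep g⁻¹ *ᵥ w = v := by
    rw [hw, Matrix.mulVec_mulVec, ← map_mul, inv_mul_cancel, map_one, Matrix.one_mulVec]
  rw [← h1, ← h0, Matrix.mulVec_zero]

theorem fpf_seven {y : G24} (hy : orderOf y = 7) {v : Fin 6 → K4} (hv : rep y *ᵥ v = v) : v = 0 := by
  haveI : Fact (Nat.Prime 7) := ⟨by norm_num⟩
  obtain ⟨x, hx, hxr⟩ := exists_word word7 word_mem.2.1
  have h := words_ok
  simp only [Bool.and_eq_true, Bool.not_eq_true', ← Bool.not_eq_true, isOne_iff hx] at h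
  have hxo : orderOf x = 7 := orderOf_eq_prime h.1.1.1.1.1.2 (by simpa using h.1.1.1.1.2)
  have hsum : ∑ i ∈ Finset.range 7, rep x ^ i = 0 := by
    rw [hxr, ← toMat_normS, ← toMat_sumS, toMat_eq h.1.2]; rfl
  exact fpf_of_word (by rw [card_G24]; norm_num) (by decide +kernel) hxo hsum hy hv

theorem fpf_thirteen {y : G24} (hy : orderOf y = 13) {v : Fin 6 → K4} (hv : rep y *ᵥ v = v) : v = 0 := by
  haveI : Fact (Nat.Prime 13) := ⟨by norm_num⟩
  obtain ⟨x, hx, hxr⟩ := exists_word word13 word_mem.2.2.2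
  have h := words_ok
  simp only [Bool.and_eq_true, Bool.not_eq_true', ← Bool.not_eq_true, isOne_iff hx] at h
  have hxo : orderOf x = 13 := orderOf_eq_prime h.1.1.1.2 (by simpa using h.1.1.2)
  have hsum : ∑ i ∈ Finset.range 13, rep x ^ i = 0 := by
    rw [hxr, ← toMat_normS, ← toMat_sumS, toMat_eq h.2]; rfl
  exact fpf_of_word (by rw [card_G24]; norm_num) (by decide +kernel) hxo hsum hy hv

/-- The action on `k` copies of the module. -/
def modAct (k : ℕ) : G24 →* MulAut (Multiplicative (Fin k → Fin 6 → K4)) :=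
  H64.mulAutHom (fun g w i => rep g *ᵥ w i)
    (fun w => funext fun i => by rw [map_one, Matrix.one_mulVec])
    (fun g h w => funext fun i => by rw [map_mul, Matrix.mulVec_mulVec])
    (fun g v w => funext fun i => by rw [Pi.add_apply, Matrix.mulVec_add]; rfl)

end H35.G24
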