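import Cfsg.Agent.H35.K4
import Cfsg.Prelude.Def_ChevG2

/-! Sparse matrices over the field with four elements, compared through packed numbers. -/

set_option autoImplicit false

namespace H35.G24

/-- A sparse matrix: row, column, code of the entry; indices are read modulo the size. -/
abbrev SMat : Type := List (ℕ × ℕ × ℕ)

variable {n : ℕ} [NeZero n]

/-- The matrix of a sparse matrix. -/
def toMat (n : ℕ) [NeZero n] : SMat → Matrix (Fin n) (Fin n) K4
  | [] => 0
  | e :: S => Matrix.single (Fin.ofNat n e.1) (Fin.ofNat n e.2.1) (K4.ofN e.2.2) + toMat n S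

theorem toMat_append (S T : SMat) : toMat n (S ++ T) = toMat n S + toMat n T := by
  induction S with
  | nil => simp [toMat]
  | cons e S ih => simp [toMat, ih, add_assoc]

/-- One row of a product. -/
def mulOne (n : ℕ) (e : ℕ × ℕ × ℕ) : SMat → SMat
  | [] => []
  | f :: T => if e.2.1 % n = f.1 % n then (e.1, f.2.1, m4 e.2.2 f.2.2) :: mulOne n e T else mulOne n e T

/-- The product of sparse matrices. -/
def mulS (n : ℕ) : SMat → SMat → SMat
  | [], _ => []
  | e :: S, T => mulOne n e T ++ mulS n S T

theorem toMat_mulOne (e : ℕ × ℕ × ℕ) (T : SMat) : toMat n (mulOne n e T) =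
    Matrix.single (Fin.ofNat n e.1) (Fin.ofNat n e.2.1) (K4.ofN e.2.2) * toMat n T := by
  induction T with
  | nil => simp [toMat, mulOne]
  | cons f T ih =>
    rw [toMat, mul_add, ← ih, mulOne]
    by_cases h : e.2.1 % n = f.1 % n
    · rw [if_pos h, toMat, show Fin.ofNat n f.1 = Fin.ofNat n e.2.1 from Fin.ext h.symm,
        Matrix.single_mul_single_same, K4.ofN_mul]
    · rw [if_neg h, Matrix.single_mul_single_of_ne _ _ _ _ (fun he => h (congrArg Fin.val he)) _, zero_add]

theorem toMat_mulS (S T : SMat) : toMat n (mulS n S T) = toMat n S * toMat n T := by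
  induction S with
  | nil => simp [toMat, mulS]
  | cons e S ih => rw [mulS, toMat_append, toMat_mulOne, ih, toMat, add_mul]

/-- A scalar multiple. -/
def smulS (c : ℕ) (S : SMat) : SMat := S.map fun e => (e.1, e.2.1, m4 c e.2.2)

theorem toMat_smulS (c : ℕ) (S : SMat) : toMat n (smulS c S) = K4.ofN c • toMat n S := by
  induction S with
  | nil => simp [toMat, smulS]
  | cons e S ih =>
    rw [smulS] at ih
    simp only [smulS, List.map_cons, toMat, ih, smul_add, Matrix.smul_single, K4.ofN_mul, smul_eq_mul]

/-- The identity. -/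
def oneS (n : ℕ) : SMat := (List.range n).map fun i => (i, i, 1)

/-- All entries packed into one number, two bits each. -/
def acc (n : ℕ) : SMat → ℕ
  | [] => 0
  | e :: S => ((e.2.2 % 4) <<< (2 * (n * (e.1 % n) + e.2.1 % n))) ^^^ acc n S

/-- The entry stored in a packed number. -/
def dec (n z : ℕ) (i j : Fin n) : K4 := K4.ofN (z >>> (2 * (n * i.val + j.val)))

theorem ofN_mod (a : ℕ) : K4.ofN (a % 4) = K4.ofN a := by
  apply K4.equivFin.injective
  apply Fin.ext
  show a % 4 % 4 = a % 4
  rw [Nat.mod_mod]

theorem toMat_apply (S : SMat) (i j : Fin n) : toMat n S i j = dec n (acc n S) i j := by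
  induction S with
  | nil => simp only [toMat, acc, dec, Matrix.zero_apply, Nat.zero_shiftRight]; rfl
  | cons e S ih =>
    rw [toMat, Matrix.add_apply, ih]
    simp only [acc, dec, Nat.shiftRight_xor_distrib, K4.ofN_xor]
    congr 1
    set a := e.1 % n with ha
    set b := e.2.1 % n with hb
    have hb' : b < n := Nat.mod_lt _ (NeZero.pos n)
    by_cases h : Fin.ofNat n e.1 = i ∧ Fin.ofNat n e.2.1 = j
    · rw [← h.1, ← h.2, Matrix.single_apply_same]
      show _ = K4.ofN ((_ <<< _) >>> (2 * (n * a + b)))
      rw [Nat.shiftLeft_shiftRight, ofN_mod]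
    · rw [Matrix.single_apply_of_ne _ _ _ _ _ h]
      have hne : n * a + b ≠ n * i.val + j.val := by
        intro he
        have h1 : a = i.val := by
          have := congrArg (· / n) he
          simpa [Nat.mul_add_div (NeZero.pos n), Nat.div_eq_of_lt hb', Nat.div_eq_of_lt j.2] using this
        exact h ⟨Fin.ext h1, Fin.ext (show b = j.val by rw [h1] at he; omega)⟩
      rcases Nat.lt_or_ge (n * a + b) (n * i.val + j.val) with hlt | hge
      · obtain ⟨d, hd⟩ := Nat.exists_eq_add_of_lt hlt
        rw [hd, show 2 * (n * a + b + d + 1) = 2 * (n * a + b) + 2 * (d + 1) by ring,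
          Nat.shiftRight_add, Nat.shiftLeft_shiftRight, Nat.shiftRight_eq_div_pow,
          Nat.div_eq_of_lt (lt_of_lt_of_le (Nat.mod_lt _ (by norm_num))
            (le_trans (by norm_num : 4 ≤ 2 ^ 2) (Nat.pow_le_pow_right (by norm_num) (by omega))))]
        rfl
      · obtain ⟨d, hd⟩ := Nat.exists_eq_add_of_lt (lt_of_le_of_ne hge (Ne.symm hne))
        rw [hd, show 2 * (n * i.val + j.val + d + 1) = 2 * (d + 1) + 2 * (n * i.val + j.val) by ring,
          Nat.shiftLeft_add, Nat.shiftLeft_shiftRight, ← ofN_mod, Nat.shiftLeft_eq,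
          show (2 : ℕ) ^ (2 * (d + 1)) = 4 * 4 ^ d by
            rw [pow_mul, pow_succ, show (2 : ℕ) ^ 2 = 4 by norm_num]; ring,
          Nat.mul_mod, Nat.mul_mod_right, mul_zero, Nat.zero_mod]
        rfl

/-- Equality of matrices, decided on packed numbers. -/
def eqS (n : ℕ) (S T : SMat) : Bool := acc n S == acc n T

theorem toMat_eq {S T : SMat} (h : eqS n S T = true) : toMat n S = toMat n T := by
  ext i j
  rw [toMat_apply, toMat_apply, show acc n S = acc n T from beq_iff_eq.1 h]

theorem toMat_ne {S T : SMat} (i j : Fin n) (h : dec n (acc n S) i j ≠ dec n (acc n T) i j) :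
    toMat n S ≠ toMat n T := fun e => h (by rw [← toMat_apply, ← toMat_apply, e])

end H35.G24
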