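import Mathlib
import Cfsg.Prelude.Def_Transfer
import Cfsg.Agent.H6.Basic

/-! Extraspecial p-groups of exponent p: Heisenberg groups inside `GL_{n+2}(p)`. -/

namespace H35

open Matrix
open scoped commutatorElement

section
variable {R : Type*} [CommRing R] {m : ℕ}

/-- The unit vector at the first coordinate. -/
def hFirst : Fin (m + 2) → R := Pi.single 0 1

/-- The unit vector at the last coordinate. -/
def hLast : Fin (m + 2) → R := Pi.single (Fin.last (m + 1)) 1

/-- Conditions on a pair (row, column) to parametrize a Heisenberg matrix. -/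
def HPair (ρ v : Fin (m + 2) → R) : Prop := ρ 0 = 0 ∧ v 0 = 0 ∧ v (Fin.last (m + 1)) = 0

/-- The Heisenberg matrix of a pair (row, column). -/
def hMat (ρ v : Fin (m + 2) → R) : Matrix (Fin (m + 2)) (Fin (m + 2)) R :=
  1 + (vecMulVec hFirst ρ + vecMulVec v hLast)

theorem hMat_zero : hMat (0 : Fin (m + 2) → R) 0 = 1 := by simp [hMat]

theorem hMat_mul {ρ v ρ' v' : Fin (m + 2) → R} (h : HPair ρ v) (h' : HPair ρ' v') :
    hMat ρ v * hMat ρ' v' = hMat (ρ + ρ' + (ρ ⬝ᵥ v') • hLast) (v + v') := by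
  have h1 : ρ ⬝ᵥ hFirst = 0 := by simp [hFirst, h.1]
  have h2 : (hLast : Fin (m + 2) → R) ⬝ᵥ hFirst = 0 := by
    simp [hFirst, hLast]
  have h3 : (hLast : Fin (m + 2) → R) ⬝ᵥ v' = 0 := by simp [hLast, h'.2.2]
  have key : (vecMulVec hFirst ρ + vecMulVec v hLast) * (vecMulVec hFirst ρ' + vecMulVec v' hLast) =
      vecMulVec hFirst ((ρ ⬝ᵥ v') • hLast) := by
    simp only [add_mul, mul_add, vecMulVec_mul_vecMulVec, h1, h2, h3]
    simp
  unfold hMat
  rw [add_mul, one_mul, mul_add (vecMulVec hFirst ρ + vecMulVec v hLast), mul_one, key, vecMulVec_add, vecMulVec_add, add_vecMulVec]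
  abel

theorem HPair.add {ρ v ρ' v' : Fin (m + 2) → R} (h : HPair ρ v) (h' : HPair ρ' v') :
    HPair (ρ + ρ' + (ρ ⬝ᵥ v') • hLast) (v + v') := by
  refine ⟨?_, ?_, ?_⟩
  · have : (hLast : Fin (m + 2) → R) 0 = 0 := by simp [hLast]
    simp [h.1, h'.1, this]
  · simp [h.2.1, h'.2.1]
  · simp [h.2.2, h'.2.2]

theorem hMat_injective {ρ v ρ' v' : Fin (m + 2) → R} (h : HPair ρ v) (h' : HPair ρ' v')
    (e : hMat ρ v = hMat ρ' v') : ρ = ρ' ∧ v = v' := by
  have e' := add_left_cancel e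
  constructor
  · funext j
    have := congrFun (congrFun e' 0) j
    simpa [vecMulVec_apply, hFirst, h.2.1, h'.2.1] using this
  · funext i
    by_cases hi : i = 0
    · subst hi; rw [h.2.1, h'.2.1]
    have := congrFun (congrFun e' i) (Fin.last (m + 1))
    simpa [vecMulVec_apply, hFirst, hLast, hi] using this

theorem hMat_isUnit {ρ v : Fin (m + 2) → R} (h : HPair ρ v) : IsUnit (hMat ρ v) := by
  have h' : HPair (-ρ + (ρ ⬝ᵥ v) • hLast) (-v) := by
    refine ⟨?_, by simp [h.2.1], by simp [h.2.2]⟩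
    have : (hLast : Fin (m + 2) → R) 0 = 0 := by simp [hLast]
    simp [h.1, this]
  refine IsUnit.of_mul_eq_one (hMat (-ρ + (ρ ⬝ᵥ v) • hLast) (-v)) ?_
  rw [hMat_mul h h', ← hMat_zero]
  congr 1
  · funext j; simp; 
  · simp

/-- The Heisenberg subgroup of `GL_{m+2}(R)`. -/
def heis (R : Type*) [CommRing R] [Finite R] (m : ℕ) : Subgroup (GL (Fin (m + 2)) R) where
  carrier := {g | ∃ ρ v, HPair ρ v ∧ (g : Matrix (Fin (m + 2)) (Fin (m + 2)) R) = hMat ρ v}
  one_mem' := ⟨0, 0, ⟨rfl, rfl, rfl⟩, by rw [hMat_zero]; rfl⟩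
  mul_mem' := by
    rintro g g' ⟨ρ, v, h, hg⟩ ⟨ρ', v', h', hg'⟩
    exact ⟨_, _, h.add h', by rw [Units.val_mul, hg, hg', hMat_mul h h']⟩
  inv_mem' := by
    rintro g ⟨ρ, v, h, hg⟩
    have h' : HPair (-ρ + (ρ ⬝ᵥ v) • hLast) (-v) := by
      refine ⟨?_, by simp [h.2.1], by simp [h.2.2]⟩
      have : (hLast : Fin (m + 2) → R) 0 = 0 := by simp [hLast]
      simp [h.1, this]
    refine ⟨_, _, h', Units.inv_eq_of_mul_eq_one_right ?_⟩
    rw [hg, hMat_mul h h', ← hMat_zero]
    congr 1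
    · funext j; simp
    · simp

end

section
variable {F : Type*} [Field F] [Finite F] {m : ℕ}

theorem card_heis : Nat.card (heis F m) = Nat.card F ^ (1 + 2 * m) := by
  classical
  let par : Type _ := (Fin (m + 1) → F) × (Fin m → F)
  let P : par → (Fin (m + 2) → F) × (Fin (m + 2) → F) := fun x => (Fin.cons 0 x.1, Fin.cons 0 (Fin.snoc x.2 0))
  have hP : ∀ x, HPair (P x).1 (P x).2 := by
    intro x
    refine ⟨rfl, rfl, ?_⟩
    show (Fin.cons 0 (Fin.snoc x.2 0) : Fin (m + 2) → F) (Fin.last (m + 1)) = 0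
    rw [← Fin.succ_last, Fin.cons_succ, Fin.snoc_last]
  let f : par → heis F m := fun x => ⟨(hMat_isUnit (hP x)).unit, _, _, hP x, IsUnit.unit_spec _⟩
  have hf : Function.Bijective f := by
    constructor
    · intro x y e
      have e' : hMat (P x).1 (P x).2 = hMat (P y).1 (P y).2 :=
        congrArg (fun g : heis F m => ((g : GL (Fin (m + 2)) F) : Matrix (Fin (m + 2)) (Fin (m + 2)) F)) e
      obtain ⟨e1, e2⟩ := hMat_injective (hP x) (hP y) e'
      have e1' : x.1 = y.1 := (Fin.cons_right_injective (α := fun _ : Fin (m + 2) => F) 0) e1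
      have e2' : x.2 = y.2 := by
        have := (Fin.cons_right_injective (α := fun _ : Fin (m + 2) => F) 0) e2
        funext i
        simpa using congrFun this i.castSucc
      exact Prod.ext e1' e2'
    · rintro ⟨g, ρ, v, h, hg⟩
      refine ⟨(Fin.tail ρ, Fin.init (Fin.tail v)), Subtype.ext (Units.ext ?_)⟩
      show hMat (Fin.cons 0 (Fin.tail ρ)) (Fin.cons 0 (Fin.snoc (Fin.init (Fin.tail v)) 0)) = _
      rw [hg]
      congr 1
      · conv_lhs => rw [← h.1]
        exact Fin.cons_self_tail ρ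
      · have e1 : Fin.snoc (Fin.init (Fin.tail v)) 0 = Fin.tail v := by
          have : Fin.tail v (Fin.last m) = 0 := by
            show v (Fin.last m).succ = 0
            rw [Fin.succ_last]; exact h.2.2
          conv_lhs => rw [← this]
          exact Fin.snoc_init_self _
        rw [e1]
        conv_lhs => rw [← h.2.1]
        exact Fin.cons_self_tail v
  rw [← Nat.card_congr (Equiv.ofBijective f hf)]
  simp only [par, Nat.card_prod, Nat.card_fun, Nat.card_fin]
  ring

end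

theorem heis_extraspecial (p : ℕ) [Fact p.Prime] (hp : p ≠ 2) (m : ℕ) (hm : 1 ≤ m) :
    Cfsg.IsExtraspecial p (heis (ZMod p) m) ∧ Nat.card (heis (ZMod p) m) = p ^ (1 + 2 * m) ∧
      ∀ x ∈ heis (ZMod p) m, x ^ p = 1 := by
  have hcard : Nat.card (heis (ZMod p) m) = p ^ (1 + 2 * m) := by rw [card_heis, Nat.card_zmod]
  have hpow : ∀ x ∈ heis (ZMod p) m, x ^ p = 1 := by
    rintro g ⟨ρ, v, h, hg⟩
    have key : ∀ k : ℕ, ∃ h' : HPair ((k : ZMod p) • ρ + ((k.choose 2 : ℕ) : ZMod p) • ((ρ ⬝ᵥ v) • hLast)) ((k : ZMod p) • v),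
        (hMat ρ v) ^ k = hMat ((k : ZMod p) • ρ + ((k.choose 2 : ℕ) : ZMod p) • ((ρ ⬝ᵥ v) • hLast)) ((k : ZMod p) • v) := by
      intro k
      induction k with
      | zero => exact ⟨⟨by simp, by simp, by simp⟩, by simp [hMat_zero]⟩
      | succ k ih =>
        obtain ⟨hk, he⟩ := ih
        have hv : (hLast : Fin (m + 2) → ZMod p) ⬝ᵥ v = 0 := by simp [hLast, h.2.2]
        have e1 : ((k : ZMod p) • ρ + ((k.choose 2 : ℕ) : ZMod p) • ((ρ ⬝ᵥ v) • hLast)) + ρ +
            (((k : ZMod p) • ρ + ((k.choose 2 : ℕ) : ZMod p) • ((ρ ⬝ᵥ v) • hLast)) ⬝ᵥ v) • hLast =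
            ((k + 1 : ℕ) : ZMod p) • ρ + (((k + 1).choose 2 : ℕ) : ZMod p) • ((ρ ⬝ᵥ v) • hLast) := by
          rw [add_dotProduct, smul_dotProduct, smul_dotProduct, smul_dotProduct, hv, Nat.choose_succ_succ', Nat.choose_one_right]
          funext j
          simp only [Pi.add_apply, Pi.smul_apply, smul_eq_mul, Nat.cast_add, Nat.cast_one]
          ring
        have e2 : (k : ZMod p) • v + v = ((k + 1 : ℕ) : ZMod p) • v := by
          funext j; simp; ring
        have hh := hk.add h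
        rw [e1, e2] at hh
        refine ⟨hh, ?_⟩
        rw [pow_succ, he, hMat_mul hk h, e1, e2]
    apply Units.ext
    rw [Units.val_pow_eq_pow_val, hg]
    obtain ⟨-, he⟩ := key p
    have hc : ((p.choose 2 : ℕ) : ZMod p) = 0 := (ZMod.natCast_eq_zero_iff _ _).2
      ((Fact.out : p.Prime).dvd_choose_self (by norm_num) (lt_of_le_of_ne (Fact.out : p.Prime).two_le (Ne.symm hp)))
    rw [he, ZMod.natCast_self, hc]
    simp [hMat_zero]
  have hpg : IsPGroup p (heis (ZMod p) m) := IsPGroup.of_card hcard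
  let ctr : ZMod p → heis (ZMod p) m := fun c =>
    ⟨(hMat_isUnit (show HPair (c • hLast : Fin (m + 2) → ZMod p) 0 from ⟨by simp [hLast], rfl, rfl⟩)).unit,
      _, _, ⟨by simp [hLast], rfl, rfl⟩, IsUnit.unit_spec _⟩
  have hcomm : ∀ (g g' : heis (ZMod p) m) (ρ v ρ' v' : Fin (m + 2) → ZMod p), HPair ρ v → HPair ρ' v' →
      ((g : GL (Fin (m + 2)) (ZMod p)) : Matrix (Fin (m + 2)) (Fin (m + 2)) (ZMod p)) = hMat ρ v → ((g' : GL (Fin (m + 2)) (ZMod p)) : Matrix (Fin (m + 2)) (Fin (m + 2)) (ZMod p)) = hMat ρ' v' →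
      g * g' = ctr (ρ ⬝ᵥ v' - ρ' ⬝ᵥ v) * (g' * g) := by
    intro g g' ρ v ρ' v' h h' hg hg'
    apply Subtype.ext
    apply Units.ext
    simp only [Subgroup.coe_mul, Units.val_mul, ctr, IsUnit.unit_spec, hg, hg']
    have hc : HPair (((ρ ⬝ᵥ v' - ρ' ⬝ᵥ v)) • hLast : Fin (m + 2) → ZMod p) 0 := ⟨by simp [hLast], rfl, rfl⟩
    rw [hMat_mul h h', hMat_mul h' h, hMat_mul hc (h'.add h)]
    congr 1
    · have hv : (hLast : Fin (m + 2) → ZMod p) ⬝ᵥ (v' + v) = 0 := by simp [hLast, h.2.2, h'.2.2]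
      rw [smul_dotProduct, hv]
      funext j
      simp only [Pi.add_apply, Pi.smul_apply, smul_eq_mul]
      ring
    · abel
  have hctr : ∀ c, ctr c ∈ Subgroup.center (heis (ZMod p) m) := by
    intro c
    rw [Subgroup.mem_center_iff]
    intro g
    obtain ⟨ρ, v, h, hg⟩ := g.2
    have := hcomm g (ctr c) ρ v (c • hLast) 0 h ⟨by simp [hLast], rfl, rfl⟩ hg (IsUnit.unit_spec _)
    have hv : (hLast : Fin (m + 2) → ZMod p) ⬝ᵥ v = 0 := by simp [hLast, h.2.2]
    have h0 : ctr 0 = 1 := by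
      apply Subtype.ext; apply Units.ext
      simp [ctr, hMat_zero]
    rwa [dotProduct_zero, smul_dotProduct, hv, smul_zero, sub_zero, h0, one_mul] at this
  have hcenter : ∀ z ∈ Subgroup.center (heis (ZMod p) m), ∃ c, z = ctr c := by
    intro z hz
    obtain ⟨ρ, v, h, hg⟩ := z.2
    have hz' : ∀ (ρ' v' : Fin (m + 2) → ZMod p), HPair ρ' v' → ρ ⬝ᵥ v' = ρ' ⬝ᵥ v := by
      intro ρ' v' h'
      let g' : heis (ZMod p) m := ⟨(hMat_isUnit h').unit, _, _, h', IsUnit.unit_spec _⟩
      have := hcomm z g' ρ v ρ' v' h h' hg (IsUnit.unit_spec _)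
      rw [← Subgroup.mem_center_iff.1 hz g'] at this
      have h1 : ctr (ρ ⬝ᵥ v' - ρ' ⬝ᵥ v) = 1 := (mul_eq_right.1 this.symm)
      have h2 := congrArg (fun g : heis (ZMod p) m => ((g : GL (Fin (m + 2)) (ZMod p)) : Matrix (Fin (m + 2)) (Fin (m + 2)) (ZMod p))) h1
      simp only [ctr, IsUnit.unit_spec, Subgroup.coe_one, Units.val_one] at h2
      rw [← hMat_zero] at h2
      obtain ⟨h3, -⟩ := hMat_injective ⟨by simp [hLast], rfl, rfl⟩ ⟨rfl, rfl, rfl⟩ h2
      have h4 := congrFun h3 (Fin.last (m + 1))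
      simp [hLast, sub_eq_zero] at h4
      exact h4
    have hv0 : v = 0 := by
      funext i
      by_cases hi : i = 0
      · subst hi; exact h.2.1
      have := hz' (Pi.single i 1) 0 ⟨by simp [Ne.symm hi], rfl, rfl⟩
      simpa using this.symm
    subst hv0
    refine ⟨ρ (Fin.last (m + 1)), Subtype.ext (Units.ext ?_)⟩
    simp only [ctr, IsUnit.unit_spec]
    rw [hg]
    congr 1
    funext i
    by_cases hi : i = Fin.last (m + 1)
    · subst hi; simp [hLast]
    by_cases hi0 : i = 0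
    · subst hi0; simp [hLast, h.1]
    have := hz' 0 (Pi.single i 1) ⟨rfl, by simp [Ne.symm hi0], by simp [Ne.symm hi]⟩
    simp at this
    simp [hLast, hi, this]
  have hcardZ : Nat.card (Subgroup.center (heis (ZMod p) m)) = p := by
    refine Eq.trans ?_ (Nat.card_zmod p)
    refine (Nat.card_congr (Equiv.ofBijective (fun c => (⟨ctr c, hctr c⟩ : Subgroup.center (heis (ZMod p) m))) ⟨?_, ?_⟩)).symm
    · intro a b e
      have e' := congrArg (fun g : Subgroup.center (heis (ZMod p) m) => (((g : heis (ZMod p) m) : GL (Fin (m + 2)) (ZMod p)) : Matrix (Fin (m + 2)) (Fin (m + 2)) (ZMod p))) e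
      simp only [ctr, IsUnit.unit_spec] at e'
      obtain ⟨h3, -⟩ := hMat_injective ⟨by simp [hLast], rfl, rfl⟩ ⟨by simp [hLast], rfl, rfl⟩ e'
      simpa [hLast] using congrFun h3 (Fin.last (m + 1))
    · rintro ⟨z, hz⟩
      obtain ⟨c, rfl⟩ := hcenter z hz
      exact ⟨c, rfl⟩
  have hcZ : commutator (heis (ZMod p) m) ≤ Subgroup.center (heis (ZMod p) m) := by
    rw [commutator_def, Subgroup.commutator_le]
    intro a _ b _
    obtain ⟨ρ, v, h, hg⟩ := a.2
    obtain ⟨ρ', v', h', hg'⟩ := b.2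
    rw [commutatorElement_def, hcomm a b ρ v ρ' v' h h' hg hg']
    simpa [mul_assoc] using hctr _
  have hceq : commutator (heis (ZMod p) m) = Subgroup.center (heis (ZMod p) m) := by
    apply Subgroup.eq_of_le_of_card_ge hcZ
    rw [hcardZ]
    have hd := Subgroup.card_dvd_of_le hcZ
    rw [hcardZ] at hd
    rcases (Nat.dvd_prime (Fact.out : p.Prime)).1 hd with h1 | h1
    · exfalso
      have hbot : commutator (heis (ZMod p) m) = ⊥ := Subgroup.card_eq_one.1 h1
      -- everything would be central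
      have hall : Subgroup.center (heis (ZMod p) m) = ⊤ := by
        rw [eq_top_iff]
        intro a _
        rw [Subgroup.mem_center_iff]
        intro b
        have hmem : ⁅b, a⁆ ∈ commutator (heis (ZMod p) m) :=
          Subgroup.commutator_mem_commutator (Subgroup.mem_top _) (Subgroup.mem_top _)
        rw [hbot, Subgroup.mem_bot] at hmem
        exact commutatorElement_eq_one_iff_mul_comm.1 hmem
      rw [hall, Subgroup.card_top, hcard] at hcardZ
      have h2 := Nat.pow_eq_self_iff (Fact.out : p.Prime).one_lt |>.1 hcardZ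
      omega
    · exact h1.ge
  refine ⟨⟨⟨hpg, ?_, hceq⟩, hcardZ⟩, hcard, hpow⟩
  apply le_antisymm
  · refine H6.frattini_le_of_quotient (p := p) _ hcZ fun g => ?_
    have : g ^ p = 1 := Subtype.ext (hpow _ g.2)
    rw [this]; exact one_mem _
  · rw [← hceq]; exact H6.commutator_le_frattini hpg

end H35
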