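import Cfsg.Agent.H3.SubnormalJoin

/-!
A subgroup with full normal closure either generates the group together with the proper subgroups
generated by its conjugates, or lies in exactly one maximal subgroup.
-/

set_option autoImplicit false
set_option linter.all false

namespace H35.JU

open Subgroup
open scoped Pointwise

universe u

variable {G : Type u} [Group G]

/-- `U` is a subnormal subgroup of `X`. -/
def SN (U X : Subgroup G) : Prop := U ≤ X ∧ (U.subgroupOf X).IsSubnormal

/-- `H` is the normal closure of `A` in itself. -/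
def Full (A H : Subgroup G) : Prop :=
  ∀ K : Subgroup G, A ≤ K → K ≤ H → H ≤ normalizer (K : Set G) → K = H

theorem sn_refl (X : Subgroup G) : SN X X := by
  refine ⟨le_rfl, ?_⟩
  rw [subgroupOf_self]
  exact IsSubnormal.top

theorem sn_of_le {U X Y : Subgroup G} (h : SN U X) (hUY : U ≤ Y) (hYX : Y ≤ X) : SN U Y := by
  refine ⟨hUY, ?_⟩
  have h2 := h.2.comap (Subgroup.inclusion hYX)
  exact h2

theorem sn_trans {U V X : Subgroup G} (h : SN U V) (h' : SN V X) : SN U X := by
  refine ⟨h.1.trans h'.1, ?_⟩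
  refine IsSubnormal.trans (H := U.subgroupOf X) (K := V.subgroupOf X) (fun x hx => h.1 hx) ?_ h'.2
  have h2 := h.2.comap (Subgroup.subgroupOfEquivOfLe h'.1).toMonoidHom
  exact h2

theorem sn_of_normal {U X : Subgroup G} (hUX : U ≤ X) (hn : X ≤ normalizer (U : Set G)) : SN U X :=
  ⟨hUX, (Subgroup.normal_subgroupOf_of_le_normalizer hn).isSubnormal⟩

theorem sn_sSup [Finite G] {S : Set (Subgroup G)} {X : Subgroup G} (h : ∀ U ∈ S, SN U X) :
    SN (sSup S) X := by
  refine ⟨sSup_le fun U hU => (h U hU).1, ?_⟩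
  have key : (sSup S).subgroupOf X = sSup ((fun U : Subgroup G => U.subgroupOf X) '' S) := by
    apply Subgroup.map_injective X.subtype_injective
    rw [Subgroup.map_subgroupOf_eq_of_le (sSup_le fun U hU => (h U hU).1)]
    refine le_antisymm (sSup_le fun U hU => ?_) (Subgroup.map_le_iff_le_comap.2 (sSup_le ?_))
    · rw [← Subgroup.map_subgroupOf_eq_of_le (h U hU).1]
      exact Subgroup.map_mono (le_sSup ⟨U, hU, rfl⟩)
    · rintro _ ⟨U, hU, rfl⟩
      exact Subgroup.comap_mono (le_sSup hU)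
  rw [key]
  refine H3.subnormal_sSup _ ?_
  rintro _ ⟨U, hU, rfl⟩
  exact (h U hU).2

theorem smul_inv_cancel' (g : G) (U : Subgroup G) : MulAut.conj g⁻¹ • MulAut.conj g • U = U := by
  rw [smul_smul, ← map_mul, inv_mul_cancel, map_one, one_smul]

theorem smul_cancel' (g : G) (U : Subgroup G) : MulAut.conj g • MulAut.conj g⁻¹ • U = U := by
  rw [smul_smul, ← map_mul, mul_inv_cancel, map_one, one_smul]

theorem smul_mono {U V : Subgroup G} (g : G) (h : U ≤ V) : MulAut.conj g • U ≤ MulAut.conj g • V :=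
  Subgroup.pointwise_smul_le_pointwise_smul_iff.2 h

theorem smul_le_iff {U V : Subgroup G} (g : G) : MulAut.conj g • U ≤ V ↔ U ≤ MulAut.conj g⁻¹ • V := by
  constructor
  · intro h; rw [← smul_inv_cancel' g U]; exact smul_mono _ h
  · intro h; rw [← smul_cancel' g V]; exact smul_mono _ h

theorem sn_smul {U X : Subgroup G} (g : G) (h : SN U X) : SN (MulAut.conj g • U) (MulAut.conj g • X) := by
  refine ⟨smul_mono g h.1, ?_⟩
  let φ : ↥(MulAut.conj g • X) →* X :=
    { toFun := fun y => ⟨g⁻¹ * y * g, by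
        have := y.2
        rw [Subgroup.mem_pointwise_smul_iff_inv_smul_mem] at this
        simpa [MulAut.smul_def, mul_assoc] using this⟩
      map_one' := by ext; simp
      map_mul' := fun a b => by ext; simp [mul_assoc] }
  have h2 := h.2.comap φ
  convert h2 using 1
  ext y
  simp only [Subgroup.mem_subgroupOf, Subgroup.mem_comap, Subgroup.mem_pointwise_smul_iff_inv_smul_mem]
  simp [φ, MulAut.smul_def, mul_assoc]

theorem isCoatom_smul {X : Subgroup G} (g : G) (h : IsCoatom X) : IsCoatom (MulAut.conj g • X) := by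
  constructor
  · intro e
    refine h.1 (eq_top_iff.2 ?_)
    rw [← smul_inv_cancel' g X, e]
    intro x _
    rw [Subgroup.mem_pointwise_smul_iff_inv_smul_mem]
    trivial
  · intro Y hY
    have h' : X < MulAut.conj g⁻¹ • Y := by
      refine lt_of_le_of_ne ((smul_le_iff g).1 hY.le) fun e => hY.ne ?_
      rw [e, smul_cancel']
    rw [← smul_cancel' g Y, h.2 _ h', eq_top_iff]
    intro x _
    rw [Subgroup.mem_pointwise_smul_iff_inv_smul_mem]
    trivial

/-- Conjugates of `A` inside `D`. -/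
def fam (A D : Subgroup G) : Set (Subgroup G) := {U | (∃ g : G, U = MulAut.conj g • A) ∧ U ≤ D}

/-- The situation of a minimal counterexample. -/
structure Ctx (A M : Subgroup G) : Prop where
  coatom : IsCoatom M
  le : A ≤ M
  closure : normalClosure (A : Set G) = ⊤
  norm : normalizer (A : Set G) ≤ M
  sub : ∀ X, IsCoatom X → A ≤ X → X ≠ M → SN A X
  bigger : ∀ B, A < B → B ≤ M → ∀ X, IsCoatom X → X ≠ M → B ≤ X →
    ∃ X', IsCoatom X' ∧ X' ≠ M ∧ B ≤ X' ∧ ¬ SN B X'

namespace Ctx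

variable [Finite G] {A M : Subgroup G} (c : Ctx A M)
include c

theorem self_norm {g : G} (h : MulAut.conj g • M = M) : g ∈ M := by
  by_contra hg
  have hlt : M < normalizer (M : Set G) :=
    lt_of_le_of_ne le_normalizer fun e => hg (e ▸ (H3.mem_normalizer_iff_smul M g).2 h)
  have hn := normalizer_eq_top_iff.1 (c.coatom.2 _ hlt)
  apply c.coatom.1
  rw [eq_top_iff, ← c.closure]
  exact normalClosure_le_normal c.le

theorem smul_self {g : G} (h : g ∈ M) : MulAut.conj g • M = M :=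
  (H3.mem_normalizer_iff_smul M g).1 (le_normalizer h)

theorem conj_sn {g : G} {X : Subgroup G} (hX : IsCoatom X) (hne : X ≠ MulAut.conj g • M)
    (hle : MulAut.conj g • A ≤ X) : SN (MulAut.conj g • A) X := by
  have h := c.sub _ (isCoatom_smul g⁻¹ hX) ((smul_le_iff g).1 hle)
    (fun e => hne (by rw [← e, smul_cancel']))
  have h' := sn_smul g h
  rwa [smul_cancel'] at h'

/-- A set of conjugates with one exceptional member. -/
theorem exceptional {S : Set (Subgroup G)} (hS : ∀ U ∈ S, ∃ g : G, U = MulAut.conj g • A) (hA : A ∈ S)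
    (hne : ∃ U ∈ S, U ≠ A) (hM : ∀ U ∈ S, U ≤ M) {X : Subgroup G} (hX : IsCoatom X) (hXM : X ≠ M)
    (hSX : ∀ U ∈ S, U ≤ X) :
    ∃ g : G, MulAut.conj g • A ∈ S ∧ g ∉ M ∧ (∀ U ∈ S, U ≤ MulAut.conj g • M) ∧
      ¬ SN (MulAut.conj g • A) (MulAut.conj g • M) := by
  obtain ⟨U, hU, hUne⟩ := hne
  have hlt : A < sSup S := by
    refine lt_of_le_of_ne (le_sSup hA) fun e => hUne ?_
    have h1 : U ≤ A := by rw [e]; exact le_sSup hU
    obtain ⟨g, rfl⟩ := hS U hU
    refine Subgroup.eq_of_le_of_card_ge h1 (le_of_eq ?_)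
    rw [Subgroup.pointwise_smul_def]
    exact (Subgroup.card_map_of_injective (K := A)
      (f := MulDistribMulAction.toMonoidEnd (MulAut G) G (MulAut.conj g)) (MulAut.conj g).injective).symm
  obtain ⟨X', hX', hX'M, hle, hnot⟩ := c.bigger _ hlt (sSup_le hM) X hX hXM (sSup_le hSX)
  have : ∃ U ∈ S, ¬ SN U X' := by
    by_contra hc
    push Not at hc
    exact hnot (sn_sSup hc)
  obtain ⟨U', hU', hn⟩ := this
  obtain ⟨g, rfl⟩ := hS U' hU'
  have e : X' = MulAut.conj g • M := by
    by_contra hc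
    exact hn (c.conj_sn hX' hc ((le_sSup hU').trans hle))
  subst e
  exact ⟨g, hU', fun hg => hX'M (c.smul_self hg), fun U hU => (le_sSup hU).trans hle, hn⟩

theorem pair {g : G} {X : Subgroup G} (hX : IsCoatom X) (hXM : X ≠ M) (hAX : A ≤ X)
    (hgM : MulAut.conj g • A ≤ M) (hgX : MulAut.conj g • A ≤ X) (hne : MulAut.conj g • A ≠ A) :
    g ∉ M ∧ SN (MulAut.conj g • A) M := by
  have hg : g ∉ M := by
    intro hg
    obtain ⟨k, hk, hkM, -, hn⟩ := c.exceptional (S := {A, MulAut.conj g • A})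
      (fun U hU => by
        rcases hU with rfl | rfl
        · exact ⟨1, by simp⟩
        · exact ⟨g, rfl⟩)
      (Or.inl rfl) ⟨_, Or.inr rfl, hne⟩
      (fun U hU => by rcases hU with rfl | rfl; exacts [c.le, hgM]) hX hXM
      (fun U hU => by rcases hU with rfl | rfl; exacts [hAX, hgX])
    rcases hk with e | e
    · exact hkM (c.norm ((H3.mem_normalizer_iff_smul A k).2 e))
    · have e' : MulAut.conj (g⁻¹ * k) • A = A := by
        rw [map_mul, ← smul_smul, Set.mem_singleton_iff.1 e, smul_inv_cancel']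
      have := mul_mem hg (c.norm ((H3.mem_normalizer_iff_smul A _).2 e'))
      rw [mul_inv_cancel_left] at this
      exact hkM this
  refine ⟨hg, c.conj_sn c.coatom (fun e => hg (c.self_norm e.symm)) hgM⟩

theorem inter_le {X : Subgroup G} (hX : IsCoatom X) (hXM : X ≠ M) (hAX : A ≤ X) :
    M ⊓ X ≤ normalizer (A : Set G) := by
  intro d hd
  rw [H3.mem_normalizer_iff_smul]
  by_contra hne
  have hle : ∀ {Y : Subgroup G}, A ≤ Y → d ∈ Y → MulAut.conj d • A ≤ Y := fun {Y} hAY hdY => by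
    rw [← (H3.mem_normalizer_iff_smul Y d).1 (le_normalizer hdY)]
    exact smul_mono d hAY
  exact (c.pair hX hXM hAX (hle c.le hd.1) (hle hAX hd.2) hne).1 hd.1

theorem exists_other {X : Subgroup G} (hX : IsCoatom X) (hXM : X ≠ M) (hAX : A ≤ X) :
    ∃ U ∈ fam A (M ⊓ X), U ≠ A := by
  have h := c.sub X hX hAX hXM
  by_cases hn : (A.subgroupOf X).Normal
  · exfalso
    have hle : X ≤ M := ((normal_subgroupOf_iff_le_normalizer hAX).1 hn).trans c.norm
    rcases hX.le_iff.1 hle with e | e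
    · exact c.coatom.1 e
    · exact hXM e.symm
  · obtain ⟨g, hle, hne⟩ := H3.exists_conj_le_normalizer h.2 hn
    have h1 := Subgroup.map_mono (f := X.subtype) hle
    rw [H3.map_subtype_smul, Subgroup.map_subgroupOf_eq_of_le hAX] at h1
    have h2 : MulAut.conj (g : G) • A ≤ X := by
      exact (smul_mono _ hAX).trans (le_of_eq ((H3.mem_normalizer_iff_smul X (g : G)).1 (le_normalizer g.2)))
    refine ⟨_, ⟨⟨g, rfl⟩, le_inf ((h1.trans ?_).trans c.norm) h2⟩, fun e => hne ?_⟩
    · refine (le_normalizer_map _).trans ?_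
      rw [Subgroup.map_subgroupOf_eq_of_le hAX]
    · apply Subgroup.map_injective X.subtype_injective
      rw [H3.map_subtype_smul, Subgroup.map_subgroupOf_eq_of_le hAX]
      exact e

/-- `g` links `M` to a conjugate. -/
def Adj (A M : Subgroup G) (g : G) : Prop :=
  g ∉ M ∧ A ≤ MulAut.conj g • M ∧ MulAut.conj g • A ≤ M

omit c in
theorem adj_inv {g : G} (h : Adj A M g) : Adj A M g⁻¹ := by
  refine ⟨fun hg => h.1 (by simpa using M.inv_mem hg), ?_, ?_⟩
  · exact (smul_le_iff g).1 h.2.2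
  · rw [smul_le_iff, inv_inv]; exact h.2.1

theorem adj_ne {g : G} (h : Adj A M g) : MulAut.conj g • M ≠ M := fun e => h.1 (c.self_norm e)

theorem exists_adj {X : Subgroup G} (hX : IsCoatom X) (hXM : X ≠ M) (hAX : A ≤ X) :
    ∃ g : G, Adj A M g ∧ fam A (M ⊓ X) ⊆ fam A (M ⊓ MulAut.conj g • M) ∧ ¬ SN A M := by
  have hA : A ∈ fam A (M ⊓ X) := ⟨⟨1, by simp⟩, le_inf c.le hAX⟩
  obtain ⟨g, hg, hgM, hle, hn⟩ := c.exceptional (S := fam A (M ⊓ X)) (fun U hU => hU.1) hA
    (c.exists_other hX hXM hAX) (fun U hU => hU.2.trans inf_le_left) hX hXM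
    (fun U hU => hU.2.trans inf_le_right)
  refine ⟨g, ⟨hgM, hle A hA, hg.2.trans inf_le_left⟩,
    fun U hU => ⟨hU.1, le_inf (hU.2.trans inf_le_left) (hle U hU)⟩, fun h => hn (sn_smul g h)⟩

theorem not_sn {X : Subgroup G} (hX : IsCoatom X) (hXM : X ≠ M) (hAX : A ≤ X) : ¬ SN A M :=
  (c.exists_adj hX hXM hAX).choose_spec.2.2

/-- The members other than `A`. -/
theorem others {g : G} (h : Adj A M g) {U : Subgroup G} (hU : U ∈ fam A (M ⊓ MulAut.conj g • M))
    (hne : U ≠ A) : ∃ k, U = MulAut.conj k • A ∧ k ∉ M ∧ SN U M := by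
  obtain ⟨⟨k, rfl⟩, hle⟩ := hU
  obtain ⟨h1, h2⟩ := c.pair (isCoatom_smul g c.coatom) (c.adj_ne h) h.2.1 (hle.trans inf_le_left)
    (hle.trans inf_le_right) hne
  exact ⟨k, rfl, h1, h2⟩

theorem not_le_core {g : G} (h : Adj A M g) :
    ¬ A ≤ sSup (fam A (M ⊓ MulAut.conj g • M) \ {A}) := by
  intro hA
  set F₀ := sSup (fam A (M ⊓ MulAut.conj g • M) \ {A}) with hF
  have hXne := c.adj_ne h
  have hle : F₀ ≤ M ⊓ MulAut.conj g • M := sSup_le fun U hU => hU.1.2
  have h1 : SN F₀ M := sn_sSup fun U hU => by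
    obtain ⟨k, -, -, hk⟩ := c.others h hU.1 hU.2
    exact hk
  exact c.not_sn (isCoatom_smul g c.coatom) hXne h.2.1
    (sn_trans (sn_of_normal hA (hle.trans (c.inter_le (isCoatom_smul g c.coatom) hXne h.2.1))) h1)

/-- The normalizer in `M` of the other members fixes `A`. -/
theorem core_normalizer {g : G} (h : Adj A M g) {x : G} (hxM : x ∈ M)
    (hx : x ∈ normalizer ((sSup (fam A (M ⊓ MulAut.conj g • M) \ {A}) : Subgroup G) : Set G)) :
    MulAut.conj x • A = A ∧ ∀ U ∈ fam A (M ⊓ MulAut.conj g • M),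
      MulAut.conj x • U ∈ fam A (M ⊓ MulAut.conj g • M) := by
  have hnot := c.not_le_core h
  have hXne := c.adj_ne h
  have hXc := isCoatom_smul g c.coatom
  set Φ := fam A (M ⊓ MulAut.conj g • M) with hΦ
  have hmove : ∀ U ∈ Φ, U ≠ A → MulAut.conj x • U ≤ sSup (Φ \ {A}) := fun U hU hne => by
    rw [← (H3.mem_normalizer_iff_smul _ x).1 hx]
    exact smul_mono x (le_sSup ⟨hU, hne⟩)
  have hT : MulAut.conj g • A ∈ Φ := ⟨⟨g, rfl⟩, le_inf h.2.2 (smul_mono g c.le)⟩
  have hTne : MulAut.conj g • A ≠ A := fun e => h.1 (c.norm ((H3.mem_normalizer_iff_smul A g).2 e))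
  have hle : sSup (Φ \ {A}) ≤ M ⊓ MulAut.conj g • M := sSup_le fun U hU => hU.1.2
  have hU0 := hmove _ hT hTne
  rw [smul_smul, ← map_mul] at hU0
  have hne : MulAut.conj (x * g) • A ≠ A := fun e => hnot (by rw [e] at hU0; exact hU0)
  obtain ⟨k, hk, hkM, hkle, -⟩ := c.exceptional (S := {A, MulAut.conj (x * g) • A})
    (fun U hU => by
      rcases hU with rfl | rfl
      · exact ⟨1, by simp⟩
      · exact ⟨_, rfl⟩)
    (Or.inl rfl) ⟨_, Or.inr rfl, hne⟩
    (fun U hU => by rcases hU with rfl | rfl; exacts [c.le, (hU0.trans hle).trans inf_le_left]) hXc hXne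
    (fun U hU => by rcases hU with rfl | rfl; exacts [h.2.1, (hU0.trans hle).trans inf_le_right])
  have hfix : MulAut.conj x • A = A := by
    rcases hk with e | e
    · exact absurd (c.norm ((H3.mem_normalizer_iff_smul A k).2 e)) hkM
    · have e' : MulAut.conj ((x * g)⁻¹ * k) • A = A := by
        rw [map_mul, ← smul_smul, Set.mem_singleton_iff.1 e, smul_inv_cancel']
      have hd := c.norm ((H3.mem_normalizer_iff_smul A _).2 e')
      have hkeq : MulAut.conj k • M = MulAut.conj x • MulAut.conj g • M := by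
        rw [smul_smul, ← map_mul, ← mul_inv_cancel_left (x * g) k, map_mul, ← smul_smul, c.smul_self hd]
      have hAle : A ≤ MulAut.conj x • MulAut.conj g • M := hkeq ▸ hkle A (Or.inl rfl)
      have h1 : MulAut.conj x⁻¹ • A ≤ MulAut.conj g • M := by
        rw [smul_le_iff, inv_inv]; exact hAle
      have h2 : MulAut.conj x⁻¹ • A ≤ M := by
        rw [← c.smul_self (M.inv_mem hxM)]; exact smul_mono _ c.le
      have h3 : MulAut.conj x⁻¹ • A = A := by
        by_contra hc
        exact (c.pair hXc hXne h.2.1 h2 h1 hc).1 (M.inv_mem hxM)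
      calc MulAut.conj x • A = MulAut.conj x • MulAut.conj x⁻¹ • A := by rw [h3]
        _ = A := smul_cancel' x A
  refine ⟨hfix, fun U hU => ?_⟩
  by_cases e : U = A
  · rw [e, hfix]; exact e ▸ hU
  · obtain ⟨k', rfl⟩ := hU.1
    exact ⟨⟨x * k', by rw [smul_smul, map_mul]⟩, (hmove _ hU e).trans hle⟩

/-- Some conjugate in that normalizer lies outside the intersection. -/
theorem escape {g : G} (h : Adj A M g) : ∃ U, (∃ k : G, U = MulAut.conj k • A) ∧
    U ≤ M ⊓ normalizer ((sSup (fam A (M ⊓ MulAut.conj g • M) \ {A}) : Subgroup G) : Set G) ∧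
    U ∉ fam A (M ⊓ MulAut.conj g • M) := by
  by_contra hc
  push Not at hc
  have hnot := c.not_le_core h
  have hnorm := fun x hxM hx => c.core_normalizer h (x := x) hxM hx
  set Φ := fam A (M ⊓ MulAut.conj g • M) with hΦ
  set F₀ := sSup (Φ \ {A}) with hF₀
  have hsn : SN F₀ M := sn_sSup fun U hU => by
    obtain ⟨k, -, -, hk⟩ := c.others h hU.1 hU.2
    exact hk
  by_cases hn : (F₀.subgroupOf M).Normal
  · refine c.not_sn (isCoatom_smul g c.coatom) (c.adj_ne h) h.2.1 (sn_of_normal c.le fun x hx => ?_)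
    exact (H3.mem_normalizer_iff_smul A x).2
      (hnorm x hx ((normal_subgroupOf_iff_le_normalizer hsn.1).1 hn hx)).1
  · obtain ⟨m, hle, hne⟩ := H3.exists_conj_le_normalizer hsn.2 hn
    have h1 := Subgroup.map_mono (f := M.subtype) hle
    rw [H3.map_subtype_smul, Subgroup.map_subgroupOf_eq_of_le hsn.1] at h1
    have h2 : MulAut.conj (m : G) • F₀ ≤ normalizer (F₀ : Set G) := by
      refine h1.trans ((le_normalizer_map _).trans ?_)
      rw [Subgroup.map_subgroupOf_eq_of_le hsn.1]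
    refine hne (Subgroup.map_injective M.subtype_injective ?_)
    rw [H3.map_subtype_smul, Subgroup.map_subgroupOf_eq_of_le hsn.1]
    refine (H3.mem_normalizer_iff_smul F₀ (m : G)).1 (H3.mem_normalizer_sSup _ _ fun U hU => ?_)
    obtain ⟨k, rfl, hkM, -⟩ := c.others h hU.1 hU.2
    have hle' : MulAut.conj (m : G) • MulAut.conj k • A ≤ M ⊓ normalizer (F₀ : Set G) :=
      le_inf ((smul_mono _ (hU.1.2.trans inf_le_left)).trans (le_of_eq (c.smul_self m.2)))
        ((smul_mono _ (le_sSup hU)).trans h2)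
    refine ⟨hc _ ⟨(m : G) * k, by rw [smul_smul, map_mul]⟩ hle', fun e => hkM ?_⟩
    rw [Set.mem_singleton_iff, smul_smul, ← map_mul] at e
    have := mul_mem (M.inv_mem m.2) (c.norm ((H3.mem_normalizer_iff_smul A _).2 e))
    rwa [inv_mul_cancel_left] at this

theorem impossible {X : Subgroup G} (hX : IsCoatom X) (hXM : X ≠ M) (hAX : A ≤ X) : False := by
  obtain ⟨g₀, hg₀, -, -⟩ := c.exists_adj hX hXM hAX
  obtain ⟨g, hg, hmax⟩ := (Set.toFinite {g : G | Adj A M g}).exists_maximalFor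
    (fun g => (fam A (M ⊓ MulAut.conj g • M)).ncard) _ ⟨g₀, hg₀⟩
  set Φ := fam A (M ⊓ MulAut.conj g • M) with hΦ
  -- an element of the other side moving the first
  obtain ⟨U, ⟨k, hk⟩, hUle, hUnot⟩ := c.escape (adj_inv hg)
  have hy : ∃ y ∈ U, y ∉ MulAut.conj g⁻¹ • M := by
    by_contra hc
    push Not at hc
    exact hUnot ⟨⟨k, hk⟩, le_inf (hUle.trans inf_le_left) hc⟩
  obtain ⟨y, hyU, hynot⟩ := hy
  obtain ⟨hyfix, hyperm⟩ := c.core_normalizer (adj_inv hg) (hUle hyU).1 (hUle hyU).2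
  set x := g * y * g⁻¹ with hx
  have hxM : x ∉ M := by
    intro hxM
    apply hynot
    rw [Subgroup.mem_pointwise_smul_iff_inv_smul_mem]
    simpa [MulAut.smul_def, hx, mul_assoc] using hxM
  have hxperm : ∀ U ∈ Φ, MulAut.conj x • U ∈ Φ := by
    intro V hV
    have htr : ∀ (t : G) (W : Subgroup G), W ∈ fam A (M ⊓ MulAut.conj t • M) →
        MulAut.conj t⁻¹ • W ∈ fam A (M ⊓ MulAut.conj t⁻¹ • M) := by
      intro t W hW
      obtain ⟨k', rfl⟩ := hW.1
      refine ⟨⟨t⁻¹ * k', by rw [smul_smul, map_mul]⟩, le_inf ?_ ?_⟩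
      · rw [smul_le_iff, inv_inv]; exact hW.2.trans inf_le_right
      · exact smul_mono _ (hW.2.trans inf_le_left)
    have h2 := hyperm _ (htr g V hV)
    have h3 := htr g⁻¹ _ h2
    rw [inv_inv] at h3
    rw [hx, map_mul, map_mul, ← smul_smul, ← smul_smul]
    exact h3
  set F := sSup Φ with hF
  have hFM : F ≤ M := sSup_le fun V hV => hV.2.trans inf_le_left
  have hAΦ : A ∈ Φ := ⟨⟨1, by simp⟩, le_inf c.le hg.2.1⟩
  have hxN : x ∈ normalizer (F : Set G) := H3.mem_normalizer_sSup _ _ hxperm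
  have hNtop : normalizer (F : Set G) ≠ ⊤ := by
    intro e
    have hFn := normalizer_eq_top_iff.1 e
    have : (⊤ : Subgroup G) ≤ M := by
      rw [← c.closure]
      exact (normalClosure_le_normal (le_sSup hAΦ)).trans hFM
    exact c.coatom.1 (top_le_iff.1 this)
  obtain ⟨X₁, hX₁, hNX⟩ := (eq_top_or_exists_le_coatom (normalizer (F : Set G))).resolve_left hNtop
  have hX₁M : X₁ ≠ M := fun e => hxM (e ▸ hNX hxN)
  have hFX : F ≤ X₁ := le_normalizer.trans hNX
  have hAX₁ : A ≤ X₁ := (le_sSup hAΦ).trans hFX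
  obtain ⟨g', hg', hsub, -⟩ := c.exists_adj hX₁ hX₁M hAX₁
  have hΦsub : Φ ⊆ fam A (M ⊓ X₁) := fun V hV =>
    ⟨hV.1, le_inf (hV.2.trans inf_le_left) ((le_sSup hV).trans hFX)⟩
  have heq : fam A (M ⊓ X₁) = Φ := by
    refine (Set.eq_of_subset_of_ncard_le hΦsub ?_ (Set.toFinite _)).symm
    have h1 := Set.ncard_le_ncard hsub (Set.toFinite _)
    exact h1.trans (le_of_not_gt fun hlt => absurd (hmax hg' hlt.le) (not_le.2 hlt))
  obtain ⟨V, hVc, hVle, hVnot⟩ := c.escape hg
  refine hVnot ?_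
  have hmem : V ∈ fam A (M ⊓ X₁) := by
    refine ⟨hVc, le_inf (hVle.trans inf_le_left) fun z hz => hNX ?_⟩
    exact H3.mem_normalizer_sSup _ _ (c.core_normalizer hg (hVle hz).1 (hVle hz).2).2
  rwa [heq] at hmem

end Ctx

/-- The proper subgroups generated by their own conjugates of `A`. -/
def omega (A : Subgroup G) : Set (Subgroup G) := {H | A ≤ H ∧ H ≠ ⊤ ∧ Full A H}

theorem full_smul {A H : Subgroup G} {n : G} (hn : MulAut.conj n • A = A) (h : Full A H) [Finite G] :
    Full A (MulAut.conj n • H) := by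
  intro K hAK hKH hN
  have h1 : MulAut.conj n⁻¹ • K = H := by
    refine h _ ?_ ?_ ?_
    · rw [← smul_inv_cancel' n A, hn]; exact smul_mono _ hAK
    · rw [← smul_inv_cancel' n H]; exact smul_mono _ hKH
    · intro x hx
      rw [H3.mem_normalizer_iff_smul, smul_smul, ← map_mul]
      have hmem : n * x * n⁻¹ ∈ normalizer (K : Set G) := hN (by
        rw [Subgroup.mem_pointwise_smul_iff_inv_smul_mem]
        simpa [MulAut.smul_def, mul_assoc] using hx)
      rw [show x * n⁻¹ = n⁻¹ * (n * x * n⁻¹) by group, map_mul, ← smul_smul,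
        (H3.mem_normalizer_iff_smul K _).1 hmem]
  rw [← h1, smul_cancel']

theorem full_iff {A H : Subgroup G} (hAH : A ≤ H) :
    normalClosure ((A.subgroupOf H : Subgroup H) : Set H) = ⊤ ↔ Full A H := by
  constructor
  · intro h K hAK hKH hN
    refine le_antisymm hKH fun x hx => ?_
    haveI : (K.subgroupOf H).Normal := normal_subgroupOf_of_le_normalizer hN
    have h1 : normalClosure ((A.subgroupOf H : Subgroup H) : Set H) ≤ K.subgroupOf H :=
      normalClosure_le_normal fun y hy => hAK hy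
    rw [h] at h1
    exact h1 (Subgroup.mem_top (⟨x, hx⟩ : H))
  · intro h
    set C := normalClosure ((A.subgroupOf H : Subgroup H) : Set H) with hC
    have hle : A ≤ C.map H.subtype := fun a ha =>
      ⟨⟨a, hAH ha⟩, subset_normalClosure ha, rfl⟩
    have hCH : C.map H.subtype ≤ H := map_subtype_le C
    have hn : ((C.map H.subtype).subgroupOf H).Normal := by
      rw [Subgroup.subgroupOf, Subgroup.comap_map_eq_self_of_injective H.subtype_injective]
      exact normalClosure_normal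
    have := h _ hle hCH ((normal_subgroupOf_iff_le_normalizer hCH).1 hn)
    apply Subgroup.map_injective H.subtype_injective
    rw [this, ← MonoidHom.range_eq_map, Subgroup.range_subtype]

theorem full_trans {A K H : Subgroup G} (hKH : K ≤ H) (hAK : A ≤ K) (h1 : Full A K) (h2 : Full K H) :
    Full A H := by
  intro L hAL hLH hN
  have hKL : K ≤ L := by
    have hint : L ⊓ K = K := by
      refine h1 _ (le_inf hAL hAK) inf_le_right fun x hx => ?_
      rw [Subgroup.mem_normalizer_iff]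
      intro y
      have e1 := Subgroup.mem_normalizer_iff.1 (hN (hKH hx)) y
      have e2 := Subgroup.mem_normalizer_iff.1 (le_normalizer hx) y
      simp only [Subgroup.mem_inf]
      exact and_congr e1 e2
    exact inf_eq_right.1 hint
  exact h2 L hKL hLH hN

theorem eq_of_sn_full {B H : Subgroup G} [Finite G] (h : SN B H) (hf : Full B H) : B = H := by
  by_contra hne
  have hne' : B.subgroupOf H ≠ ⊤ := fun e => hne (le_antisymm h.1 (subgroupOf_eq_top.1 e))
  obtain ⟨L, hLn, hle, hlt⟩ := h.2.exists_normal_and_le_and_lt_top_of_ne hne'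
  refine hlt.ne (eq_top_iff.2 ?_)
  rw [← (full_iff h.1).2 hf]
  exact normalClosure_le_normal hle

theorem exists_full_sn [Finite G] (A X : Subgroup G) (h : A ≤ X) :
    ∃ K, A ≤ K ∧ Full A K ∧ SN K X := by
  obtain ⟨K, ⟨hAK, hK⟩, hmin⟩ := (Set.toFinite {K : Subgroup G | A ≤ K ∧ SN K X}).exists_minimal
    ⟨X, h, sn_refl X⟩
  refine ⟨K, hAK, fun L hAL hLK hN => ?_, hK⟩
  exact le_antisymm hLK (hmin ⟨hAL, sn_trans (sn_of_normal hLK hN) hK⟩ hLK)

theorem main_aux [Finite G] (n : ℕ) : ∀ A : Subgroup G, Nat.card G - Nat.card A ≤ n →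
    normalClosure (A : Set G) = ⊤ → A ≠ ⊤ →
    sSup (omega A) = ⊤ ∨ ∃! M : Subgroup G, IsCoatom M ∧ A ≤ M := by
  induction n using Nat.strong_induction_on with
  | _ n ih =>
  intro A hn hcl hA
  by_cases hY : sSup (omega A) = ⊤
  · exact Or.inl hY
  refine Or.inr ?_
  set Y := sSup (omega A) with hYdef
  have hAY : A ≤ Y := le_sSup ⟨le_rfl, hA, fun K h1 h2 _ => le_antisymm h2 h1⟩
  have hNY : normalizer (Y : Set G) ≠ ⊤ := by
    intro e
    have := normalizer_eq_top_iff.1 e
    apply hY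
    rw [eq_top_iff, ← hcl]
    exact normalClosure_le_normal hAY
  obtain ⟨M, hM, hNM⟩ := (eq_top_or_exists_le_coatom (normalizer (Y : Set G))).resolve_left hNY
  have hYM : Y ≤ M := le_normalizer.trans hNM
  refine ⟨M, ⟨hM, hAY.trans hYM⟩, fun X hX => ?_⟩
  obtain ⟨hXc, hAX⟩ := hX
  by_contra hXM
  -- induction applied to a larger subgroup
  have IH : ∀ B : Subgroup G, A < B → B ≤ M → ∀ X : Subgroup G, IsCoatom X → X ≠ M → B ≤ X →
      sSup (omega B) = ⊤ := by
    intro B hAB hBM X hXc hXM hBX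
    have hcard : Nat.card A < Nat.card B := by
      refine lt_of_le_of_ne (Nat.le_of_dvd Nat.card_pos (card_dvd_of_le hAB.le)) fun e => hAB.ne ?_
      exact Subgroup.eq_of_le_of_card_ge hAB.le e.ge
    have hBtop : B ≠ ⊤ := fun e => hM.1 (top_le_iff.1 (e ▸ hBM))
    have hcl' : normalClosure (B : Set G) = ⊤ :=
      top_le_iff.1 (hcl ▸ normalClosure_mono hAB.le)
    have hBG : Nat.card B ≤ Nat.card G := Nat.le_of_dvd Nat.card_pos (card_subgroup_dvd_card B)
    refine (ih _ (by omega) B le_rfl hcl' hBtop).resolve_right ?_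
    rintro ⟨M', -, huniq⟩
    exact hXM ((huniq X ⟨hXc, hBX⟩).trans (huniq M ⟨hM, hBM⟩).symm)
  refine Ctx.impossible (A := A) (M := M) ⟨hM, hAY.trans hYM, hcl, ?_, ?_, ?_⟩ hXc hXM hAX
  · refine le_trans (fun x hx => ?_) hNM
    refine H3.mem_normalizer_sSup _ x fun H hH => ?_
    have hxA := (H3.mem_normalizer_iff_smul A x).1 hx
    refine ⟨hxA ▸ smul_mono x hH.1, fun e => hH.2.1 ?_, full_smul hxA hH.2.2⟩
    rw [← smul_inv_cancel' x H, e, eq_top_iff]
    intro z _
    rw [Subgroup.mem_pointwise_smul_iff_inv_smul_mem]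
    trivial
  · intro X' hX' hAX' hX'M
    obtain ⟨K, hAK, hfull, hK⟩ := exists_full_sn A X' hAX'
    rcases eq_or_lt_of_le hAK with e | hlt
    · exact e ▸ hK
    · exfalso
      have hKtop : K ≠ ⊤ := fun e => hX'.1 (top_le_iff.1 (e ▸ hK.1))
      have hKY : K ≤ Y := le_sSup ⟨hAK, hKtop, hfull⟩
      apply hY
      rw [eq_top_iff, ← IH K hlt (hKY.trans hYM) X' hX' hX'M hK.1]
      exact sSup_le_sSup fun H hH =>
        ⟨hAK.trans hH.1, hH.2.1, full_trans hH.1 hAK hfull hH.2.2⟩
  · intro B hAB hBM X' hX' hX'M hBX'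
    by_contra hc
    push Not at hc
    apply hM.1
    rw [eq_top_iff, ← IH B hAB hBM X' hX' hX'M hBX']
    refine sSup_le fun H hH => ?_
    obtain ⟨X'', hX'', hle⟩ := (eq_top_or_exists_le_coatom H).resolve_left hH.2.1
    by_cases e : X'' = M
    · exact e ▸ hle
    · rw [← eq_of_sn_full (sn_of_le (hc X'' hX'' e (hH.1.trans hle)) hH.1 hle) hH.2.2]
      exact hBM

theorem main [Finite G] (A : Subgroup G) (hcl : normalClosure (A : Set G) = ⊤) (hA : A ≠ ⊤) :
    sSup (omega A) = ⊤ ∨ ∃! M : Subgroup G, IsCoatom M ∧ A ≤ M :=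
  main_aux _ A le_rfl hcl hA

end H35.JU
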