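import Mathlib

/-!
An abelian minimal normal subgroup with cyclic quotient: bound on its rank.
-/

set_option autoImplicit false
set_option linter.all false

namespace H35

open Subgroup Polynomial

set_option maxHeartbeats 1600000 in
theorem minimal_normal_dim_le {G : Type*} [Group G] [Finite G] (A : Subgroup G) [A.Normal]
    [IsMulCommutative A] {p q : ℕ} [Fact p.Prime] (hq : q.Prime) (hexp : ∀ a ∈ A, a ^ q = 1)
    (x : G) (hxp : x ^ p = 1) (hgen : zpowers x ⊔ A = ⊤)
    (hmin : ∀ B : Subgroup G, B.Normal → B ≤ A → B = ⊥ ∨ B = A) (hA : A ≠ ⊥)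
    {d e : ℕ} (hd : Nat.card A = q ^ d) (he : e ≠ 0) (hqe : (q : ZMod p) ^ e = 1) : d ≤ e := by
  classical
  haveI := Fact.mk hq
  letI : CommGroup A := { (inferInstance : Group A) with mul_comm := fun a b => mul_comm' a b }
  set s : A →* A := (MulAut.conjNormal x : MulAut A).toMonoidHom with hs
  have hirr : ∀ B : Subgroup A, (∀ b ∈ B, s b ∈ B) → B = ⊥ ∨ B = ⊤ := by
    intro B hB
    have hle : B.map A.subtype ≤ A := map_subtype_le B
    have hn : (B.map A.subtype).Normal := by
      rw [← normalizer_eq_top_iff, eq_top_iff, ← hgen, sup_le_iff, zpowers_le]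
      constructor
      · rw [Subgroup.mem_normalizer_iff_map_conj_eq]
        refine Subgroup.eq_of_le_of_card_ge ?_ (Nat.card_congr
          ((B.map A.subtype).equivMapOfInjective _ (MulAut.conj x).injective).toEquiv).le
        rintro y ⟨z, ⟨b, hb, rfl⟩, rfl⟩
        exact ⟨s b, hB b hb, MulAut.conjNormal_apply x b⟩
      · intro a ha
        rw [Subgroup.mem_normalizer_iff]
        have hc : ∀ y ∈ A, a * y * a⁻¹ = y := fun y hy => by
          have := congrArg Subtype.val (mul_comm (⟨a, ha⟩ : A) ⟨y, hy⟩)
          simp only [Subgroup.coe_mul] at this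
          rw [this, mul_inv_cancel_right]
        refine fun y => ⟨fun hy => by rwa [hc y (hle hy)], fun hy => ?_⟩
        have hyA : y ∈ A := by
          have e : y = a⁻¹ * (a * y * a⁻¹) * a := by group
          rw [e]; exact A.mul_mem (A.mul_mem (A.inv_mem ha) (hle hy)) ha
        rwa [hc y hyA] at hy
    rcases hmin _ hn hle with h | h
    · left; exact (Subgroup.map_eq_bot_iff_of_injective _ A.subtype_injective).mp h
    · right
      apply Subgroup.map_injective A.subtype_injective
      rw [h, ← MonoidHom.range_eq_map, range_subtype]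
  set σ : AddMonoid.End (Additive A) := MonoidHom.toAdditive s with hσ
  have hpow : ∀ (k : ℕ) (a : A), (σ ^ k) (Additive.ofMul a) =
      Additive.ofMul ((MulAut.conjNormal (x ^ k) : MulAut A) a) := by
    intro k
    induction k with
    | zero => intro a; simp
    | succ k ih =>
      intro a
      rw [pow_succ, AddMonoid.End.coe_mul, Function.comp_apply, pow_succ x k, map_mul]
      exact ih (s a)
  have hσp : σ ^ p = 1 := by
    ext a
    have := hpow p a.toMul
    rw [hxp, map_one] at this
    simpa using this
  have hσqe : σ ^ (q ^ e) = σ := by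
    have h1 : ((q ^ e : ℕ) : ZMod p) = ((1 : ℕ) : ZMod p) := by simpa using hqe
    rw [ZMod.natCast_eq_natCast_iff] at h1
    have h2 : 1 ≤ q ^ e := Nat.one_le_pow _ _ hq.pos
    obtain ⟨c, hc⟩ := (Nat.modEq_iff_dvd' h2).mp h1.symm
    have h3 : q ^ e = p * c + 1 := by omega
    rw [h3, pow_succ, pow_mul, hσp, one_pow, one_mul]
  set R := Subring.closure ({σ} : Set (AddMonoid.End (Additive A))) with hR
  letI : CommRing R := { (inferInstance : Ring R) with
    mul_comm := fun a b => Subtype.ext <| by
      have h1 : R ≤ Subring.centralizer {σ} := Subring.closure_le.mpr fun u hu =>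
        Subring.mem_centralizer_iff.mpr fun g hg => by
          rw [Set.mem_singleton_iff.mp hu, Set.mem_singleton_iff.mp hg]
      have h2 : R ≤ Subring.centralizer (R : Set (AddMonoid.End (Additive A))) :=
        Subring.closure_le.mpr fun u hu => Subring.mem_centralizer_iff.mpr fun g hg => by
          rw [Set.mem_singleton_iff.mp hu]
          exact (Subring.mem_centralizer_iff.mp (h1 hg) σ rfl).symm
      exact Subring.mem_centralizer_iff.mp (h2 b.2) a a.2 }
  have hσR : σ ∈ R := Subring.subset_closure rfl
  obtain ⟨a₀, ha₀⟩ : ∃ a : A, a ≠ 1 := by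
    obtain ⟨a, ha⟩ := A.ne_bot_iff_exists_ne_one.mp hA
    exact ⟨a, ha⟩
  haveI : Nontrivial R := ⟨⟨0, 1, fun h => ha₀ (by
    have := congrArg (fun z : R => (z : AddMonoid.End (Additive A)) (Additive.ofMul a₀)) h
    simpa using this.symm)⟩⟩
  have hq0 : (q : R) = 0 := by
    apply Subtype.ext
    rw [Subring.coe_zero]
    push_cast
    refine AddMonoidHom.ext fun a => ?_
    show q • a = 0
    apply Additive.toMul.injective
    show (a.toMul) ^ q = 1
    exact Subtype.ext (hexp _ a.toMul.2)
  haveI : CharP R q := (CharP.charP_iff_prime_eq_zero hq).mpr hq0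
  haveI : ExpChar R q := ExpChar.prime hq
  -- every element is fixed by the `e`-th iterate of Frobenius
  have hfix : ∀ z : R, z ^ (q ^ e) = z := by
    rintro ⟨z, hz⟩
    induction hz using Subring.closure_induction with
    | mem u hu =>
      apply Subtype.ext
      show u ^ (q ^ e) = u
      rw [Set.mem_singleton_iff.mp hu]; exact hσqe
    | zero => exact zero_pow (pow_ne_zero _ hq.ne_zero)
    | one => exact one_pow _
    | add u v hu hv h h' =>
      calc (⟨u, hu⟩ + ⟨v, hv⟩ : R) ^ (q ^ e) = _ := add_pow_expChar_pow _ _ q e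
        _ = _ := by rw [h, h']; rfl
    | neg u hu h =>
      calc (-⟨u, hu⟩ : R) ^ (q ^ e) = iterateFrobenius R q e (-⟨u, hu⟩) := (iterateFrobenius_def q e _).symm
        _ = - iterateFrobenius R q e ⟨u, hu⟩ := map_neg _ _
        _ = _ := by rw [iterateFrobenius_def, h]; rfl
    | mul u v hu hv h h' =>
      calc (⟨u, hu⟩ * ⟨v, hv⟩ : R) ^ (q ^ e) = _ := mul_pow _ _ _
        _ = _ := by rw [h, h']; rfl
  have hcσ : ∀ (z : R) (a : Additive A), (z : AddMonoid.End (Additive A)) (σ a) = σ ((z : AddMonoid.End (Additive A)) a) := by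
    intro z a
    have h1 := congrArg (fun w : R => (w : AddMonoid.End (Additive A)) a) (mul_comm z ⟨σ, hσR⟩)
    exact h1
  have hinj : ∀ z : R, z ≠ 0 → Function.Injective (z : AddMonoid.End (Additive A)) := by
    intro z hz
    rw [injective_iff_map_eq_zero]
    set B : Subgroup A :=
      { carrier := {a | (z : AddMonoid.End (Additive A)) (Additive.ofMul a) = 0}
        one_mem' := by simp
        mul_mem' := by
          intro a b ha hb
          simp only [Set.mem_setOf_eq] at *
          rw [ofMul_mul, map_add, ha, hb, add_zero]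
        inv_mem' := by
          intro a ha
          simp only [Set.mem_setOf_eq] at *
          rw [ofMul_inv, map_neg, ha, neg_zero] } with hB
    rcases hirr B (fun b hb => by
      show (z : AddMonoid.End (Additive A)) (σ (Additive.ofMul b)) = 0
      rw [hcσ, show (z : AddMonoid.End (Additive A)) (Additive.ofMul b) = 0 from hb, map_zero]) with h | h
    · intro a ha
      have : a.toMul ∈ B := ha
      rw [h, Subgroup.mem_bot] at this
      exact this
    · exfalso; apply hz
      apply Subtype.ext
      ext a
      have : a.toMul ∈ B := h ▸ Subgroup.mem_top _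
      exact congrArg _ this
  haveI : NoZeroDivisors R := ⟨fun {a b} hab => by
    by_contra hc
    push Not at hc
    apply ha₀
    have h1 : ((a : AddMonoid.End (Additive A))) ((b : AddMonoid.End (Additive A)) (Additive.ofMul a₀)) = 0 := by
      have := congrArg (fun w : R => (w : AddMonoid.End (Additive A)) (Additive.ofMul a₀)) hab
      simpa using this
    have h2 := (injective_iff_map_eq_zero _).mp (hinj a hc.1) _ h1
    exact (injective_iff_map_eq_zero _).mp (hinj b hc.2) _ h2⟩
  haveI : IsDomain R := NoZeroDivisors.to_isDomain R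
  haveI : Finite (AddMonoid.End (Additive A)) :=
    DFunLike.finite _
  haveI := Fintype.ofFinite R
  have hcard : Nat.card R ≤ q ^ e := by
    have h1 : 1 < q ^ e := Nat.one_lt_pow he hq.one_lt
    have hdeg : (X ^ (q ^ e) - X : R[X]).natDegree = q ^ e := by
      rw [natDegree_sub_eq_left_of_natDegree_lt (by simp; omega)]
      simp
    have hne : (X ^ (q ^ e) - X : R[X]) ≠ 0 := fun h => by
      rw [h, natDegree_zero] at hdeg; omega
    have h2 : (Finset.univ : Finset R).val ⊆ (X ^ (q ^ e) - X : R[X]).roots := fun z _ => by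
      rw [mem_roots hne]
      simp [hfix z]
    have h3 := (Multiset.card_le_card ((Multiset.le_iff_subset (Finset.univ : Finset R).nodup).mpr h2)).trans
      (card_roots' _)
    rw [hdeg] at h3
    simpa [Nat.card_eq_fintype_card] using h3
  -- the orbit map is onto
  let B : Subgroup A :=
    { carrier := {a | ∃ z : R, (z : AddMonoid.End (Additive A)) (Additive.ofMul a₀) = Additive.ofMul a}
      one_mem' := ⟨0, by simp⟩
      mul_mem' := by
        rintro a b ⟨z, hz⟩ ⟨w, hw⟩
        exact ⟨z + w, by rw [Subring.coe_add, ofMul_mul, ← hz, ← hw]; rfl⟩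
      inv_mem' := by
        rintro a ⟨z, hz⟩
        exact ⟨-z, by rw [NegMemClass.coe_neg, ofMul_inv, ← hz]; rfl⟩ }
  have hB : B = ⊤ := by
    refine (hirr B ?_).resolve_left fun h => ha₀ ?_
    · rintro b ⟨z, hz⟩
      refine ⟨⟨σ, hσR⟩ * z, ?_⟩
      rw [Subring.coe_mul, AddMonoid.End.coe_mul, Function.comp_apply, hz]
      rfl
    · have : a₀ ∈ B := ⟨1, by simp⟩
      rwa [h, Subgroup.mem_bot] at this
  have hsurj : Function.Surjective (fun z : R => ((z : AddMonoid.End (Additive A)) (Additive.ofMul a₀)).toMul) := by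
    intro a
    obtain ⟨z, hz⟩ : a ∈ B := hB ▸ Subgroup.mem_top a
    exact ⟨z, by simp [hz]⟩
  have := (Nat.card_le_card_of_surjective _ hsurj).trans hcard
  rw [hd] at this
  exact (Nat.pow_le_pow_iff_right hq.one_lt).mp this

end H35
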