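import Mathlib

/-! Automorphisms of cyclic p-groups induced by conjugation. -/

namespace H35

variable {G : Type*} [Group G]

theorem conj_pow_iter {g y : G} {k : ℤ} (h : g * y * g⁻¹ = y ^ k) (n : ℕ) :
    g ^ n * y * (g ^ n)⁻¹ = y ^ (k ^ n) := by
  induction n with
  | zero => simp
  | succ n ih =>
    calc g ^ (n + 1) * y * (g ^ (n + 1))⁻¹ = g * (g ^ n * y * (g ^ n)⁻¹) * g⁻¹ := by rw [pow_succ']; group
      _ = g * y ^ (k ^ n) * g⁻¹ := by rw [ih]
      _ = (g * y * g⁻¹) ^ (k ^ n) := conj_zpow.symm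
      _ = _ := by rw [h, ← zpow_mul, pow_succ, mul_comm k]

/-- An automorphism `y ↦ y^k` of a cyclic group of order `p^e` with `k ≡ 1 mod p` has order dividing `p^e`. -/
theorem commute_pow_prime_pow {p e : ℕ} {g y : G} {k : ℤ} (he : orderOf y = p ^ e)
    (h : g * y * g⁻¹ = y ^ k) (hk : (p : ℤ) ∣ k - 1) : Commute (g ^ (p ^ e)) y := by
  have h5 := dvd_sub_pow_of_dvd_sub (k := e) hk
  rw [one_pow] at h5
  have h4 : ((p : ℤ) ^ e) ∣ k ^ (p ^ e) - 1 := (pow_dvd_pow _ (by omega)).trans h5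
  have h6 : g ^ (p ^ e) * y * (g ^ (p ^ e))⁻¹ = y := by
    rw [conj_pow_iter h]
    nth_rw 2 [← zpow_one y]
    apply orderOf_dvd_sub_iff_zpow_eq_zpow.1
    rw [he]; push_cast; exact h4
  exact mul_inv_eq_iff_eq_mul.1 h6

theorem commute_of_coprime_powers {g y : G} {a b : ℕ} (hab : a.Coprime b)
    (h1 : Commute (g ^ a) y) (h2 : Commute (g ^ b) y) : Commute g y := by
  obtain ⟨u, v, huv⟩ := hab.isCoprime
  have : g = (g ^ a) ^ u * (g ^ b) ^ v := by
    rw [← zpow_natCast g a, ← zpow_natCast g b, ← zpow_mul, ← zpow_mul, ← zpow_add, mul_comm _ u, mul_comm _ v,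
      huv, zpow_one]
  rw [this]
  exact (h1.zpow_left u).mul_left (h2.zpow_left v)

end H35
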