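import Mathlib
import Cfsg.Agent.H61.DihedralIso
import Cfsg.Agent.H2.UniqueSubgroup

/-!
Groups whose `p`-by-cyclic subgroups are cyclic or dihedral.
-/

set_option autoImplicit false
set_option linter.all false

namespace H35

open Subgroup

variable {G : Type*} [Group G] [Finite G] {p : ℕ} [hpf : Fact p.Prime]

/-- The hypothesis on `p`-by-cyclic subgroups. -/
def RestrictedPCyclic (p : ℕ) (G : Type*) [Group G] : Prop :=
  ∀ H : Subgroup G, (∀ S : Sylow p ↥H, (S : Subgroup ↥H).Normal) →
    (∀ (S : Sylow p ↥H) [(S : Subgroup ↥H).Normal], IsCyclic (↥H ⧸ (S : Subgroup ↥H))) →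
    IsCyclic H ∨ (∃ n : ℕ, Nonempty (H ≃* DihedralGroup (p ^ n)))

theorem restricted_inverts (hp : p ≠ 2) (hR : RestrictedPCyclic p G) {A : Subgroup G}
    (hA : IsPGroup p A) {g y : G} (hg : g ∈ normalizer (A : Set G)) (hy : y ∈ A)
    (hgy : g * y ≠ y * g) : orderOf g = 2 ∧ g * y * g⁻¹ = y⁻¹ := by
  classical
  set H := A ⊔ zpowers g with hH
  have hAH : A ≤ H := le_sup_left
  have hgH : g ∈ H := mem_sup_right (mem_zpowers g)
  haveI hAn : (A.subgroupOf H).Normal := by
    rw [normal_subgroupOf_iff_le_normalizer hAH]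
    exact sup_le le_normalizer (zpowers_le.2 hg)
  have hcycq : IsCyclic (H ⧸ A.subgroupOf H) := by
    refine ⟨⟨QuotientGroup.mk' (A.subgroupOf H) ⟨g, hgH⟩, fun x => ?_⟩⟩
    have htop : (⊤ : Subgroup (H ⧸ A.subgroupOf H)) ≤ zpowers (QuotientGroup.mk' _ ⟨g, hgH⟩) := by
      rw [← map_top_of_surjective _ (QuotientGroup.mk'_surjective (A.subgroupOf H)),
        show (⊤ : Subgroup H) = A.subgroupOf H ⊔ (zpowers g).subgroupOf H by
          rw [← subgroupOf_sup hAH le_sup_right, subgroupOf_self], Subgroup.map_sup, sup_le_iff]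
      refine ⟨?_, ?_⟩
      · rintro _ ⟨a, ha, rfl⟩
        rw [show QuotientGroup.mk' (A.subgroupOf H) a = 1 from (QuotientGroup.eq_one_iff a).2 ha]
        exact one_mem _
      · rintro _ ⟨⟨a, haH⟩, ha, rfl⟩
        obtain ⟨i, hi⟩ := mem_zpowers_iff.1 (mem_subgroupOf.1 ha)
        exact mem_zpowers_iff.2 ⟨i, by rw [← map_zpow]; congr 1; exact Subtype.ext hi⟩
    exact htop (mem_top x)
  have hAp : IsPGroup p (A.subgroupOf H) := hA.comap_subtype
  have hle : ∀ S : Sylow p H, A.subgroupOf H ≤ (S : Subgroup H) := fun S => hAp.le_sylow_of_normal S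
  have hn : ∀ S : Sylow p H, (S : Subgroup H).Normal := by
    intro S
    letI := hcycq.commGroup
    have h1 := Subgroup.comap_map_eq_self (f := QuotientGroup.mk' (A.subgroupOf H))
      (H := (S : Subgroup H)) (by rw [QuotientGroup.ker_mk']; exact hle S)
    rw [← h1]
    infer_instance
  rcases hR H hn (fun S _ => isCyclic_of_surjective (QuotientGroup.map (A.subgroupOf H) _ (MonoidHom.id H)
      (fun x hx => hle S hx)) (fun q => by
        obtain ⟨x, rfl⟩ := QuotientGroup.mk_surjective q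
        exact ⟨x, rfl⟩)) with hc | ⟨n, ⟨e⟩⟩
  · exfalso
    letI := hc.commGroup
    exact hgy (congrArg Subtype.val (mul_comm (⟨g, hgH⟩ : H) ⟨y, hAH hy⟩))
  · set G' : H := ⟨g, hgH⟩
    set Y : H := ⟨y, hAH hy⟩
    have hne : e G' * e Y ≠ e Y * e G' := fun h => hgy (by
      rw [← map_mul, ← map_mul] at h
      exact congrArg Subtype.val (e.injective h))
    have hord : Odd (orderOf (e Y)) := by
      rw [MulEquiv.orderOf_eq, ← orderOf_injective H.subtype H.subtype_injective]
      obtain ⟨k, hk⟩ := IsPGroup.iff_orderOf.1 hA ⟨y, hy⟩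
      rw [Subgroup.orderOf_mk] at hk
      show Odd (orderOf y)
      rw [hk]
      exact (hpf.out.odd_of_ne_two hp).pow
    obtain ⟨i, hi⟩ : ∃ i, e Y = DihedralGroup.r i := by
      cases he : e Y with
      | r i => exact ⟨i, rfl⟩
      | sr i => rw [he, DihedralGroup.orderOf_sr] at hord; exact absurd hord (by decide)
    obtain ⟨j, hj⟩ : ∃ j, e G' = DihedralGroup.sr j := by
      cases he : e G' with
      | r j => exfalso; apply hne; rw [hi, he, DihedralGroup.r_mul_r, DihedralGroup.r_mul_r, add_comm]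
      | sr j => exact ⟨j, rfl⟩
    constructor
    · have : orderOf G' = 2 := by
        rw [← MulEquiv.orderOf_eq e G', hj, DihedralGroup.orderOf_sr]
      rwa [Subgroup.orderOf_mk] at this
    · have h1 : G' * Y = Y⁻¹ * G' := by
        apply e.injective
        rw [map_mul, map_mul, map_inv, hi, hj, DihedralGroup.inv_r, DihedralGroup.sr_mul_r, DihedralGroup.r_mul_sr]
        congr 1; abel
      have h2 : g * y = y⁻¹ * g := congrArg Subtype.val h1
      rw [h2, mul_inv_cancel_right]

theorem cyclic_eq_of_card {C : Type*} [Group C] [Finite C] [IsCyclic C] (A B : Subgroup C)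
    (h : Nat.card A = Nat.card B) : A = B := by
  classical
  haveI := Fintype.ofFinite C
  set S : Finset C := Finset.univ.filter fun x => x ^ Nat.card A = 1 with hS
  have hle : S.card ≤ Nat.card A := IsCyclic.card_pow_eq_one_le Nat.card_pos
  have key : ∀ E : Subgroup C, Nat.card E = Nat.card A → (E : Set C).toFinset = S := by
    intro E hE
    apply Finset.eq_of_subset_of_card_le
    · intro x hx
      rw [Set.mem_toFinset] at hx
      simp only [hS, Finset.mem_filter, Finset.mem_univ, true_and]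
      rw [← hE]
      exact orderOf_dvd_iff_pow_eq_one.1 (E.orderOf_dvd_natCard hx)
    · rw [Set.toFinset_card, ← Nat.card_eq_fintype_card]
      exact hle.trans hE.ge
  exact SetLike.coe_injective (Set.toFinset_inj.1 ((key A rfl).trans (key B h.symm).symm))

theorem unique_order_p {P : Subgroup G} (hc : IsCyclic P) {a b : G} (ha : a ∈ P) (hb : b ∈ P)
    (hab : orderOf a = orderOf b) : zpowers a = zpowers b := by
  have h : ∀ {x y : P}, orderOf x = orderOf y → zpowers x = zpowers y := by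
    intro x y hxy
    exact cyclic_eq_of_card _ _ (by rw [Nat.card_zpowers, Nat.card_zpowers, hxy])
  have h1 := h (x := ⟨a, ha⟩) (y := ⟨b, hb⟩) (by rwa [Subgroup.orderOf_mk, Subgroup.orderOf_mk])
  have h2 := congrArg (Subgroup.map P.subtype) h1
  rwa [MonoidHom.map_zpowers, MonoidHom.map_zpowers] at h2

theorem restricted_of_structure (hp : p ≠ 2) (P : Sylow p G) (hP : IsCyclic P)
    (hcase : normalizer ((P : Subgroup G) : Set G) = centralizer ((P : Subgroup G) : Set G) ∨
       ((centralizer ((P : Subgroup G) : Set G)).relIndex (normalizer ((P : Subgroup G) : Set G)) = 2 ∧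
        ∀ Q : Subgroup G, Q ≤ P → Nat.card Q = p →
          IsMulCommutative ↥(centralizer (Q : Set G)) ∧
          ∀ x : G, x ∈ normalizer (Q : Set G) → x ∉ centralizer (Q : Set G) →
            orderOf x = 2 ∧ ∀ c : G, c ∈ centralizer (Q : Set G) → x * c * x⁻¹ = c⁻¹)) :
    RestrictedPCyclic p G := by
  classical
  intro H hn hq
  obtain ⟨S⟩ : Nonempty (Sylow p H) := inferInstance
  haveI := hn S
  haveI := hq S
  -- a conjugate copy of `H` with Sylow subgroup inside `P`
  obtain ⟨P', hP'⟩ := (S.isPGroup'.map H.subtype).exists_le_sylow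
  obtain ⟨g, hg⟩ := MulAction.exists_smul_eq G P' P
  set ι : H →* G := (MulAut.conj g).toMonoidHom.comp H.subtype with hι
  have hinj : Function.Injective ι := (MulAut.conj g).injective.comp H.subtype_injective
  set T := (S : Subgroup H).map ι with hT
  have hTP : T ≤ (P : Subgroup G) := by
    rw [← hg]
    rintro _ ⟨s, hs, rfl⟩
    exact ⟨(s : G), hP' ⟨s, hs, rfl⟩, rfl⟩
  haveI : IsCyclic P := hP
  have hScyc : IsCyclic (S : Subgroup H) :=
    isCyclic_of_injective ((ι.comp (S : Subgroup H).subtype).codRestrict (P : Subgroup G)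
      (fun s => hTP ⟨s, s.2, rfl⟩))
      (fun a b h => Subtype.ext (hinj (congrArg Subtype.val h)))
  by_cases hcentral : ∀ h : H, ∀ s ∈ (S : Subgroup H), h * s = s * h
  · left
    haveI : IsMulCommutative H := ⟨⟨commutative_of_cyclic_center_quotient
      (QuotientGroup.mk' (S : Subgroup H)) (by
        rw [QuotientGroup.ker_mk']
        exact fun s hs => mem_center_iff.2 fun h => hcentral h s hs)⟩⟩
    letI : CommGroup H := { (inferInstance : Group H) with mul_comm := fun a b => mul_comm' a b }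
    haveI : IsZGroup H := by
      rw [isZGroup_iff]
      intro q hq' R
      haveI := Fact.mk hq'
      by_cases hqp : q = p
      · subst hqp
        haveI := hScyc
        exact isCyclic_of_surjective (S.equiv R).toMonoidHom (S.equiv R).surjective
      · refine isCyclic_of_injective ((QuotientGroup.mk' (S : Subgroup H)).comp (R : Subgroup H).subtype) ?_
        rw [← MonoidHom.ker_eq_bot_iff, eq_bot_iff]
        intro x hx
        have hxS : (x : H) ∈ (S : Subgroup H) := (QuotientGroup.eq_one_iff _).1 hx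
        obtain ⟨i, hi⟩ := IsPGroup.iff_orderOf.1 R.isPGroup' x
        obtain ⟨j, hj⟩ := IsPGroup.iff_orderOf.1 S.isPGroup' ⟨(x : H), hxS⟩
        rw [Subgroup.orderOf_mk] at hj
        rw [← orderOf_coe] at hi
        have h1 := Nat.eq_one_of_dvd_coprimes
          ((Nat.coprime_primes hq' hpf.out).2 hqp |>.pow i j) hi.dvd hj.dvd
        exact Subgroup.mem_bot.2 (Subtype.ext (orderOf_eq_one_iff.1 h1))
    infer_instance
  push Not at hcentral
  obtain ⟨h, s, hs, hhs⟩ := hcentral
  have hPc : (P : Subgroup G) ≤ centralizer ((P : Subgroup G) : Set G) := by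
    intro a ha
    rw [mem_centralizer_iff]
    intro b hb
    letI := hP.commGroup
    exact congrArg Subtype.val (mul_comm (⟨b, hb⟩ : P) ⟨a, ha⟩)
  have hCT : centralizer ((P : Subgroup G) : Set G) ≤ centralizer (T : Set G) := centralizer_le hTP
  have hnT : ∀ h' : H, ι h' ∈ normalizer (T : Set G) := fun h' => by
    have := le_normalizer_map ι (mem_map_of_mem ι ((normalizer_eq_top_iff.2 (hn S)).symm ▸ mem_top h'))
    exact this
  have hnot : ι h ∉ centralizer (T : Set G) := fun hc => hhs (hinj (by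
    rw [map_mul, map_mul]; exact (mem_centralizer_iff.1 hc (ι s) ⟨s, hs, rfl⟩).symm))
  -- Frattini argument
  obtain ⟨m, hmN, hmT⟩ : ∃ m, m ∈ normalizer ((P : Subgroup G) : Set G) ∧ m ∉ centralizer (T : Set G) := by
    set C := centralizer (T : Set G) with hC
    have hPC : (P : Subgroup G) ≤ C := hPc.trans hCT
    set u := ι h
    have huP : (P : Subgroup G).map (MulAut.conj u).toMonoidHom ≤ C := by
      rintro _ ⟨a, ha, rfl⟩
      refine mem_centralizer_iff.2 fun t ht => ?_
      have ht' : u⁻¹ * t * u ∈ T := (mem_normalizer_iff''.1 (hnT h) t).1 ht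
      have := mem_centralizer_iff.1 (hPC ha) _ ht'
      show t * (u * a * u⁻¹) = u * a * u⁻¹ * t
      calc t * (u * a * u⁻¹) = u * ((u⁻¹ * t * u) * a) * u⁻¹ := by group
        _ = u * (a * (u⁻¹ * t * u)) * u⁻¹ := by rw [this]
        _ = u * a * u⁻¹ * t := by group
    obtain ⟨c, hc⟩ := MulAction.exists_smul_eq C ((u • P : Sylow p G).subtype huP) (P.subtype hPC)
    refine ⟨(c : G) * u, ?_, fun hm => hnot ?_⟩
    · show (c : G) * u ∈ normalizer (P : Set G)
      rw [← Sylow.smul_eq_iff_mem_normalizer, mul_smul]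
      apply Sylow.subtype_injective (hP := ?_) (hQ := hPC)
      rotate_left
      · rintro _ ⟨a, ha, rfl⟩
        exact C.mul_mem (C.mul_mem c.2 (huP ha)) (C.inv_mem c.2)
      · rw [← hc]; exact (Sylow.smul_subtype (P := u • P) huP c).symm

    · have := C.mul_mem (C.inv_mem c.2) hm
      rwa [inv_mul_cancel_left] at this
  have hmP : m ∉ centralizer ((P : Subgroup G) : Set G) := fun h' => hmT (hCT h')
  obtain ⟨hidx, hQs⟩ := hcase.resolve_left (fun he => hmP (he ▸ hmN))
  -- the subgroup of order `p`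
  obtain ⟨t, htT, ht⟩ : ∃ t ∈ T, orderOf t = p := by
    obtain ⟨k, hk⟩ := IsPGroup.iff_orderOf.1 S.isPGroup' ⟨s, hs⟩
    rw [Subgroup.orderOf_mk] at hk
    rcases k with _ | k
    · exfalso; apply hhs
      rw [pow_zero, orderOf_eq_one_iff] at hk; simp [hk]
    · refine ⟨ι (s ^ p ^ k), ⟨_, pow_mem hs _, rfl⟩, ?_⟩
      rw [orderOf_injective ι hinj, orderOf_pow_of_dvd (pow_ne_zero _ hpf.out.ne_zero)
        (hk ▸ pow_dvd_pow p (Nat.le_succ k)), hk, Nat.pow_div (Nat.le_succ k) hpf.out.pos]
      simp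
  set Q := zpowers t with hQ
  have hQT : Q ≤ T := zpowers_le.2 htT
  have hQP : Q ≤ (P : Subgroup G) := hQT.trans hTP
  obtain ⟨hab, hinv⟩ := hQs Q hQP (by rw [hQ, Nat.card_zpowers, ht])
  -- anything normalising a subgroup of `P` containing `t` normalises `Q`
  have hnQ : ∀ (U : Subgroup G), U ≤ P → t ∈ U → ∀ x ∈ normalizer (U : Set G),
      x ∈ normalizer (Q : Set G) := by
    intro U hU htU x hx
    rw [Subgroup.mem_normalizer_iff_map_conj_eq, hQ, MonoidHom.map_zpowers]
    exact unique_order_p hP (hU ((mem_normalizer_iff.1 hx t).1 htU)) (hTP htT)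
      ((MulAut.conj x).orderOf_eq t)
  have hPQ : centralizer ((P : Subgroup G) : Set G) ≤ centralizer (Q : Set G) := centralizer_le hQP
  have hCQP : centralizer (Q : Set G) ≤ centralizer ((P : Subgroup G) : Set G) := fun x hx =>
    mem_centralizer_iff.2 fun a ha =>
      congrArg Subtype.val (hab.1.comm ⟨a, hPQ (hPc ha)⟩ ⟨x, hx⟩)
  have hCTQ : centralizer (T : Set G) = centralizer (Q : Set G) :=
    le_antisymm (centralizer_le hQT) (hCQP.trans hCT)
  have hout : ∀ h' : H, ι h' ∉ centralizer (T : Set G) →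
      orderOf h' = 2 ∧ ∀ k : H, ι k ∈ centralizer (T : Set G) → h' * k * h'⁻¹ = k⁻¹ := by
    intro h' hh'
    obtain ⟨h1, h2⟩ := hinv (ι h') (hnQ T hTP htT _ (hnT h')) (hCTQ ▸ hh')
    refine ⟨by rwa [orderOf_injective ι hinj] at h1, fun k hk => hinj ?_⟩
    simp only [map_mul, map_inv]
    exact h2 _ (hCTQ ▸ hk)
  obtain ⟨hh2, hhinv⟩ := hout h hnot
  have hSC : ∀ s' ∈ (S : Subgroup H), ι s' ∈ centralizer (T : Set G) := fun s' hs' =>
    hCT (hPc (hTP ⟨s', hs', rfl⟩))
  have hhS : h ∉ (S : Subgroup H) := fun h' => hnot (hSC h h')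
  have hK : ∀ k : H, ι k ∈ centralizer (T : Set G) → k ∈ (S : Subgroup H) := by
    intro k hk
    set π := QuotientGroup.mk' (S : Subgroup H)
    letI := (hq S).commGroup
    have hk2 : π k ^ 2 = 1 := by
      have h1 := congrArg π (hhinv k hk)
      simp only [map_mul, map_inv] at h1
      rw [mul_comm (π h), mul_inv_cancel_right] at h1
      rw [sq]; nth_rewrite 1 [h1]; rw [inv_mul_cancel]
    rcases eq_or_ne (π k) 1 with h1 | h1
    · exact (QuotientGroup.eq_one_iff k).1 h1
    exfalso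
    have hhq : π h ^ 2 = 1 := by rw [← map_pow, ← hh2, pow_orderOf_eq_one, map_one]
    have hh1 : π h ≠ 1 := fun h' => hhS ((QuotientGroup.eq_one_iff h).1 h')
    have heq : π k = π h := by
      have hz := cyclic_eq_of_card (zpowers (π k)) (zpowers (π h)) (by
        rw [Nat.card_zpowers, Nat.card_zpowers, orderOf_eq_prime hk2 h1, orderOf_eq_prime hhq hh1])
      have hmem : π k ∈ zpowers (π h) := hz ▸ mem_zpowers _
      obtain ⟨i, hi⟩ := mem_zpowers_iff.1 hmem
      rcases Int.even_or_odd i with ⟨j, rfl⟩ | ⟨j, rfl⟩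
      · exfalso; apply h1
        rw [← hi, ← two_mul, zpow_mul, zpow_ofNat, hhq, one_zpow]
      · rw [← hi, zpow_add, zpow_mul, zpow_ofNat, hhq, one_zpow, one_mul, zpow_one]
    apply hnot
    have h3 : k⁻¹ * h ∈ (S : Subgroup H) := QuotientGroup.eq.1 heq
    have h4 := (centralizer (T : Set G)).mul_mem hk (hSC _ h3)
    rwa [← map_mul, mul_inv_cancel_left] at h4
  right
  obtain ⟨c, hc⟩ := hScyc.exists_generator
  obtain ⟨n, hn'⟩ := IsPGroup.iff_orderOf.1 S.isPGroup' c
  refine ⟨n, ?_⟩
  have hcn : orderOf (c : H) = p ^ n := by rw [orderOf_coe, hn']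
  haveI : NeZero (p ^ n) := ⟨pow_ne_zero _ hpf.out.ne_zero⟩
  have ht2 : h * h = 1 := by rw [← sq, ← hh2, pow_orderOf_eq_one]
  have hindex : (S : Subgroup H).index = 2 := by
    rw [index_eq_two_iff]
    refine ⟨h, fun b => ?_⟩
    by_cases hb : b ∈ (S : Subgroup H)
    · refine Or.inr ⟨hb, fun h' => hhS ?_⟩
      simpa using mul_mem (inv_mem hb) h'
    · refine Or.inl ⟨hK _ ?_, hb⟩
      have hb' : ι b ∉ centralizer (T : Set G) := fun h' => hb (hK b h')
      refine mem_centralizer_iff.2 ?_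
      rintro _ ⟨x, hx, rfl⟩
      rw [← map_mul, ← map_mul]
      congr 1
      have e1 := hhinv x (hSC x hx)
      have e2 := (hout b hb').2 x⁻¹ (hSC _ (inv_mem hx))
      rw [inv_inv] at e2
      have e3 : b * h * x * (b * h)⁻¹ = x := by
        calc b * h * x * (b * h)⁻¹ = b * (h * x * h⁻¹) * b⁻¹ := by group
          _ = x := by rw [e1, e2]
      exact (mul_inv_eq_iff_eq_mul.1 e3).symm
  refine H61.nonempty_mulEquiv_dihedralGroup (c : H) h (p ^ n) hcn ht2 ?_ ?_ ?_
  · have := hhinv c (hSC c c.2)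
    rwa [inv_eq_of_mul_eq_one_right ht2] at this
  · exact fun h' => hhS (zpowers_le.2 c.2 h')
  · rw [← (S : Subgroup H).card_mul_index, hindex, ← orderOf_eq_card_of_forall_mem_zpowers hc, hn', mul_comm]

theorem structure_of_restricted (hp : p ≠ 2) (P : Sylow p G) (hR : RestrictedPCyclic p G) :
    IsCyclic P ∧
      (normalizer ((P : Subgroup G) : Set G) = centralizer ((P : Subgroup G) : Set G) ∨
       ((centralizer ((P : Subgroup G) : Set G)).relIndex (normalizer ((P : Subgroup G) : Set G)) = 2 ∧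
        ∀ Q : Subgroup G, Q ≤ P → Nat.card Q = p →
          IsMulCommutative ↥(centralizer (Q : Set G)) ∧
          ∀ x : G, x ∈ normalizer (Q : Set G) → x ∉ centralizer (Q : Set G) →
            orderOf x = 2 ∧ ∀ c : G, c ∈ centralizer (Q : Set G) → x * c * x⁻¹ = c⁻¹)) := by
  classical
  have htop : ∀ S : Sylow p (P : Subgroup G), (S : Subgroup (P : Subgroup G)) = ⊤ := fun S =>
    (S.is_maximal' (Q := ⊤) (P.isPGroup'.to_subgroup ⊤) le_top).symm
  have hP : IsCyclic P := by
    rcases hR (P : Subgroup G) (fun S => by rw [htop S]; infer_instance) (fun S hn' => by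
        haveI : Subsingleton ((P : Subgroup G) ⧸ (S : Subgroup (P : Subgroup G))) :=
          QuotientGroup.subsingleton_iff.2 (htop S)
        exact isCyclic_of_subsingleton) with h | ⟨n, ⟨e⟩⟩
    · exact h
    · exfalso
      obtain ⟨k, hk⟩ := IsPGroup.iff_card.1 P.isPGroup'
      rw [Nat.card_congr e.toEquiv, DihedralGroup.nat_card] at hk
      have : 2 ∣ p ^ k := Dvd.intro _ hk
      exact hp ((Nat.prime_dvd_prime_iff_eq Nat.prime_two hpf.out).1 (Nat.prime_two.dvd_of_dvd_pow this)).symm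
  refine ⟨hP, or_iff_not_imp_left.2 fun hne => ?_⟩
  haveI : IsCyclic P := hP
  obtain ⟨a, ha⟩ := hP.exists_generator
  have hPc : ∀ u ∈ (P : Subgroup G), ∀ w ∈ (P : Subgroup G), u * w = w * u := fun u hu w hw => by
    letI := hP.commGroup
    exact congrArg Subtype.val (mul_comm (⟨u, hu⟩ : P) ⟨w, hw⟩)
  have hinvP : ∀ b ∈ normalizer ((P : Subgroup G) : Set G), b ∉ centralizer ((P : Subgroup G) : Set G) →
      ∀ u ∈ (P : Subgroup G), b * u * b⁻¹ = u⁻¹ := by
    intro b hb hbC u hu
    obtain ⟨i, hi⟩ := mem_zpowers_iff.1 (ha ⟨u, hu⟩)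
    have hi' : (a : G) ^ i = u := by
      rw [← SubgroupClass.coe_zpow, hi]
    have hmove : b * (a : G) ≠ (a : G) * b := by
      intro h
      apply hbC
      refine mem_centralizer_iff.2 fun w hw => ?_
      obtain ⟨j, hj⟩ := mem_zpowers_iff.1 (ha ⟨w, hw⟩)
      have hj' : (a : G) ^ j = w := by rw [← SubgroupClass.coe_zpow, hj]
      rw [← hj']
      exact ((show Commute b (a : G) from h).zpow_right j).symm
    rw [← hi', ← conj_zpow, (restricted_inverts hp hR P.isPGroup' hb a.2 hmove).2, inv_zpow]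
  obtain ⟨g, hgN, hgC⟩ : ∃ g ∈ normalizer ((P : Subgroup G) : Set G),
      g ∉ centralizer ((P : Subgroup G) : Set G) := by
    by_contra h
    push Not at h
    exact hne (le_antisymm h (centralizer_le_normalizer _))
  refine ⟨relIndex_eq_two_iff.2 ⟨g, hgN, fun b hb => ?_⟩, fun Q hQP hQ => ?_⟩
  · by_cases hbC : b ∈ centralizer ((P : Subgroup G) : Set G)
    · exact Or.inr ⟨hbC, fun h => hgC (by simpa using mul_mem (inv_mem hbC) h)⟩
    · refine Or.inl ⟨mem_centralizer_iff.2 fun u hu => ?_, hbC⟩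
      have e : b * g * u * (b * g)⁻¹ = u := by
        calc b * g * u * (b * g)⁻¹ = b * (g * u * g⁻¹) * b⁻¹ := by group
          _ = u := by rw [hinvP g hgN hgC u hu, hinvP b hb hbC _ (inv_mem hu), inv_inv]
      exact (mul_inv_eq_iff_eq_mul.1 e).symm
  have hQp : IsPGroup p Q := IsPGroup.of_card (n := 1) (by simpa using hQ)
  have hout : ∀ x : G, x ∈ normalizer (Q : Set G) → x ∉ centralizer (Q : Set G) →
      orderOf x = 2 ∧ ∀ c : G, c ∈ centralizer (Q : Set G) → x * c * x⁻¹ = c⁻¹ := by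
    have h2 : ∀ x : G, x ∈ normalizer (Q : Set G) → x ∉ centralizer (Q : Set G) → orderOf x = 2 := by
      intro x hx hxC
      rw [mem_centralizer_iff] at hxC
      push Not at hxC
      obtain ⟨y, hy, hxy⟩ := hxC
      exact (restricted_inverts hp hR hQp hx hy (Ne.symm hxy)).1
    intro x hx hxC
    refine ⟨h2 x hx hxC, fun c hc => ?_⟩
    have hxc := h2 (x * c) (mul_mem hx (centralizer_le_normalizer _ hc))
      (fun h => hxC (by simpa using mul_mem h (inv_mem hc)))
    have e1 : (x * c) * (x * c) = 1 := by rw [← sq, ← hxc, pow_orderOf_eq_one]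
    have e2 : x * x = 1 := by rw [← sq, ← h2 x hx hxC, pow_orderOf_eq_one]
    calc x * c * x⁻¹ = x * c * x := by rw [inv_eq_of_mul_eq_one_right e2]
      _ = (x * c) * (x * c) * c⁻¹ := by group
      _ = c⁻¹ := by rw [e1, one_mul]
  obtain ⟨y, hy, hy1⟩ : ∃ y ∈ Q, y ≠ 1 := Q.bot_or_exists_ne_one.resolve_left fun h => by
    rw [h, card_bot] at hQ; exact hpf.out.one_lt.ne hQ
  have hgQ : g ∈ normalizer (Q : Set G) := by
    rw [mem_normalizer_iff_map_conj_eq]
    refine eq_of_le_of_card_ge ?_ (Nat.card_congr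
      (Q.equivMapOfInjective _ (MulAut.conj g).injective).toEquiv).le
    rintro _ ⟨u, hu, rfl⟩
    show g * u * g⁻¹ ∈ Q
    rw [hinvP g hgN hgC u (hQP hu)]; exact inv_mem hu
  have hgQC : g ∉ centralizer (Q : Set G) := fun h => hy1 (by
    have e := hinvP g hgN hgC y (hQP hy)
    rw [← mem_centralizer_iff.1 h y hy, mul_inv_cancel_right] at e
    have e2 : y ^ 2 = 1 := by rw [sq]; nth_rewrite 2 [e]; rw [mul_inv_cancel]
    have h1 := orderOf_dvd_of_pow_eq_one e2
    have h3 := Q.orderOf_dvd_natCard hy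
    rw [hQ] at h3
    exact orderOf_eq_one_iff.1 (Nat.eq_one_of_dvd_coprimes
      ((Nat.coprime_primes Nat.prime_two hpf.out).2 (Ne.symm hp)) h1 h3))
  obtain ⟨-, hg⟩ := hout g hgQ hgQC
  refine ⟨⟨⟨fun u w => Subtype.ext ?_⟩⟩, hout⟩
  show (u : G) * w = w * u
  have e := hg _ (mul_mem u.2 w.2)
  rw [mul_inv_rev, show g * ((u : G) * w) * g⁻¹ = (g * u * g⁻¹) * (g * w * g⁻¹) by group, hg _ u.2, hg _ w.2] at e
  have e2 := congrArg (·⁻¹) e
  simp only [mul_inv_rev, inv_inv] at e2
  exact e2.symm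

end H35
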