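import Cfsg.Agent.H35.SqModel
import Cfsg.Agent.H12.Products
import Cfsg.Agent.H16.VChar
import Cfsg.Agent.H13.PermChar

/-!
Characters of a group with a trivial-intersection subgroup isomorphic to `S₃ × S₃`.
-/

set_option autoImplicit false
set_option linter.all false

open Cfsg
open scoped ComplexConjugate

namespace H35.Sq

universe u

/-! ### generalized characters of the model -/

/-- The permutation action of `D3` on three points. -/
def pts (g : D3) (x : ZMod 3) : ZMod 3 :=
  match g with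
  | .r i => x + i
  | .sr i => -(x + i)

def ptsHom : D3 →* Equiv.Perm (ZMod 3) where
  toFun g :=
    { toFun := pts g
      invFun := pts g⁻¹
      left_inv := by revert g; decide
      right_inv := by revert g; decide }
  map_one' := by decide
  map_mul' := by decide

theorem rho_eq : ∀ g : D3,
    ((Finset.univ.filter fun x : ZMod 3 => pts g x = x).card : ℤ) = rho g + 1 := by decide

theorem gen_mul {K : Type u} [Group K] {a b : K → ℂ} (ha : IsGeneralizedCharacter K a)
    (hb : IsGeneralizedCharacter K b) : IsGeneralizedCharacter K (a * b) := by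
  obtain ⟨p, q, hp, hq, rfl⟩ := ha
  obtain ⟨r, s, hr, hs, rfl⟩ := hb
  exact ⟨p * r + q * s, p * s + q * r, H12.IsCharacter.add (H12.IsCharacter.mul hp hr) (H12.IsCharacter.mul hq hs),
    H12.IsCharacter.add (H12.IsCharacter.mul hp hs) (H12.IsCharacter.mul hq hr), by ring⟩

theorem isChar_chi_zero : IsCharacter D3 (fun g => ((chi 0 g : ℤ) : ℂ)) := by
  simpa [chi] using (H12.isCharacter_one (G := D3))

theorem gen_chi (a : Fin 3) : IsGeneralizedCharacter D3 (fun g => ((chi a g : ℤ) : ℂ)) := by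
  fin_cases a
  · exact H16.gen_of_char isChar_chi_zero
  · let f : D3 →* ℂˣ :=
      { toFun := fun g => match g with | .r _ => 1 | .sr _ => -1
        map_one' := rfl
        map_mul' := by rintro (i | i) (j | j) <;> simp }
    have h := H12.isCharacter_monoidHom f
    refine H16.gen_of_char ?_
    convert h using 1
    funext g
    rcases g with i | i
    · show ((1 : ℤ) : ℂ) = ((1 : ℂˣ) : ℂ)
      simp
    · show ((-1 : ℤ) : ℂ) = ((-1 : ℂˣ) : ℂ)
      simp
  · letI : MulAction D3 (ZMod 3) := MulAction.compHom _ ptsHom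
    have h : IsCharacter D3 (fun g => (Nat.card (MulAction.fixedBy (ZMod 3) g) : ℂ)) := by
      rw [H13.permChar_eq]
      exact H12.isCharacter_character _
    have h2 := H16.gen_sub (H16.gen_of_char h) (H16.gen_of_char (H12.isCharacter_one (G := D3)))
    convert h2 using 1
    funext g
    have hc : Nat.card (MulAction.fixedBy (ZMod 3) g) =
        (Finset.univ.filter fun x : ZMod 3 => pts g x = x).card := by
      rw [Nat.card_eq_fintype_card, Fintype.card_subtype]
      rfl
    show ((chi 2 g : ℤ) : ℂ) = (Nat.card (MulAction.fixedBy (ZMod 3) g) : ℂ) - 1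
    rw [hc, show ((Finset.univ.filter fun x : ZMod 3 => pts g x = x).card : ℂ) =
      (((Finset.univ.filter fun x : ZMod 3 => pts g x = x).card : ℤ) : ℂ) by push_cast; rfl, rho_eq]
    simp [chi]

def tens (a b : Fin 3) (m : M) : ℤ := chi a m.1 * chi b m.2

theorem gen_tens (a b : Fin 3) : IsGeneralizedCharacter M (fun m => (tens a b m : ℂ)) := by
  have hcomp : ∀ (f : M →* D3) (c : Fin 3), IsGeneralizedCharacter M (fun m => (chi c (f m) : ℂ)) := by
    intro f c
    obtain ⟨p, q, hp, hq, e⟩ := gen_chi c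
    refine ⟨fun m => p (f m), fun m => q (f m), H12.IsCharacter.comp hp f, H12.IsCharacter.comp hq f, ?_⟩
    funext m; exact congrFun e (f m)
  have h := gen_mul (hcomp (MonoidHom.fst D3 D3) a) (hcomp (MonoidHom.snd D3 D3) b)
  convert h using 1
  funext m; simp [tens]

theorem rowFun_eq : ∀ (a : Fin 3) (m : M), rowFun a m = tens a 0 m + tens a 1 m - tens a 2 m := by decide +kernel
theorem colFun_eq : ∀ (a : Fin 3) (m : M), colFun a m = tens 0 a m + tens 1 a m - tens 2 a m := by decide +kernel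

theorem gen_row (a : Fin 3) : IsGeneralizedCharacter M (fun m => (rowFun a m : ℂ)) := by
  convert H16.gen_sub (H16.gen_add (gen_tens a 0) (gen_tens a 1)) (gen_tens a 2) using 1
  funext m; simp [rowFun_eq]

theorem gen_col (a : Fin 3) : IsGeneralizedCharacter M (fun m => (colFun a m : ℂ)) := by
  convert H16.gen_sub (H16.gen_add (gen_tens 0 a) (gen_tens 1 a)) (gen_tens 2 a) using 1
  funext m; simp [colFun_eq]

/-! ### the configuration -/

/-- An embedded copy of `S₃ × S₃` such that its elements of order divisible by three are only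
conjugated into it by its own elements. -/
structure Config (G : Type u) [Group G] where
  j : M →* G
  inj : Function.Injective j
  ti : ∀ m : M, m ^ 2 ≠ 1 → ∀ g : G, g * j m * g⁻¹ ∈ j.range → g ∈ j.range

variable {G : Type u} [Group G] [Fintype G]

/-- A function on `M` which lives on the elements of order divisible by three. -/
structure Special (θ : M → ℤ) : Prop where
  supp : ∀ m, m ^ 2 = 1 → θ m = 0
  cls : ∀ k m, θ (k * m * k⁻¹) = θ m
  gen : IsGeneralizedCharacter M (fun m => (θ m : ℂ))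

theorem special_row (a : Fin 3) : Special (rowFun a) := ⟨row_supp a, row_class a, gen_row a⟩
theorem special_col (a : Fin 3) : Special (colFun a) := ⟨col_supp a, col_class a, gen_col a⟩

namespace Config

variable (S : Config G)

noncomputable def ext (θ : M → ℤ) : G → ℂ := Function.extend S.j (fun m => (θ m : ℂ)) 0

noncomputable def ind (θ : M → ℤ) : G → ℂ :=
  fun g => (36 : ℂ)⁻¹ * ∑ z : G, S.ext θ (z⁻¹ * g * z)

theorem ext_j (θ : M → ℤ) (m : M) : S.ext θ (S.j m) = θ m :=
  S.inj.extend_apply _ _ _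

theorem ext_of_not_mem (θ : M → ℤ) {g : G} (hg : g ∉ S.j.range) : S.ext θ g = 0 :=
  Function.extend_apply' _ _ _ fun ⟨m, hm⟩ => hg ⟨m, hm⟩

theorem sum_ext (θ : M → ℤ) (f : G → ℂ) :
    ∑ g : G, S.ext θ g * f g = ∑ m : M, (θ m : ℂ) * f (S.j m) := by
  classical
  rw [← Finset.sum_subset (Finset.subset_univ (Finset.univ.image S.j)) (fun g _ hg => ?_),
    Finset.sum_image (fun a _ b _ h => S.inj h)]
  · exact Finset.sum_congr rfl fun m _ => by rw [S.ext_j]
  · rw [S.ext_of_not_mem θ (fun ⟨m, hm⟩ => hg (Finset.mem_image.2 ⟨m, Finset.mem_univ _, hm⟩)), zero_mul]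

theorem ind_cls (θ : M → ℤ) : IsClassFunction G (S.ind θ) := by
  intro g h
  simp only [ind]
  congr 1
  refine Fintype.sum_equiv (Equiv.mulLeft h⁻¹) _ _ fun z => ?_
  simp only [Equiv.coe_mulLeft]
  congr 1; group

/-- Frobenius reciprocity. -/
theorem inner_ind (θ : M → ℤ) {f : G → ℂ} (hf : IsClassFunction G f) :
    classInner (S.ind θ) f = classInner (fun m : M => (θ m : ℂ)) (fun m => f (S.j m)) := by
  classical
  rw [H12.classInner_def, H12.classInner_def]
  have hM : Nat.card M = 36 := by rw [Nat.card_eq_fintype_card]; rfl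
  have h1 : ∀ z : G, ∑ g : G, S.ext θ (z⁻¹ * g * z) * conj (f g) = ∑ m : M, (θ m : ℂ) * conj (f (S.j m)) := by
    intro z
    rw [← S.sum_ext θ (fun g => conj (f g))]
    refine Fintype.sum_equiv (MulAut.conj z⁻¹).toEquiv _ _ fun g => ?_
    show _ = S.ext θ (z⁻¹ * g * z⁻¹⁻¹) * conj (f (z⁻¹ * g * z⁻¹⁻¹))
    rw [hf g z⁻¹, inv_inv]
  calc (Nat.card G : ℂ)⁻¹ * ∑ g : G, S.ind θ g * conj (f g)
      = (Nat.card G : ℂ)⁻¹ * ((36 : ℂ)⁻¹ * ∑ z : G, ∑ g : G, S.ext θ (z⁻¹ * g * z) * conj (f g)) := by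
        congr 1
        rw [Finset.sum_comm, Finset.mul_sum]
        exact Finset.sum_congr rfl fun g _ => by simp only [ind, Finset.sum_mul, mul_assoc]
    _ = _ := by
        simp only [h1, Finset.sum_const, Finset.card_univ, nsmul_eq_mul]
        rw [hM, Nat.card_eq_fintype_card]
        have : (Fintype.card G : ℂ) ≠ 0 := by exact_mod_cast Fintype.card_ne_zero
        push_cast
        field_simp

theorem ind_j {θ : M → ℤ} (hθ : Special θ) {m : M} (hm : θ m ≠ 0) : S.ind θ (S.j m) = θ m := by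
  classical
  have h1 : ∀ z : G, z ∉ S.j.range → S.ext θ (z⁻¹ * S.j m * z) = 0 := by
    intro z hz
    refine S.ext_of_not_mem θ fun h => hz ?_
    have := S.ti m (fun h' => hm (hθ.supp m h')) z⁻¹ (by rwa [inv_inv])
    simpa using S.j.range.inv_mem this
  simp only [ind]
  rw [← Finset.sum_subset (Finset.subset_univ (Finset.univ.image S.j))
      (fun z _ hz => h1 z fun ⟨k, hk⟩ => hz (Finset.mem_image.2 ⟨k, Finset.mem_univ _, hk⟩)),
    Finset.sum_image (fun a _ b _ h => S.inj h)]
  have h2 : ∀ k : M, S.ext θ ((S.j k)⁻¹ * S.j m * S.j k) = θ m := fun k => by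
    rw [← map_inv, ← map_mul, ← map_mul, S.ext_j]
    have := hθ.cls k⁻¹ m
    rw [inv_inv] at this
    rw [this]
  simp only [h2, Finset.sum_const, Finset.card_univ, nsmul_eq_mul]
  have hM : Fintype.card M = 36 := rfl
  rw [hM]; push_cast; ring

theorem ind_eq_zero {θ : M → ℤ} (hθ : Special θ) {i : G} (hi : i ^ 2 = 1) : S.ind θ i = 0 := by
  simp only [ind]
  refine mul_eq_zero_of_right _ (Finset.sum_eq_zero fun z _ => ?_)
  by_cases h : z⁻¹ * i * z ∈ S.j.range
  · obtain ⟨m, hm⟩ := h
    rw [← hm, S.ext_j, hθ.supp m (S.inj ?_), Int.cast_zero]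
    rw [map_pow, hm, map_one, sq, show z⁻¹ * i * z * (z⁻¹ * i * z) = z⁻¹ * (i * i) * z by group, ← sq, hi]
    group
  · exact S.ext_of_not_mem θ h

noncomputable def coef (θ : M → ℤ) (χ : IrrCharacter G) : ℂ :=
  classInner (fun m : M => (θ m : ℂ)) (fun m => (χ : G → ℂ) (S.j m))

theorem inner_ind_irr (θ : M → ℤ) (χ : IrrCharacter G) :
    classInner (S.ind θ) (χ : G → ℂ) = S.coef θ χ :=
  S.inner_ind θ (H12.irr_isClassFunction χ)

theorem coef_int {θ : M → ℤ} (hθ : IsGeneralizedCharacter M (fun m => (θ m : ℂ))) (χ : IrrCharacter G) :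
    ∃ z : ℤ, S.coef θ χ = z :=
  H16.gen_inner_int hθ (H16.gen_of_char (H12.IsCharacter.comp (H12.isCharacter_irr χ) S.j))


theorem ind_apply_sum (θ : M → ℤ) (g : G) :
    S.ind θ g = ∑ χ : IrrCharacter G, S.coef θ χ * (χ : G → ℂ) g := by
  rw [H12.classFunction_apply_eq_sum (S.ind_cls θ) g]
  simp only [S.inner_ind_irr]

theorem gram {θ θ' : M → ℤ} (hθ : Special θ) (hθ' : Special θ') {k : ℤ}
    (hk : ∑ m : M, θ m * θ' m = 36 * k) :
    ∑ χ : IrrCharacter G, S.coef θ χ * conj (S.coef θ' χ) = k := by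
  have h1 := H12.classInner_eq_sum_mul (S.ind_cls θ) (f' := S.ind θ') (S.ind_cls θ')
  simp only [S.inner_ind_irr] at h1
  rw [← h1, S.inner_ind θ (S.ind_cls θ'), H12.classInner_def]
  have hM : Nat.card M = 36 := by rw [Nat.card_eq_fintype_card]; rfl
  have h2 : ∀ m : M, (θ m : ℂ) * conj (S.ind θ' (S.j m)) = ((θ m * θ' m : ℤ) : ℂ) := by
    intro m
    by_cases h : θ' m = 0
    · by_cases h' : θ m = 0
      · simp [h']
      · have : S.ind θ' (S.j m) = 0 := by
          classical
          simp only [ind]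
          refine mul_eq_zero_of_right _ (Finset.sum_eq_zero fun z _ => ?_)
          by_cases hz : z⁻¹ * S.j m * z ∈ S.j.range
          · have hti := S.ti m (fun e => h' (hθ.supp m e)) z⁻¹ (by rwa [inv_inv])
            obtain ⟨l, hl⟩ := hti
            have e1 : z⁻¹ * S.j m * z = S.j (l * m * l⁻¹) := by rw [map_mul, map_mul, map_inv, hl, inv_inv]
            rw [e1, S.ext_j, hθ'.cls, h, Int.cast_zero]
          · exact S.ext_of_not_mem θ' hz
        simp [this, h]
    · rw [S.ind_j hθ' h]; simp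
  simp only [h2, ← Int.cast_sum, hk, hM]
  push_cast; ring

theorem coef_trivial {θ : M → ℤ} {k : ℤ} (hk : ∑ m : M, θ m = 36 * k) :
    S.coef θ (H12.oneIrr G) = k := by
  have hM : Nat.card M = 36 := by rw [Nat.card_eq_fintype_card]; rfl
  rw [coef, H12.classInner_def, hM]
  simp only [H12.oneIrr_apply, map_one, mul_one, ← Int.cast_sum, hk]
  push_cast; ring

/-- The class multiplication formula. -/
theorem count_formula {θ : M → ℤ} (i : G) (T : Finset M)
    (hT : ∀ m : M, m ∈ T ↔ IsConj i (S.j m)) (hθ : Special θ) (hi : i ^ 2 = 1) :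
    ∑ χ : IrrCharacter G, S.coef θ χ * ((χ : G → ℂ) i * (χ : G → ℂ) i / (χ : G → ℂ) 1) =
      (Nat.card {g : G // g * i = i * g} : ℂ) ^ 2 / (36 * Nat.card G) * (count T θ : ℂ) := by
  classical
  have hn : (Nat.card G : ℂ) ≠ 0 := H12.card_ne_zero'
  -- average of the induced function over products of two conjugates of `i`
  have h1 : ∑ χ : IrrCharacter G, S.coef θ χ * ((χ : G → ℂ) i * (χ : G → ℂ) i / (χ : G → ℂ) 1) =
      (Nat.card G : ℂ)⁻¹ * ∑ a : G, S.ind θ (i * (a * i * a⁻¹)) := by
    simp only [S.ind_apply_sum]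
    rw [Finset.sum_comm, Finset.mul_sum]
    refine Finset.sum_congr rfl fun χ _ => ?_
    rw [← Finset.mul_sum, H12.irr_class_product]
    field_simp
  have h2 : ∑ a : G, S.ind θ (i * (a * i * a⁻¹)) =
      (36 : ℂ)⁻¹ * ∑ z : G, ∑ a : G, S.ext θ ((z * i * z⁻¹) * (a * i * a⁻¹)) := by
    simp only [ind, ← Finset.mul_sum]
    congr 1
    rw [Finset.sum_comm]
    refine Fintype.sum_equiv (Equiv.inv G) _ _ fun z => ?_
    refine Fintype.sum_equiv (Equiv.mulLeft z⁻¹) _ _ fun a => ?_
    simp only [Equiv.coe_mulLeft, Equiv.inv_apply]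
    congr 1; group
  set c := Nat.card {g : G // g * i = i * g} with hc
  set C : Finset G := Finset.univ.image fun z : G => z * i * z⁻¹ with hC
  have hfib : ∀ f : G → ℂ, ∑ z : G, f (z * i * z⁻¹) = (c : ℂ) * ∑ x ∈ C, f x := by
    intro f
    rw [← Finset.sum_fiberwise_of_maps_to (g := fun z : G => z * i * z⁻¹) (t := C)
      (fun z _ => Finset.mem_image_of_mem _ (Finset.mem_univ z)), Finset.mul_sum]
    refine Finset.sum_congr rfl fun x hx => ?_
    rw [Finset.sum_congr rfl (fun z hz => by rw [(Finset.mem_filter.1 hz).2] :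
      ∀ z ∈ Finset.univ.filter (fun z : G => z * i * z⁻¹ = x), f (z * i * z⁻¹) = f x),
      Finset.sum_const, nsmul_eq_mul]
    congr 1
    norm_cast
    obtain ⟨z₀, -, rfl⟩ := Finset.mem_image.1 hx
    rw [hc, Nat.card_eq_fintype_card, Fintype.card_subtype]
    refine Finset.card_bij (fun z _ => z₀⁻¹ * z) ?_ (fun a _ b _ h => mul_left_cancel h) ?_
    · intro z hz
      simp only [Finset.mem_filter, Finset.mem_univ, true_and] at hz ⊢
      calc z₀⁻¹ * z * i = z₀⁻¹ * (z * i * z⁻¹) * z := by group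
        _ = i * (z₀⁻¹ * z) := by rw [hz]; group
    · intro g hg
      simp only [Finset.mem_filter, Finset.mem_univ, true_and] at hg
      refine ⟨z₀ * g, ?_, by group⟩
      simp only [Finset.mem_filter, Finset.mem_univ, true_and]
      calc z₀ * g * i * (z₀ * g)⁻¹ = z₀ * (g * i) * g⁻¹ * z₀⁻¹ := by group
        _ = z₀ * i * z₀⁻¹ := by rw [hg]; group
  have h3 : ∑ z : G, ∑ a : G, S.ext θ ((z * i * z⁻¹) * (a * i * a⁻¹)) =
      (c : ℂ) ^ 2 * (count T θ : ℂ) := by
    rw [hfib (fun x => ∑ a : G, S.ext θ (x * (a * i * a⁻¹)))]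
    rw [Finset.sum_congr rfl (fun x _ => hfib (fun y => S.ext θ (x * y))), ← Finset.mul_sum, ← mul_assoc, ← sq]
    congr 1
    -- only pairs inside the embedded subgroup count
    have hCinv : ∀ x ∈ C, x * x = 1 := by
      intro x hx
      obtain ⟨z, -, rfl⟩ := Finset.mem_image.1 hx
      rw [show z * i * z⁻¹ * (z * i * z⁻¹) = z * (i * i) * z⁻¹ by group, ← sq, hi]; group
    have hTC : T.image S.j ⊆ C := by
      intro x hx
      obtain ⟨m, hm, rfl⟩ := Finset.mem_image.1 hx
      obtain ⟨z, hz⟩ := isConj_iff.1 ((hT m).1 hm)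
      exact Finset.mem_image.2 ⟨z, Finset.mem_univ _, hz⟩
    have hin : ∀ x ∈ C, ∀ y ∈ C, S.ext θ (x * y) ≠ 0 → x ∈ T.image S.j ∧ y ∈ T.image S.j := by
      intro x hx y hy hne
      have hmem : x * y ∈ S.j.range := by
        by_contra h; exact hne (S.ext_of_not_mem θ h)
      obtain ⟨m, hm⟩ := hmem
      have hθm : θ m ≠ 0 := by
        intro h; apply hne; rw [← hm, S.ext_j, h, Int.cast_zero]
      have hxinv : x * S.j m * x⁻¹ ∈ S.j.range := by
        refine ⟨m⁻¹, ?_⟩
        rw [map_inv, hm, mul_inv_rev, inv_eq_of_mul_eq_one_right (hCinv x hx),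
          inv_eq_of_mul_eq_one_right (hCinv y hy), ← mul_assoc x x y, hCinv x hx, one_mul]
      obtain ⟨k, hk⟩ := S.ti m (fun e => hθm (hθ.supp m e)) x hxinv
      have hy' : S.j (k⁻¹ * m) = y := by
        rw [map_mul, map_inv, hk, hm, inv_mul_cancel_left]
      constructor
      · refine Finset.mem_image.2 ⟨k, (hT k).2 ?_, hk⟩
        obtain ⟨z, -, hz⟩ := Finset.mem_image.1 hx
        exact isConj_iff.2 ⟨z, hz.trans hk.symm⟩
      · refine Finset.mem_image.2 ⟨k⁻¹ * m, (hT _).2 ?_, hy'⟩
        obtain ⟨z, -, hz⟩ := Finset.mem_image.1 hy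
        exact isConj_iff.2 ⟨z, hz.trans hy'.symm⟩
    have hsum : ∑ x ∈ C, ∑ y ∈ C, S.ext θ (x * y) =
        ∑ x ∈ T.image S.j, ∑ y ∈ T.image S.j, S.ext θ (x * y) := by
      rw [← Finset.sum_subset hTC (fun x hx hxT => Finset.sum_eq_zero fun y hy =>
        by_contra fun hne => hxT (hin x hx y hy hne).1)]
      refine Finset.sum_congr rfl fun x hx => ?_
      rw [← Finset.sum_subset hTC (fun y hy hyT => by_contra fun hne => hyT (hin x (hTC hx) y hy hne).2)]
    rw [hsum, Finset.sum_image (fun a _ b _ h => S.inj h), count]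
    push_cast
    refine Finset.sum_congr rfl fun x _ => ?_
    rw [Finset.sum_image (fun a _ b _ h => S.inj h)]
    exact Finset.sum_congr rfl fun y _ => by rw [← map_mul, S.ext_j]
  rw [h1, h2, h3]
  field_simp

end Config

end H35.Sq
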