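import Cfsg.Agent.H35.SqModel

/-!
The arithmetic of the nine exceptional characters: they form a three by three grid.
-/

set_option autoImplicit false
set_option linter.all false

namespace H35.Sq

universe u

theorem sgn_zero' : sgn 0 = 1 := rfl
theorem sgn_one' : sgn 1 = 1 := rfl
theorem sgn_two' : sgn 2 = -1 := rfl
theorem sgn_sq : ∀ a, sgn a * sgn a = 1 := by decide

/-- The integral data. -/
structure Data (ι : Type u) [Fintype ι] where
  R : Fin 3 → ι → ℤ
  C : Fin 3 → ι → ℤ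
  d : ι → ℤ
  dpos : ∀ x, 0 < d x
  o : ι
  oR : ∀ a, R a o = if a = 0 then 1 else 0
  oC : ∀ a, C a o = if a = 0 then 1 else 0
  od : d o = 1
  RR : ∀ a b, ∑ x, R a x * R b x = if a = b then 3 else 0
  CC : ∀ a b, ∑ x, C a x * C b x = if a = b then 3 else 0
  RC : ∀ a b, ∑ x, R a x * C b x = sgn a * sgn b
  bal : ∀ x, ∑ a, sgn a * R a x = ∑ b, sgn b * C b x
  Rd : ∀ a, ∑ x, R a x * d x = 0
  Cd : ∀ a, ∑ x, C a x * d x = 0

section general
variable {ι : Type u} [Fintype ι] {f : ι → ℤ}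

theorem unit_cases (h : ∑ x, f x * f x = 3) (x : ι) : f x = 0 ∨ f x = 1 ∨ f x = -1 := by
  have h1 : f x * f x ≤ 3 := h ▸ Finset.single_le_sum (f := fun x => f x * f x)
    (fun y _ => mul_self_nonneg (f y)) (Finset.mem_univ x)
  have : f x ≤ 1 := by nlinarith
  have : -1 ≤ f x := by nlinarith
  omega

theorem supp_four (h : ∑ x, f x * f x = 3) {a b c e : ι} (ha : f a ≠ 0) (hb : f b ≠ 0) (hc : f c ≠ 0)
    (he : f e ≠ 0) (h1 : a ≠ b) (h2 : a ≠ c) (h3 : a ≠ e) (h4 : b ≠ c) (h5 : b ≠ e) (h6 : c ≠ e) :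
    False := by
  classical
  have key : ∑ x ∈ ({a, b, c, e} : Finset ι), f x * f x ≤ 3 :=
    h ▸ Finset.sum_le_sum_of_subset_of_nonneg (Finset.subset_univ _) (fun y _ _ => mul_self_nonneg (f y))
  rw [Finset.sum_insert (by simp [h1, h2, h3]), Finset.sum_insert (by simp [h4, h5]),
    Finset.sum_insert (by simp [h6]), Finset.sum_singleton] at key
  have one : ∀ z : ℤ, z ≠ 0 → 1 ≤ z * z := fun z hz => Int.add_one_le_iff.2 (mul_self_pos.2 hz)
  linarith [one _ ha, one _ hb, one _ hc, one _ he]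

theorem sum_three (h : ∑ x, f x * f x = 3) (X : Fin 3 → ι) (hX : Function.Injective X)
    (hne : ∀ i, f (X i) ≠ 0) (F : ι → ℚ) :
    ∑ x, (f x : ℚ) * F x = ∑ i, (f (X i) : ℚ) * F (X i) := by
  classical
  rw [← Finset.sum_subset (Finset.subset_univ (Finset.univ.image X)) (fun x _ hx => ?_),
    Finset.sum_image (fun a _ b _ e => hX e)]
  by_contra hne'
  simp only [Finset.mem_image, Finset.mem_univ, true_and, not_exists] at hx
  exact supp_four h (hne 0) (hne 1) (hne 2) (e := x) (fun e => hne' (by simp [e]))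
    (hX.ne (by decide)) (hX.ne (by decide)) (hx 0) (hX.ne (by decide)) (hx 1) (hx 2)

theorem supp_three (h : ∑ x, f x * f x = 3) (X : Fin 3 → ι) (hX : Function.Injective X)
    (hne : ∀ i, f (X i) ≠ 0) {x : ι} (hx : f x ≠ 0) : ∃ i, x = X i := by
  by_contra hc
  simp only [not_exists] at hc
  exact supp_four h (hne 0) (hne 1) (hne 2) hx (hX.ne (by decide)) (hX.ne (by decide))
    (fun e => hc 0 e.symm) (hX.ne (by decide)) (fun e => hc 1 e.symm) (fun e => hc 2 e.symm)

end general

namespace Data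

variable {ι : Type u} [Fintype ι] (D : Data ι)

theorem rowSq (a : Fin 3) : ∑ x, D.R a x * D.R a x = 3 := by simpa using D.RR a a
theorem colSq (a : Fin 3) : ∑ x, D.C a x * D.C a x = 3 := by simpa using D.CC a a

/-- The hypotheses on the values at an involution whose class meets the subgroup in one class. -/
structure Alone (v : ι → ℤ) : Prop where
  vo : v D.o = 1
  Rv : ∀ a, ∑ x, D.R a x * v x = 0
  Cv : ∀ a, ∑ x, D.C a x * v x = 0
  Cv2 : ∀ a, ∑ x, (D.C a x : ℚ) * ((v x : ℚ) ^ 2 / D.d x) = 0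
  Rv2 : ∀ a, ∑ x, (D.R a x : ℚ) * ((v x : ℚ) ^ 2 / D.d x) ≠ 0
  Rv01 : ∑ x, (D.R 0 x : ℚ) * ((v x : ℚ) ^ 2 / D.d x) = ∑ x, (D.R 1 x : ℚ) * ((v x : ℚ) ^ 2 / D.d x)

variable {D} {v : ι → ℤ}

theorem dne (x : ι) : (D.d x : ℚ) ≠ 0 := by exact_mod_cast (D.dpos x).ne'

/-- The ratio value/degree is constant on a column. -/
theorem Alone.ratio (hv : D.Alone v) (b : Fin 3) {x y : ι} (hx : D.C b x ≠ 0) (hy : D.C b y ≠ 0) :
    v x * D.d y = v y * D.d x := by
  classical
  by_cases hxy : x = y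
  · rw [hxy]
  -- the third member
  have h3 : ∃ z, D.C b z ≠ 0 ∧ z ≠ x ∧ z ≠ y := by
    by_contra hc
    simp only [not_exists, not_and, not_not] at hc
    have h := D.colSq b
    rw [← Finset.sum_subset (Finset.subset_univ ({x, y} : Finset ι)) (fun z _ hz => by
      simp only [Finset.mem_insert, Finset.mem_singleton, not_or] at hz
      by_contra hne
      exact hz.2 (hc z (fun e => hne (by simp [e])) hz.1)), Finset.sum_pair hxy] at h
    rcases unit_cases (D.colSq b) x with e | e | e <;> rcases unit_cases (D.colSq b) y with e' | e' | e' <;>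
      simp_all
  obtain ⟨z, hz, hzx, hzy⟩ := h3
  have hinj : Function.Injective ![x, y, z] := by
    intro i j h; fin_cases i <;> fin_cases j <;> simp_all [eq_comm]
  have hne : ∀ i, D.C b (![x, y, z] i) ≠ 0 := by intro i; fin_cases i <;> simpa
  have e0 : ∀ F : ι → ℚ, ∑ w, (D.C b w : ℚ) * F w =
      (D.C b x : ℚ) * F x + (D.C b y : ℚ) * F y + (D.C b z : ℚ) * F z := fun F => by
    rw [sum_three (D.colSq b) _ hinj hne F, Fin.sum_univ_three]; rfl
  have ed : (∑ w, (D.C b w : ℚ) * (D.d w : ℚ)) = 0 := by exact_mod_cast D.Cd b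
  have ev : (∑ w, (D.C b w : ℚ) * (v w : ℚ)) = 0 := by exact_mod_cast hv.Cv b
  have e2 := hv.Cv2 b
  rw [e0] at ed ev e2
  have sqC : ∀ w, D.C b w ≠ 0 → ((D.C b w : ℚ)) * (D.C b w : ℚ) = 1 := fun w hw => by
    rcases unit_cases (D.colSq b) w with e | e | e <;> simp_all
  have hx2 := sqC x hx; have hy2 := sqC y hy; have hz2 := sqC z hz
  suffices h : ((v x : ℚ) * D.d y - v y * D.d x) ^ 2 = 0 by
    have := sub_eq_zero.1 (pow_eq_zero_iff (n := 2) (by norm_num) |>.1 h)
    exact_mod_cast this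
  have hdx : (D.d x : ℚ) ≠ 0 := dne x
  have hdy : (D.d y : ℚ) ≠ 0 := dne y
  have hdz : (D.d z : ℚ) ≠ 0 := dne z
  field_simp at e2
  generalize (D.C b x : ℚ) = c1 at *
  generalize (D.C b y : ℚ) = c2 at *
  generalize (D.C b z : ℚ) = c3 at *
  generalize (D.d x : ℚ) = d1 at *
  generalize (D.d y : ℚ) = d2 at *
  generalize (D.d z : ℚ) = d3 at *
  generalize (v x : ℚ) = v1 at *
  generalize (v y : ℚ) = v2 at *
  generalize (v z : ℚ) = v3 at *
  have hd3 : d3 = -c3 * (c1 * d1 + c2 * d2) := by linear_combination c3 * ed - d3 * hz2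
  have hv3 : v3 = -c3 * (c1 * v1 + c2 * v2) := by linear_combination c3 * ev - v3 * hz2
  have hc3 : c3 ≠ 0 := by intro e; rw [e] at hz2; norm_num at hz2
  have : c3 * c1 * c2 * (v1 * d2 - v2 * d1) ^ 2 = 0 := by
    subst hd3 hv3
    grind
  have hc1 : c1 ≠ 0 := by intro e; rw [e] at hx2; norm_num at hx2
  have hc2 : c2 ≠ 0 := by intro e; rw [e] at hy2; norm_num at hy2
  simpa [hc1, hc2, hc3] using this

/-- Two members of a row cannot both have the exceptional ratio. -/
theorem Alone.row_unique (hv : D.Alone v) (q : ι) (a : Fin 3) {x y : ι} (hx : D.R a x ≠ 0)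
    (hy : D.R a y ≠ 0) (gx : v x * D.d q = v q * D.d x) (gy : v y * D.d q = v q * D.d y) : x = y := by
  classical
  by_contra hxy
  set pi : ℚ := (v q : ℚ) / D.d q with hpi
  set g : ι → ℚ := fun w => (v w : ℚ) - pi * D.d w with hg
  have g0 : ∀ w, v w * D.d q = v q * D.d w → g w = 0 := by
    intro w hw
    have h' : (v w : ℚ) * D.d q = v q * D.d w := by exact_mod_cast hw
    simp only [hg, hpi]
    have := dne (D := D) q
    field_simp
    linarith
  have eg : ∑ w, (D.R a w : ℚ) * g w = 0 := by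
    have ed : (∑ w, (D.R a w : ℚ) * (D.d w : ℚ)) = 0 := by exact_mod_cast D.Rd a
    have ev : (∑ w, (D.R a w : ℚ) * (v w : ℚ)) = 0 := by exact_mod_cast hv.Rv a
    simp only [hg, mul_sub, Finset.sum_sub_distrib, ev, mul_left_comm _ pi, ← Finset.mul_sum, ed]
    ring
  have hall : ∀ w, (D.R a w : ℚ) * g w = 0 := by
    intro w
    by_contra hne
    have hw : D.R a w ≠ 0 := fun e => hne (by simp [e])
    have hwx : w ≠ x := fun e => hne (by simp [e, g0 x gx])
    have hwy : w ≠ y := fun e => hne (by simp [e, g0 y gy])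
    rw [Finset.sum_eq_single w (fun u _ hu => ?_) (by simp)] at eg
    · exact hne eg
    · by_contra hne'
      exact supp_four (D.rowSq a) hx hy hw (e := u) (fun e => hne' (by simp [e])) hxy (Ne.symm hwx)
        (fun e => hne' (by simp [← e, g0 x gx])) (Ne.symm hwy) (fun e => hne' (by simp [← e, g0 y gy])) (Ne.symm hu)
  apply hv.Rv2 a
  have key : ∀ w, (D.R a w : ℚ) * ((v w : ℚ) ^ 2 / D.d w) =
      2 * pi * ((D.R a w : ℚ) * v w) - pi ^ 2 * ((D.R a w : ℚ) * D.d w) := by
    intro w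
    rcases mul_eq_zero.1 (hall w) with e | e
    · simp [e]
    · have e' : (v w : ℚ) = pi * D.d w := by simp only [hg] at e; linarith
      rw [e']
      have := dne (D := D) w
      field_simp
      ring
  simp only [key, Finset.sum_sub_distrib, ← Finset.mul_sum]
  have ed : (∑ w, (D.R a w : ℚ) * (D.d w : ℚ)) = 0 := by exact_mod_cast D.Rd a
  have ev : (∑ w, (D.R a w : ℚ) * (v w : ℚ)) = 0 := by exact_mod_cast hv.Rv a
  rw [ed, ev]; ring

theorem exists_meet (D : Data ι) (a b : Fin 3) : ∃ x, D.R a x ≠ 0 ∧ D.C b x ≠ 0 := by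
  by_contra hc
  simp only [not_exists, not_and, not_not] at hc
  have h := D.RC a b
  rw [Finset.sum_eq_zero (fun x _ => by
    by_cases e : D.R a x = 0
    · simp [e]
    · simp [hc x e])] at h
  fin_cases a <;> fin_cases b <;> simp [sgn] at h

/-- Overlapping columns produce a common member of all rows and columns. -/
theorem Alone.overlap (hv : D.Alone v) {b b' : Fin 3} (hb : b ≠ b') {q : ι} (hq : D.C b q ≠ 0)
    (hq' : D.C b' q ≠ 0) : ∃ X, (∀ a, D.R a X ≠ 0) ∧ ∀ c, D.C c X ≠ 0 := by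
  classical
  have gz : ∀ w, (D.C b w ≠ 0 ∨ D.C b' w ≠ 0) → v w * D.d q = v q * D.d w := by
    rintro w (h | h)
    · exact hv.ratio b h hq
    · exact hv.ratio b' h hq'
  have hu : ∀ a, ∃ X, D.R a X ≠ 0 ∧ sgn a * D.R a X = sgn b * D.C b X ∧
      sgn a * D.R a X = sgn b' * D.C b' X := by
    intro a
    obtain ⟨X, hX, hXb⟩ := exists_meet D a b
    refine ⟨X, hX, ?_⟩
    have one : ∀ c, (c = b ∨ c = b') → sgn a * D.R a X = sgn c * D.C c X := by
      intro c hc
      have h := D.RC a c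
      rw [Finset.sum_eq_single X (fun w _ hw => by
        by_contra hne
        refine hw (hv.row_unique q a (fun e => hne (by simp [e])) hX (gz w ?_) (gz X (Or.inl hXb)))
        rcases hc with rfl | rfl
        · exact Or.inl fun e => hne (by simp [e])
        · exact Or.inr fun e => hne (by simp [e])) (by simp)] at h
      rcases unit_cases (D.rowSq a) X with e | e | e
      · exact absurd e hX
      · rw [e] at h ⊢; fin_cases a <;> simp [sgn] at h ⊢ <;> rw [h] <;> fin_cases c <;> simp [sgn]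
      · rw [e] at h ⊢; fin_cases a <;> simp [sgn] at h ⊢ <;>
          (have h' := h; fin_cases c <;> simp [sgn] at h' ⊢ <;> omega)
    exact ⟨one b (Or.inl rfl), one b' (Or.inr rfl)⟩
  choose X hX hXb hXb' using hu
  -- all these members coincide
  have same : ∀ a a', X a = X a' := by
    intro a a'
    by_contra hne
    have hsum : ∑ w, sgn b * sgn b' * (D.C b w * D.C b' w) = 0 := by
      rw [← Finset.mul_sum, D.CC, if_neg hb, mul_zero]
    have lower : ∀ w, -(D.C b w * D.C b w) + (if w = X a then 2 else 0) + (if w = X a' then 2 else 0) ≤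
        sgn b * sgn b' * (D.C b w * D.C b' w) := by
      intro w
      have hp : ∀ k, w = X k → sgn b * sgn b' * (D.C b w * D.C b' w) = 1 ∧ D.C b w * D.C b w = 1 := by
        intro k hk
        subst hk
        have hk : sgn b * sgn b' * (D.C b (X k) * D.C b' (X k)) = (sgn k * D.R k (X k)) * (sgn k * D.R k (X k)) := by
          nth_rewrite 1 [hXb k]
          rw [hXb' k]; ring
        have hR : D.R k (X k) * D.R k (X k) = 1 := by
          rcases unit_cases (D.rowSq k) (X k) with e | e | e <;> simp_all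
        constructor
        · rw [hk]; linear_combination (sgn k * sgn k) * hR + sgn_sq k
        · have := congrArg (fun t => t * t) (hXb k)
          linear_combination (-(D.C b (X k) * D.C b (X k))) * sgn_sq b - this +
            (sgn k * sgn k) * hR + sgn_sq k
      split_ifs with e e'
      · exact absurd (e.symm.trans e') hne
      · obtain ⟨p, p'⟩ := hp a e; omega
      · rename_i e'
        obtain ⟨p, p'⟩ := hp a' e'; omega
      · rcases unit_cases (D.colSq b) w with e1 | e1 | e1 <;>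
          rcases unit_cases (D.colSq b') w with e2 | e2 | e2 <;>
          fin_cases b <;> fin_cases b' <;> simp_all [sgn]
    have := Finset.sum_le_sum (s := Finset.univ) (fun w _ => lower w)
    rw [hsum] at this
    simp [Finset.sum_add_distrib, D.colSq b] at this
  refine ⟨X 0, fun a => same a 0 ▸ hX a, fun c => ?_⟩
  have hbal := D.bal (X 0)
  have hall : ∀ a, sgn a * D.R a (X 0) = sgn b * D.C b (X 0) := fun a => by
    have := hXb a; rw [same a 0] at this; exact this
  have hb'' : sgn b' * D.C b' (X 0) = sgn b * D.C b (X 0) := (hXb' 0).symm.trans (hXb 0)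
  have hbne : sgn b * D.C b (X 0) ≠ 0 := by
    rw [← hall 0]; simp [sgn_zero', hX 0]
  simp only [hall, Finset.sum_const, Finset.card_univ, Fintype.card_fin, nsmul_eq_mul, Fin.sum_univ_three] at hbal
  intro hc
  fin_cases b <;> fin_cases b' <;> simp at hb <;> fin_cases c <;> simp [sgn] at hbal hb'' hc hbne <;> omega

theorem Alone.disjoint (hv : D.Alone v) {b b' : Fin 3} {q : ι} (hq : D.C b q ≠ 0) (hq' : D.C b' q ≠ 0) :
    b = b' := by
  by_contra hb
  obtain ⟨X, hR, hC⟩ := hv.overlap hb hq hq'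
  have ho : D.C 0 D.o ≠ 0 := by rw [D.oC]; simp
  have e : D.o = X := hv.row_unique X 0 (by rw [D.oR]; simp) (hR 0)
    (hv.ratio 0 ho (hC 0)) rfl
  exact hC 1 (by rw [← e, D.oC]; simp)

end Data

/-- The nine exceptional members. -/
structure Grid {ι : Type u} [Fintype ι] (D : Data ι) where
  X : Fin 3 → Fin 3 → ι
  sig : Fin 3 → Fin 3 → ℤ
  colEq : ∀ a b, D.C b (X a b) = sgn a * sig a b
  rowEq : ∀ a b, D.R a (X a b) = sgn b * sig a b
  sigUnit : ∀ a b, sig a b = 1 ∨ sig a b = -1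
  origin : X 0 0 = D.o
  sigOrigin : sig 0 0 = 1
  rowOnly : ∀ a b a', D.R a' (X a b) ≠ 0 → a' = a
  colOnly : ∀ a b b', D.C b' (X a b) ≠ 0 → b' = b
  rowSum : ∀ a (F : ι → ℚ), ∑ x, (D.R a x : ℚ) * F x = ∑ b, (sgn b : ℚ) * ((sig a b : ℚ) * F (X a b))
  colSum : ∀ b (F : ι → ℚ), ∑ x, (D.C b x : ℚ) * F x = ∑ a, (sgn a : ℚ) * ((sig a b : ℚ) * F (X a b))

theorem Data.Alone.exists_grid {ι : Type u} [Fintype ι] {D : Data ι} {v : ι → ℤ} (hv : D.Alone v) :
    Nonempty (Grid D) := by
  classical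
  have h := fun a b => Data.exists_meet D a b
  choose X hR hC using h
  have injb : ∀ a, Function.Injective (X a) := fun a b b' e =>
    hv.disjoint (hC a b) (e ▸ hC a b')
  have prod : ∀ a b, D.R a (X a b) * D.C b (X a b) = sgn a * sgn b := by
    intro a b
    have h := D.RC a b
    rwa [Finset.sum_eq_single (X a b) (fun w _ hw => by
      by_contra hne
      obtain ⟨c, rfl⟩ := supp_three (D.rowSq a) _ (injb a) (hR a) (x := w) (fun e => hne (by simp [e]))
      exact hw (by rw [hv.disjoint (hC a c) (b' := b) (fun e => hne (by simp [e]))])) (by simp)] at h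
  have cunit : ∀ a b, D.C b (X a b) * D.C b (X a b) = 1 := fun a b => by
    rcases unit_cases (D.colSq b) (X a b) with e | e | e
    · exact absurd e (hC a b)
    · simp [e]
    · simp [e]
  have val : ∀ a b, sgn a * D.R a (X a b) = sgn b * D.C b (X a b) := fun a b => by
    linear_combination (sgn a * D.C b (X a b)) * prod a b + (sgn b * D.C b (X a b)) * sgn_sq a -
      (sgn a * D.R a (X a b)) * cunit a b
  have inja : ∀ a a' b b', X a b = X a' b' → a = a' := by
    intro a a' b b' e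
    have ebb : b = b' := hv.disjoint (hC a b) (e ▸ hC a' b')
    subst ebb
    by_contra ha
    have hpos : 0 < ∑ w, sgn a * sgn a' * (D.R a w * D.R a' w) := by
      have hterm : ∀ w, D.R a w ≠ 0 → D.R a' w ≠ 0 → sgn a * sgn a' * (D.R a w * D.R a' w) = 1 := by
        intro w hw hw'
        obtain ⟨c, rfl⟩ := supp_three (D.rowSq a) _ (injb a) (hR a) (x := w) hw
        obtain ⟨c', hc'⟩ := supp_three (D.rowSq a') _ (injb a') (hR a') hw'
        have hcc : c = c' := hv.disjoint (hC a c) (hc' ▸ hC a' c')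
        subst hcc
        have h1 := val a c; have h2 := val a' c
        rw [← hc'] at h2
        calc sgn a * sgn a' * (D.R a (X a c) * D.R a' (X a c))
            = (sgn a * D.R a (X a c)) * (sgn a' * D.R a' (X a c)) := by ring
          _ = 1 := by rw [h1, h2]; linear_combination (sgn c * sgn c) * cunit a c + sgn_sq c
      refine Finset.sum_pos' (fun w _ => ?_) ⟨X a b, Finset.mem_univ _, ?_⟩
      · by_cases h1 : D.R a w = 0
        · simp [h1]
        by_cases h2 : D.R a' w = 0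
        · simp [h2]
        rw [hterm w h1 h2]; norm_num
      · rw [hterm _ (hR a b) (e ▸ hR a' b)]; norm_num
    rw [← Finset.mul_sum, D.RR, if_neg ha, mul_zero] at hpos
    exact lt_irrefl _ hpos
  have injc : ∀ b, Function.Injective (fun a => X a b) := fun b a a' e => inja a a' b b e
  let sig : Fin 3 → Fin 3 → ℤ := fun a b => sgn a * D.C b (X a b)
  have colEq : ∀ a b, D.C b (X a b) = sgn a * sig a b := fun a b => by
    show _ = sgn a * (sgn a * _)
    rw [← mul_assoc, sgn_sq, one_mul]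
  have rowEq : ∀ a b, D.R a (X a b) = sgn b * sig a b := fun a b => by
    show _ = sgn b * (sgn a * _)
    linear_combination (sgn a) * val a b - (D.R a (X a b)) * sgn_sq a
  have origin : X 0 0 = D.o := by
    obtain ⟨c, hc⟩ := supp_three (D.rowSq 0) _ (injb 0) (hR 0) (x := D.o) (by rw [D.oR]; simp)
    have : c = 0 := hv.disjoint (hC 0 c) (q := X 0 c) (by rw [← hc, D.oC]; simp)
    rw [hc, this]
  refine ⟨⟨X, sig, colEq, rowEq, ?_, origin, ?_, ?_, ?_, ?_, ?_⟩⟩
  · intro a b
    rcases unit_cases (D.colSq b) (X a b) with e | e | e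
    · exact absurd e (hC a b)
    · simp only [sig, e]; fin_cases a <;> simp [sgn]
    · simp only [sig, e]; fin_cases a <;> simp [sgn]
  · simp only [sig, origin, D.oC, sgn_zero']; simp
  · intro a b a' ha'
    obtain ⟨c, hc⟩ := supp_three (D.rowSq a') _ (injb a') (hR a') ha'
    exact (inja a a' b c hc).symm
  · intro a b b' hb'
    exact (hv.disjoint (hC a b) hb').symm
  · intro a F
    rw [sum_three (D.rowSq a) _ (injb a) (hR a) F]
    exact Finset.sum_congr rfl fun b _ => by rw [rowEq]; push_cast; ring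
  · intro b F
    rw [sum_three (D.colSq b) _ (injc b) (fun a => hC a b) F]
    exact Finset.sum_congr rfl fun a _ => by rw [colEq]; push_cast; ring

namespace Grid

variable {ι : Type u} [Fintype ι] {D : Data ι} (g : Grid D)

/-- A signed value on the grid. -/
def val (f : ι → ℤ) (a b : Fin 3) : ℚ := (g.sig a b : ℚ) * (f (g.X a b) : ℚ)

theorem val_rel {f : ι → ℤ} (hR : ∀ a, ∑ x, D.R a x * f x = 0) (hC : ∀ a, ∑ x, D.C a x * f x = 0) :
    (∀ a, g.val f a 2 = g.val f a 0 + g.val f a 1) ∧ ∀ b, g.val f 2 b = g.val f 0 b + g.val f 1 b := by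
  constructor
  · intro a
    have h : (∑ x, (D.R a x : ℚ) * (f x : ℚ)) = 0 := by exact_mod_cast hR a
    rw [g.rowSum, Fin.sum_univ_three] at h
    simp [sgn] at h
    simp only [val]; linarith
  · intro b
    have h : (∑ x, (D.C b x : ℚ) * (f x : ℚ)) = 0 := by exact_mod_cast hC b
    rw [g.colSum, Fin.sum_univ_three] at h
    simp [sgn] at h
    simp only [val]; linarith

theorem sq_div (f : ι → ℤ) (a b : Fin 3) :
    (g.sig a b : ℚ) * ((f (g.X a b) : ℚ) ^ 2 / D.d (g.X a b)) = g.val f a b ^ 2 / g.val D.d a b := by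
  simp only [val]
  have := Data.dne (D := D) (g.X a b)
  rcases g.sigUnit a b with e | e <;> rw [e] <;> field_simp <;> push_cast <;> ring

theorem row_sq (f : ι → ℤ) (a : Fin 3) : ∑ x, (D.R a x : ℚ) * ((f x : ℚ) ^ 2 / D.d x) =
    g.val f a 0 ^ 2 / g.val D.d a 0 + g.val f a 1 ^ 2 / g.val D.d a 1 - g.val f a 2 ^ 2 / g.val D.d a 2 := by
  rw [g.rowSum a (fun x => (f x : ℚ) ^ 2 / D.d x), Fin.sum_univ_three]
  simp only [sq_div]
  simp [sgn]; ring

theorem col_sq (f : ι → ℤ) (b : Fin 3) : ∑ x, (D.C b x : ℚ) * ((f x : ℚ) ^ 2 / D.d x) =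
    g.val f 0 b ^ 2 / g.val D.d 0 b + g.val f 1 b ^ 2 / g.val D.d 1 b - g.val f 2 b ^ 2 / g.val D.d 2 b := by
  rw [g.colSum b (fun x => (f x : ℚ) ^ 2 / D.d x), Fin.sum_univ_three]
  simp only [sq_div]
  simp [sgn]; ring

theorem val_d_ne (a b : Fin 3) : g.val D.d a b ≠ 0 := by
  have := Data.dne (D := D) (g.X a b)
  rcases g.sigUnit a b with e | e <;> simp [val, e, this]

theorem val_origin (f : ι → ℤ) : g.val f 0 0 = f D.o := by simp [val, g.sigOrigin, g.origin]

/-- The main lemma. -/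
theorem lemmaA {v : ι → ℤ} (hv : D.Alone v) :
    g.val D.d 1 0 = 1 ∧ g.val v 1 0 = 1 ∧ g.val D.d 1 1 = g.val D.d 0 1 := by
  obtain ⟨dr, -⟩ := g.val_rel D.Rd D.Cd
  obtain ⟨vr, -⟩ := g.val_rel hv.Rv hv.Cv
  have ratio : ∀ a a' b, g.val v a b * g.val D.d a' b = g.val v a' b * g.val D.d a b := by
    intro a a' b
    have hne : ∀ k, D.C b (g.X k b) ≠ 0 := fun k => by
      rw [g.colEq]
      rcases g.sigUnit k b with e | e <;> rw [e] <;> fin_cases k <;> simp [sgn]
    have h : (v (g.X a b) : ℚ) * D.d (g.X a' b) = v (g.X a' b) * D.d (g.X a b) := by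
      exact_mod_cast hv.ratio b (hne a) (hne a')
    simp only [val]
    linear_combination ((g.sig a b : ℚ) * (g.sig a' b : ℚ)) * h
  have d00 : g.val D.d 0 0 = 1 := by rw [g.val_origin, D.od]; simp
  have v00 : g.val v 0 0 = 1 := by rw [g.val_origin, hv.vo]; simp
  have r10 := ratio 1 0 0
  rw [d00, v00, mul_one, one_mul] at r10
  have r11 := ratio 1 0 1
  have r12 := ratio 1 0 2
  have hx := g.val_d_ne 0 1
  have hx2 := g.val_d_ne 0 2
  have hz2 := g.val_d_ne 1 2
  have hy := g.val_d_ne 1 0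
  have F0 := g.row_sq v 0
  have F1 := g.row_sq v 1
  have hF0 := hv.Rv2 0
  have hF := hv.Rv01
  rw [F0] at hF0
  rw [F0, F1] at hF
  rw [dr 0, vr 0, d00, v00] at hF0 hF
  rw [dr 0, d00] at hx2
  rw [dr 1, vr 1, r10] at hF
  rw [dr 1] at hz2
  rw [dr 0, dr 1, vr 0, vr 1, d00, v00, r10] at r12
  generalize g.val D.d 1 0 = y at *
  generalize g.val D.d 0 1 = x at *
  generalize g.val D.d 1 1 = z at *
  generalize g.val v 0 1 = p at *
  generalize g.val v 1 1 = q at *
  have hxp : x - p ≠ 0 := by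
    intro e
    apply hF0
    have : p = x := by linarith
    rw [this]; field_simp; ring
  have hz : z = x * y := by
    have : (x * y - z) * (x - p) = 0 := by linear_combination x * r12 - (1 + x) * r11
    rcases mul_eq_zero.1 this with e | e
    · linarith
    · exact absurd e hxp
  subst hz
  have hq : q = p * y := mul_left_cancel₀ hx (by linear_combination r11)
  subst hq
  have hy1 : y = 1 := by
    have e1 : y ^ 2 / y + (p * y) ^ 2 / (x * y) - (y + p * y) ^ 2 / (y + x * y) =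
        y * (1 ^ 2 / 1 + p ^ 2 / x - (1 + p) ^ 2 / (1 + x)) := by
      field_simp
    rw [e1] at hF
    rw [← sub_eq_zero] at hF
    have : (1 - y) * (1 ^ 2 / 1 + p ^ 2 / x - (1 + p) ^ 2 / (1 + x)) = 0 := by linarith
    rcases mul_eq_zero.1 this with e | e
    · linarith
    · exact absurd e hF0
  subst hy1
  exact ⟨rfl, r10, mul_one x⟩

/-- No two of the involutions are fused. -/
theorem lemmaB (h10 : g.val D.d 1 0 = 1) (h11 : g.val D.d 1 1 = g.val D.d 0 1) {u : ι → ℤ} {k : ℚ}
    (uo : u D.o = 1) (u10 : g.val u 1 0 = -1)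
    (Ru : ∀ a, ∑ x, D.R a x * u x = 0) (Cu : ∀ a, ∑ x, D.C a x * u x = 0)
    (Ru2 : ∀ a, ∑ x, (D.R a x : ℚ) * ((u x : ℚ) ^ 2 / D.d x) = k * ((![162, 162, 0] : Fin 3 → ℤ) a : ℚ))
    (Cu2 : ∀ a, ∑ x, (D.C a x : ℚ) * ((u x : ℚ) ^ 2 / D.d x) = k * ((![288, 72, 36] : Fin 3 → ℤ) a : ℚ)) :
    False := by
  obtain ⟨dr, dc⟩ := g.val_rel D.Rd D.Cd
  obtain ⟨ur, uc⟩ := g.val_rel Ru Cu
  have d00 : g.val D.d 0 0 = 1 := by rw [g.val_origin, D.od]; simp
  have u00 : g.val u 0 0 = 1 := by rw [g.val_origin, uo]; simp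
  have c0 := Cu2 0; have c1 := Cu2 1; have r0 := Ru2 0; have r1 := Ru2 1
  rw [g.col_sq] at c0 c1
  rw [g.row_sq] at r0 r1
  rw [dc 0, uc 0, d00, u00, h10, u10] at c0
  rw [dc 1, uc 1, h11] at c1
  rw [dr 0, ur 0, d00, u00] at r0
  rw [dr 1, ur 1, h10, h11, u10] at r1
  simp at c0
  have hk : k = 1 / 144 := by linarith
  subst hk
  have hx := g.val_d_ne 0 1
  have hx2 := g.val_d_ne 0 2
  rw [dr 0, d00] at hx2
  obtain ⟨p, hp⟩ : ∃ p : ℤ, g.val u 0 1 = p := ⟨g.sig 0 1 * u (g.X 0 1), by simp [val]⟩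
  obtain ⟨p', hp'⟩ : ∃ p : ℤ, g.val u 1 1 = p := ⟨g.sig 1 1 * u (g.X 1 1), by simp [val]⟩
  obtain ⟨x, hx'⟩ : ∃ p : ℤ, g.val D.d 0 1 = p := ⟨g.sig 0 1 * D.d (g.X 0 1), by simp [val]⟩
  rw [hp, hp', hx'] at c1
  rw [hp, hx'] at r0
  rw [hp', hx'] at r1
  rw [hx'] at hx hx2
  norm_num at c1 r0 r1
  field_simp at c1 r0 r1
  have e1 : x = (p - p') ^ 2 := by
    have : (x : ℚ) = ((p : ℚ) - p') ^ 2 := by
      have h2 : ((x : ℚ) + x) ≠ 0 := by intro e; exact hx (by linarith)
      linarith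
    exact_mod_cast this
  have e2 : 8 * (x - p) ^ 2 = 9 * x * (1 + x) := by
    have : 8 * ((x : ℚ) - p) ^ 2 = 9 * x * (1 + x) := by linarith
    exact_mod_cast this
  have e3 : 8 * (x + p') ^ 2 = 9 * x * (1 + x) := by
    have : 8 * ((x : ℚ) + p') ^ 2 = 9 * x * (1 + x) := by linarith
    exact_mod_cast this
  have hx0 : x ≠ 0 := by exact_mod_cast hx
  have : (x - p - (x + p')) * (x - p + (x + p')) = 0 := by linarith
  rcases mul_eq_zero.1 this with e | e
  · have hp2 : p' = -p := by linarith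
    subst hp2
    have hx4 : x = 4 * p ^ 2 := by rw [e1]; ring
    subst hx4
    have hp0 : p ≠ 0 := by intro h; simp [h] at hx0
    have : 4 * p ^ 2 * (4 * p ^ 2 + 16 * p + 7) = 0 := by linarith
    rcases mul_eq_zero.1 this with h | h
    · exact hx0 h
    · omega
  · have hp2 : p' = p - 2 * x := by linarith
    subst hp2
    have : x * (4 * x - 1) = 0 := by linarith
    rcases mul_eq_zero.1 this with h | h
    · exact hx0 h
    · omega

end Grid

end H35.Sq
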