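import Cfsg.Agent.H35.SqChars
import Cfsg.Agent.H35.SqGrid
import Cfsg.Agent.H12.Linear

/-!
Linear characters separating the three involution classes of the embedded `S₃ × S₃`.
-/

set_option autoImplicit false
set_option linter.all false

open Cfsg
open scoped ComplexConjugate

namespace H35.Sq

universe u

def auxU (m : M) : ℤ := tens 0 2 m - tens 1 2 m
def auxV (m : M) : ℤ := tens 2 0 m - tens 2 1 m

theorem gen_auxU : IsGeneralizedCharacter M (fun m => (auxU m : ℂ)) := by
  convert H16.gen_sub (gen_tens 0 2) (gen_tens 1 2) using 1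
  funext m; simp [auxU]

theorem gen_auxV : IsGeneralizedCharacter M (fun m => (auxV m : ℂ)) := by
  convert H16.gen_sub (gen_tens 2 0) (gen_tens 2 1) using 1
  funext m; simp [auxV]

theorem indicatorU : ∀ m : M, rowFun 0 m - rowFun 1 m + 3 * auxU m = if m ∈ setU then 12 else 0 := by
  decide +kernel
theorem indicatorV : ∀ m : M, colFun 0 m - colFun 1 m + 3 * auxV m = if m ∈ setV then 12 else 0 := by
  decide +kernel
theorem card_setU : setU.card = 3 := by decide +kernel
theorem card_setV : setV.card = 3 := by decide +kernel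
theorem mem_setU : ∀ m : M, m ∈ setU ↔ ∃ k : M, k * u₀ * k⁻¹ = m := fun m => by simp [setU]
theorem mem_setV : ∀ m : M, m ∈ setV ↔ ∃ k : M, k * v₀ * k⁻¹ = m := fun m => by simp [setV]
theorem u₀_sq : u₀ ^ 2 = 1 := by decide +kernel
theorem v₀_sq : v₀ ^ 2 = 1 := by decide +kernel
theorem u₀_ne : u₀ ≠ 1 := by decide +kernel
theorem v₀_ne : v₀ ≠ 1 := by decide +kernel
theorem w₀_ne : w₀ ≠ 1 := by decide +kernel

variable {G : Type u} [Group G] [Fintype G]

namespace Config

variable (S : Config G)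

noncomputable def rowInt (a : Fin 3) (χ : IrrCharacter G) : ℤ := (S.coef_int (gen_row a) χ).choose
noncomputable def colInt (a : Fin 3) (χ : IrrCharacter G) : ℤ := (S.coef_int (gen_col a) χ).choose

theorem rowInt_spec (a : Fin 3) (χ : IrrCharacter G) : S.coef (rowFun a) χ = S.rowInt a χ :=
  (S.coef_int (gen_row a) χ).choose_spec
theorem colInt_spec (a : Fin 3) (χ : IrrCharacter G) : S.coef (colFun a) χ = S.colInt a χ :=
  (S.coef_int (gen_col a) χ).choose_spec

theorem coef_eq (θ : M → ℤ) (χ : IrrCharacter G) :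
    S.coef θ χ = (36 : ℂ)⁻¹ * ∑ m : M, (θ m : ℂ) * conj ((χ : G → ℂ) (S.j m)) := by
  have hM : Nat.card M = 36 := by rw [Nat.card_eq_fintype_card]; rfl
  rw [coef, H12.classInner_def, hM]; norm_num

/-- A value at an involution is integral, with known residue. -/
theorem value_formula {A B Z : M → ℤ} {T : Finset M} {x : M} (hT : T.card = 3)
    (hTx : ∀ m, m ∈ T ↔ ∃ k : M, k * x * k⁻¹ = m)
    (h : ∀ m, A m - B m + 3 * Z m = if m ∈ T then 12 else 0) (χ : IrrCharacter G) :
    S.coef A χ - S.coef B χ + 3 * S.coef Z χ = conj ((χ : G → ℂ) (S.j x)) := by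
  classical
  have e : ∑ m : M, ((A m - B m + 3 * Z m : ℤ) : ℂ) * conj ((χ : G → ℂ) (S.j m)) =
      36 * conj ((χ : G → ℂ) (S.j x)) := by
    simp only [h, Int.cast_ite, Int.cast_ofNat, Int.cast_zero, ite_mul, zero_mul]
    rw [Finset.sum_ite_mem, Finset.univ_inter, Finset.sum_congr rfl (g := fun _ => (12 : ℂ) * conj ((χ : G → ℂ) (S.j x)))
      (fun m hm => by
        obtain ⟨k, rfl⟩ := (hTx m).1 hm
        rw [map_mul, map_mul, map_inv, H12.irr_isClassFunction χ]), Finset.sum_const, hT, nsmul_eq_mul]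
    push_cast; ring
  rw [S.coef_eq, S.coef_eq, S.coef_eq]
  rw [show (36 : ℂ)⁻¹ * (∑ m : M, (A m : ℂ) * conj ((χ : G → ℂ) (S.j m))) -
      (36 : ℂ)⁻¹ * (∑ m : M, (B m : ℂ) * conj ((χ : G → ℂ) (S.j m))) +
      3 * ((36 : ℂ)⁻¹ * ∑ m : M, (Z m : ℂ) * conj ((χ : G → ℂ) (S.j m))) =
      (36 : ℂ)⁻¹ * ∑ m : M, ((A m - B m + 3 * Z m : ℤ) : ℂ) * conj ((χ : G → ℂ) (S.j m)) by
    simp only [Finset.mul_sum, ← Finset.sum_sub_distrib, ← Finset.sum_add_distrib]
    exact Finset.sum_congr rfl fun m _ => by push_cast; ring, e]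
  field_simp

theorem exists_uVal (χ : IrrCharacter G) : ∃ u z : ℤ, (χ : G → ℂ) (S.j u₀) = u ∧
    u = S.rowInt 0 χ - S.rowInt 1 χ + 3 * z := by
  obtain ⟨z, hz⟩ := S.coef_int gen_auxU χ
  refine ⟨S.rowInt 0 χ - S.rowInt 1 χ + 3 * z, z, ?_, rfl⟩
  have h := S.value_formula card_setU mem_setU indicatorU χ
  rw [S.rowInt_spec, S.rowInt_spec, hz] at h
  have := congrArg conj h
  rw [Complex.conj_conj] at this
  rw [← this]; simp [map_ofNat]

theorem exists_vVal (χ : IrrCharacter G) : ∃ u z : ℤ, (χ : G → ℂ) (S.j v₀) = u ∧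
    u = S.colInt 0 χ - S.colInt 1 χ + 3 * z := by
  obtain ⟨z, hz⟩ := S.coef_int gen_auxV χ
  refine ⟨S.colInt 0 χ - S.colInt 1 χ + 3 * z, z, ?_, rfl⟩
  have h := S.value_formula card_setV mem_setV indicatorV χ
  rw [S.colInt_spec, S.colInt_spec, hz] at h
  have := congrArg conj h
  rw [Complex.conj_conj] at this
  rw [← this]; simp [map_ofNat]

noncomputable def uVal (χ : IrrCharacter G) : ℤ := (S.exists_uVal χ).choose
noncomputable def vVal (χ : IrrCharacter G) : ℤ := (S.exists_vVal χ).choose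

theorem uVal_spec (χ : IrrCharacter G) : (χ : G → ℂ) (S.j u₀) = S.uVal χ :=
  (S.exists_uVal χ).choose_spec.choose_spec.1
theorem uVal_mod (χ : IrrCharacter G) : ∃ z : ℤ, S.uVal χ = S.rowInt 0 χ - S.rowInt 1 χ + 3 * z :=
  ⟨_, (S.exists_uVal χ).choose_spec.choose_spec.2⟩
theorem vVal_spec (χ : IrrCharacter G) : (χ : G → ℂ) (S.j v₀) = S.vVal χ :=
  (S.exists_vVal χ).choose_spec.choose_spec.1
theorem vVal_mod (χ : IrrCharacter G) : ∃ z : ℤ, S.vVal χ = S.colInt 0 χ - S.colInt 1 χ + 3 * z :=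
  ⟨_, (S.exists_vVal χ).choose_spec.choose_spec.2⟩

theorem rr (a b : Fin 3) : ∑ χ, S.rowInt a χ * S.rowInt b χ = if a = b then 3 else 0 := by
  have h := S.gram (special_row a) (special_row b) (k := if a = b then 3 else 0)
    (by rw [sum_row_row]; split_ifs <;> norm_num)
  simp only [S.rowInt_spec, map_intCast] at h
  exact_mod_cast h

theorem cc (a b : Fin 3) : ∑ χ, S.colInt a χ * S.colInt b χ = if a = b then 3 else 0 := by
  have h := S.gram (special_col a) (special_col b) (k := if a = b then 3 else 0)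
    (by rw [sum_col_col]; split_ifs <;> norm_num)
  simp only [S.colInt_spec, map_intCast] at h
  exact_mod_cast h

theorem rc (a b : Fin 3) : ∑ χ, S.rowInt a χ * S.colInt b χ = sgn a * sgn b := by
  have h := S.gram (special_row a) (special_col b) (k := sgn a * sgn b) (sum_row_col a b)
  simp only [S.rowInt_spec, S.colInt_spec, map_intCast] at h
  exact_mod_cast h

theorem not_conj_uv : ¬ IsConj (S.j u₀) (S.j v₀) := by
  intro hc
  obtain ⟨g, hg⟩ := isConj_iff.1 hc
  have he : ∀ χ, ∃ k : ℤ, S.rowInt 0 χ - S.rowInt 1 χ - (S.colInt 0 χ - S.colInt 1 χ) = 3 * k := by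
    intro χ
    obtain ⟨z, hz⟩ := S.uVal_mod χ
    obtain ⟨z', hz'⟩ := S.vVal_mod χ
    have : S.uVal χ = S.vVal χ := by
      have h := H12.irr_isClassFunction χ (S.j u₀) g
      rw [hg, S.uVal_spec, S.vVal_spec] at h
      exact_mod_cast h.symm
    exact ⟨z' - z, by linarith⟩
  choose k hk using he
  have h : ∑ χ, (S.rowInt 0 χ - S.rowInt 1 χ - (S.colInt 0 χ - S.colInt 1 χ)) ^ 2 = 12 := by
    have : ∀ χ, (S.rowInt 0 χ - S.rowInt 1 χ - (S.colInt 0 χ - S.colInt 1 χ)) ^ 2 =
      S.rowInt 0 χ * S.rowInt 0 χ + S.rowInt 1 χ * S.rowInt 1 χ + S.colInt 0 χ * S.colInt 0 χ +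
      S.colInt 1 χ * S.colInt 1 χ - 2 * (S.rowInt 0 χ * S.rowInt 1 χ) - 2 * (S.colInt 0 χ * S.colInt 1 χ) -
      2 * (S.rowInt 0 χ * S.colInt 0 χ) + 2 * (S.rowInt 0 χ * S.colInt 1 χ) + 2 * (S.rowInt 1 χ * S.colInt 0 χ) -
      2 * (S.rowInt 1 χ * S.colInt 1 χ) := fun χ => by ring
    simp only [this, Finset.sum_add_distrib, Finset.sum_sub_distrib, ← Finset.mul_sum, S.rr, S.cc, S.rc]
    simp [sgn]
  simp only [hk, mul_pow, ← Finset.mul_sum] at h
  omega

theorem deg_eq (χ : IrrCharacter G) : (χ : G → ℂ) 1 = ((H12.degree (χ : G → ℂ) : ℤ) : ℂ) := by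
  rw [H12.irr_apply_one]; simp

theorem coef_zero_sum {θ : M → ℤ} (hθ : Special θ) {i : G} (hi : i ^ 2 = 1) :
    ∑ χ, S.coef θ χ * (χ : G → ℂ) i = 0 := by
  rw [← S.ind_apply_sum, S.ind_eq_zero hθ hi]

noncomputable def toData : Data (IrrCharacter G) where
  R := S.rowInt
  C := S.colInt
  d χ := H12.degree (χ : G → ℂ)
  dpos χ := by exact_mod_cast H12.irr_degree_pos χ
  o := H12.oneIrr G
  oR a := by
    have h := S.coef_trivial (θ := rowFun a) (k := if a = 0 then 1 else 0)
      (by rw [sum_row]; split_ifs <;> norm_num)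
    rw [S.rowInt_spec] at h
    exact_mod_cast h
  oC a := by
    have h := S.coef_trivial (θ := colFun a) (k := if a = 0 then 1 else 0)
      (by rw [sum_col]; split_ifs <;> norm_num)
    rw [S.colInt_spec] at h
    exact_mod_cast h
  od := by
    have h := deg_eq (H12.oneIrr G)
    rw [H12.oneIrr_apply] at h
    exact_mod_cast h.symm
  RR := S.rr
  CC := S.cc
  RC := S.rc
  bal χ := by
    have key : ∀ (F : Fin 3 → M → ℤ), ∑ a, (sgn a : ℂ) * S.coef (F a) χ =
        (36 : ℂ)⁻¹ * ∑ m : M, ((∑ a, sgn a * F a m : ℤ) : ℂ) * conj ((χ : G → ℂ) (S.j m)) := by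
      intro F
      simp only [S.coef_eq, Int.cast_sum, Finset.sum_mul, Finset.mul_sum]
      rw [Finset.sum_comm]
      exact Finset.sum_congr rfl fun m _ => Finset.sum_congr rfl fun a _ => by push_cast; ring
    have h1 := key rowFun
    have h2 := key colFun
    simp only [sgn_row_col, S.rowInt_spec] at h1
    simp only [S.colInt_spec] at h2
    exact_mod_cast h1.trans h2.symm
  Rd a := by
    have h := S.coef_zero_sum (special_row a) (i := 1) (by simp)
    simp only [S.rowInt_spec, deg_eq] at h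
    exact_mod_cast h
  Cd a := by
    have h := S.coef_zero_sum (special_col a) (i := 1) (by simp)
    simp only [S.colInt_spec, deg_eq] at h
    exact_mod_cast h

/-- The class formula in rational form. -/
theorem quad_eq {θ : M → ℤ} {cI : IrrCharacter G → ℤ} (hc : ∀ χ, S.coef θ χ = cI χ) (hθ : Special θ)
    {i : G} (hi : i ^ 2 = 1) {val : IrrCharacter G → ℤ} (hval : ∀ χ : IrrCharacter G, (χ : G → ℂ) i = val χ)
    (T : Finset M) (hT : ∀ m : M, m ∈ T ↔ IsConj i (S.j m)) :
    ∑ χ, (cI χ : ℚ) * ((val χ : ℚ) ^ 2 / (S.toData.d χ : ℚ)) =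
      ((Nat.card {g : G // g * i = i * g} : ℚ) ^ 2 / (36 * Nat.card G)) * (count T θ : ℚ) := by
  have h := S.count_formula i T hT hθ hi
  simp only [hc, hval, deg_eq] at h
  apply Rat.cast_injective (α := ℂ)
  push_cast [toData]
  rw [← h]
  exact Finset.sum_congr rfl fun χ _ => by push_cast; ring

theorem weight_pos (i : G) : (0 : ℚ) < (Nat.card {g : G // g * i = i * g} : ℚ) ^ 2 / (36 * Nat.card G) := by
  haveI : Nonempty {g : G // g * i = i * g} := ⟨⟨1, by simp⟩⟩
  have h1 : (0 : ℚ) < Nat.card {g : G // g * i = i * g} := by exact_mod_cast Nat.card_pos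
  have h2 : (0 : ℚ) < Nat.card G := by exact_mod_cast Nat.card_pos
  positivity

theorem j_ne_one {m : M} (h : m ≠ 1) : S.j m ≠ 1 := fun e => h (S.inj (e.trans (map_one _).symm))

theorem conj_in {m x : M} (h : ∃ k : M, k * x * k⁻¹ = m) : IsConj (S.j x) (S.j m) := by
  obtain ⟨k, rfl⟩ := h
  exact isConj_iff.2 ⟨S.j k, by simp⟩

theorem conj_cases {x m : M} (hx : x ^ 2 = 1) (hx1 : x ≠ 1) (h : IsConj (S.j x) (S.j m)) :
    (m ∈ setU ∧ IsConj (S.j x) (S.j u₀)) ∨ (m ∈ setV ∧ IsConj (S.j x) (S.j v₀)) ∨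
      (m ∈ setW ∧ IsConj (S.j x) (S.j w₀)) := by
  obtain ⟨g, hg⟩ := isConj_iff.1 h
  have hm2 : m ^ 2 = 1 := by
    apply S.inj
    rw [map_pow, ← hg, conj_pow, ← map_pow, hx, map_one]; simp
  have hm1 : m ≠ 1 := fun e => S.j_ne_one hx1 (by
    rw [e, map_one] at h; exact isConj_one_left.1 h)
  rcases invol_cases m with e | e | e | e | e
  · exact absurd e hm1
  · exact absurd hm2 e
  · exact Or.inl ⟨e, h.trans (S.conj_in ((mem_setU m).1 e)).symm⟩
  · exact Or.inr (Or.inl ⟨e, h.trans (S.conj_in ((mem_setV m).1 e)).symm⟩)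
  · have e' : ∃ k : M, k * w₀ * k⁻¹ = m := by simpa [setW] using e
    exact Or.inr (Or.inr ⟨e, h.trans (S.conj_in e').symm⟩)

theorem alone (hvw : ¬ IsConj (S.j v₀) (S.j w₀)) : S.toData.Alone S.vVal := by
  have hi : S.j v₀ ^ 2 = 1 := by rw [← map_pow, v₀_sq, map_one]
  have hT : ∀ m : M, m ∈ setV ↔ IsConj (S.j v₀) (S.j m) := by
    intro m
    refine ⟨fun h => S.conj_in ((mem_setV m).1 h), fun h => ?_⟩
    rcases S.conj_cases v₀_sq v₀_ne h with ⟨e, c⟩ | ⟨e, -⟩ | ⟨e, c⟩
    · exact absurd c.symm S.not_conj_uv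
    · exact e
    · exact absurd c hvw
  have hw := weight_pos (S.j v₀)
  refine ⟨?_, fun a => ?_, fun a => ?_, fun a => ?_, fun a => ?_, ?_⟩
  · have h := S.vVal_spec (H12.oneIrr G)
    rw [H12.oneIrr_apply] at h
    exact_mod_cast h.symm
  · have h := S.coef_zero_sum (special_row a) hi
    simp only [S.rowInt_spec, S.vVal_spec] at h
    show ∑ χ, S.rowInt a χ * S.vVal χ = 0
    exact_mod_cast h
  · have h := S.coef_zero_sum (special_col a) hi
    simp only [S.colInt_spec, S.vVal_spec] at h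
    show ∑ χ, S.colInt a χ * S.vVal χ = 0
    exact_mod_cast h
  · rw [show S.toData.C = S.colInt from rfl,
      S.quad_eq (S.colInt_spec a) (special_col a) hi S.vVal_spec setV hT, count_V_col]
    simp
  · rw [show S.toData.R = S.rowInt from rfl,
      S.quad_eq (S.rowInt_spec a) (special_row a) hi S.vVal_spec setV hT, count_V_row]
    refine mul_ne_zero hw.ne' ?_
    fin_cases a <;> simp
  · rw [show S.toData.R = S.rowInt from rfl,
      S.quad_eq (S.rowInt_spec 0) (special_row 0) hi S.vVal_spec setV hT,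
      S.quad_eq (S.rowInt_spec 1) (special_row 1) hi S.vVal_spec setV hT, count_V_row, count_V_row]
    rfl

theorem main (hvw : ¬ IsConj (S.j v₀) (S.j w₀)) :
    ¬ IsConj (S.j u₀) (S.j w₀) ∧ ∃ f : G →* ℂˣ, f (S.j u₀) = -1 ∧ f (S.j v₀) = 1 := by
  have hA := S.alone hvw
  obtain ⟨g⟩ := hA.exists_grid
  obtain ⟨hd, hv, h11⟩ := g.lemmaA hA
  set χ := g.X 1 0 with hχ
  have hdpos := S.toData.dpos χ
  have hsd : g.sig 1 0 = 1 ∧ S.toData.d χ = 1 := by
    have : g.sig 1 0 * S.toData.d χ = 1 := by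
      simp only [Grid.val] at hd; exact_mod_cast hd
    rcases g.sigUnit 1 0 with e | e <;> rw [e] at this ⊢
    · exact ⟨rfl, by linarith⟩
    · linarith
  have hv1 : S.vVal χ = 1 := by
    simp only [Grid.val, hsd.1] at hv
    rw [← hχ] at hv
    push_cast at hv; rw [one_mul] at hv; exact_mod_cast hv
  obtain ⟨f, hf⟩ := H12.exists_monoidHom_of_apply_one_eq_one (H12.isCharacter_irr χ)
    (by
      rw [deg_eq]
      have : (H12.degree (χ : G → ℂ) : ℤ) = 1 := hsd.2
      rw [this]; simp)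
  have hfg : ∀ x, (χ : G → ℂ) x = (f x : ℂ) := fun x => (congrFun hf x).symm
  have hR1 : S.rowInt 1 χ = 1 := by
    have := g.rowEq 1 0
    rw [hsd.1] at this
    simpa [sgn, toData] using this
  have hR0 : S.rowInt 0 χ = 0 := by
    by_contra h
    exact absurd (g.rowOnly 1 0 0 h) (by decide)
  have hu : S.uVal χ = -1 := by
    obtain ⟨z, hz⟩ := S.uVal_mod χ
    have hsq : S.uVal χ * S.uVal χ = 1 := by
      have : (S.uVal χ : ℂ) * (S.uVal χ : ℂ) = 1 := by
        rw [← S.uVal_spec, hfg, ← Units.val_mul, ← map_mul, ← map_mul, ← sq, u₀_sq, map_one, map_one]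
        simp
      exact_mod_cast this
    rcases mul_self_eq_one_iff.1 hsq with e | e
    · rw [e, hR0, hR1] at hz; omega
    · exact e
  refine ⟨fun huw => ?_, f, ?_, ?_⟩
  · -- the fused case is impossible
    have hi : S.j u₀ ^ 2 = 1 := by rw [← map_pow, u₀_sq, map_one]
    have hT : ∀ m : M, m ∈ setUW ↔ IsConj (S.j u₀) (S.j m) := by
      intro m
      constructor
      · intro h
        simp only [setUW, Finset.mem_filter, Finset.mem_univ, true_and] at h
        rcases h with h | h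
        · exact S.conj_in h
        · exact huw.trans (S.conj_in h)
      · intro h
        simp only [setUW, Finset.mem_filter, Finset.mem_univ, true_and]
        rcases S.conj_cases u₀_sq u₀_ne h with ⟨e, -⟩ | ⟨e, c⟩ | ⟨e, -⟩
        · exact Or.inl ((mem_setU m).1 e)
        · exact absurd c S.not_conj_uv
        · exact Or.inr (by simpa [setW] using e)
    refine g.lemmaB hd h11 (u := S.uVal)
      (k := (Nat.card {x : G // x * S.j u₀ = S.j u₀ * x} : ℚ) ^ 2 / (36 * Nat.card G)) ?_ ?_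
      (fun a => ?_) (fun a => ?_) (fun a => ?_) (fun a => ?_)
    · have h := S.uVal_spec (H12.oneIrr G)
      rw [H12.oneIrr_apply] at h
      exact_mod_cast h.symm
    · simp only [Grid.val, hsd.1, ← hχ, hu]; simp
    · have h := S.coef_zero_sum (special_row a) hi
      simp only [S.rowInt_spec, S.uVal_spec] at h
      show ∑ χ, S.rowInt a χ * S.uVal χ = 0
      exact_mod_cast h
    · have h := S.coef_zero_sum (special_col a) hi
      simp only [S.colInt_spec, S.uVal_spec] at h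
      show ∑ χ, S.colInt a χ * S.uVal χ = 0
      exact_mod_cast h
    · rw [show S.toData.R = S.rowInt from rfl,
        S.quad_eq (S.rowInt_spec a) (special_row a) hi S.uVal_spec setUW hT, count_UW_row]
    · rw [show S.toData.C = S.colInt from rfl,
        S.quad_eq (S.colInt_spec a) (special_col a) hi S.uVal_spec setUW hT, count_UW_col]
  · apply Units.ext
    rw [← hfg, S.uVal_spec, hu]; simp
  · apply Units.ext
    rw [← hfg, S.vVal_spec, hv1]; simp

/-- The configuration with the two factors exchanged. -/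
def swap : Config G where
  j := S.j.comp (MulEquiv.prodComm (M := D3) (N := D3)).toMonoidHom
  inj := S.inj.comp (MulEquiv.prodComm (M := D3) (N := D3)).injective
  ti m hm g hg := by
    have hr : (S.j.comp (MulEquiv.prodComm (M := D3) (N := D3)).toMonoidHom).range = S.j.range := by
      ext x
      constructor
      · rintro ⟨y, rfl⟩; exact ⟨_, rfl⟩
      · rintro ⟨y, rfl⟩; exact ⟨(y.2, y.1), rfl⟩
    rw [hr] at hg ⊢
    refine S.ti (m.2, m.1) (fun h => hm ?_) g hg
    have := congrArg Prod.swap h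
    simpa [Prod.ext_iff, and_comm] using this

theorem swap_u : S.swap.j u₀ = S.j v₀ := rfl
theorem swap_v : S.swap.j v₀ = S.j u₀ := rfl
theorem swap_w : S.swap.j w₀ = S.j w₀ := rfl

theorem exists_separating : (∃ f : G →* ℂˣ, f (S.j u₀) = -1 ∧ f (S.j v₀) = 1) ∧
    ∃ f : G →* ℂˣ, f (S.j u₀) = 1 ∧ f (S.j v₀) = -1 := by
  have hvw : ¬ IsConj (S.j v₀) (S.j w₀) := by
    intro h
    have hs : ¬ IsConj (S.swap.j v₀) (S.swap.j w₀) := by
      rw [swap_v, swap_w]
      exact fun h' => S.not_conj_uv (h'.trans h.symm)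
    exact (S.swap.main hs).1 (by rwa [swap_u, swap_w])
  obtain ⟨huw, f, hf⟩ := S.main hvw
  refine ⟨⟨f, hf⟩, ?_⟩
  obtain ⟨-, f', h1, h2⟩ := S.swap.main (by rwa [swap_v, swap_w])
  rw [swap_u] at h1
  rw [swap_v] at h2
  exact ⟨f', h2, h1⟩

end Config

end H35.Sq
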