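import Mathlib

/-!
The group `S₃ × S₃` and the integral functions on it needed for the order-9 Sylow argument.
-/

set_option autoImplicit false
set_option linter.all false

namespace H35.Sq

abbrev D3 : Type := DihedralGroup 3
abbrev M : Type := D3 × D3

/-- The sign character. -/
def eps : D3 → ℤ
  | .r _ => 1
  | .sr _ => -1

/-- The two-dimensional character. -/
def rho : D3 → ℤ
  | .r i => if i = 0 then 2 else -1
  | .sr _ => 0

/-- `1 + eps - rho`. -/
def alpha : D3 → ℤ
  | .r i => if i = 0 then 0 else 3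
  | .sr _ => 0

/-- The three irreducible characters. -/
def chi : Fin 3 → D3 → ℤ := ![fun _ => 1, eps, rho]

/-- The coefficients of `alpha`. -/
def sgn : Fin 3 → ℤ := ![1, 1, -1]

def rowFun (a : Fin 3) (m : M) : ℤ := chi a m.1 * alpha m.2
def colFun (b : Fin 3) (m : M) : ℤ := alpha m.1 * chi b m.2

def u₀ : M := (.sr 0, 1)
def v₀ : M := (1, .sr 0)
def w₀ : M := (.sr 0, .sr 0)

def setU : Finset M := Finset.univ.filter fun m => ∃ k : M, k * u₀ * k⁻¹ = m
def setV : Finset M := Finset.univ.filter fun m => ∃ k : M, k * v₀ * k⁻¹ = m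
def setW : Finset M := Finset.univ.filter fun m => ∃ k : M, k * w₀ * k⁻¹ = m
def setUW : Finset M := Finset.univ.filter fun m => (∃ k : M, k * u₀ * k⁻¹ = m) ∨ ∃ k : M, k * w₀ * k⁻¹ = m
def setVW : Finset M := Finset.univ.filter fun m => (∃ k : M, k * v₀ * k⁻¹ = m) ∨ ∃ k : M, k * w₀ * k⁻¹ = m

/-- The number of products from a set, weighted. -/
def count (S : Finset M) (θ : M → ℤ) : ℤ := ∑ x ∈ S, ∑ y ∈ S, θ (x * y)

theorem sum_row_row : ∀ a b : Fin 3, ∑ m : M, rowFun a m * rowFun b m = if a = b then 108 else 0 := by decide +kernel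
theorem sum_col_col : ∀ a b : Fin 3, ∑ m : M, colFun a m * colFun b m = if a = b then 108 else 0 := by decide +kernel
theorem sum_row_col : ∀ a b : Fin 3, ∑ m : M, rowFun a m * colFun b m = 36 * (sgn a * sgn b) := by decide +kernel
theorem sum_row : ∀ a : Fin 3, ∑ m : M, rowFun a m = if a = 0 then 36 else 0 := by decide +kernel
theorem sum_col : ∀ a : Fin 3, ∑ m : M, colFun a m = if a = 0 then 36 else 0 := by decide +kernel
theorem sgn_row_col : ∀ m : M, ∑ a, sgn a * rowFun a m = ∑ b, sgn b * colFun b m := by decide +kernel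
theorem row_supp : ∀ a : Fin 3, ∀ m : M, m ^ 2 = 1 → rowFun a m = 0 := by decide +kernel
theorem col_supp : ∀ a : Fin 3, ∀ m : M, m ^ 2 = 1 → colFun a m = 0 := by decide +kernel
theorem row_class : ∀ a : Fin 3, ∀ k m : M, rowFun a (k * m * k⁻¹) = rowFun a m := by decide +kernel
theorem col_class : ∀ a : Fin 3, ∀ k m : M, colFun a (k * m * k⁻¹) = colFun a m := by decide +kernel
theorem invol_cases : ∀ m : M, m = 1 ∨ ¬ m ^ 2 = 1 ∨ m ∈ setU ∨ m ∈ setV ∨ m ∈ setW := by decide +kernel

theorem count_V_row : ∀ a : Fin 3, count setV (rowFun a) = ![18, 18, 36] a := by decide +kernel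
theorem count_V_col : ∀ a : Fin 3, count setV (colFun a) = 0 := by decide +kernel
theorem count_U_row : ∀ a : Fin 3, count setU (rowFun a) = 0 := by decide +kernel
theorem count_U_col : ∀ a : Fin 3, count setU (colFun a) = ![18, 18, 36] a := by decide +kernel
theorem count_UW_row : ∀ a : Fin 3, count setUW (rowFun a) = ![162, 162, 0] a := by decide +kernel
theorem count_UW_col : ∀ a : Fin 3, count setUW (colFun a) = ![288, 72, 36] a := by decide +kernel
theorem count_VW_row : ∀ a : Fin 3, count setVW (rowFun a) = ![288, 72, 36] a := by decide +kernel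
theorem count_VW_col : ∀ a : Fin 3, count setVW (colFun a) = ![162, 162, 0] a := by decide +kernel

end H35.Sq
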