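import Cfsg.Agent.H35.CycAbelian
import Cfsg.Agent.H35.DihExc
import Cfsg.Agent.H10.PSolvable
import Cfsg.Agent.H33.TwoPrime
import Cfsg.Agent.CompBasic

/-!
A large prime dividing the order of all mixed proper subgroups forces two prime divisors.
-/

set_option autoImplicit false
set_option linter.all false
set_option maxHeartbeats 1000000

open Cfsg Subgroup
open scoped Pointwise

namespace H35.TP

universe u

/-- The hypothesis of the theorem. -/
structure Hyp (G : Type u) [Group G] (p q : ℕ) : Prop where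
  hpG : p ∣ Nat.card G
  hqG : q ∣ Nat.card G
  hmix : ∀ H : Subgroup G, H ≠ ⊤ → ¬ IsPGroup q H → q ∣ Nat.card H → p ∣ Nat.card H
  hlarge : q ^ (Nat.card G).factorization q - 1 < p ∨
    (p = q ^ (Nat.card G).factorization q - 1 ∧
      ∀ (P : Sylow p G), ∀ a ∈ (P : Subgroup G), ∀ b ∈ (P : Subgroup G), a * b = b * a)

/-- A minimal counterexample, seen from inside. -/
structure Bad (G : Type u) [Group G] (p q r : ℕ) : Prop where
  hyp : Hyp G p q
  hr : r.Prime
  hrp : r ≠ p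
  hrq : r ≠ q
  hrG : r ∣ Nat.card G
  small : ∀ H : Subgroup G, H ≠ ⊤ → q ∣ Nat.card H → ∀ s : ℕ, s.Prime → s ∣ Nat.card H → s = p ∨ s = q

variable {G : Type u} [Group G] [Finite G] {p q r : ℕ} [Fact p.Prime] [Fact q.Prime]

theorem exists_prime_power_part {C : Subgroup G} :
    ∀ (n : ℕ) (g : G), orderOf g = n → g ∉ C →
      ∃ x ∈ Subgroup.zpowers g, x ∉ C ∧ ∃ s k : ℕ, s.Prime ∧ orderOf x = s ^ k := by
  intro n
  induction n using Nat.strong_induction_on with
  | _ n ih =>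
    intro g hg hgC
    have hg1 : n ≠ 1 := by
      intro e; rw [e] at hg
      exact hgC (orderOf_eq_one_iff.1 hg ▸ one_mem C)
    obtain ⟨s, hs, hsn⟩ := Nat.exists_prime_and_dvd hg1
    by_cases hpp : n = s ^ n.factorization s
    · exact ⟨g, Subgroup.mem_zpowers g, hgC, s, _, hs, hg.trans hpp⟩
    · have hn0 : n ≠ 0 := hg ▸ (orderOf_pos g).ne'
      set a := s ^ n.factorization s with ha
      set b := n / a with hb
      have hab : a * b = n := Nat.ordProj_mul_ordCompl_eq_self n s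
      have hcop : Nat.Coprime a b := (Nat.coprime_ordCompl hs hn0).pow_left _
      have ha1 : 1 < a := Nat.one_lt_pow (hs.factorization_pos_of_dvd hn0 hsn).ne' hs.one_lt
      have hb1 : 1 < b := by
        rcases Nat.lt_or_ge 1 b with h | h
        · exact h
        · interval_cases b
          · omega
          · exact absurd (by omega : n = a) hpp
      by_cases hA : g ^ a ∈ C
      · have hB : g ^ b ∉ C := by
          intro hB
          apply hgC
          obtain ⟨u, v, huv⟩ := Nat.isCoprime_iff_coprime.2 hcop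
          have : g = (g ^ a) ^ u * (g ^ b) ^ v := by
            rw [← zpow_natCast g a, ← zpow_natCast g b, ← zpow_mul, ← zpow_mul, ← zpow_add,
              mul_comm (a : ℤ), mul_comm (b : ℤ), huv, zpow_one]
          rw [this]
          exact mul_mem (zpow_mem hA u) (zpow_mem hB v)
        have ho : orderOf (g ^ b) = a := by
          rw [orderOf_pow_of_dvd (by omega) (by rw [hg]; exact Dvd.intro_left a hab), hg, ← hab,
            Nat.mul_div_cancel _ (by omega)]
        obtain ⟨x, hx, hxC, h⟩ := ih a (by nlinarith) (g ^ b) ho hB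
        exact ⟨x, Subgroup.zpowers_le.2 (pow_mem (Subgroup.mem_zpowers g) b) hx, hxC, h⟩
      · have ho : orderOf (g ^ a) = b := by
          rw [orderOf_pow_of_dvd (by omega) (by rw [hg]; exact Dvd.intro b hab), hg, ← hab,
            Nat.mul_div_cancel_left _ (by omega)]
        obtain ⟨x, hx, hxC, h⟩ := ih b (by nlinarith) (g ^ a) ho hA
        exact ⟨x, Subgroup.zpowers_le.2 (pow_mem (Subgroup.mem_zpowers g) a) hx, hxC, h⟩

theorem not_dvd_sup_zpowers {R : Subgroup G} {x : G} {s : ℕ} (hs : s.Prime) (hR : ¬ s ∣ Nat.card R)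
    (hx : ¬ s ∣ orderOf x) (hn : x ∈ normalizer (R : Set G)) :
    ¬ s ∣ Nat.card (R ⊔ Subgroup.zpowers x : Subgroup G) := by
  haveI : Fact s.Prime := ⟨hs⟩
  intro hd
  obtain ⟨⟨y, hy⟩, hyp⟩ := exists_prime_orderOf_dvd_card' s hd
  rw [← Subgroup.orderOf_coe] at hyp
  have hy' : y ∈ (R ⊔ Subgroup.zpowers x : Subgroup G) := hy
  rw [← SetLike.mem_coe, Subgroup.coe_mul_of_right_le_normalizer_left R _ (Subgroup.zpowers_le.2 hn)] at hy'
  obtain ⟨k, hk, a, ha, rfl⟩ := hy'
  obtain ⟨k', hk', e⟩ := H35.CA.conj_mul_pow (Subgroup.zpowers_le.2 hn ha) hk (orderOf x)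
  have ha1 : a ^ orderOf x = 1 := by
    obtain ⟨i, rfl⟩ := Subgroup.mem_zpowers_iff.1 ha
    rw [← zpow_natCast, ← zpow_mul, mul_comm, zpow_mul, zpow_natCast, pow_orderOf_eq_one, one_zpow]
  rw [ha1, mul_one] at e
  have hyp' : orderOf (k * a) = s := hyp
  obtain ⟨n, hn'⟩ := exists_pow_eq_self_of_coprime (x := k * a) (n := orderOf x)
    (by rw [hyp']; exact (hs.coprime_iff_not_dvd.2 hx).symm)
  have hmem : k * a ∈ R := by rw [← hn', e]; exact pow_mem hk' n
  exact hR (hyp' ▸ Subgroup.orderOf_dvd_natCard R hmem)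

theorem isPGroup_prime_not_dvd {s t : ℕ} [Fact s.Prime] (ht : t.Prime) (hne : t ≠ s) {R : Subgroup G}
    (hR : IsPGroup s R) : ¬ t ∣ Nat.card R := by
  obtain ⟨k, hk⟩ := IsPGroup.iff_card.1 hR
  rw [hk]
  exact fun h => hne ((Nat.prime_dvd_prime_iff_eq ht Fact.out).1 (ht.dvd_of_dvd_pow h))

theorem pElem_of {s : ℕ} [Fact s.Prime] {x : G} {k : ℕ} (h : orderOf x = s ^ k) :
    IsPGroup s (Subgroup.zpowers x) := IsPGroup.of_card (n := k) (by rw [Nat.card_zpowers, h])

namespace Bad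

variable (b : Bad G p q r) (hpq : p ≠ q)
include b hpq

theorem proper_of_not_dvd {H : Subgroup G} (h : ¬ p ∣ Nat.card H) : H ≠ ⊤ := fun e =>
  h (by rw [e, Subgroup.card_top]; exact b.hyp.hpG)

theorem kill {R : Subgroup G} (hR : IsPGroup q R) (hR1 : R ≠ ⊥) {x : G}
    (hn : x ∈ normalizer (R : Set G)) {s k : ℕ} (hs : s.Prime) (hsp : s ≠ p) (hsq : s ≠ q)
    (hx : orderOf x = s ^ k) : x = 1 := by
  haveI : Fact s.Prime := ⟨hs⟩
  by_contra hx1
  have hH : ¬ p ∣ Nat.card (R ⊔ Subgroup.zpowers x : Subgroup G) :=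
    not_dvd_sup_zpowers Fact.out (isPGroup_prime_not_dvd Fact.out hpq hR)
      (by rw [hx]; exact fun h => hsp.symm ((Nat.prime_dvd_prime_iff_eq Fact.out hs).1
        ((Fact.out : p.Prime).dvd_of_dvd_pow h))) hn
  have hqR : q ∣ Nat.card R := by
    obtain ⟨i, hi⟩ := IsPGroup.iff_card.1 hR
    rw [hi]
    exact dvd_pow_self q fun e => hR1 (Subgroup.eq_bot_of_card_eq _ (by rw [hi, e, pow_zero]))
  have hsx : s ∣ orderOf x := by
    rw [hx]
    exact dvd_pow_self s fun e => hx1 (orderOf_eq_one_iff.1 (by rw [hx, e, pow_zero]))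
  rcases b.small _ (b.proper_of_not_dvd hpq hH) (hqR.trans (card_dvd_of_le le_sup_left)) s hs
    (hsx.trans (Subgroup.orderOf_dvd_natCard _ (Subgroup.mem_sup_right (Subgroup.mem_zpowers x)))) with e | e
  · exact hsp e
  · exact hsq e

theorem not_normal_qgroup {R : Subgroup G} (hR : IsPGroup q R) (hR1 : R ≠ ⊥) : ¬ R.Normal := by
  intro hn
  haveI : Fact r.Prime := ⟨b.hr⟩
  obtain ⟨x, hx⟩ := exists_prime_orderOf_dvd_card' r b.hrG
  have h1 := b.kill hpq hR hR1 (x := x) (by rw [normalizer_eq_top_iff.2 hn]; exact Subgroup.mem_top x)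
    b.hr b.hrp b.hrq (k := 1) (by rw [hx, pow_one])
  rw [h1, orderOf_one] at hx
  exact b.hr.one_lt.ne hx

theorem no_complement : ¬ HasNormalPComplement q G := by
  intro h
  haveI : Fact r.Prime := ⟨b.hr⟩
  set K := pResidual q G with hK
  have hKq : ¬ q ∣ Nat.card K := H5.hasNormalPComplement_iff_not_dvd.1 h
  obtain ⟨k, hk⟩ := H5.exists_index_pResidual_eq (G := G) (p := q)
  have hrK : r ∣ Nat.card K := by
    have h2 := K.card_mul_index
    rw [hk] at h2
    have : Nat.Coprime r (q ^ k) := Nat.Coprime.pow_right k ((Nat.coprime_primes b.hr Fact.out).2 b.hrq)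
    exact this.dvd_of_dvd_mul_right (h2 ▸ b.hrG)
  let R : Sylow r K := Classical.arbitrary _
  set R' := (R : Subgroup K).map K.subtype with hR'
  have hR'p : IsPGroup r R' := R.isPGroup'.map _
  have hR'ne : R' ≠ ⊥ := by
    intro e
    rw [hR', Subgroup.map_eq_bot_iff_of_injective _ K.subtype_injective] at e
    exact R.ne_bot_of_dvd_card hrK e
  have hrR : r ∣ Nat.card R' := by
    obtain ⟨i, hi⟩ := IsPGroup.iff_card.1 hR'p
    rw [hi]
    exact dvd_pow_self r fun e => hR'ne (Subgroup.eq_bot_of_card_eq _ (by rw [hi, e, pow_zero]))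
  set N := normalizer (R' : Set G) with hN
  have hfr : N ⊔ K = ⊤ := R.normalizer_sup_eq_top
  have hqN : q ∣ Nat.card N := by
    have h1 : (N : Set G) * (K : Set G) = Set.univ := by
      rw [← Subgroup.mul_normal, hfr, Subgroup.coe_top]
    have h2 : Nat.card G ∣ Nat.card N * Nat.card K := by
      refine ⟨Nat.card (K.subgroupOf N), ?_⟩
      have h3 := K.card_mul_index
      have h4 : (K.relIndex N) = K.index := by
        rw [← Subgroup.relIndex_top_right, ← hfr]
        exact (Subgroup.relIndex_sup_right N K).symm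
      have h5 : Nat.card (K.subgroupOf N) * K.relIndex N = Nat.card N := (K.subgroupOf N).card_mul_index
      rw [← h5, h4, ← h3]; ring
    exact ((Fact.out : q.Prime).dvd_mul.1 (b.hyp.hqG.trans h2)).resolve_right hKq
  by_cases hNtop : N = ⊤
  · have hn : R'.Normal := normalizer_eq_top_iff.1 hNtop
    let Q : Sylow q G := Classical.arbitrary _
    have hH : ¬ p ∣ Nat.card (R' ⊔ (Q : Subgroup G) : Subgroup G) := by
      intro hd
      obtain ⟨⟨y, hy⟩, hyp⟩ := exists_prime_orderOf_dvd_card' p hd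
      rw [← Subgroup.orderOf_coe] at hyp
      have hy' : y ∈ (R' ⊔ (Q : Subgroup G) : Subgroup G) := hy
      rw [← SetLike.mem_coe, Subgroup.normal_mul] at hy'
      obtain ⟨a, ha, c, hc, rfl⟩ := hy'
      obtain ⟨a', ha', e⟩ := H35.CA.conj_mul_pow (K := R') (a := c)
        (by rw [← hN, hNtop]; exact Subgroup.mem_top c) ha (Nat.card (Q : Subgroup G))
      have hc1 : c ^ Nat.card (Q : Subgroup G) = 1 := by
        obtain ⟨d, hd⟩ := Subgroup.orderOf_dvd_natCard _ hc
        rw [hd, pow_mul, pow_orderOf_eq_one, one_pow]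
      rw [hc1, mul_one] at e
      have hyp' : orderOf (a * c) = p := hyp
      have hcop : Nat.Coprime (Nat.card (Q : Subgroup G)) (orderOf (a * c)) := by
        rw [hyp']
        exact ((Fact.out : p.Prime).coprime_iff_not_dvd.2
          (isPGroup_prime_not_dvd Fact.out hpq Q.isPGroup')).symm
      obtain ⟨n, hn'⟩ := exists_pow_eq_self_of_coprime hcop
      have hmem : a * c ∈ R' := by rw [← hn', e]; exact pow_mem ha' n
      exact isPGroup_prime_not_dvd Fact.out b.hrp.symm hR'p (hyp' ▸ Subgroup.orderOf_dvd_natCard R' hmem)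
    have hqQ : q ∣ Nat.card (Q : Subgroup G) := Q.dvd_card_of_dvd_card b.hyp.hqG
    exact (b.small _ (b.proper_of_not_dvd hpq hH) (hqQ.trans (card_dvd_of_le le_sup_right)) r b.hr
      (hrR.trans (card_dvd_of_le le_sup_left))).elim b.hrp b.hrq
  · exact (b.small N hNtop hqN r b.hr (hrR.trans (card_dvd_of_le le_normalizer))).elim b.hrp b.hrq

theorem qpart_le : q ^ (Nat.card G).factorization q ≤ p + 1 := by
  rcases b.hyp.hlarge with h | ⟨h, -⟩ <;> omega

/-- Orbit counting for a `p`-element normalizing a `q`-subgroup. -/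
theorem act_bound {R : Subgroup G} (hR : IsPGroup q R) {x : G} {k : ℕ} (hx : orderOf x = p ^ k)
    (hn : x ∈ normalizer (R : Set G)) (hnc : ∃ y ∈ R, x * y ≠ y * x) :
    Nat.card R = p + 1 ∧ q ^ (Nat.card G).factorization q = p + 1 ∧
      ∀ y ∈ R, x * y = y * x → y = 1 := by
  set X := Subgroup.zpowers x with hX
  have hXn : X ≤ normalizer (R : Set G) := Subgroup.zpowers_le.2 hn
  letI act : MulAction X R :=
    { smul := fun a y => ⟨(a : G) * y * (a : G)⁻¹, (Subgroup.mem_normalizer_iff.1 (hXn a.2) _).1 y.2⟩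
      one_smul := fun y => Subtype.ext (show (1 : G) * y * (1 : G)⁻¹ = y by group)
      mul_smul := fun a c y => Subtype.ext (show ((a : G) * c) * y * ((a : G) * c)⁻¹ =
        (a : G) * ((c : G) * y * (c : G)⁻¹) * (a : G)⁻¹ by group) }
  have hmod := (pElem_of hx).card_modEq_card_fixedPoints R
  set F := R ⊓ centralizer ({x} : Set G) with hF
  have hfix : Nat.card (MulAction.fixedPoints X R) = Nat.card F := by
    refine Nat.card_congr
      { toFun := fun y => ⟨(y.1 : G), y.1.2, Subgroup.mem_centralizer_singleton_iff.2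
          (mul_inv_eq_iff_eq_mul.1 (congrArg Subtype.val (y.2 ⟨x, Subgroup.mem_zpowers x⟩))).symm⟩
        invFun := fun y => ⟨⟨y.1, y.2.1⟩, fun a => Subtype.ext (by
          obtain ⟨i, hi⟩ := Subgroup.mem_zpowers_iff.1 a.2
          have hc : Commute (y.1 : G) x := Subgroup.mem_centralizer_singleton_iff.1 y.2.2
          show (a : G) * y.1 * (a : G)⁻¹ = y.1
          rw [← hi, ← (hc.zpow_right i).eq, mul_inv_cancel_right])⟩
        left_inv := fun y => rfl
        right_inv := fun y => rfl }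
  rw [hfix] at hmod
  have hlt : Nat.card F < Nat.card R := by
    refine lt_of_le_of_ne (Nat.le_of_dvd Nat.card_pos (card_dvd_of_le inf_le_left)) fun e => ?_
    obtain ⟨y, hy, hne⟩ := hnc
    have := Subgroup.eq_of_le_of_card_ge (inf_le_left : F ≤ R) e.ge
    rw [← this] at hy
    exact hne (Subgroup.mem_centralizer_singleton_iff.1 hy.2).symm
  have hd : p ∣ Nat.card R - Nat.card F := (Nat.modEq_iff_dvd' hlt.le).1 hmod.symm
  have hle := Nat.le_of_dvd (by omega) hd
  have hF1 : 1 ≤ Nat.card F := Nat.card_pos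
  have hRle : Nat.card R ≤ q ^ (Nat.card G).factorization q := by
    obtain ⟨i, hi⟩ := IsPGroup.iff_card.1 hR
    rw [hi]
    refine Nat.pow_le_pow_right (Fact.out : q.Prime).pos ?_
    exact ((Fact.out : q.Prime).pow_dvd_iff_le_factorization Nat.card_pos.ne').1 (hi ▸ card_subgroup_dvd_card R)
  have hq := b.qpart_le hpq
  refine ⟨by omega, by omega, fun y hy hc => ?_⟩
  have hFb : F = ⊥ := Subgroup.eq_bot_of_card_eq F (by omega)
  exact Subgroup.mem_bot.1 (hFb ▸ (⟨hy, Subgroup.mem_centralizer_singleton_iff.2 hc.symm⟩ : y ∈ F))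

theorem exists_action : ∃ (R : Subgroup G) (x : G) (k : ℕ), IsPGroup q R ∧ orderOf x = p ^ k ∧
    x ∈ normalizer (R : Set G) ∧ ∃ y ∈ R, x * y ≠ y * x := by
  by_contra hc
  apply b.no_complement hpq
  let Q : Sylow q G := Classical.arbitrary _
  refine H5.hasNormalPComplement_of_frobenius Q fun R hR g hg hgc => ?_
  by_contra hgC
  obtain ⟨x, hx, hxC, s, k, hs, hxk⟩ := exists_prime_power_part _ g rfl hgC
  have hxn := Subgroup.zpowers_le.2 hg hx
  have hRq : IsPGroup q R := Q.isPGroup'.to_le hR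
  have hR1 : R ≠ ⊥ := by
    intro e
    apply hxC
    refine Subgroup.mem_centralizer_iff.2 fun y hy => ?_
    rw [e] at hy
    have hy' : y = 1 := Subgroup.mem_bot.1 hy
    rw [hy', one_mul, mul_one]
  have hk : k ≠ 0 := by
    intro e; rw [e, pow_zero, orderOf_eq_one_iff] at hxk
    exact hxC (hxk ▸ one_mem _)
  have hsq : s ≠ q := by
    rintro rfl
    obtain ⟨i, rfl⟩ := Subgroup.mem_zpowers_iff.1 hx
    have h1 : orderOf (g ^ i) ∣ orderOf g := by
      refine orderOf_dvd_of_pow_eq_one ?_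
      rw [← zpow_natCast, ← zpow_mul, mul_comm, zpow_mul, zpow_natCast, pow_orderOf_eq_one, one_zpow]
    rw [hxk] at h1
    exact (Fact.out : s.Prime).one_lt.ne' (Nat.eq_one_of_dvd_coprimes hgc ((dvd_pow_self s hk).trans h1) dvd_rfl)
  by_cases hsp : s = p
  · subst hsp
    refine hc ⟨R, x, k, hRq, hxk, hxn, ?_⟩
    by_contra hne
    push Not at hne
    exact hxC (Subgroup.mem_centralizer_iff.2 fun y hy => (hne y hy).symm)
  · exact hxC ((b.kill hpq hRq hR1 hxn hs hsp hsq hxk) ▸ one_mem _)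

theorem basic (hp2 : p ≠ 2) : q = 2 ∧ q ^ (Nat.card G).factorization q = p + 1 ∧
    ∀ P : Sylow p G, ∀ a ∈ (P : Subgroup G), ∀ c ∈ (P : Subgroup G), a * c = c * a := by
  obtain ⟨R, x, k, hR, hx, hn, hnc⟩ := b.exists_action hpq
  obtain ⟨-, h, -⟩ := b.act_bound hpq hR hx hn hnc
  refine ⟨?_, h, ?_⟩
  · have hev : Even (p + 1) := ((Fact.out : p.Prime).odd_of_ne_two hp2).add_one
    rw [← h] at hev
    exact ((Nat.prime_dvd_prime_iff_eq Nat.prime_two Fact.out).1
      (Nat.prime_two.dvd_of_dvd_pow hev.two_dvd)).symm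
  · rcases b.hyp.hlarge with h' | ⟨-, h'⟩
    · omega
    · exact h'

end Bad

/-- Facts about a minimal counterexample. -/
structure Core (G : Type u) [Group G] (p : ℕ) [Fact p.Prime] : Prop where
  p_ne_two : p ≠ 2
  hpG : p ∣ Nat.card G
  small : ∀ H : Subgroup G, H ≠ ⊤ → 2 ∣ Nat.card H → ∀ s : ℕ, s.Prime → s ∣ Nat.card H → s = p ∨ s = 2
  q_card : ∀ Q : Sylow 2 G, Nat.card (Q : Subgroup G) = p + 1
  pab : ∀ P : Sylow p G, ∀ a ∈ (P : Subgroup G), ∀ c ∈ (P : Subgroup G), a * c = c * a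
  noTwo : ∀ R : Subgroup G, IsPGroup 2 R → R ≠ ⊥ → ¬ R.Normal
  noCenter : ∀ c : G, orderOf c = p → centralizer ({c} : Set G) ≠ ⊤
  act : ∀ (R : Subgroup G), IsPGroup 2 R → ∀ (x : G) (k : ℕ), orderOf x = p ^ k →
    x ∈ normalizer (R : Set G) → (∀ y ∈ R, x * y = y * x) ∨
      (Nat.card R = p + 1 ∧ ∀ y ∈ R, x * y = y * x → y = 1)
  exists_action : ∃ (R : Subgroup G) (x : G) (k : ℕ), IsPGroup 2 R ∧ orderOf x = p ^ k ∧
    x ∈ normalizer (R : Set G) ∧ ∃ y ∈ R, x * y ≠ y * x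

/-- A Sylow 2-subgroup with an element acting transitively on its involutions. -/
structure Frame (G : Type u) [Group G] [Finite G] (p : ℕ) [Fact p.Prime] where
  core : Core G p
  Q : Sylow 2 G
  z : G
  zpow_p : ∃ k : ℕ, z ^ p ^ k = 1
  zN : z ∈ normalizer ((Q : Subgroup G) : Set G)
  zfix : ∀ y ∈ (Q : Subgroup G), z * y = y * z → y = 1

theorem pElem_iff {x : G} (h : ∃ k : ℕ, x ^ p ^ k = 1) : ∃ k : ℕ, orderOf x = p ^ k := by
  obtain ⟨k, hk⟩ := h
  obtain ⟨i, -, hi⟩ := (Nat.dvd_prime_pow (Fact.out : p.Prime)).1 (orderOf_dvd_of_pow_eq_one hk)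
  exact ⟨i, hi⟩

theorem pgroup_elem {s : ℕ} {H : Subgroup G} (hH : IsPGroup s H) {x : G} (hx : x ∈ H) :
    ∃ k : ℕ, x ^ s ^ k = 1 := by
  obtain ⟨k, hk⟩ := hH ⟨x, hx⟩
  exact ⟨k, congrArg Subtype.val hk⟩

theorem eq_one_of_two_p (hp2 : p ≠ 2) {x : G} (h2 : ∃ k : ℕ, x ^ 2 ^ k = 1) (hp : ∃ k : ℕ, x ^ p ^ k = 1) :
    x = 1 := by
  obtain ⟨i, hi⟩ := h2
  obtain ⟨j, hj⟩ := hp
  exact orderOf_eq_one_iff.1 (Nat.eq_one_of_dvd_coprimes
    (Nat.Coprime.pow i j ((Nat.coprime_primes Nat.prime_two Fact.out).2 (Ne.symm hp2)))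
    (orderOf_dvd_of_pow_eq_one hi) (orderOf_dvd_of_pow_eq_one hj))

theorem Core.exists_frame (c : Core G p) : Nonempty (Frame G p) := by
  obtain ⟨R, x, k, hR, hx, hn, hnc⟩ := c.exists_action
  rcases c.act R hR x k hx hn with h | ⟨hcard, hfix⟩
  · obtain ⟨y, hy, hne⟩ := hnc; exact absurd (h y hy) hne
  haveI : Fact (Nat.Prime 2) := ⟨Nat.prime_two⟩
  obtain ⟨Q, hQ⟩ := hR.exists_le_sylow
  have hQR : R = (Q : Subgroup G) := Subgroup.eq_of_le_of_card_ge hQ (by rw [c.q_card, hcard])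
  subst hQR
  exact ⟨⟨c, Q, x, ⟨k, by rw [← hx, pow_orderOf_eq_one]⟩, hn, hfix⟩⟩

namespace Frame

variable (f : Frame G p)
include f

theorem two_not_p : ¬ 2 = p := fun h => f.core.p_ne_two h.symm

/-- Conjugation by powers of `z` on `Q`. -/
theorem zpow_mem_Q (n : ℕ) {y : G} (hy : y ∈ (f.Q : Subgroup G)) :
    f.z ^ n * y * (f.z ^ n)⁻¹ ∈ (f.Q : Subgroup G) :=
  (Subgroup.mem_normalizer_iff.1 (pow_mem f.zN n) y).1 hy

theorem zp_central : ∀ y ∈ (f.Q : Subgroup G), f.z ^ p * y = y * f.z ^ p := by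
  classical
  haveI : Fact (Nat.Prime 2) := ⟨Nat.prime_two⟩
  obtain ⟨k, hk⟩ := pElem_iff f.zpow_p
  obtain ⟨c, hc⟩ : p ∣ p ^ (k + 1) := dvd_pow_self p (by omega)
  have hzp : ∃ i : ℕ, orderOf (f.z ^ p) = p ^ i :=
    pElem_iff ⟨k, by rw [← pow_mul, mul_comm, pow_mul, ← hk, pow_orderOf_eq_one, one_pow]⟩
  obtain ⟨i, hi⟩ := hzp
  rcases f.core.act (f.Q : Subgroup G) f.Q.isPGroup' _ i hi (pow_mem f.zN p) with h | ⟨-, hfix⟩
  · exact h
  exfalso
  -- some element is fixed by the `p`th power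
  obtain ⟨⟨t, ht⟩, ht1⟩ : ∃ t : (f.Q : Subgroup G), t ≠ 1 := by
    haveI : Nontrivial (f.Q : Subgroup G) := by
      rw [← Finite.one_lt_card_iff_nontrivial, f.core.q_card]
      have := (Fact.out : p.Prime).pos; omega
    exact exists_ne 1
  have ht1' : t ≠ 1 := fun e => ht1 (Subtype.ext e)
  set X := Subgroup.zpowers f.z
  letI act : MulAction X (f.Q : Subgroup G) :=
    { smul := fun a y => ⟨(a : G) * y * (a : G)⁻¹,
        (Subgroup.mem_normalizer_iff.1 (Subgroup.zpowers_le.2 f.zN a.2) _).1 y.2⟩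
      one_smul := fun y => Subtype.ext (show (1 : G) * y * (1 : G)⁻¹ = y by group)
      mul_smul := fun a c y => Subtype.ext (show ((a : G) * c) * y * ((a : G) * c)⁻¹ =
        (a : G) * ((c : G) * y * (c : G)⁻¹) * (a : G)⁻¹ by group) }
  obtain ⟨j, hj⟩ := (pElem_of hk).card_orbit (⟨t, ht⟩ : (f.Q : Subgroup G))
  have hjp : p ^ j < p + 1 := by
    rw [← hj, ← f.core.q_card f.Q]
    refine Finite.card_subtype_lt (x := (1 : (f.Q : Subgroup G))) ?_
    rintro ⟨a, ha⟩
    exact ht1' (conj_eq_one_iff.1 (congrArg Subtype.val ha))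
  have hj1 : j ≤ 1 := by
    by_contra hlt
    have : p ^ 2 ≤ p ^ j := Nat.pow_le_pow_right (Fact.out : p.Prime).pos (by omega)
    have := (Fact.out : p.Prime).two_le
    nlinarith
  apply ht1'
  refine hfix t ht ?_
  have hidx : (MulAction.stabilizer X (⟨t, ht⟩ : (f.Q : Subgroup G))).index = p ^ j := by
    rw [MulAction.index_stabilizer, ← hj]; rfl
  have hmem : (⟨f.z, Subgroup.mem_zpowers f.z⟩ : X) ^ (p ^ j) ∈
      MulAction.stabilizer X (⟨t, ht⟩ : (f.Q : Subgroup G)) := by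
    rw [← hidx]; exact Subgroup.pow_index_mem _ _
  have hmem' : (⟨f.z, Subgroup.mem_zpowers f.z⟩ : X) ^ p ∈
      MulAction.stabilizer X (⟨t, ht⟩ : (f.Q : Subgroup G)) := by
    obtain ⟨e, he⟩ : p ^ j ∣ p := by
      interval_cases j <;> simp
    conv => enter [2, 2]; rw [he]
    rw [pow_mul]; exact pow_mem hmem e
  exact mul_inv_eq_iff_eq_mul.1 (congrArg Subtype.val (MulAction.mem_stabilizer_iff.1 hmem'))

theorem trans {t y : G} (ht : t ∈ (f.Q : Subgroup G)) (ht1 : t ≠ 1) (hy : y ∈ (f.Q : Subgroup G)) (hy1 : y ≠ 1) :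
    ∃ n : ℕ, y = f.z ^ n * t * (f.z ^ n)⁻¹ := by
  classical
  haveI : Fintype (f.Q : Subgroup G) := Fintype.ofFinite _
  let g : Fin p → {w : (f.Q : Subgroup G) // w ≠ 1} := fun i =>
    ⟨⟨f.z ^ i.val * t * (f.z ^ i.val)⁻¹, f.zpow_mem_Q i.val ht⟩,
      fun e => ht1 (conj_eq_one_iff.1 (congrArg Subtype.val e))⟩
  have key : ∀ d : ℕ, d < p → f.z ^ d * t * (f.z ^ d)⁻¹ = t → d = 0 := by
    intro d hd he
    by_contra hd0
    apply ht1
    refine f.zfix t ht ?_
    have hcop : Nat.Coprime d p :=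
      ((Fact.out : p.Prime).coprime_iff_not_dvd.2 fun h => by
        have := Nat.le_of_dvd (Nat.pos_of_ne_zero hd0) h; omega).symm
    obtain ⟨a, c, hac⟩ := Nat.isCoprime_iff_coprime.2 hcop
    have h1 : Commute ((f.z ^ d) ^ a) t := (show Commute (f.z ^ d) t from mul_inv_eq_iff_eq_mul.1 he).zpow_left a
    have h2 : Commute ((f.z ^ p) ^ c) t := (show Commute (f.z ^ p) t from f.zp_central t ht).zpow_left c
    have h3 := h1.mul_left h2
    rw [← zpow_natCast f.z d, ← zpow_natCast f.z p, ← zpow_mul, ← zpow_mul, ← zpow_add,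
      mul_comm (d : ℤ), mul_comm (p : ℤ), hac, zpow_one] at h3
    exact h3.eq
  have hg : Function.Injective g := by
    intro i i' h
    have h' : f.z ^ i.val * t * (f.z ^ i.val)⁻¹ = f.z ^ i'.val * t * (f.z ^ i'.val)⁻¹ :=
      congrArg (fun w => ((w.1 : (f.Q : Subgroup G)) : G)) h
    rcases le_total i.val i'.val with hle | hle
    · obtain ⟨d, hd⟩ := Nat.exists_eq_add_of_le hle
      have hd0 : d = 0 := key d (by have := i'.isLt; omega) (by
        rw [hd, pow_add] at h'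
        calc f.z ^ d * t * (f.z ^ d)⁻¹ = (f.z ^ i.val)⁻¹ * (f.z ^ i.val * f.z ^ d * t * (f.z ^ i.val * f.z ^ d)⁻¹) * f.z ^ i.val := by group
          _ = t := by rw [← h']; group)
      exact Fin.ext (by omega)
    · obtain ⟨d, hd⟩ := Nat.exists_eq_add_of_le hle
      have hd0 : d = 0 := key d (by have := i.isLt; omega) (by
        rw [hd, pow_add] at h'
        calc f.z ^ d * t * (f.z ^ d)⁻¹ = (f.z ^ i'.val)⁻¹ * (f.z ^ i'.val * f.z ^ d * t * (f.z ^ i'.val * f.z ^ d)⁻¹) * f.z ^ i'.val := by group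
          _ = t := by rw [h']; group)
      exact Fin.ext (by omega)
  have hb : Function.Bijective g := (Fintype.bijective_iff_injective_and_card g).2 ⟨hg, by
    rw [Fintype.card_fin, Fintype.card_subtype_compl, Fintype.card_subtype_eq,
      ← Nat.card_eq_fintype_card, f.core.q_card]
    rfl⟩
  obtain ⟨i, hi⟩ := hb.2 ⟨⟨y, hy⟩, fun e => hy1 (congrArg Subtype.val e)⟩
  exact ⟨i.val, (congrArg (fun w => ((w.1 : (f.Q : Subgroup G)) : G)) hi).symm⟩

theorem exists_ne_one : ∃ t ∈ (f.Q : Subgroup G), t ≠ 1 ∧ t * t = 1 := by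
  haveI : Fact (Nat.Prime 2) := ⟨Nat.prime_two⟩
  obtain ⟨⟨t, ht⟩, ht2⟩ := exists_prime_orderOf_dvd_card' (G := (f.Q : Subgroup G)) 2 (by
    rw [f.core.q_card]
    exact ((Fact.out : p.Prime).odd_of_ne_two f.core.p_ne_two).add_one.two_dvd)
  rw [← Subgroup.orderOf_coe] at ht2
  have h1 : t ^ 2 = 1 := by rw [← ht2]; exact pow_orderOf_eq_one t
  refine ⟨t, ht, fun e => ?_, by rw [← sq]; exact h1⟩
  subst e
  simp at ht2

theorem sq_one {y : G} (hy : y ∈ (f.Q : Subgroup G)) : y * y = 1 := by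
  obtain ⟨t, ht, ht1, ht2⟩ := f.exists_ne_one
  by_cases hy1 : y = 1
  · rw [hy1, one_mul]
  obtain ⟨n, hn⟩ := f.trans ht ht1 hy hy1
  rw [hn, show f.z ^ n * t * (f.z ^ n)⁻¹ * (f.z ^ n * t * (f.z ^ n)⁻¹) = f.z ^ n * (t * t) * (f.z ^ n)⁻¹ by group, ht2]
  group

theorem q_comm {a c : G} (ha : a ∈ (f.Q : Subgroup G)) (hc : c ∈ (f.Q : Subgroup G)) : a * c = c * a := by
  have h := inv_eq_of_mul_eq_one_right (f.sq_one (mul_mem ha hc))
  rw [mul_inv_rev, inv_eq_of_mul_eq_one_right (f.sq_one ha), inv_eq_of_mul_eq_one_right (f.sq_one hc)] at h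
  exact h.symm

theorem two_group_conj {R : Subgroup G} (hR : IsPGroup 2 R) :
    ∃ g : G, ∀ y ∈ R, g * y * g⁻¹ ∈ (f.Q : Subgroup G) := by
  haveI : Fact (Nat.Prime 2) := ⟨Nat.prime_two⟩
  obtain ⟨S, hS⟩ := hR.exists_le_sylow
  obtain ⟨g, hg⟩ := MulAction.exists_smul_eq G S f.Q
  refine ⟨g, fun y hy => ?_⟩
  have : MulAut.conj g y ∈ ((g • S : Sylow 2 G) : Subgroup G) := by
    rw [Sylow.coe_subgroup_smul, Subgroup.pointwise_smul_def]
    exact Subgroup.mem_map_of_mem _ (hS hy)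
  rwa [hg] at this

theorem two_group_sq {R : Subgroup G} (hR : IsPGroup 2 R) {y : G} (hy : y ∈ R) : y * y = 1 := by
  obtain ⟨g, hg⟩ := f.two_group_conj hR
  have h := f.sq_one (hg y hy)
  rw [show g * y * g⁻¹ * (g * y * g⁻¹) = g * (y * y) * g⁻¹ by group] at h
  exact conj_eq_one_iff.1 h

theorem two_group_comm {R : Subgroup G} (hR : IsPGroup 2 R) {a c : G} (ha : a ∈ R) (hc : c ∈ R) :
    a * c = c * a := by
  obtain ⟨g, hg⟩ := f.two_group_conj hR
  have h := f.q_comm (hg a ha) (hg c hc)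
  rw [show g * a * g⁻¹ * (g * c * g⁻¹) = g * (a * c) * g⁻¹ by group,
    show g * c * g⁻¹ * (g * a * g⁻¹) = g * (c * a) * g⁻¹ by group] at h
  exact mul_left_cancel (mul_right_cancel h)

theorem two_elem {s : G} (h : ∃ k : ℕ, s ^ 2 ^ k = 1) : s * s = 1 := by
  haveI : Fact (Nat.Prime 2) := ⟨Nat.prime_two⟩
  obtain ⟨k, hk⟩ := h
  obtain ⟨i, -, hi⟩ := (Nat.dvd_prime_pow Nat.prime_two).1 (orderOf_dvd_of_pow_eq_one hk)
  exact f.two_group_sq (pElem_of hi) (Subgroup.mem_zpowers s)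

theorem invol_conj {s : G} (hs : s * s = 1) (hs1 : s ≠ 1) {t : G} (ht : t ∈ (f.Q : Subgroup G)) (ht1 : t ≠ 1) :
    IsConj t s := by
  haveI : Fact (Nat.Prime 2) := ⟨Nat.prime_two⟩
  have h2 : orderOf s = 2 ^ 1 := by
    rw [pow_one]; exact orderOf_eq_prime (by rw [sq, hs]) hs1
  obtain ⟨g, hg⟩ := f.two_group_conj (pElem_of h2)
  obtain ⟨n, hn⟩ := f.trans ht ht1 (hg s (Subgroup.mem_zpowers s)) (fun e => hs1 (conj_eq_one_iff.1 e))
  exact (isConj_iff.2 ⟨f.z ^ n, hn.symm⟩ : IsConj t (g * s * g⁻¹)).trans (isConj_iff.2 ⟨g, rfl⟩).symm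

theorem invol_cent_ne_top {s : G} (hs : s * s = 1) (hs1 : s ≠ 1) : centralizer ({s} : Set G) ≠ ⊤ := by
  intro h
  haveI : Fact (Nat.Prime 2) := ⟨Nat.prime_two⟩
  have hc : ∀ g : G, g * s = s * g := fun g =>
    Subgroup.mem_centralizer_singleton_iff.1 (h ▸ Subgroup.mem_top g)
  refine f.core.noTwo (Subgroup.zpowers s)
    (pElem_of (k := 1) (by rw [pow_one]; exact orderOf_eq_prime (by rw [sq, hs]) hs1))
    (fun e => hs1 (Subgroup.zpowers_eq_bot.1 e)) ⟨fun x hx g => ?_⟩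
  obtain ⟨i, rfl⟩ := Subgroup.mem_zpowers_iff.1 hx
  rw [((show Commute g s from hc g).zpow_right i).eq, mul_inv_cancel_right]
  exact zpow_mem (Subgroup.mem_zpowers s) i

theorem small_pgroup {H : Subgroup G} (hH : H ≠ ⊤) (heven : 2 ∣ Nat.card H) {y : G} (hy : y ∈ H)
    (hodd : Nat.Coprime (orderOf y) 2) : ∃ k : ℕ, y ^ p ^ k = 1 := by
  have hd : orderOf y ∣ Nat.card H := Subgroup.orderOf_dvd_natCard H hy
  refine ⟨(orderOf y).primeFactorsList.length, ?_⟩
  have : orderOf y = p ^ (orderOf y).primeFactorsList.length := by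
    refine Nat.eq_prime_pow_of_unique_prime_dvd (orderOf_pos y).ne' fun {d} hd1 hd2 => ?_
    rcases f.core.small H hH heven d hd1 (hd2.trans hd) with e | e
    · exact e
    · exfalso
      subst e
      exact absurd (Nat.eq_one_of_dvd_coprimes hodd hd2 dvd_rfl) (by norm_num)
  rw [← this, pow_orderOf_eq_one]

/-- The `p`-elements of a proper even subgroup form a normal subgroup, if they centralize its
2-subgroups. -/
theorem odd_part {H : Subgroup G} (hH : H ≠ ⊤) (heven : 2 ∣ Nat.card H)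
    (hcen : ∀ R : Subgroup G, R ≤ H → IsPGroup 2 R → ∀ y ∈ H, (∃ k : ℕ, y ^ p ^ k = 1) →
      y ∈ normalizer (R : Set G) → ∀ w ∈ R, y * w = w * y) :
    ∃ O : Subgroup G, O ≤ H ∧ IsPGroup p O ∧ H ≤ normalizer (O : Set G) ∧
      ∀ y ∈ H, (∃ k : ℕ, y ^ p ^ k = 1) → y ∈ O := by
  haveI : Fact (Nat.Prime 2) := ⟨Nat.prime_two⟩
  let S : Sylow 2 H := Classical.arbitrary _
  have hn : HasNormalPComplement 2 H := by
    refine H5.hasNormalPComplement_of_frobenius S fun R hR g hg hgc => ?_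
    refine Subgroup.mem_centralizer_iff.2 fun w hw => Subtype.ext ?_
    have hy := f.small_pgroup hH heven g.2 (by rwa [Subgroup.orderOf_coe])
    refine (hcen (R.map H.subtype) (map_subtype_le R) ((S.isPGroup'.to_le hR).map _) g g.2 hy ?_ w
      ⟨w, hw, rfl⟩).symm
    exact (le_normalizer_map H.subtype) ⟨g, hg, rfl⟩
  set L := pResidual 2 H with hL
  have hiff := fun y : H => H5.mem_pResidual_iff hn (x := y)
  refine ⟨L.map H.subtype, map_subtype_le L, ?_, ?_, ?_⟩
  · intro ⟨y, hy⟩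
    obtain ⟨w, hw, rfl⟩ := hy
    obtain ⟨k, hk⟩ := f.small_pgroup hH heven w.2 (by rw [Subgroup.orderOf_coe]; exact (hiff w).1 hw)
    exact ⟨k, Subtype.ext hk⟩
  · intro g hg
    have hn' : (⟨g, hg⟩ : H) ∈ normalizer (L : Set H) := by
      rw [normalizer_eq_top_iff.2 (inferInstance : L.Normal)]; exact Subgroup.mem_top _
    exact (le_normalizer_map H.subtype) ⟨⟨g, hg⟩, hn', rfl⟩
  · intro y hy ⟨k, hk⟩
    refine ⟨⟨y, hy⟩, (hiff _).2 ?_, rfl⟩
    rw [← Subgroup.orderOf_coe]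
    exact Nat.Coprime.coprime_dvd_left (orderOf_dvd_of_pow_eq_one hk)
      (((Nat.coprime_primes Fact.out Nat.prime_two).2 f.core.p_ne_two).pow_left k)

/-- A `p`-element centralizing an involution of a 2-group it normalizes centralizes the group. -/
theorem act_fix {R : Subgroup G} (hR : IsPGroup 2 R) {x : G} (hx : ∃ k : ℕ, x ^ p ^ k = 1)
    (hn : x ∈ normalizer (R : Set G)) {w : G} (hw : w ∈ R) (hw1 : w ≠ 1) (hc : x * w = w * x) :
    ∀ y ∈ R, x * y = y * x := by
  obtain ⟨k, hk⟩ := pElem_iff hx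
  rcases f.core.act R hR x k hk hn with h | ⟨-, h⟩
  · exact h
  · exact absurd (h w hw hc) hw1

theorem comm_of_pgroup {W : Subgroup G} (hW : IsPGroup p W) {a c : G} (ha : a ∈ W) (hc : c ∈ W) :
    a * c = c * a := by
  obtain ⟨P, hP⟩ := hW.exists_le_sylow
  exact f.core.pab P a (hP ha) c (hP hc)

/-- `z` commutes with a `p`-subgroup it normalizes. -/
theorem comm_of_normalized {W : Subgroup G} (hW : IsPGroup p W) {x : G} (hx : ∃ k : ℕ, x ^ p ^ k = 1)
    (hn : x ∈ normalizer (W : Set G)) {a : G} (ha : a ∈ W) : x * a = a * x := by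
  obtain ⟨k, hk⟩ := pElem_iff hx
  have h := IsPGroup.to_sup_of_normal_left' hW (pElem_of hk) (Subgroup.zpowers_le.2 hn)
  exact f.comm_of_pgroup h (Subgroup.mem_sup_right (Subgroup.mem_zpowers x)) (Subgroup.mem_sup_left ha)

/-- The `p`-elements of the centralizer of an involution. -/
theorem cent_invol {t : G} (ht2 : t * t = 1) (ht1 : t ≠ 1) :
    ∃ O : Subgroup G, O ≤ centralizer ({t} : Set G) ∧ IsPGroup p O ∧
      centralizer ({t} : Set G) ≤ normalizer (O : Set G) ∧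
      ∀ y : G, y * t = t * y → (∃ k : ℕ, y ^ p ^ k = 1) → y ∈ O := by
  haveI : Fact (Nat.Prime 2) := ⟨Nat.prime_two⟩
  have htC : t ∈ centralizer ({t} : Set G) := Subgroup.mem_centralizer_singleton_iff.2 rfl
  have ht : orderOf t = 2 := orderOf_eq_prime (by rw [sq, ht2]) ht1
  obtain ⟨O, h1, h2, h3, h4⟩ := f.odd_part (f.invol_cent_ne_top ht2 ht1)
    (ht ▸ Subgroup.orderOf_dvd_natCard _ htC) (fun R hR hR2 y hy hyp hn w hw => by
    have hT : IsPGroup 2 (Subgroup.zpowers t) := pElem_of (k := 1) (by rw [pow_one, ht])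
    have hnorm : R ≤ normalizer (Subgroup.zpowers t : Set G) := fun a ha => H35.CA.mem_norm_zpowers (by
      rw [show a * t * a⁻¹ = t from mul_inv_eq_iff_eq_mul.2 (Subgroup.mem_centralizer_singleton_iff.1 (hR ha))])
    have hR' := IsPGroup.to_sup_of_normal_right' hR2 hT hnorm
    have hy' : y * t = t * y := Subgroup.mem_centralizer_singleton_iff.1 hy
    have hyN : y ∈ normalizer ((R ⊔ Subgroup.zpowers t : Subgroup G) : Set G) :=
      H3.le_normalizer_sup (K := Subgroup.zpowers y) (Subgroup.zpowers_le.2 hn)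
        (Subgroup.zpowers_le.2 (H35.CA.mem_norm_zpowers (by rw [hy', mul_inv_cancel_right])))
        (Subgroup.mem_zpowers y)
    exact f.act_fix hR' hyp hyN (Subgroup.mem_sup_right (Subgroup.mem_zpowers t)) ht1 hy' w (Subgroup.mem_sup_left hw))
  exact ⟨O, h1, h2, h3, fun y hy hp => h4 y (Subgroup.mem_centralizer_singleton_iff.2 hy) hp⟩

/-- A proper subgroup containing `Q` and `z` normalizes `Q`. -/
theorem le_normQ {X : Subgroup G} (hX : X ≠ ⊤) (hQX : (f.Q : Subgroup G) ≤ X) (hzX : f.z ∈ X) :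
    X ≤ normalizer ((f.Q : Subgroup G) : Set G) := by
  haveI : Fact (Nat.Prime 2) := ⟨Nat.prime_two⟩
  obtain ⟨t, htQ, ht1, ht2⟩ := f.exists_ne_one
  have ht : orderOf t = 2 := orderOf_eq_prime (by rw [sq, ht2]) ht1
  have heven : 2 ∣ Nat.card X := ht ▸ Subgroup.orderOf_dvd_natCard X (hQX htQ)
  have hsmall : ∀ s : ℕ, s.Prime → s ∣ Nat.card X → s = p ∨ s = 2 := f.core.small X hX heven
  set R := (pCore 2 X).map X.subtype with hR
  have hR2 : IsPGroup 2 R := (Cfsg.Comp.pCore_isPGroup 2).map _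
  have hXR : X ≤ normalizer (R : Set G) := le_normalizer.trans (Cfsg.Comp.le_normalizer_map_subtype (pCore 2 X))
  by_cases hR1 : R = ⊥
  · exfalso
    rw [hR, Subgroup.map_eq_bot_iff_of_injective _ X.subtype_injective] at hR1
    haveI : Group.IsSolvable X := H33.isSolvable_of_two_primes (Fact.out : p.Prime) Nat.prime_two hsmall
    have hpp : pPrimeCore p X = ⊥ := by
      rw [← le_bot_iff, ← hR1]
      refine Cfsg.Comp.le_pCore inferInstance ?_
      have hcop := Cfsg.Comp.pPrimeCore_coprime (G := X) p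
      refine IsPGroup.of_card (n := (Nat.card (pPrimeCore p X)).primeFactorsList.length) ?_
      refine Nat.eq_prime_pow_of_unique_prime_dvd Nat.card_pos.ne' fun {d} hd1 hd2 => ?_
      rcases hsmall d hd1 (hd2.trans (card_subgroup_dvd_card _)) with e | e
      · exfalso
        subst e
        exact hd1.one_lt.ne' (Nat.eq_one_of_dvd_coprimes hcop hd2 dvd_rfl)
      · exact e
    have hC := H10.centralizer_pCore_le (H10.isPSolvable_of_isSolvable (G := X) (p := p)) hpp
    set F := pCore p X with hF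
    have hFp : IsPGroup p F := Cfsg.Comp.pCore_isPGroup p
    have hFn : F.Normal := inferInstance
    obtain ⟨k, hk⟩ := f.zpow_p
    have hzF : (⟨f.z, hzX⟩ : X) ∈ F := by
      refine hC (Subgroup.mem_centralizer_iff.2 fun w hw => Subtype.ext ?_)
      refine (f.comm_of_normalized (hFp.map X.subtype) f.zpow_p ?_ ⟨w, hw, rfl⟩).symm
      have hz' : (⟨f.z, hzX⟩ : X) ∈ normalizer (F : Set X) := by
        rw [normalizer_eq_top_iff.2 hFn]; exact Subgroup.mem_top _
      exact (le_normalizer_map X.subtype) ⟨⟨f.z, hzX⟩, hz', rfl⟩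
    apply ht1
    refine f.zfix t htQ ?_
    have h1 : (⟨f.z, hzX⟩ * ⟨t, hQX htQ⟩ * ⟨f.z, hzX⟩⁻¹ * ⟨t, hQX htQ⟩⁻¹ : X) ∈ F := by
      rw [mul_assoc (⟨f.z, hzX⟩ : X), mul_assoc (⟨f.z, hzX⟩ : X)]
      exact mul_mem hzF (by simpa [mul_assoc] using hFn.conj_mem _ (inv_mem hzF) ⟨t, hQX htQ⟩)
    have h2 : f.z * t * f.z⁻¹ * t⁻¹ ∈ (f.Q : Subgroup G) :=
      mul_mem ((Subgroup.mem_normalizer_iff.1 f.zN t).1 htQ) (inv_mem htQ)
    obtain ⟨i, hi⟩ := pgroup_elem hFp h1
    have h3 : f.z * t * f.z⁻¹ * t⁻¹ = 1 := eq_one_of_two_p f.core.p_ne_two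
      (pgroup_elem f.Q.isPGroup' h2) ⟨i, congrArg Subtype.val hi⟩
    exact mul_inv_eq_iff_eq_mul.1 (mul_inv_eq_one.1 h3)
  · have hRQ : R ≤ (f.Q : Subgroup G) := by
      have h := IsPGroup.to_sup_of_normal_right' f.Q.isPGroup' hR2 (hQX.trans hXR)
      rw [← f.Q.is_maximal' h le_sup_left]
      exact le_sup_right
    obtain ⟨k, hk⟩ := pElem_iff f.zpow_p
    rcases f.core.act R hR2 f.z k hk (hXR hzX) with h | ⟨h, -⟩
    · exfalso
      obtain ⟨⟨w, hw⟩, hw1⟩ := Subgroup.ne_bot_iff_exists_ne_one.1 hR1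
      exact hw1 (Subtype.ext (f.zfix w (hRQ hw) (h w hw)))
    · rwa [← Subgroup.eq_of_le_of_card_ge hRQ (by rw [f.core.q_card, h])]

/-- Two non-commuting involutions have a product of order divisible by `p`. -/
theorem dvd_order_prod {s t : G} (hs : s * s = 1) (ht : t * t = 1) (hne : ¬ s * t = t * s) :
    p ∣ orderOf (s * t) := by
  haveI : Fact (Nat.Prime 2) := ⟨Nat.prime_two⟩
  by_contra h
  apply hne
  set K := Subgroup.zpowers (s * t) with hK
  have hsinv : s⁻¹ = s := inv_eq_of_mul_eq_one_right hs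
  have htinv : t⁻¹ = t := inv_eq_of_mul_eq_one_right ht
  have hconj : s * (s * t) * s⁻¹ = (s * t)⁻¹ := by rw [mul_inv_rev, hsinv, htinv, ← mul_assoc, hs, one_mul]
  have hsN : s ∈ normalizer (K : Set G) :=
    H35.CA.mem_norm_zpowers (by rw [hconj, Subgroup.zpowers_inv])
  have hs2 : orderOf s ∣ 2 := orderOf_dvd_of_pow_eq_one (by rw [sq, hs])
  have hH := not_dvd_sup_zpowers (R := K) (x := s) (s := p) Fact.out (by rw [Nat.card_zpowers]; exact h)
    (fun hd => f.core.p_ne_two ((Nat.prime_dvd_prime_iff_eq Fact.out Nat.prime_two).1 (hd.trans hs2))) hsN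
  have hsmem : s ∈ K ⊔ Subgroup.zpowers s := Subgroup.mem_sup_right (Subgroup.mem_zpowers s)
  have hstmem : s * t ∈ K ⊔ Subgroup.zpowers s := Subgroup.mem_sup_left (Subgroup.mem_zpowers _)
  have htmem : t ∈ K ⊔ Subgroup.zpowers s := by
    rw [show t = s⁻¹ * (s * t) by group]
    exact mul_mem (inv_mem hsmem) hstmem
  by_cases hs1 : s = 1
  · rw [hs1, one_mul, mul_one]
  have hso : orderOf s = 2 := orderOf_eq_prime (by rw [sq, hs]) hs1
  have hne' : (K ⊔ Subgroup.zpowers s : Subgroup G) ≠ ⊤ := fun e => hH (by rw [e, Subgroup.card_top]; exact f.core.hpG)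
  have h2 : IsPGroup 2 (K ⊔ Subgroup.zpowers s : Subgroup G) := by
    refine IsPGroup.of_card (n := (Nat.card (K ⊔ Subgroup.zpowers s : Subgroup G)).primeFactorsList.length) ?_
    refine Nat.eq_prime_pow_of_unique_prime_dvd Nat.card_pos.ne' fun {d} hd1 hd2 => ?_
    rcases f.core.small _ hne' (hso ▸ Subgroup.orderOf_dvd_natCard _ hsmem) d hd1 hd2 with e | e
    · exact absurd (e ▸ hd2) hH
    · exact e
  exact f.two_group_comm h2 hsmem htmem

theorem exists_noncomm : ∃ s t : G, s * s = 1 ∧ t * t = 1 ∧ ¬ s * t = t * s := by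
  by_contra hc
  simp only [not_exists, not_and, not_not] at hc
  obtain ⟨t, htQ, ht1, ht2⟩ := f.exists_ne_one
  set N := normalClosure ({t} : Set G) with hN
  have hinv : ∀ x ∈ Group.conjugatesOfSet ({t} : Set G), x * x = 1 := by
    intro x hx
    rw [Group.mem_conjugatesOfSet_iff] at hx
    obtain ⟨a, ha, hconj⟩ := hx
    obtain ⟨g, rfl⟩ := isConj_iff.1 hconj
    rw [Set.mem_singleton_iff.1 ha, show g * t * g⁻¹ * (g * t * g⁻¹) = g * (t * t) * g⁻¹ by group, ht2]
    group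
  have hall : ∀ x ∈ N, x * x = 1 := by
    intro x hx
    induction hx using Subgroup.closure_induction with
    | mem x hx => exact hinv x hx
    | one => rw [one_mul]
    | mul x y _ _ hx hy =>
      calc x * y * (x * y) = x * (y * x) * y := by group
        _ = (x * x) * (y * y) := by rw [hc y x hy hx]; group
        _ = 1 := by rw [hx, hy, one_mul]
    | inv x _ hx => rw [← mul_inv_rev, hx, inv_one]
  exact f.core.noTwo N (fun x => ⟨1, Subtype.ext (by rw [pow_one, sq]; exact hall x x.2)⟩)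
    (fun e => ht1 (Subgroup.mem_bot.1 (e ▸ (Subgroup.subset_normalClosure (Set.mem_singleton t) : t ∈ N))))
    normalClosure_normal

/-- An involution normalizing some Sylow `p`-subgroup without centralizing it. -/
theorem exists_normalizing : ∃ (P : Sylow p G) (u : G), u * u = 1 ∧ u ∈ normalizer ((P : Subgroup G) : Set G) ∧
    ∃ x ∈ (P : Subgroup G), u * x * u⁻¹ = x⁻¹ ∧ x ≠ 1 := by
  haveI : Fact (Nat.Prime 2) := ⟨Nat.prime_two⟩
  obtain ⟨s, t, hs, ht, hne⟩ := f.exists_noncomm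
  obtain ⟨c, hc⟩ := f.dvd_order_prod hs ht hne
  have hcne : c ≠ 0 := by intro e; rw [e, mul_zero] at hc; exact (orderOf_pos _).ne' hc
  set x := (s * t) ^ c with hx
  have hxord : orderOf x = p := by
    rw [hx, orderOf_pow' _ hcne, hc, Nat.gcd_mul_left_left, Nat.mul_div_cancel _ (Nat.pos_of_ne_zero hcne)]
  have hx1 : x ≠ 1 := fun e => by rw [e, orderOf_one] at hxord; exact (Fact.out : p.Prime).one_lt.ne hxord
  have hsx : s * x * s⁻¹ = x⁻¹ := by
    have hconj : s * (s * t) * s⁻¹ = (s * t)⁻¹ := by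
      rw [mul_inv_rev, inv_eq_of_mul_eq_one_right hs, inv_eq_of_mul_eq_one_right ht, ← mul_assoc, hs, one_mul]
    rw [hx, ← conj_pow, hconj, inv_pow]
  obtain ⟨P, hP⟩ := (pElem_of (k := 1) (by rw [hxord, pow_one]) : IsPGroup p (Subgroup.zpowers x)).exists_le_sylow
  have hxP : x ∈ (P : Subgroup G) := hP (Subgroup.mem_zpowers x)
  set Cx := centralizer ({x} : Set G) with hCx
  have hPC : (P : Subgroup G) ≤ Cx := fun y hy => Subgroup.mem_centralizer_singleton_iff.2 (f.core.pab P y hy x hxP)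
  have hsP : ((s • P : Sylow p G) : Subgroup G) ≤ Cx := by
    rw [Sylow.coe_subgroup_smul, Subgroup.pointwise_smul_def]
    rintro y ⟨w, hw, rfl⟩
    refine Subgroup.mem_centralizer_singleton_iff.2 ?_
    show s * w * s⁻¹ * x = x * (s * w * s⁻¹)
    have hxe : x = s * x⁻¹ * s⁻¹ := by rw [show s * x⁻¹ * s⁻¹ = (s * x * s⁻¹)⁻¹ by group, hsx, inv_inv]
    conv_lhs => rw [hxe]
    conv_rhs => rw [hxe]
    have hw' : w * x⁻¹ = x⁻¹ * w := f.core.pab P w hw _ (inv_mem hxP)
    calc s * w * s⁻¹ * (s * x⁻¹ * s⁻¹) = s * (w * x⁻¹) * s⁻¹ := by group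
      _ = s * (x⁻¹ * w) * s⁻¹ := by rw [hw']
      _ = _ := by group
  obtain ⟨k, hk⟩ := MulAction.exists_smul_eq Cx ((s • P : Sylow p G).subtype hsP) (P.subtype hPC)
  have hk' : (((k : G) * s) • P : Sylow p G) = P := by
    rw [mul_smul]
    refine Sylow.subtype_injective (hP := ?_) (hQ := hPC) ?_
    · rw [Sylow.coe_subgroup_smul, Subgroup.pointwise_smul_def]
      rintro y ⟨w, hw, rfl⟩
      exact mul_mem (mul_mem k.2 (hsP hw)) (inv_mem k.2)
    · rw [← hk, Sylow.smul_subtype]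
      rfl
  have hwN : (k : G) * s ∈ normalizer ((P : Subgroup G) : Set G) := Sylow.smul_eq_iff_mem_normalizer.1 hk'
  set w := (k : G) * s with hw
  have hkx : (k : G) * x = x * k := Subgroup.mem_centralizer_singleton_iff.1 k.2
  have hwx : w * x * w⁻¹ = x⁻¹ := by
    rw [hw, show (k : G) * s * x * ((k : G) * s)⁻¹ = k * (s * x * s⁻¹) * (k : G)⁻¹ by group, hsx]
    rw [show (k : G) * x⁻¹ * (k : G)⁻¹ = ((k : G) * x * (k : G)⁻¹)⁻¹ by group, hkx, mul_inv_cancel_right]
  obtain ⟨u, v, huv, hu, hv, hu', hv'⟩ := H5.exists_p_decomposition (p := 2) w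
  have hpow : ∀ i : ℕ, (v ^ i) * x * (v ^ i)⁻¹ = x ∨ (v ^ i) * x * (v ^ i)⁻¹ = x⁻¹ := by
    intro i
    obtain ⟨l, hl⟩ := (mem_powers_iff_mem_zpowers.2 hv' : v ∈ Submonoid.powers w)
    replace hl : w ^ l = v := hl
    rw [← hl, ← pow_mul]
    generalize l * i = n
    induction n with
    | zero => left; simp
    | succ n ih =>
      rcases ih with e | e
      · right; calc w ^ (n + 1) * x * (w ^ (n + 1))⁻¹ = w * (w ^ n * x * (w ^ n)⁻¹) * w⁻¹ := by rw [pow_succ']; group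
          _ = x⁻¹ := by rw [e, hwx]
      · left; calc w ^ (n + 1) * x * (w ^ (n + 1))⁻¹ = w * (w ^ n * x * (w ^ n)⁻¹) * w⁻¹ := by rw [pow_succ']; group
          _ = x := by rw [e, show w * x⁻¹ * w⁻¹ = (w * x * w⁻¹)⁻¹ by group, hwx, inv_inv]
  have hvfix : v * x * v⁻¹ = x := by
    have h2 : (v ^ 2) * x * (v ^ 2)⁻¹ = x := by
      rw [show v ^ 2 * x * (v ^ 2)⁻¹ = v * (v * x * v⁻¹) * v⁻¹ by rw [sq]; group]
      rcases hpow 1 with e | e <;> rw [pow_one] at e
      · rw [e, e]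
      · rw [e, show v * x⁻¹ * v⁻¹ = (v * x * v⁻¹)⁻¹ by group, e, inv_inv]
    obtain ⟨m, hm⟩ := exists_pow_eq_self_of_coprime (x := v) (n := 2) hv.symm
    have hc : Commute (v ^ 2) x := mul_inv_eq_iff_eq_mul.1 h2
    have := hc.pow_left m
    rw [hm] at this
    exact mul_inv_eq_iff_eq_mul.2 this.eq
  refine ⟨P, u, f.two_elem hu, Subgroup.zpowers_le.2 hwN hu', x, hxP, ?_, hx1⟩
  rw [← hwx, huv, show u * v * x * (u * v)⁻¹ = u * (v * x * v⁻¹) * u⁻¹ by group, hvfix]

/-- No element of order a power of `p` centralizes `Q`. -/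
theorem cent_Q {c : G} (hc : ∃ k : ℕ, c ^ p ^ k = 1) (hcQ : ∀ y ∈ (f.Q : Subgroup G), c * y = y * c) :
    c = 1 := by
  haveI : Fact (Nat.Prime 2) := ⟨Nat.prime_two⟩
  obtain ⟨t, htQ, ht1, ht2⟩ := f.exists_ne_one
  -- reduce to order `p`
  suffices key : ∀ c : G, orderOf c = p → (∀ y ∈ (f.Q : Subgroup G), c * y = y * c) → False by
    by_contra hc1
    obtain ⟨k, hk⟩ := pElem_iff hc
    rcases Nat.eq_zero_or_pos k with e | e
    · rw [e, pow_zero] at hk; exact hc1 (orderOf_eq_one_iff.1 hk)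
    obtain ⟨i, rfl⟩ : ∃ i, k = i + 1 := ⟨k - 1, by omega⟩
    refine key (c ^ p ^ i) ?_ fun y hy => ((show Commute c y from hcQ y hy).pow_left _).eq
    rw [orderOf_pow_of_dvd (pow_ne_zero _ (Fact.out : p.Prime).ne_zero) (by rw [hk]; exact pow_dvd_pow p (by omega)),
      hk, pow_succ, Nat.mul_div_cancel_left _ (pow_pos (Fact.out : p.Prime).pos i)]
  clear hc hcQ c
  intro c hcp hcQ
  have hc1 : c ≠ 1 := fun e => by rw [e, orderOf_one] at hcp; exact (Fact.out : p.Prime).one_lt.ne hcp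
  have hcpow : ∃ k : ℕ, c ^ p ^ k = 1 := ⟨1, by rw [pow_one, ← hcp, pow_orderOf_eq_one]⟩
  -- `z` commutes with every `p`-element centralizing `Q`
  set CQ := centralizer ((f.Q : Subgroup G) : Set G) with hCQ
  have hCQt : CQ ≠ ⊤ := fun e => f.invol_cent_ne_top ht2 ht1 (top_le_iff.1 (e ▸
    Subgroup.centralizer_le (Set.singleton_subset_iff.2 htQ)))
  have htCQ : t ∈ CQ := Subgroup.mem_centralizer_iff.2 fun y hy => f.q_comm hy htQ
  have ht : orderOf t = 2 := orderOf_eq_prime (by rw [sq, ht2]) ht1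
  obtain ⟨O, hO1, hO2, hO3, hO4⟩ := f.odd_part hCQt (ht ▸ Subgroup.orderOf_dvd_natCard CQ htCQ)
    (fun R hR hR2 y hy hyp hn w hw => by
      have hw' : w ∈ (f.Q : Subgroup G) := by
        have hn' : R ≤ normalizer ((f.Q : Subgroup G) : Set G) := hR.trans (centralizer_le_normalizer _)
        rw [← f.Q.is_maximal' (IsPGroup.to_sup_of_normal_left' f.Q.isPGroup' hR2 hn') le_sup_left]
        exact Subgroup.mem_sup_right hw
      exact ((Subgroup.mem_centralizer_iff.1 hy) w hw').symm)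
  have hzO : f.z ∈ normalizer (O : Set G) := by
    rw [H3.mem_normalizer_iff_smul]
    refine Subgroup.eq_of_le_of_card_ge ?_ ?_
    · intro y hy
      rw [Subgroup.mem_pointwise_smul_iff_inv_smul_mem, MulAut.smul_def, ← map_inv, MulAut.conj_apply, inv_inv] at hy
      refine hO4 y (Subgroup.mem_centralizer_iff.2 fun a ha => ?_) ?_
      · have ha' : f.z⁻¹ * a * f.z ∈ (f.Q : Subgroup G) := by
          have := (Subgroup.mem_normalizer_iff.1 (inv_mem f.zN) a).1 ha
          rwa [inv_inv] at this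
        have h := Subgroup.mem_centralizer_iff.1 (hO1 hy) _ ha'
        calc a * y = f.z * (f.z⁻¹ * a * f.z * (f.z⁻¹ * y * f.z)) * f.z⁻¹ := by group
          _ = y * a := by rw [h]; group
      · obtain ⟨k, hk⟩ := pgroup_elem hO2 hy
        refine ⟨k, ?_⟩
        have : (f.z⁻¹ * y * f.z⁻¹⁻¹) ^ p ^ k = 1 := by rw [inv_inv]; exact hk
        rw [conj_pow] at this
        exact conj_eq_one_iff.1 this
    · rw [Subgroup.pointwise_smul_def]
      exact (Subgroup.card_map_of_injective (K := O)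
        (f := MulDistribMulAction.toMonoidEnd (MulAut G) G (MulAut.conj f.z)) (MulAut.conj f.z).injective).ge
  have hzcomm : ∀ a : G, (∃ k : ℕ, a ^ p ^ k = 1) → (∀ y ∈ (f.Q : Subgroup G), a * y = y * a) →
      f.z * a = a * f.z := fun a ha haQ => f.comm_of_normalized hO2 f.zpow_p hzO
    (hO4 a (Subgroup.mem_centralizer_iff.2 fun y hy => (haQ y hy).symm) ha)
  have hzc := hzcomm c hcpow hcQ
  -- subgroups over `Q` and `z`
  have hCc : centralizer ({c} : Set G) ≤ normalizer ((f.Q : Subgroup G) : Set G) :=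
    f.le_normQ (f.core.noCenter c hcp) (fun y hy => Subgroup.mem_centralizer_singleton_iff.2 (hcQ y hy).symm)
      (Subgroup.mem_centralizer_singleton_iff.2 hzc)
  have hNc : normalizer (Subgroup.zpowers c : Set G) ≤ normalizer ((f.Q : Subgroup G) : Set G) := by
    refine f.le_normQ (fun e => ?_) (fun y hy => H35.CA.mem_norm_zpowers (by
      rw [← hcQ y hy, mul_inv_cancel_right])) (H35.CA.mem_norm_zpowers (by rw [hzc, mul_inv_cancel_right]))
    -- a normal `⟨c⟩` would be centralized by every involution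
    obtain ⟨s', t', hs', ht', hne⟩ := f.exists_noncomm
    apply hne
    have hn := normalizer_eq_top_iff.1 e
    have hcen : ∀ s : G, s * s = 1 → s * c = c * s := by
      intro s hs
      by_cases hs1 : s = 1
      · rw [hs1, one_mul, mul_one]
      obtain ⟨g, rfl⟩ := isConj_iff.1 (f.invol_conj hs hs1 htQ ht1)
      obtain ⟨i, hi⟩ := Subgroup.mem_zpowers_iff.1 (hn.conj_mem c (Subgroup.mem_zpowers c) g⁻¹)
      rw [inv_inv] at hi
      have h1 : t * (g⁻¹ * c * g) = g⁻¹ * c * g * t := by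
        rw [← hi]; exact ((show Commute c t from hcQ t htQ).zpow_left i).symm.eq
      calc g * t * g⁻¹ * c = g * (t * (g⁻¹ * c * g)) * g⁻¹ := by group
        _ = c * (g * t * g⁻¹) := by rw [h1]; group
    have hle : centralizer ({c} : Set G) ≤ normalizer ((f.Q : Subgroup G) : Set G) := hCc
    have hmem : ∀ s : G, s * s = 1 → s ∈ (f.Q : Subgroup G) := by
      intro s hs
      have hsN : s ∈ normalizer ((f.Q : Subgroup G) : Set G) :=
        hle (Subgroup.mem_centralizer_singleton_iff.2 (hcen s hs))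
      by_cases hs1 : s = 1
      · rw [hs1]; exact one_mem _
      have h2 : IsPGroup 2 (Subgroup.zpowers s) :=
        pElem_of (k := 1) (by rw [pow_one]; exact orderOf_eq_prime (by rw [sq, hs]) hs1)
      rw [← f.Q.is_maximal' (IsPGroup.to_sup_of_normal_left' f.Q.isPGroup' h2 (Subgroup.zpowers_le.2 hsN)) le_sup_left]
      exact Subgroup.mem_sup_right (Subgroup.mem_zpowers s)
    exact f.q_comm (hmem s' hs') (hmem t' ht')
  -- a Sylow subgroup through `c` and `z` with a normalizing involution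
  obtain ⟨k0, hk0⟩ := pElem_iff f.zpow_p
  have hW : IsPGroup p (Subgroup.zpowers c ⊔ Subgroup.zpowers f.z : Subgroup G) :=
    IsPGroup.to_sup_of_normal_left' (pElem_of (k := 1) (by rw [pow_one, hcp])) (pElem_of hk0)
      (Subgroup.zpowers_le.2 (H35.CA.mem_norm_zpowers (by rw [hzc, mul_inv_cancel_right])))
  obtain ⟨P, hP⟩ := hW.exists_le_sylow
  have hcP : c ∈ (P : Subgroup G) := hP (Subgroup.mem_sup_left (Subgroup.mem_zpowers c))
  have hzP : f.z ∈ (P : Subgroup G) := hP (Subgroup.mem_sup_right (Subgroup.mem_zpowers f.z))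
  obtain ⟨P₀, u₀, hu₀, hu₀N, x₀, hx₀, hu₀x, hx₀1⟩ := f.exists_normalizing
  obtain ⟨g, hg⟩ := MulAction.exists_smul_eq G P₀ P
  set u := g * u₀ * g⁻¹ with hu
  have hu2 : u * u = 1 := by rw [hu, show g * u₀ * g⁻¹ * (g * u₀ * g⁻¹) = g * (u₀ * u₀) * g⁻¹ by group, hu₀]; group
  have hu1 : u ≠ 1 := by
    intro e
    rw [hu, conj_eq_one_iff] at e
    rw [e, one_mul, inv_one, mul_one] at hu₀x
    exact hx₀1 (eq_one_of_two_p f.core.p_ne_two
      ⟨1, by rw [pow_one, sq]; exact mul_eq_one_iff_eq_inv.2 hu₀x⟩ (pgroup_elem P₀.isPGroup' hx₀))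
  have huinv : u⁻¹ = u := inv_eq_of_mul_eq_one_right hu2
  have huP : u ∈ normalizer ((P : Subgroup G) : Set G) := by
    refine Sylow.smul_eq_iff_mem_normalizer.1 ?_
    rw [hu, mul_smul, mul_smul, ← hg, inv_smul_smul, Sylow.smul_eq_iff_mem_normalizer.2 hu₀N]
  have hPN : (P : Subgroup G) ≤ normalizer ((f.Q : Subgroup G) : Set G) := fun y hy =>
    hCc (Subgroup.mem_centralizer_singleton_iff.2 (f.core.pab P y hy c hcP))
  -- conjugation by `u` of elements of `P`
  have hconjP : ∀ y ∈ (P : Subgroup G), u * y * u ∈ (P : Subgroup G) := fun y hy => by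
    have := (Subgroup.mem_normalizer_iff.1 huP y).1 hy
    rwa [huinv] at this
  have huQ : u ∉ normalizer ((f.Q : Subgroup G) : Set G) := by
    intro hu'
    have h2 : IsPGroup 2 (Subgroup.zpowers u) :=
      pElem_of (k := 1) (by rw [pow_one]; exact orderOf_eq_prime (by rw [sq, hu2]) hu1)
    have huQ' : u ∈ (f.Q : Subgroup G) := by
      rw [← f.Q.is_maximal' (IsPGroup.to_sup_of_normal_left' f.Q.isPGroup' h2 (Subgroup.zpowers_le.2 hu')) le_sup_left]
      exact Subgroup.mem_sup_right (Subgroup.mem_zpowers u)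
    apply hu1
    refine f.zfix u huQ' ?_
    have h1 : u * f.z * u⁻¹ * f.z⁻¹ ∈ (P : Subgroup G) :=
      mul_mem ((Subgroup.mem_normalizer_iff.1 huP _).1 hzP) (inv_mem hzP)
    have h2' : u * (f.z * u⁻¹ * f.z⁻¹) ∈ (f.Q : Subgroup G) :=
      mul_mem huQ' ((Subgroup.mem_normalizer_iff.1 f.zN _).1 (inv_mem huQ'))
    rw [← mul_assoc, ← mul_assoc] at h2'
    have h3 := eq_one_of_two_p f.core.p_ne_two (pgroup_elem f.Q.isPGroup' h2') (pgroup_elem P.isPGroup' h1)
    exact (mul_inv_eq_iff_eq_mul.1 (mul_inv_eq_one.1 h3)).symm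
  set y := c * (u * c * u) with hy
  have hyP : y ∈ (P : Subgroup G) := mul_mem hcP (hconjP c hcP)
  have hy1 : y ≠ 1 := fun e => huQ (hNc (H35.CA.mem_norm_zpowers (by
    rw [huinv, eq_inv_of_mul_eq_one_right e, Subgroup.zpowers_inv])))
  have hyu : u * y = y * u := by
    calc u * y = (u * c * u) * c * u := by rw [hy]; rw [show u * (c * (u * c * u)) = u * c * u * c * u by group]
      _ = y * u := by rw [f.core.pab P _ (hconjP c hcP) c hcP]
  -- move `u` to `t`
  obtain ⟨h, hh⟩ := isConj_iff.1 (f.invol_conj hu2 hu1 htQ ht1)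
  set y' := h⁻¹ * y * h with hy'
  have hy't : y' * t = t * y' := by
    rw [← hh] at hyu
    calc y' * t = h⁻¹ * (y * (h * t * h⁻¹)) * h := by rw [hy']; group
      _ = h⁻¹ * (h * t * h⁻¹ * y) * h := by rw [hyu]
      _ = t * y' := by rw [hy']; group
  have hy'p : ∃ k : ℕ, y' ^ p ^ k = 1 := by
    obtain ⟨k, hk⟩ := pgroup_elem P.isPGroup' hyP
    refine ⟨k, ?_⟩
    rw [hy', show h⁻¹ * y * h = h⁻¹ * y * h⁻¹⁻¹ by group, conj_pow, hk]; group
  obtain ⟨Θ, -, hΘp, -, hΘ⟩ := f.cent_invol ht2 ht1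
  have hy'c : y' * c = c * y' := f.comm_of_pgroup hΘp (hΘ y' hy't hy'p) (hΘ c (hcQ t htQ) hcpow)
  have hy'Q : ∀ a ∈ (f.Q : Subgroup G), y' * a = a * y' :=
    f.act_fix f.Q.isPGroup' hy'p (hCc (Subgroup.mem_centralizer_singleton_iff.2 hy'c)) htQ ht1 hy't
  have hzy' := hzcomm y' hy'p hy'Q
  -- an element of order `p` among the powers of `y'`
  have hy'1 : y' ≠ 1 := fun e => hy1 (by
    rw [hy', show h⁻¹ * y * h = h⁻¹ * y * h⁻¹⁻¹ by group] at e; exact conj_eq_one_iff.1 e)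
  obtain ⟨i, hi⟩ := pElem_iff hy'p
  have hipos : 0 < i := by
    rcases Nat.eq_zero_or_pos i with e | e
    · rw [e, pow_zero] at hi; exact absurd (orderOf_eq_one_iff.1 hi) hy'1
    · exact e
  obtain ⟨i, rfl⟩ : ∃ l, i = l + 1 := ⟨i - 1, by omega⟩
  have hyp' : orderOf (y' ^ p ^ i) = p := by
    rw [orderOf_pow_of_dvd (pow_ne_zero _ (Fact.out : p.Prime).ne_zero) (by rw [hi]; exact pow_dvd_pow p (by omega)),
      hi, pow_succ, Nat.mul_div_cancel_left _ (pow_pos (Fact.out : p.Prime).pos i)]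
  have hCy' : centralizer ({y' ^ p ^ i} : Set G) ≤ normalizer ((f.Q : Subgroup G) : Set G) :=
    f.le_normQ (f.core.noCenter _ hyp')
      (fun a ha => Subgroup.mem_centralizer_singleton_iff.2
        (((show Commute y' a from hy'Q a ha).pow_left _).symm.eq))
      (Subgroup.mem_centralizer_singleton_iff.2 ((show Commute f.z y' from hzy').pow_right _).eq)
  have hc' : h⁻¹ * c * h ∈ normalizer ((f.Q : Subgroup G) : Set G) := by
    refine hCy' (Subgroup.mem_centralizer_singleton_iff.2 ?_)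
    have hcm : Commute (h⁻¹ * c * h) y' := by
      show h⁻¹ * c * h * y' = y' * (h⁻¹ * c * h)
      rw [hy']
      calc h⁻¹ * c * h * (h⁻¹ * y * h) = h⁻¹ * (c * y) * h := by group
        _ = h⁻¹ * (y * c) * h := by rw [f.core.pab P c hcP y hyP]
        _ = _ := by group
    exact (hcm.pow_right _).eq
  apply huQ
  refine hCc (Subgroup.mem_centralizer_singleton_iff.2 ?_)
  have hcu : u * c * u⁻¹ * c⁻¹ = 1 := by
    refine eq_one_of_two_p f.core.p_ne_two ?_ (pgroup_elem P.isPGroup'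
      (mul_mem ((Subgroup.mem_normalizer_iff.1 huP c).1 hcP) (inv_mem hcP)))
    have h1 : t * ((h⁻¹ * c * h) * t⁻¹ * (h⁻¹ * c * h)⁻¹) ∈ (f.Q : Subgroup G) :=
      mul_mem htQ ((Subgroup.mem_normalizer_iff.1 hc' _).1 (inv_mem htQ))
    obtain ⟨k, hk⟩ := pgroup_elem f.Q.isPGroup' h1
    refine ⟨k, ?_⟩
    rw [show u * c * u⁻¹ * c⁻¹ = h * (t * ((h⁻¹ * c * h) * t⁻¹ * (h⁻¹ * c * h)⁻¹)) * h⁻¹ by
      rw [← hh]; group, conj_pow, hk]
    group
  exact mul_inv_eq_iff_eq_mul.1 (mul_inv_eq_one.1 hcu)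

end Frame

end H35.TP
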