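import Cfsg.Agent.H35.TwoPrimeMixed

/-!
The two configurations left by `H35.TP.Frame` are impossible; the main induction.
-/

set_option autoImplicit false
set_option linter.all false
set_option maxHeartbeats 1000000

open Cfsg Subgroup
open scoped Pointwise

namespace H35.TP

universe u

variable {G : Type u} [Group G] [Finite G] {p q r : ℕ} [Fact p.Prime] [Fact q.Prime]

omit [Fact q.Prime] in
theorem order_p_pow {x : G} (hx : orderOf x = p) : ∃ k : ℕ, x ^ p ^ k = 1 :=
  ⟨1, by rw [pow_one, ← hx, pow_orderOf_eq_one]⟩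

omit [Fact q.Prime] in
theorem ne_one_of_order_p {x : G} (hx : orderOf x = p) : x ≠ 1 := fun e => by
  rw [e, orderOf_one] at hx; exact (Fact.out : p.Prime).one_lt.ne hx

omit [Fact q.Prime] in
theorem exists_pow_order_p {g : G} (h : p ∣ orderOf g) : ∃ n : ℕ, orderOf (g ^ n) = p := by
  obtain ⟨c, hc⟩ := h
  have hcpos : c ≠ 0 := by
    intro e; rw [e, mul_zero] at hc; exact (orderOf_pos g).ne' hc
  refine ⟨c, ?_⟩
  rw [orderOf_pow' _ hcpos, hc, Nat.gcd_mul_left_left, Nat.mul_div_cancel _ (Nat.pos_of_ne_zero hcpos)]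

omit [Fact q.Prime] in
theorem exists_pow_order_p' {g : G} (h : ∃ k : ℕ, g ^ p ^ k = 1) (h1 : g ≠ 1) : ∃ n : ℕ, orderOf (g ^ n) = p := by
  obtain ⟨k, hk⟩ := pElem_iff h
  refine exists_pow_order_p ?_
  rw [hk]
  exact dvd_pow_self p fun e => h1 (orderOf_eq_one_iff.1 (by rw [hk, e, pow_zero]))

omit [Fact q.Prime] in
theorem conj_pPow {g x : G} (h : ∃ k : ℕ, x ^ p ^ k = 1) : ∃ k : ℕ, (g * x * g⁻¹) ^ p ^ k = 1 := by
  obtain ⟨k, hk⟩ := h
  exact ⟨k, by rw [conj_pow, hk]; group⟩

/-- A fixed-point-free involutory automorphism inverts. -/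
theorem inverts_of_fpf {H : Subgroup G} {u : G} (hu : u * u = 1) (hn : ∀ y ∈ H, u * y * u ∈ H)
    (hf : ∀ y ∈ H, u * y = y * u → y = 1) {y : G} (hy : y ∈ H) : u * y * u = y⁻¹ := by
  let F : H → H := fun w => ⟨(w : G)⁻¹ * (u * w * u), mul_mem (inv_mem w.2) (hn w w.2)⟩
  have hF : Function.Injective F := by
    rintro ⟨a, ha⟩ ⟨b, hb⟩ h
    have h' : a⁻¹ * (u * a * u) = b⁻¹ * (u * b * u) := congrArg Subtype.val h
    have huinv : u⁻¹ = u := inv_eq_of_mul_eq_one_right hu
    have h1 : b * a⁻¹ = u * (b * a⁻¹) * u := by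
      calc b * a⁻¹ = b * (a⁻¹ * (u * a * u)) * (u * a * u)⁻¹ := by group
        _ = b * (b⁻¹ * (u * b * u)) * (u * a * u)⁻¹ := by rw [h']
        _ = u * b * (u * u⁻¹) * a⁻¹ * u⁻¹ := by group
        _ = u * (b * a⁻¹) * u := by rw [huinv, hu]; group
    have h2 := hf _ (mul_mem hb (inv_mem ha)) (by
      conv_lhs => rw [h1, ← mul_assoc, ← mul_assoc, hu, one_mul])
    exact Subtype.ext (mul_inv_eq_one.1 h2).symm
  obtain ⟨⟨g, hg⟩, hg'⟩ := (Finite.injective_iff_surjective.1 hF) ⟨y, hy⟩
  have hg'' : g⁻¹ * (u * g * u) = y := congrArg Subtype.val hg'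
  rw [← hg'', show u * (g⁻¹ * (u * g * u)) * u = u * g⁻¹ * u * g * (u * u) by group, hu, mul_one,
    mul_inv_rev, inv_inv, mul_inv_rev, mul_inv_rev, inv_eq_of_mul_eq_one_right hu]
  group

namespace Frame

variable (f : Frame G p)
include f

theorem normQ_ne_top : normalizer ((f.Q : Subgroup G) : Set G) ≠ ⊤ := fun h => by
  refine f.core.noTwo _ f.Q.isPGroup' (fun e => ?_) (normalizer_eq_top_iff.1 h)
  have h1 := f.core.q_card f.Q
  rw [e, Subgroup.card_bot] at h1
  have := (Fact.out : p.Prime).pos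
  omega

/-- An element of the normalizer of `Q` that commutes with an involution of `Q` lies in `Q`. -/
theorem norm_cent_mem {t y : G} (ht : t ∈ (f.Q : Subgroup G)) (ht1 : t ≠ 1)
    (hy : y ∈ normalizer ((f.Q : Subgroup G) : Set G)) (hc : y * t = t * y) : y ∈ (f.Q : Subgroup G) := by
  haveI : Fact (Nat.Prime 2) := ⟨Nat.prime_two⟩
  obtain ⟨u, v, huv, hu, hv, hu', hv'⟩ := H5.exists_p_decomposition (p := 2) y
  have huN := Subgroup.zpowers_le.2 hy hu'
  have hvN := Subgroup.zpowers_le.2 hy hv'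
  have huQ : u ∈ (f.Q : Subgroup G) := by
    obtain ⟨k, hk⟩ := hu
    obtain ⟨i, -, hi⟩ := (Nat.dvd_prime_pow Nat.prime_two).1 (orderOf_dvd_of_pow_eq_one hk)
    rw [← f.Q.is_maximal' (IsPGroup.to_sup_of_normal_left' f.Q.isPGroup' (pElem_of hi) (Subgroup.zpowers_le.2 huN)) le_sup_left]
    exact Subgroup.mem_sup_right (Subgroup.mem_zpowers u)
  have ht2 := f.sq_one ht
  have heven : 2 ∣ Nat.card (normalizer ((f.Q : Subgroup G) : Set G)) := by
    have hto : orderOf t = 2 := orderOf_eq_prime (by rw [sq, ht2]) ht1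
    exact (dvd_of_eq hto.symm).trans (Subgroup.orderOf_dvd_natCard _ (le_normalizer ht))
  have hvp := f.small_pgroup f.normQ_ne_top heven hvN hv
  have hvt : v * t = t * v := by
    obtain ⟨i, rfl⟩ := Subgroup.mem_zpowers_iff.1 hv'
    exact ((show Commute y t from hc).zpow_left i).eq
  have hv1 : v = 1 := f.cent_Q hvp (f.act_fix f.Q.isPGroup' hvp hvN ht ht1 hvt)
  rw [huv, hv1, mul_one]; exact huQ

/-- The normalizer of `Q` has order `p (p + 1)`. -/
theorem normQ_card : Nat.card (normalizer ((f.Q : Subgroup G) : Set G)) = p * (p + 1) := by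
  classical
  obtain ⟨t, htQ, ht1, -⟩ := f.exists_ne_one
  set N := normalizer ((f.Q : Subgroup G) : Set G) with hN
  let J := {v : G // v ∈ (f.Q : Subgroup G) ∧ v ≠ 1}
  letI act : MulAction N J :=
    { smul := fun g v => ⟨(g : G) * v.1 * (g : G)⁻¹, (Subgroup.mem_normalizer_iff.1 g.2 v.1).1 v.2.1,
        fun e => v.2.2 (conj_eq_one_iff.1 e)⟩
      one_smul := fun v => Subtype.ext (show (1 : G) * v.1 * (1 : G)⁻¹ = v.1 by group)
      mul_smul := fun a b v => Subtype.ext (show ((a : G) * b) * v.1 * ((a : G) * b)⁻¹ =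
        (a : G) * ((b : G) * v.1 * (b : G)⁻¹) * (a : G)⁻¹ by group) }
  let v0 : J := ⟨t, htQ, ht1⟩
  have horb : MulAction.orbit N v0 = Set.univ := by
    refine Set.eq_univ_of_forall fun v => ?_
    obtain ⟨n, hn⟩ := f.trans htQ ht1 v.2.1 v.2.2
    exact ⟨⟨f.z ^ n, pow_mem f.zN n⟩, Subtype.ext hn.symm⟩
  have hJ : Nat.card J = p := by
    have hJ' : Nat.card J = Nat.card {v : (f.Q : Subgroup G) // v ≠ 1} := Nat.card_congr
      { toFun := fun v => ⟨⟨v.1, v.2.1⟩, fun e => v.2.2 (congrArg Subtype.val e)⟩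
        invFun := fun v => ⟨v.1.1, v.1.2, fun e => v.2 (Subtype.ext e)⟩
        left_inv := fun _ => rfl
        right_inv := fun _ => rfl }
    haveI : Fintype (f.Q : Subgroup G) := Fintype.ofFinite _
    rw [hJ', Nat.card_eq_fintype_card, Fintype.card_subtype_compl, Fintype.card_subtype_eq,
      ← Nat.card_eq_fintype_card, f.core.q_card]
    omega
  have hst : MulAction.stabilizer N v0 = (f.Q : Subgroup G).subgroupOf N := by
    ext g
    rw [MulAction.mem_stabilizer_iff, Subgroup.mem_subgroupOf]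
    constructor
    · intro h
      exact f.norm_cent_mem htQ ht1 g.2 (mul_inv_eq_iff_eq_mul.1 (congrArg Subtype.val h))
    · intro h
      exact Subtype.ext (mul_inv_eq_iff_eq_mul.2 (f.q_comm h htQ))
  have h1 := (MulAction.stabilizer N v0).card_mul_index
  rw [MulAction.index_stabilizer, horb, Set.ncard_univ, hJ, hst,
    Nat.card_congr (Subgroup.subgroupOfEquivOfLe (le_normalizer)).toEquiv, f.core.q_card] at h1
  rw [← h1, mul_comm]

/-- All involutions commute with a nontrivial `p`-element as soon as one does. -/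
theorem spread {d s : G} (hd : ∃ k : ℕ, d ^ p ^ k = 1) (hd1 : d ≠ 1) (hs : s * s = 1) (hs1 : s ≠ 1)
    (hds : d * s = s * d) {a : G} (ha : a * a = 1) (ha1 : a ≠ 1) :
    ∃ e : G, orderOf e = p ∧ e * a = a * e := by
  obtain ⟨n, hn⟩ := exists_pow_order_p' hd hd1
  obtain ⟨t, htQ, ht1, -⟩ := f.exists_ne_one
  obtain ⟨g, hg⟩ := isConj_iff.1 ((f.invol_conj hs hs1 htQ ht1).symm.trans (f.invol_conj ha ha1 htQ ht1))
  refine ⟨g * d ^ n * g⁻¹, ?_, ?_⟩
  · rw [← hn]; exact orderOf_injective (MulAut.conj g).toMonoidHom (MulAut.conj g).injective _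
  · rw [← hg, show g * d ^ n * g⁻¹ * (g * s * g⁻¹) = g * (d ^ n * s) * g⁻¹ by group,
      ((show Commute d s from hds).pow_left n).eq]
    group

/-- A common eigenvector of `Q`. -/
theorem eigen {d t : G} (ht : t ∈ (f.Q : Subgroup G)) (ht1 : t ≠ 1) (hd : ∃ k : ℕ, d ^ p ^ k = 1) (hd1 : d ≠ 1)
    (hdt : d * t = t * d) :
    ∃ c : G, (∃ k : ℕ, c ^ p ^ k = 1) ∧ c ≠ 1 ∧ c * t = t * c ∧
      ∀ s ∈ (f.Q : Subgroup G), s * c * s = c ∨ s * c * s = c⁻¹ := by
  classical
  obtain ⟨O, hO1, hO2, hO3, hO4⟩ := f.cent_invol (f.sq_one ht) ht1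
  have hnorm : ∀ s ∈ (f.Q : Subgroup G), ∀ c ∈ O, s * c * s ∈ O := by
    intro s hs c hc
    have hsN := hO3 (Subgroup.mem_centralizer_singleton_iff.2 (f.q_comm hs ht))
    have := (Subgroup.mem_normalizer_iff.1 hsN c).1 hc
    rwa [inv_eq_of_mul_eq_one_right (f.sq_one hs)] at this
  have key : ∀ S : Finset G, (∀ s ∈ S, s ∈ (f.Q : Subgroup G)) →
      ∃ c ∈ O, c ≠ 1 ∧ ∀ s ∈ S, s * c * s = c ∨ s * c * s = c⁻¹ := by
    intro S
    induction S using Finset.induction with
    | empty => exact fun _ => ⟨d, hO4 d hdt hd, hd1, by simp⟩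
    | @insert a S _ ih =>
      intro hS
      obtain ⟨c, hc, hc1, hcS⟩ := ih fun s hs => hS s (Finset.mem_insert_of_mem hs)
      have haQ := hS a (Finset.mem_insert_self a S)
      have ha2 := f.sq_one haQ
      have hac := hnorm a haQ c hc
      by_cases he : c * (a * c * a) = 1
      · refine ⟨c, hc, hc1, fun s hs => ?_⟩
        rcases Finset.mem_insert.1 hs with rfl | hs
        · exact Or.inr (eq_inv_of_mul_eq_one_right he)
        · exact hcS s hs
      · refine ⟨_, mul_mem hc hac, he, fun s hs => ?_⟩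
        rcases Finset.mem_insert.1 hs with rfl | hs
        · left
          calc s * (c * (s * c * s)) * s = (s * c * s) * c * (s * s) := by group
            _ = c * (s * c * s) := by rw [ha2, mul_one, f.comm_of_pgroup hO2 hac hc]
        · have hsQ := hS s (Finset.mem_insert_of_mem hs)
          have hs2 := f.sq_one hsQ
          have hsa := f.q_comm hsQ haQ
          have e1 : s * (c * (a * c * a)) * s = (s * c * s) * (a * (s * c * s) * a) := by
            calc s * (c * (a * c * a)) * s = (s * c * s) * (s⁻¹ * a) * c * (a * s) := by group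
              _ = (s * c * s) * (a * s) * c * (s * a) := by
                rw [inv_eq_of_mul_eq_one_right hs2, hsa]
              _ = _ := by group
          rcases hcS s hs with e | e
          · left; rw [e1, e]
          · right
            rw [e1, e, mul_inv_rev,
              show a * c⁻¹ * a = (a⁻¹ * c * a⁻¹)⁻¹ by group, inv_eq_of_mul_eq_one_right ha2]
            exact f.comm_of_pgroup hO2 (inv_mem hc) (inv_mem hac)
  obtain ⟨c, hc, hc1, hcS⟩ := key (Set.toFinite ((f.Q : Subgroup G) : Set G)).toFinset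
    fun s hs => (Set.Finite.mem_toFinset _).1 hs
  exact ⟨c, pgroup_elem hO2 hc, hc1, Subgroup.mem_centralizer_singleton_iff.1 (hO1 hc),
    fun s hs => hcS s ((Set.Finite.mem_toFinset _).2 hs)⟩

/-- The Sylow 2-subgroups have order four if an involution commutes with a `p`-element. -/
theorem p_eq_three {d t : G} (ht : t ∈ (f.Q : Subgroup G)) (ht1 : t ≠ 1) (hd : ∃ k : ℕ, d ^ p ^ k = 1)
    (hd1 : d ≠ 1) (hdt : d * t = t * d) : p = 3 := by
  classical
  obtain ⟨c, hcp, hc1, hct, hce⟩ := f.eigen ht ht1 hd hd1 hdt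
  by_contra hp3
  have hp5 : 7 ≤ p + 1 := by
    have h2 := f.core.p_ne_two
    have h3 := (Fact.out : p.Prime).two_le
    have h4 : p ≠ 4 := fun e => by have := (Fact.out : p.Prime); rw [e] at this; norm_num at this
    have h5 : p ≠ 5 := by
      intro e
      haveI : Fact (Nat.Prime 2) := ⟨Nat.prime_two⟩
      obtain ⟨k, hk⟩ := IsPGroup.iff_card.1 f.Q.isPGroup'
      rw [f.core.q_card, e] at hk
      rcases k with _ | _ | _ | k
      · norm_num at hk
      · norm_num at hk
      · norm_num at hk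
      · rw [pow_add] at hk
        have : 0 < 2 ^ k := pow_pos (by norm_num) k
        omega
    omega
  set Qs := (Set.toFinite ((f.Q : Subgroup G) : Set G)).toFinset with hQs
  have hQsc : Qs.card = p + 1 := by
    rw [← f.core.q_card f.Q, hQs, ← Set.ncard_eq_toFinset_card _ _]
    rfl
  -- elements centralizing `c`
  set Hs := Qs.filter fun s => s * c = c * s with hHs
  have hinv : ∀ s ∈ (f.Q : Subgroup G), s * c ≠ c * s → s * c * s = c⁻¹ := by
    intro s hs hne
    refine (hce s hs).resolve_left fun e => hne ?_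
    calc s * c = (s * c * s) * s := by rw [mul_assoc (s * c), f.sq_one hs, mul_one]
      _ = c * s := by rw [e]
  have hprod : ∀ a ∈ (f.Q : Subgroup G), ∀ b ∈ (f.Q : Subgroup G), a * c ≠ c * a → b * c ≠ c * b →
      (a * b) * c = c * (a * b) := by
    intro a ha b hb hna hnb
    have e1 := hinv a ha hna
    have e2 := hinv b hb hnb
    calc a * b * c = a * (b * c * b) * b := by rw [show a * (b * c * b) * b = a * b * c * (b * b) by group, f.sq_one hb, mul_one]
      _ = (a * c * a)⁻¹ * (a * b) := by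
        rw [e2, mul_inv_rev, mul_inv_rev, inv_eq_of_mul_eq_one_right (f.sq_one ha)]
        rw [show a * (c⁻¹ * a) * (a * b) = a * c⁻¹ * (a * a) * b by group, f.sq_one ha, mul_one]
      _ = c * (a * b) := by rw [e1, inv_inv]
  -- at least half of `Q` centralizes `c`
  have hhalf : p + 1 ≤ 2 * Hs.card := by
    rcases (Qs.filter fun s => ¬ s * c = c * s).eq_empty_or_nonempty with e | ⟨a, ha⟩
    · have := Finset.card_filter_add_card_filter_not (s := Qs) (fun s => s * c = c * s)
      rw [e, Finset.card_empty] at this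
      rw [hHs]; omega
    · obtain ⟨haQ, han⟩ := Finset.mem_filter.1 ha
      have haQ' : a ∈ (f.Q : Subgroup G) := (Set.Finite.mem_toFinset _).1 haQ
      have hle : (Qs.filter fun s => ¬ s * c = c * s).card ≤ Hs.card :=
        Finset.card_le_card_of_injOn (fun s => a * s) (fun s hs => by
          obtain ⟨hsQ, hsn⟩ := Finset.mem_filter.1 hs
          have hsQ' : s ∈ (f.Q : Subgroup G) := (Set.Finite.mem_toFinset _).1 hsQ
          exact Finset.mem_filter.2 ⟨(Set.Finite.mem_toFinset _).2 (mul_mem haQ' hsQ'),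
            hprod a haQ' s hsQ' han hsn⟩) (fun x _ y _ h => mul_left_cancel h)
      have := Finset.card_filter_add_card_filter_not (s := Qs) (fun s => s * c = c * s)
      rw [hHs] at hle ⊢; omega
  -- conjugates of `c` commute
  have hzconj : ∀ (n : ℕ) (x : G), x ∈ (f.Q : Subgroup G) → (f.z ^ n)⁻¹ * x * f.z ^ n ∈ (f.Q : Subgroup G) := by
    intro n x hx
    have := (Subgroup.mem_normalizer_iff.1 (inv_mem (pow_mem f.zN n)) x).1 hx
    rwa [inv_inv] at this
  have hcomm : ∀ n : ℕ, c * (f.z ^ n * c * (f.z ^ n)⁻¹) = (f.z ^ n * c * (f.z ^ n)⁻¹) * c := by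
    intro n
    set c' := f.z ^ n * c * (f.z ^ n)⁻¹ with hc'
    set Hn := Hs.image (fun s => f.z ^ n * s * (f.z ^ n)⁻¹) with hHn
    have hHn_card : Hn.card = Hs.card :=
      Finset.card_image_of_injective _ fun x y h => mul_left_cancel (mul_right_cancel h)
    have hHn_mem : ∀ x ∈ Hn, x ∈ (f.Q : Subgroup G) ∧ x * c' = c' * x := by
      intro x hx
      obtain ⟨s, hs, rfl⟩ := Finset.mem_image.1 hx
      obtain ⟨hsQ, hsc⟩ := Finset.mem_filter.1 hs
      refine ⟨f.zpow_mem_Q n ((Set.Finite.mem_toFinset _).1 hsQ), ?_⟩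
      rw [hc', show f.z ^ n * s * (f.z ^ n)⁻¹ * (f.z ^ n * c * (f.z ^ n)⁻¹) = f.z ^ n * (s * c) * (f.z ^ n)⁻¹ by group, hsc]
      group
    obtain ⟨h, hh, hh1, hhc, hhc'⟩ : ∃ h, h ∈ (f.Q : Subgroup G) ∧ h ≠ 1 ∧ h * c = c * h ∧ h * c' = c' * h := by
      have h4 : 3 < Hn.card := by omega
      obtain ⟨a, ha, ha1⟩ := Finset.exists_mem_notMem_of_card_lt_card (s := ({1} : Finset G))
        (show ({1} : Finset G).card < Hn.card by rw [Finset.card_singleton]; omega)
      obtain ⟨b, hb, hb1⟩ := Finset.exists_mem_notMem_of_card_lt_card (s := ({1, a} : Finset G))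
        (show ({1, a} : Finset G).card < Hn.card by
          refine lt_of_le_of_lt Finset.card_le_two ?_; omega)
      simp only [Finset.mem_insert, Finset.mem_singleton, not_or] at ha1 hb1
      obtain ⟨haQ, hac⟩ := hHn_mem a ha
      obtain ⟨hbQ, hbc⟩ := hHn_mem b hb
      by_cases h1 : a * c = c * a
      · exact ⟨a, haQ, ha1, h1, hac⟩
      by_cases h2 : b * c = c * b
      · exact ⟨b, hbQ, hb1.1, h2, hbc⟩
      refine ⟨a * b, mul_mem haQ hbQ, fun e => hb1.2 ?_, hprod a haQ b hbQ h1 h2, ?_⟩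
      · exact ((eq_inv_of_mul_eq_one_right e).trans (inv_eq_of_mul_eq_one_right (f.sq_one haQ)))
      · rw [mul_assoc, hbc, ← mul_assoc, hac, mul_assoc]
    obtain ⟨O, -, hO2, -, hO4⟩ := f.cent_invol (f.sq_one hh) hh1
    exact f.comm_of_pgroup hO2 (hO4 c hhc.symm hcp) (hO4 c' hhc'.symm (conj_pPow hcp))
  -- the subgroup generated by the conjugates
  set W := Subgroup.closure (Set.range fun n : ℕ => f.z ^ n * c * (f.z ^ n)⁻¹) with hW
  have hgen : ∀ m n : ℕ, Commute (f.z ^ m * c * (f.z ^ m)⁻¹) (f.z ^ n * c * (f.z ^ n)⁻¹) := by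
    have key : ∀ m d : ℕ, Commute (f.z ^ m * c * (f.z ^ m)⁻¹) (f.z ^ (m + d) * c * (f.z ^ (m + d))⁻¹) := by
      intro m d
      show _ * _ = _ * _
      rw [pow_add, show f.z ^ m * c * (f.z ^ m)⁻¹ * (f.z ^ m * f.z ^ d * c * (f.z ^ m * f.z ^ d)⁻¹) =
        f.z ^ m * (c * (f.z ^ d * c * (f.z ^ d)⁻¹)) * (f.z ^ m)⁻¹ by group, hcomm d]
      group
    intro m n
    rcases le_total m n with h | h
    · obtain ⟨d, rfl⟩ := Nat.exists_eq_add_of_le h
      exact key m d
    · obtain ⟨d, rfl⟩ := Nat.exists_eq_add_of_le h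
      exact (key n d).symm
  have hWab : ∀ x ∈ W, ∀ y ∈ W, Commute x y := by
    intro x hx y hy
    induction hx, hy using Subgroup.closure_induction₂ with
    | mem x y hx hy =>
      obtain ⟨m, rfl⟩ := hx
      obtain ⟨n, rfl⟩ := hy
      exact hgen m n
    | one_left x _ => exact Commute.one_left x
    | one_right x _ => exact Commute.one_right x
    | mul_left x y z _ _ _ h1 h2 => exact h1.mul_left h2
    | mul_right y z x _ _ _ h1 h2 => exact h1.mul_right h2
    | inv_left x y _ _ h => exact h.inv_left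
    | inv_right x y _ _ h => exact h.inv_right
  have hWp : IsPGroup p W := by
    rintro ⟨x, hx⟩
    have : ∃ k : ℕ, x ^ p ^ k = 1 := by
      induction hx using Subgroup.closure_induction with
      | mem x hx => obtain ⟨n, rfl⟩ := hx; exact conj_pPow hcp
      | one => exact ⟨0, one_pow _⟩
      | mul x y hx hy ih1 ih2 =>
        obtain ⟨i, hi⟩ := ih1
        obtain ⟨k, hk⟩ := ih2
        refine ⟨i + k, ?_⟩
        rw [(hWab x hx y hy).mul_pow, pow_add, pow_mul, hi, one_pow, one_mul, mul_comm, pow_mul, hk, one_pow]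
      | inv x _ ih => obtain ⟨i, hi⟩ := ih; exact ⟨i, by rw [inv_pow, hi, inv_one]⟩
    obtain ⟨k, hk⟩ := this
    exact ⟨k, Subtype.ext hk⟩
  have hzW : f.z ∈ normalizer (W : Set G) := by
    rw [H3.mem_normalizer_iff_smul]
    refine Subgroup.eq_of_le_of_card_ge ?_ ?_
    · show W.map (MulAut.conj f.z).toMonoidHom ≤ W
      rw [hW, MonoidHom.map_closure, Subgroup.closure_le]
      rintro _ ⟨_, ⟨n, rfl⟩, rfl⟩
      refine Subgroup.subset_closure ⟨n + 1, ?_⟩
      show f.z ^ (n + 1) * c * (f.z ^ (n + 1))⁻¹ = f.z * (f.z ^ n * c * (f.z ^ n)⁻¹) * f.z⁻¹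
      rw [pow_succ']; group
    · show Nat.card W ≤ Nat.card (W.map (MulAut.conj f.z).toMonoidHom : Subgroup G)
      rw [Subgroup.card_map_of_injective (MulAut.conj f.z).injective]
  have hzc : f.z * c = c * f.z :=
    f.comm_of_normalized hWp f.zpow_p hzW (Subgroup.subset_closure ⟨0, by simp⟩)
  refine hc1 (f.cent_Q hcp fun y hy => ?_)
  by_cases hy1 : y = 1
  · rw [hy1, mul_one, one_mul]
  obtain ⟨n, hn⟩ := f.trans ht ht1 hy hy1
  have h1 : Commute c (f.z ^ n) := ((show Commute f.z c from hzc).pow_left n).symm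
  rw [hn]
  exact ((h1.mul_right (show Commute c t from hct)).mul_right h1.inv_right).eq

theorem invol_sylow {P : Sylow p G} {x : G} (hx : x ∈ (P : Subgroup G)) (hs : x * x = 1) : x = 1 :=
  eq_one_of_two_p f.core.p_ne_two ⟨1, by rw [pow_one, sq, hs]⟩ (pgroup_elem P.isPGroup' hx)

theorem conj_into (P : Sylow p G) {x : G} (hx : ∃ k : ℕ, x ^ p ^ k = 1) :
    ∃ g : G, g * x * g⁻¹ ∈ (P : Subgroup G) := by
  obtain ⟨k, hk⟩ := pElem_iff hx
  obtain ⟨R, hR⟩ := (pElem_of hk).exists_le_sylow
  obtain ⟨g, hg⟩ := MulAction.exists_smul_eq G R P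
  refine ⟨g, ?_⟩
  have : MulAut.conj g x ∈ ((g • R : Sylow p G) : Subgroup G) := by
    rw [Sylow.coe_subgroup_smul, Subgroup.pointwise_smul_def]
    exact Subgroup.mem_map_of_mem _ (hR (Subgroup.mem_zpowers x))
  rwa [hg] at this

theorem sylow_ne_bot (P : Sylow p G) : (P : Subgroup G) ≠ ⊥ := P.ne_bot_of_dvd_card f.core.hpG

theorem caseA (hA : ∀ d s : G, (∃ k : ℕ, d ^ p ^ k = 1) → s * s = 1 → s ≠ 1 → d * s = s * d → d = 1) :
    False := by
  classical
  haveI : Fintype G := Fintype.ofFinite G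
  haveI : Fact (Nat.Prime 2) := ⟨Nat.prime_two⟩
  have hp := (Fact.out : p.Prime)
  have hp2 := f.core.p_ne_two
  obtain ⟨t, htQ, ht1, ht2⟩ := f.exists_ne_one
  -- centralizers of involutions
  have hCt : ∀ s ∈ (f.Q : Subgroup G), s ≠ 1 → ∀ y : G, y * s = s * y → y ∈ (f.Q : Subgroup G) := by
    intro s hs hs1 y hy
    have hs2 := f.sq_one hs
    have h2 : IsPGroup 2 (centralizer ({s} : Set G)) := by
      rintro ⟨w, hw⟩
      obtain ⟨u, v, huv, ⟨k, hk⟩, hv, hu', hv'⟩ := H5.exists_p_decomposition (p := 2) w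
      have hvC := Subgroup.zpowers_le.2 hw hv'
      have hso : orderOf s = 2 := orderOf_eq_prime (by rw [sq, hs2]) hs1
      have hvp := f.small_pgroup (f.invol_cent_ne_top hs2 hs1)
        ((dvd_of_eq hso.symm).trans (Subgroup.orderOf_dvd_natCard _ (Subgroup.mem_centralizer_singleton_iff.2 rfl)))
        hvC hv
      have hv1 : v = 1 := hA v s hvp hs2 hs1 (Subgroup.mem_centralizer_singleton_iff.1 hvC)
      refine ⟨k, Subtype.ext ?_⟩
      show w ^ 2 ^ k = 1
      rw [huv, hv1, mul_one, hk]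
    have hQle : (f.Q : Subgroup G) ≤ centralizer ({s} : Set G) := fun w hw =>
      Subgroup.mem_centralizer_singleton_iff.2 (f.q_comm hw hs)
    have := f.Q.is_maximal' h2 hQle
    rw [← this]
    exact Subgroup.mem_centralizer_singleton_iff.2 hy
  -- the Sylow `p`-subgroup
  obtain ⟨P, u, hu2, huN, x₀, hx₀, hux₀, hx₀1⟩ := f.exists_normalizing
  have huinv : u⁻¹ = u := inv_eq_of_mul_eq_one_right hu2
  have hu1 : u ≠ 1 := by
    intro e
    rw [e, one_mul, inv_one, mul_one] at hux₀
    exact hx₀1 (f.invol_sylow hx₀ (mul_eq_one_iff_eq_inv.2 hux₀))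
  have huP : ∀ y ∈ (P : Subgroup G), u * y * u ∈ (P : Subgroup G) := fun y hy => by
    have := (Subgroup.mem_normalizer_iff.1 huN y).1 hy
    rwa [huinv] at this
  have hcop : ∀ s : G, s * s = 1 → ∀ y ∈ (P : Subgroup G), y * s = s * y → s ≠ 1 → y = 1 := fun s hs y hy h h1 =>
    hA y s (pgroup_elem P.isPGroup' hy) hs h1 h
  have hinvP : ∀ y ∈ (P : Subgroup G), u * y * u = y⁻¹ := fun y hy =>
    inverts_of_fpf hu2 huP (fun w hw h => hcop u hu2 w hw h.symm hu1) hy
  -- centralizers of `p`-elements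
  have hcentP : ∀ x ∈ (P : Subgroup G), x ≠ 1 → ∀ y : G, y * x = x * y → y ∈ (P : Subgroup G) := by
    intro x hx hx1 y hy
    set C := centralizer ({x} : Set G) with hC
    have hxe : x = u * x⁻¹ * u := by rw [hinvP _ (inv_mem hx), inv_inv]
    have huC : ∀ w ∈ C, u * w * u ∈ C := by
      intro w hw
      rw [hC, Subgroup.mem_centralizer_singleton_iff] at hw ⊢
      conv_lhs => rw [hxe]
      conv_rhs => rw [hxe]
      calc u * w * u * (u * x⁻¹ * u) = u * w * (u * u) * x⁻¹ * u := by group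
        _ = u * (x⁻¹ * w) * u := by
          rw [hu2, mul_one, mul_assoc u w, (show Commute w x from hw).inv_right.eq]
        _ = u * x⁻¹ * (u * u) * w * u := by rw [hu2]; group
        _ = _ := by group
    have hno : ∀ w ∈ C, w * w = 1 → w = 1 := by
      intro w hw hw2
      by_contra hw1
      exact hx1 (hcop w hw2 x hx (Subgroup.mem_centralizer_singleton_iff.1 hw).symm hw1)
    have hfpf : ∀ w ∈ C, u * w = w * u → w = 1 := by
      intro w hw h
      obtain ⟨a, b, hab, ha, hb, ha', hb'⟩ := H5.exists_p_decomposition (p := 2) w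
      have hau := f.two_elem ha
      rw [hab, hno a (Subgroup.zpowers_le.2 hw ha') hau, one_mul]
      have hbu : b * u = u * b := by
        obtain ⟨i, rfl⟩ := Subgroup.mem_zpowers_iff.1 hb'
        exact ((show Commute w u from h.symm).zpow_left i).eq
      have huo : orderOf u = 2 := orderOf_eq_prime (by rw [sq, hu2]) hu1
      exact hA b u (f.small_pgroup (f.invol_cent_ne_top hu2 hu1)
        ((dvd_of_eq huo.symm).trans (Subgroup.orderOf_dvd_natCard _ (Subgroup.mem_centralizer_singleton_iff.2 rfl)))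
        (Subgroup.mem_centralizer_singleton_iff.2 hbu) hb) hu2 hu1 hbu
    have hinvC : ∀ w ∈ C, u * w * u = w⁻¹ := fun w hw => inverts_of_fpf hu2 huC hfpf hw
    have hCp : IsPGroup p C := by
      refine IsPGroup.of_card (n := (Nat.card C).primeFactorsList.length) ?_
      refine Nat.eq_prime_pow_of_unique_prime_dvd Nat.card_pos.ne' fun {l} hl hld => ?_
      by_contra hlp
      haveI : Fact l.Prime := ⟨hl⟩
      obtain ⟨⟨c, hc⟩, hcl⟩ := exists_prime_orderOf_dvd_card' l hld
      rw [← Subgroup.orderOf_coe] at hcl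
      have hcl' : orderOf c = l := hcl
      have hc1 : c ≠ 1 := fun e => by rw [e, orderOf_one] at hcl'; exact hl.one_lt.ne hcl'
      have huc : (u * c) * (u * c) = 1 := by
        rw [← mul_assoc, hinvC c hc, inv_mul_cancel]
      have hd := f.dvd_order_prod hu2 huc fun e => hc1 (hno c hc (by
        rw [← mul_assoc, hu2, one_mul] at e
        have e' : c = u * c * u := e
        rw [hinvC c hc] at e'
        exact mul_eq_one_iff_eq_inv.2 e'))
      rw [← mul_assoc, hu2, one_mul, hcl'] at hd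
      exact hlp ((Nat.prime_dvd_prime_iff_eq hp hl).1 hd).symm
    have hPC : (P : Subgroup G) ≤ C := fun w hw => Subgroup.mem_centralizer_singleton_iff.2 (f.core.pab P w hw x hx)
    rw [← P.is_maximal' hCp hPC]
    exact Subgroup.mem_centralizer_singleton_iff.2 hy
  have hti : ∀ x ∈ (P : Subgroup G), x ≠ 1 → ∀ h : G, h * x * h⁻¹ ∈ (P : Subgroup G) →
      h ∈ normalizer ((P : Subgroup G) : Set G) := by
    intro x hx hx1 h hh
    rw [H3.mem_normalizer_iff_smul]
    refine Subgroup.eq_of_le_of_card_ge ?_ (by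
      rw [Subgroup.pointwise_smul_def]
      exact (Subgroup.card_map_of_injective (K := (P : Subgroup G))
        (f := MulDistribMulAction.toMonoidEnd (MulAut G) G (MulAut.conj h)) (MulAut.conj h).injective).ge)
    rw [Subgroup.pointwise_smul_def]
    rintro _ ⟨y, hy, rfl⟩
    show h * y * h⁻¹ ∈ _
    refine hcentP _ hh (fun e => hx1 (conj_eq_one_iff.1 e)) _ ?_
    rw [show h * y * h⁻¹ * (h * x * h⁻¹) = h * (y * x) * h⁻¹ by group, f.core.pab P y hy x hx]
    group
  -- counting
  set N := normalizer ((f.Q : Subgroup G) : Set G) with hN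
  have hQN : (f.Q : Subgroup G) ≤ N := le_normalizer
  have hNcard := f.normQ_card
  rw [← hN] at hNcard
  set Jf : Finset G := Finset.univ.filter fun v => v ∈ (f.Q : Subgroup G) ∧ v ≠ 1 with hJf
  have hJcard : Jf.card = p := by
    rw [show Jf = (Finset.univ.filter fun v => v ∈ (f.Q : Subgroup G)).erase 1 by
      ext v; simp [hJf, and_comm]]
    rw [Finset.card_erase_of_mem (by simp [one_mem]), ← Fintype.card_subtype, ← Nat.card_eq_fintype_card]
    show Nat.card (f.Q : Subgroup G) - 1 = p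
    rw [f.core.q_card]; omega
  have hnorm_of : ∀ g v : G, v ∈ (f.Q : Subgroup G) → v ≠ 1 → g * v * g⁻¹ ∈ (f.Q : Subgroup G) → g ∈ N := by
    intro g v hv hv1 hgv
    rw [hN, H3.mem_normalizer_iff_smul]
    refine Subgroup.eq_of_le_of_card_ge ?_ (by
      rw [Subgroup.pointwise_smul_def]
      exact (Subgroup.card_map_of_injective (K := (f.Q : Subgroup G))
        (f := MulDistribMulAction.toMonoidEnd (MulAut G) G (MulAut.conj g)) (MulAut.conj g).injective).ge)
    rw [Subgroup.pointwise_smul_def]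
    rintro _ ⟨y, hy, rfl⟩
    show g * y * g⁻¹ ∈ _
    refine hCt _ hgv (fun e => hv1 (conj_eq_one_iff.1 e)) _ ?_
    rw [show g * y * g⁻¹ * (g * v * g⁻¹) = g * (y * v) * g⁻¹ by group, f.q_comm hy hv]
    group
  set I : Finset G := Finset.univ.filter fun s => s * s = 1 ∧ s ≠ 1 with hI
  have hIconj : ∀ g s : G, s ∈ I → g * s * g⁻¹ ∈ I := by
    intro g s hs
    simp only [hI, Finset.mem_filter, Finset.mem_univ, true_and] at hs ⊢
    refine ⟨?_, fun e => hs.2 (conj_eq_one_iff.1 e)⟩
    rw [show g * s * g⁻¹ * (g * s * g⁻¹) = g * (s * s) * g⁻¹ by group, hs.1]; group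
  have hinto : ∀ s ∈ I, ∃ g : G, g * s * g⁻¹ ∈ (f.Q : Subgroup G) := by
    intro s hs
    simp only [hI, Finset.mem_filter, Finset.mem_univ, true_and] at hs
    obtain ⟨g, hg⟩ := f.two_group_conj (pElem_of (s := 2) (k := 1)
      (by rw [pow_one]; exact orderOf_eq_prime (by rw [sq, hs.1]) hs.2))
    exact ⟨g, hg s (Subgroup.mem_zpowers s)⟩
  have hIcard : I.card * Nat.card N = Nat.card G * Jf.card := by
    rw [Nat.card_eq_fintype_card (α := G), ← Finset.card_univ, ← Finset.card_product,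
      Finset.card_eq_sum_card_fiberwise (s := (Finset.univ : Finset G) ×ˢ Jf) (t := I)
        (f := fun pr : G × G => pr.1 * pr.2 * pr.1⁻¹) (fun pr hpr => by
          have h2 := (Finset.mem_product.1 hpr).2
          simp only [hJf, Finset.mem_filter, Finset.mem_univ, true_and] at h2
          exact hIconj _ _ (Finset.mem_filter.2 ⟨Finset.mem_univ _, f.sq_one h2.1, h2.2⟩))]
    rw [Finset.sum_const_nat (m := Nat.card N) (fun s hs => ?_)]
    obtain ⟨g, hg⟩ := hinto s hs
    have hs' := Finset.mem_filter.1 (hIconj g s hs)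
    rw [Nat.card_eq_fintype_card, ← Finset.card_univ]
    symm
    refine Finset.card_bij (fun (n : N) _ => ((g⁻¹ * (n : G) : G), (n : G)⁻¹ * (g * s * g⁻¹) * (n : G)))
      (fun n _ => ?_) (fun a _ b _ hab => ?_) (fun pr hpr => ?_)
    · simp only [Finset.mem_filter, Finset.mem_product, Finset.mem_univ, true_and, hJf]
      refine ⟨⟨?_, ?_⟩, by group⟩
      · have := (Subgroup.mem_normalizer_iff.1 (inv_mem n.2) _).1 hg
        rwa [inv_inv] at this
      · intro e
        apply hs'.2.2
        rw [show g * s * g⁻¹ = (n : G) * ((n : G)⁻¹ * (g * s * g⁻¹) * (n : G)) * (n : G)⁻¹ by group, e]; group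
    · exact Subtype.ext (mul_left_cancel (congrArg Prod.fst hab))
    · simp only [Finset.mem_filter, Finset.mem_product, Finset.mem_univ, true_and, hJf] at hpr
      obtain ⟨⟨hv, hv1⟩, he⟩ := hpr
      have hmem : g * pr.1 ∈ N := hnorm_of _ pr.2 hv hv1 (by
        rw [show g * pr.1 * pr.2 * (g * pr.1)⁻¹ = g * (pr.1 * pr.2 * pr.1⁻¹) * g⁻¹ by group, he]; exact hg)
      refine ⟨⟨g * pr.1, hmem⟩, Finset.mem_univ _, Prod.ext ?_ ?_⟩
      · show g⁻¹ * (g * pr.1) = pr.1; group
      · show (g * pr.1)⁻¹ * (g * s * g⁻¹) * (g * pr.1) = pr.2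
        rw [← he]; group
  have hcommCount : ∀ s ∈ I, (I.filter fun s' => s * s' = s' * s).card = Jf.card := by
    intro s hs
    obtain ⟨g, hg⟩ := hinto s hs
    have hs1 := (Finset.mem_filter.1 hs).2.2
    have hgs1 : g * s * g⁻¹ ≠ 1 := fun e => hs1 (conj_eq_one_iff.1 e)
    refine Finset.card_bij (fun s' _ => g * s' * g⁻¹) (fun s' hs' => ?_)
      (fun a _ b _ hab => mul_left_cancel (mul_right_cancel hab)) (fun v hv => ?_)
    · simp only [Finset.mem_filter] at hs'
      have hI' := Finset.mem_filter.1 (hIconj g s' hs'.1)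
      refine Finset.mem_filter.2 ⟨Finset.mem_univ _, hCt _ hg hgs1 _ ?_, hI'.2.2⟩
      rw [show g * s' * g⁻¹ * (g * s * g⁻¹) = g * (s' * s) * g⁻¹ by group, ← hs'.2]
      group
    · simp only [hJf, Finset.mem_filter, Finset.mem_univ, true_and] at hv
      refine ⟨g⁻¹ * v * g, Finset.mem_filter.2 ⟨?_, ?_⟩, by group⟩
      · have := hIconj g⁻¹ v (Finset.mem_filter.2 ⟨Finset.mem_univ _, f.sq_one hv.1, hv.2⟩)
        rwa [inv_inv] at this
      · have h1 := f.q_comm hg hv.1
        calc s * (g⁻¹ * v * g) = g⁻¹ * ((g * s * g⁻¹) * v) * g := by group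
          _ = g⁻¹ * (v * (g * s * g⁻¹)) * g := by rw [h1]
          _ = g⁻¹ * v * g * s := by group
  set C : Finset G := Finset.univ.filter fun c => c ≠ 1 ∧ ∃ g : G, g * c * g⁻¹ ∈ (P : Subgroup G) with hC
  have hpC : ∀ s ∈ I, ∀ s' ∈ I, (¬ s * s' = s' * s ↔ s * s' ∈ C) := by
    intro s hs s' hs'
    simp only [hI, Finset.mem_filter, Finset.mem_univ, true_and] at hs hs'
    constructor
    · intro hne
      refine Finset.mem_filter.2 ⟨Finset.mem_univ _, fun e => hne ?_, ?_⟩
      · have : s' = s := (eq_inv_of_mul_eq_one_right e).trans (inv_eq_of_mul_eq_one_right hs.1)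
        rw [this]
      · obtain ⟨k, hk⟩ := exists_pow_order_p (f.dvd_order_prod hs.1 hs'.1 hne)
        obtain ⟨g, hg⟩ := f.conj_into P (order_p_pow hk)
        refine ⟨g, hcentP _ hg (fun e => ne_one_of_order_p hk (conj_eq_one_iff.1 e)) _ ?_⟩
        generalize s * s' = c
        calc g * c * g⁻¹ * (g * c ^ k * g⁻¹) = g * (c * c ^ k) * g⁻¹ := by
              simp only [mul_assoc, inv_mul_cancel_left]
          _ = g * (c ^ k * c) * g⁻¹ := by rw [(Commute.self_pow c k).eq]
          _ = _ := by simp only [mul_assoc, inv_mul_cancel_left]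
    · intro hmem hc
      obtain ⟨-, hne, g, hg⟩ := Finset.mem_filter.1 hmem
      have h2 : (s * s') * (s * s') = 1 := by
        calc s * s' * (s * s') = s * (s' * s) * s' := by group
          _ = 1 := by rw [← hc, show s * (s * s') * s' = (s * s) * (s' * s') by group, hs.1, hs'.1, one_mul]
      refine hne (conj_eq_one_iff.1 (f.invol_sylow hg ?_))
      rw [show g * (s * s') * g⁻¹ * (g * (s * s') * g⁻¹) = g * ((s * s') * (s * s')) * g⁻¹ by group, h2]
      group
  -- involutions normalizing `P`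
  set NP := normalizer ((P : Subgroup G) : Set G) with hNP
  have hsinvP : ∀ s ∈ I, s ∈ NP → ∀ y ∈ (P : Subgroup G), s * y * s = y⁻¹ := by
    intro s hs hsN y hy
    obtain ⟨hs2, hs1⟩ := (Finset.mem_filter.1 hs).2
    refine inverts_of_fpf hs2 (fun w hw => ?_) (fun w hw h => hcop s hs2 w hw h.symm hs1) hy
    have := (Subgroup.mem_normalizer_iff.1 hsN w).1 hw
    rwa [inv_eq_of_mul_eq_one_right hs2] at this
  set W : Finset G := I.filter fun s => s ∈ NP with hW
  have hWinv : ∀ x : G, x ∈ (P : Subgroup G) → x ≠ 1 → ∀ s ∈ I, (s * x * s * x = 1 ↔ s ∈ W) := by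
    intro x hx hx1 s hs
    have hs' := (Finset.mem_filter.1 hs).2
    have hsinv : s⁻¹ = s := inv_eq_of_mul_eq_one_right hs'.1
    constructor
    · intro h
      refine Finset.mem_filter.2 ⟨hs, hti x hx hx1 s ?_⟩
      rw [hsinv, eq_inv_of_mul_eq_one_left h]
      exact inv_mem hx
    · intro h
      rw [hsinvP s hs (Finset.mem_filter.1 h).2 x hx, inv_mul_cancel]
  have huI : u ∈ I := Finset.mem_filter.2 ⟨Finset.mem_univ _, hu2, hu1⟩
  have hWcard : W.card = Nat.card (P : Subgroup G) := by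
    rw [Nat.card_eq_fintype_card, ← Finset.card_univ]
    symm
    refine Finset.card_bij (fun (w : (P : Subgroup G)) _ => u * (w : G)) (fun w _ => ?_)
      (fun a _ b _ hab => Subtype.ext (mul_left_cancel hab)) (fun s hs => ?_)
    · refine Finset.mem_filter.2 ⟨Finset.mem_filter.2 ⟨Finset.mem_univ _, ?_, fun e => ?_⟩,
        mul_mem huN (le_normalizer w.2)⟩
      · rw [← mul_assoc, hinvP w w.2, inv_mul_cancel]
      · refine hu1 (f.invol_sylow (P := P) ?_ hu2)
        rw [eq_inv_of_mul_eq_one_left e]; exact inv_mem w.2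
    · obtain ⟨hsI, hsN⟩ := Finset.mem_filter.1 hs
      obtain ⟨hs2, hs1⟩ := (Finset.mem_filter.1 hsI).2
      have hsinv : s⁻¹ = s := inv_eq_of_mul_eq_one_right hs2
      refine ⟨⟨u * s, hcentP x₀ hx₀ hx₀1 _ ?_⟩, Finset.mem_univ _, by rw [← mul_assoc, hu2, one_mul]⟩
      have e1 : s * x₀ = x₀⁻¹ * s := by rw [← hsinvP s hsI hsN x₀ hx₀, mul_assoc (s * x₀), hs2, mul_one]
      have e2 : u * x₀⁻¹ = x₀ * u := by
        rw [← hinvP x₀ hx₀, ← mul_assoc, ← mul_assoc, hu2, one_mul]
      rw [mul_assoc, e1, ← mul_assoc, e2, mul_assoc]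
  have hCcard : C.card * Nat.card NP = Nat.card G * (Nat.card (P : Subgroup G) - 1) := by
    set Ps : Finset G := Finset.univ.filter fun x => x ∈ (P : Subgroup G) ∧ x ≠ 1 with hPs
    have hPsc : Ps.card = Nat.card (P : Subgroup G) - 1 := by
      rw [Nat.card_eq_fintype_card, Fintype.card_subtype]
      rw [show Ps = (Finset.univ.filter fun x => x ∈ (P : Subgroup G)).erase 1 by
        ext x; simp [hPs, and_comm]]
      rw [Finset.card_erase_of_mem (by simp [one_mem])]
    rw [← hPsc, Nat.card_eq_fintype_card (α := G), ← Finset.card_univ, ← Finset.card_product,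
      Finset.card_eq_sum_card_fiberwise (s := (Finset.univ : Finset G) ×ˢ Ps) (t := C)
        (f := fun pr : G × G => pr.1 * pr.2 * pr.1⁻¹) (fun pr hpr => by
          have h2 := (Finset.mem_product.1 hpr).2
          simp only [hPs, Finset.mem_filter, Finset.mem_univ, true_and] at h2
          refine Finset.mem_filter.2 ⟨Finset.mem_univ _, fun e => h2.2 (conj_eq_one_iff.1 e), pr.1⁻¹, ?_⟩
          rw [show pr.1⁻¹ * (pr.1 * pr.2 * pr.1⁻¹) * pr.1⁻¹⁻¹ = pr.2 by group]
          exact h2.1)]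
    rw [Finset.sum_const_nat (m := Nat.card NP) (fun c hc => ?_)]
    obtain ⟨-, hc1, g, hg⟩ := Finset.mem_filter.1 hc
    rw [Nat.card_eq_fintype_card, ← Finset.card_univ]
    symm
    refine Finset.card_bij (fun (n : NP) _ => ((g⁻¹ * (n : G) : G), (n : G)⁻¹ * (g * c * g⁻¹) * (n : G)))
      (fun n _ => ?_) (fun a _ b _ hab => ?_) (fun pr hpr => ?_)
    · simp only [Finset.mem_filter, Finset.mem_product, Finset.mem_univ, true_and, hPs]
      refine ⟨⟨?_, fun e => hc1 ?_⟩, by group⟩
      · have := (Subgroup.mem_normalizer_iff.1 (inv_mem n.2) _).1 hg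
        rwa [inv_inv] at this
      · exact conj_eq_one_iff.1 (conj_eq_one_iff.1 (show (n : G)⁻¹ * (g * c * g⁻¹) * ((n : G)⁻¹)⁻¹ = 1 by
          rw [inv_inv]; exact e))
    · exact Subtype.ext (mul_left_cancel (congrArg Prod.fst hab))
    · simp only [Finset.mem_filter, Finset.mem_product, Finset.mem_univ, true_and, hPs] at hpr
      obtain ⟨⟨hv, hv1⟩, he⟩ := hpr
      have hmem : g * pr.1 ∈ NP := hti _ hv hv1 _ (by
        rw [show g * pr.1 * pr.2 * (g * pr.1)⁻¹ = g * (pr.1 * pr.2 * pr.1⁻¹) * g⁻¹ by group, he]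
        exact hg)
      refine ⟨⟨g * pr.1, hmem⟩, Finset.mem_univ _, Prod.ext ?_ ?_⟩
      · show g⁻¹ * (g * pr.1) = pr.1; group
      · show (g * pr.1)⁻¹ * (g * c * g⁻¹) * (g * pr.1) = pr.2
        rw [← he]; group
  have hpairs : ∑ s ∈ I, (I.filter fun s' => s * s' ∈ C).card =
      ∑ c ∈ C, (I.filter fun s => s * c * s * c = 1).card := by
    rw [← Finset.card_sigma, ← Finset.card_sigma]
    refine Finset.card_bij (fun q _ => ⟨q.1 * q.2, q.1⟩) (fun q hq => ?_) (fun a _ b _ hab => ?_) (fun q hq => ?_)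
    · simp only [Finset.mem_sigma, Finset.mem_filter] at hq ⊢
      obtain ⟨ht, hs, hc⟩ := hq
      refine ⟨hc, ht, ?_⟩
      rw [show q.1 * (q.1 * q.2) * q.1 * (q.1 * q.2) = (q.1 * q.1) * q.2 * (q.1 * q.1) * q.2 by group,
        (Finset.mem_filter.1 ht).2.1, one_mul, mul_one, (Finset.mem_filter.1 hs).2.1]
    · obtain ⟨a1, a2⟩ := a
      obtain ⟨b1, b2⟩ := b
      simp only [Sigma.mk.injEq, heq_eq_eq] at hab ⊢
      exact ⟨hab.2, mul_left_cancel (hab.2 ▸ hab.1 : b1 * a2 = b1 * b2)⟩
    · obtain ⟨c, s⟩ := q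
      simp only [Finset.mem_sigma, Finset.mem_filter] at hq ⊢
      obtain ⟨hc, hs, hinv⟩ := hq
      have hs' := (Finset.mem_filter.1 hs).2
      obtain ⟨-, hc1, g, hg⟩ := Finset.mem_filter.1 hc
      have hne : s * c ≠ 1 := by
        intro e
        have hcs : c = s := (eq_inv_of_mul_eq_one_right e).trans (inv_eq_of_mul_eq_one_right hs'.1)
        refine hc1 (conj_eq_one_iff.1 (f.invol_sylow hg ?_))
        rw [show g * c * g⁻¹ * (g * c * g⁻¹) = g * (c * c) * g⁻¹ by group, hcs, hs'.1]
        group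
      refine ⟨⟨s, s * c⟩, ⟨hs, ?_, ?_⟩, ?_⟩
      · exact Finset.mem_filter.2 ⟨Finset.mem_univ _, by
          rw [show s * c * (s * c) = s * c * s * c by group]; exact hinv, hne⟩
      · rw [← mul_assoc, hs'.1, one_mul]; exact hc
      · simp only [Sigma.mk.injEq, heq_eq_eq, and_true]
        rw [← mul_assoc, hs'.1, one_mul]
  rw [Finset.sum_const_nat (m := I.card - Jf.card) (fun s hs => by
      have hcongr : I.filter (fun s' => s * s' ∈ C) = I.filter (fun s' => ¬ s * s' = s' * s) :=
        Finset.filter_congr fun s' hs' => (hpC s hs s' hs').symm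
      have h := Finset.card_filter_add_card_filter_not (s := I) (fun s' => s * s' = s' * s)
      rw [hcommCount s hs] at h
      rw [hcongr]; omega),
    Finset.sum_const_nat (m := W.card) (fun c hc => by
      obtain ⟨-, hc1, g, hg⟩ := Finset.mem_filter.1 hc
      have hx1 : g * c * g⁻¹ ≠ 1 := fun e => hc1 (conj_eq_one_iff.1 e)
      refine Finset.card_bij (fun s _ => g * s * g⁻¹) (fun s hs => ?_)
        (fun a _ b _ hab => mul_left_cancel (mul_right_cancel hab)) (fun s hs => ?_)
      · simp only [Finset.mem_filter] at hs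
        refine (hWinv _ hg hx1 _ (hIconj g s hs.1)).1 ?_
        rw [show g * s * g⁻¹ * (g * c * g⁻¹) * (g * s * g⁻¹) * (g * c * g⁻¹) = g * (s * c * s * c) * g⁻¹ by group,
          hs.2]
        group
      · have hsI := (Finset.mem_filter.1 hs).1
        refine ⟨g⁻¹ * s * g, Finset.mem_filter.2 ⟨?_, ?_⟩, by group⟩
        · have := hIconj g⁻¹ s hsI; rwa [inv_inv] at this
        · have h := (hWinv _ hg hx1 s hsI).2 hs
          calc g⁻¹ * s * g * c * (g⁻¹ * s * g) * c = g⁻¹ * (s * (g * c * g⁻¹) * s * (g * c * g⁻¹)) * g := by group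
            _ = 1 := by rw [h]; group)] at hpairs
  -- cosets of `N`
  set n := N.index with hn
  have hnG : Nat.card N * n = Nat.card G := N.card_mul_index
  let R := {a : G ⧸ N // a ≠ (QuotientGroup.mk (1 : G))}
  letI actR : MulAction (f.Q : Subgroup G) R :=
    { smul := fun k a => ⟨(k : G) • a.1, fun e => a.2 (by
        have e' := congrArg (fun b => (k : G)⁻¹ • b) e
        simp only [inv_smul_smul] at e'
        rw [e']
        show QuotientGroup.mk ((k : G)⁻¹ * 1) = _
        rw [mul_one, QuotientGroup.eq, inv_inv, mul_one]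
        exact hQN k.2)⟩
      one_smul := fun a => Subtype.ext (show ((1 : (f.Q : Subgroup G)) : G) • a.1 = a.1 by rw [Subgroup.coe_one, one_smul])
      mul_smul := fun x y a => Subtype.ext (show ((x * y : (f.Q : Subgroup G)) : G) • a.1 = (x : G) • (y : G) • a.1 by
        rw [Subgroup.coe_mul, mul_smul]) }
  have hKn : p + 1 ∣ n - 1 := by
    have hRc : Nat.card R = n - 1 := by
      rw [hn, Subgroup.index, Nat.card_eq_fintype_card, Nat.card_eq_fintype_card, Fintype.card_subtype_compl]
      simp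
    rw [← hRc, ← f.core.q_card f.Q]
    refine H35.CA.free_dvd fun k a hka => ?_
    obtain ⟨⟨g⟩, ha⟩ := a
    have h1 : (k : G) • (QuotientGroup.mk g : G ⧸ N) = QuotientGroup.mk g := congrArg Subtype.val hka
    have h2 : g⁻¹ * (k : G)⁻¹ * g ∈ N := by
      have := QuotientGroup.eq.1 h1
      simpa [mul_assoc] using this
    by_contra hk1
    have hk1' : (k : G)⁻¹ ≠ 1 := fun e => hk1 (Subtype.ext (inv_eq_one.1 e))
    apply ha
    refine QuotientGroup.eq.2 ?_
    rw [mul_one]
    have h3 : g⁻¹ * (k : G)⁻¹ * g ∈ (f.Q : Subgroup G) := by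
      have hh2 : (g⁻¹ * (k : G)⁻¹ * g) * (g⁻¹ * (k : G)⁻¹ * g) = 1 := by
        rw [show (g⁻¹ * (k : G)⁻¹ * g) * (g⁻¹ * (k : G)⁻¹ * g) = g⁻¹ * ((k : G) * k)⁻¹ * g by group, f.sq_one k.2]
        group
      have hne : g⁻¹ * (k : G)⁻¹ * g ≠ 1 := fun e => hk1' (by
        rw [show (k : G)⁻¹ = g * (g⁻¹ * (k : G)⁻¹ * g) * g⁻¹ by group, e]; group)
      have h2' : IsPGroup 2 (Subgroup.zpowers (g⁻¹ * (k : G)⁻¹ * g)) :=
        pElem_of (k := 1) (by rw [pow_one]; exact orderOf_eq_prime (by rw [sq, hh2]) hne)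
      exact (f.Q.is_maximal' (IsPGroup.to_sup_of_normal_left' f.Q.isPGroup' h2' (Subgroup.zpowers_le.2 h2)) le_sup_left).le
        (Subgroup.mem_sup_right (Subgroup.mem_zpowers _))
    exact hnorm_of g⁻¹ (k : G)⁻¹ (inv_mem k.2) hk1' (by rwa [inv_inv])
  have hI_eq : I.card = n * p := by
    refine Nat.eq_of_mul_eq_mul_right (Nat.card_pos (α := N)) ?_
    rw [hIcard, ← hnG, hJcard]; ring
  have hn1 : n ≠ 1 := by
    intro e
    rw [hn, Subgroup.index_eq_one] at e
    exact f.normQ_ne_top e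
  have hn0 : 0 < n := Nat.pos_of_ne_zero Subgroup.index_ne_zero_of_finite
  obtain ⟨e, he⟩ : Nat.card (P : Subgroup G) ∣ Nat.card NP := card_dvd_of_le le_normalizer
  obtain ⟨b, hb⟩ := IsPGroup.iff_card.1 P.isPGroup'
  have hb0 : b ≠ 0 := fun e => f.sylow_ne_bot P (by rw [e, pow_zero] at hb; exact Subgroup.eq_bot_of_card_eq _ hb)
  obtain ⟨c, hc⟩ := hKn
  rw [hI_eq, hJcard, hWcard] at hpairs
  have hnJ : n * p - p = (p + 1) * c * p := by rw [← hc, Nat.sub_mul, one_mul]
  rw [hnJ, hb] at hpairs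
  rw [hb] at he
  rw [hb, he] at hCcard
  have hpb : 0 < p ^ b := pow_pos hp.pos b
  have key : p * (c * e) = p ^ b - 1 := by
    have hpos : 0 < n * (p * (p + 1)) * p ^ b :=
      Nat.mul_pos (Nat.mul_pos hn0 (Nat.mul_pos hp.pos (by omega))) hpb
    refine Nat.eq_of_mul_eq_mul_left hpos ?_
    calc n * (p * (p + 1)) * p ^ b * (p * (c * e))
        = n * p * ((p + 1) * c * p) * (p ^ b * e) := by ring
      _ = C.card * p ^ b * (p ^ b * e) := by rw [hpairs]
      _ = C.card * (p ^ b * e) * p ^ b := by ring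
      _ = Nat.card G * (p ^ b - 1) * p ^ b := by rw [hCcard]
      _ = _ := by rw [← hnG, hNcard]; ring
  have h1 : p ∣ p ^ b - 1 := key ▸ dvd_mul_right p _
  have h2 : p ∣ p ^ b := dvd_pow_self p hb0
  have h3 := Nat.dvd_sub h2 h1
  rw [show p ^ b - (p ^ b - 1) = 1 by omega] at h3
  exact hp.one_lt.ne' (Nat.dvd_one.1 h3)

/-- Two distinct nontrivial elements generate `Q` when it has order four. -/
theorem Q_cases (hp3 : p = 3) {a b : G} (ha : a ∈ (f.Q : Subgroup G)) (hb : b ∈ (f.Q : Subgroup G))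
    (ha1 : a ≠ 1) (hb1 : b ≠ 1) (hab : a ≠ b) {y : G} (hy : y ∈ (f.Q : Subgroup G)) :
    y = 1 ∨ y = a ∨ y = b ∨ y = a * b := by
  classical
  haveI : Fintype (f.Q : Subgroup G) := Fintype.ofFinite _
  have hab1 : a * b ≠ 1 := fun e =>
    hab ((eq_inv_of_mul_eq_one_left e).trans (inv_eq_of_mul_eq_one_right (f.sq_one hb)))
  let A : (f.Q : Subgroup G) := ⟨a, ha⟩
  let B : (f.Q : Subgroup G) := ⟨b, hb⟩
  have h4 : ({1, A, B, A * B} : Finset (f.Q : Subgroup G)).card = 4 := by
    rw [Finset.card_insert_of_notMem, Finset.card_insert_of_notMem, Finset.card_insert_of_notMem,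
      Finset.card_singleton]
    · simp only [Finset.mem_singleton]
      exact fun e => ha1 (mul_eq_right.1 (congrArg Subtype.val e).symm)
    · simp only [Finset.mem_insert, Finset.mem_singleton, not_or]
      exact ⟨fun e => hab (congrArg Subtype.val e),
        fun e => hb1 (mul_eq_left.1 (congrArg Subtype.val e).symm)⟩
    · simp only [Finset.mem_insert, Finset.mem_singleton, not_or]
      exact ⟨fun e => ha1 (congrArg Subtype.val e).symm, fun e => hb1 (congrArg Subtype.val e).symm,
        fun e => hab1 (congrArg Subtype.val e).symm⟩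
  have hu : ({1, A, B, A * B} : Finset (f.Q : Subgroup G)) = Finset.univ :=
    Finset.eq_univ_of_card _ (by rw [h4, ← Nat.card_eq_fintype_card, f.core.q_card, hp3])
  have hy' : (⟨y, hy⟩ : (f.Q : Subgroup G)) ∈ ({1, A, B, A * B} : Finset (f.Q : Subgroup G)) :=
    hu ▸ Finset.mem_univ _
  simp only [Finset.mem_insert, Finset.mem_singleton] at hy'
  rcases hy' with e | e | e | e
  · exact Or.inl (congrArg Subtype.val e)
  · exact Or.inr (Or.inl (congrArg Subtype.val e))
  · exact Or.inr (Or.inr (Or.inl (congrArg Subtype.val e)))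
  · exact Or.inr (Or.inr (Or.inr (congrArg Subtype.val e)))

/-- Commuting involutions centralized by a `p`-element are equal. -/
theorem comm_invol_eq (hp3 : p = 3) {e : G} (he : ∃ k : ℕ, e ^ p ^ k = 1) (he1 : e ≠ 1) {s₁ s₂ : G}
    (h₁ : s₁ * s₁ = 1) (h₁1 : s₁ ≠ 1) (h₂ : s₂ * s₂ = 1) (h₂1 : s₂ ≠ 1) (hc : s₁ * s₂ = s₂ * s₁)
    (he₁ : e * s₁ = s₁ * e) (he₂ : e * s₂ = s₂ * e) : s₁ = s₂ := by
  haveI : Fact (Nat.Prime 2) := ⟨Nat.prime_two⟩
  by_contra hne
  have hR : IsPGroup 2 (Subgroup.zpowers s₁ ⊔ Subgroup.zpowers s₂ : Subgroup G) :=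
    IsPGroup.to_sup_of_normal_left' (pElem_of (k := 1) (by rw [pow_one]; exact orderOf_eq_prime (by rw [sq, h₁]) h₁1))
      (pElem_of (k := 1) (by rw [pow_one]; exact orderOf_eq_prime (by rw [sq, h₂]) h₂1))
      (Subgroup.zpowers_le.2 (H35.CA.mem_norm_zpowers (by rw [← hc, mul_inv_cancel_right])))
  obtain ⟨g, hg⟩ := f.two_group_conj hR
  have ha := hg s₁ (Subgroup.mem_sup_left (Subgroup.mem_zpowers _))
  have hb := hg s₂ (Subgroup.mem_sup_right (Subgroup.mem_zpowers _))
  have hcomm : ∀ s : G, e * s = s * e → (g * e * g⁻¹) * (g * s * g⁻¹) = (g * s * g⁻¹) * (g * e * g⁻¹) := by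
    intro s hs
    rw [show g * e * g⁻¹ * (g * s * g⁻¹) = g * (e * s) * g⁻¹ by group, hs]; group
  refine he1 (conj_eq_one_iff.1 (f.cent_Q (conj_pPow (g := g) he) fun y hy => ?_))
  rcases f.Q_cases hp3 ha hb (fun h => h₁1 (conj_eq_one_iff.1 h)) (fun h => h₂1 (conj_eq_one_iff.1 h))
    (fun h => hne (mul_left_cancel (mul_right_cancel h))) hy with h | h | h | h <;> rw [h]
  · rw [mul_one, one_mul]
  · exact hcomm _ he₁
  · exact hcomm _ he₂
  · exact ((show Commute _ _ from hcomm _ he₁).mul_right (hcomm _ he₂)).eq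

/-- The `p`-elements centralizing an element of order `p` that centralizes an involution
lie in any Sylow subgroup through it. -/
theorem cent_sylow (hp3 : p = 3) {e s : G} (he : orderOf e = p) (hs : s * s = 1) (hs1 : s ≠ 1)
    (hes : e * s = s * e) {P : Sylow p G} (heP : e ∈ (P : Subgroup G)) {y : G}
    (hy : ∃ k : ℕ, y ^ p ^ k = 1) (hye : y * e = e * y) : y ∈ (P : Subgroup G) := by
  haveI : Fact (Nat.Prime 2) := ⟨Nat.prime_two⟩
  set C := centralizer ({e} : Set G) with hC
  have hso : orderOf s = 2 := orderOf_eq_prime (by rw [sq, hs]) hs1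
  have heven : 2 ∣ Nat.card C :=
    (dvd_of_eq hso.symm).trans (Subgroup.orderOf_dvd_natCard _ (Subgroup.mem_centralizer_singleton_iff.2 hes.symm))
  have hep := order_p_pow he
  have he1 := ne_one_of_order_p he
  obtain ⟨O, hO1, hO2, hO3, hO4⟩ := f.odd_part (f.core.noCenter e he) heven
    (fun R hR hR2 x hx hxp hn w hw => by
      by_cases hw1 : w = 1
      · rw [hw1, one_mul, mul_one]
      have hw' := (Subgroup.mem_normalizer_iff.1 hn w).1 hw
      refine mul_inv_eq_iff_eq_mul.1 (f.comm_invol_eq hp3 hep he1 (f.two_group_sq hR2 hw')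
        (fun h => hw1 (conj_eq_one_iff.1 h)) (f.two_group_sq hR2 hw) hw1 (f.two_group_comm hR2 hw' hw)
        (Subgroup.mem_centralizer_singleton_iff.1 (hR hw')).symm
        (Subgroup.mem_centralizer_singleton_iff.1 (hR hw)).symm))
  have hPO : (P : Subgroup G) ≤ O := fun w hw =>
    hO4 w (Subgroup.mem_centralizer_singleton_iff.2 (f.core.pab P w hw e heP)) (pgroup_elem P.isPGroup' hw)
  exact (P.is_maximal' hO2 hPO).le (hO4 y (Subgroup.mem_centralizer_singleton_iff.2 hye) hy)

theorem caseB {d₀ s₀ : G} (hd₀ : ∃ k : ℕ, d₀ ^ p ^ k = 1) (hd₀1 : d₀ ≠ 1) (hs₀ : s₀ * s₀ = 1) (hs₀1 : s₀ ≠ 1)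
    (hds₀ : d₀ * s₀ = s₀ * d₀) : False := by
  classical
  haveI : Fintype G := Fintype.ofFinite G
  haveI : Fact (Nat.Prime 2) := ⟨Nat.prime_two⟩
  have hp := (Fact.out : p.Prime)
  have hp2 := f.core.p_ne_two
  obtain ⟨t, htQ, ht1, ht2⟩ := f.exists_ne_one
  obtain ⟨d, hd, hdt⟩ := f.spread hd₀ hd₀1 hs₀ hs₀1 hds₀ ht2 ht1
  have hdp := order_p_pow hd
  have hd1 := ne_one_of_order_p hd
  have hp3 := f.p_eq_three htQ ht1 hdp hd1 hdt
  obtain ⟨P, hP⟩ := (pElem_of (k := 1) (by rw [hd, pow_one]) : IsPGroup p (Subgroup.zpowers d)).exists_le_sylow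
  have hdP : d ∈ (P : Subgroup G) := hP (Subgroup.mem_zpowers d)
  -- `p`-elements centralizing `t`
  have hθ : ∀ y : G, y * t = t * y → (∃ k : ℕ, y ^ p ^ k = 1) → y ∈ (P : Subgroup G) := by
    intro y hy hyp
    obtain ⟨O, -, hO2, -, hO4⟩ := f.cent_invol ht2 ht1
    exact f.cent_sylow hp3 hd ht2 ht1 hdt hdP hyp (f.comm_of_pgroup hO2 (hO4 y hy hyp) (hO4 d hdt hdp))
  -- the centralizer of `t` normalizes `P`
  have hnorm : ∀ g : G, g * t = t * g → g ∈ normalizer ((P : Subgroup G) : Set G) := by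
    intro g hg
    have hd'P : g * d * g⁻¹ ∈ (P : Subgroup G) := by
      refine hθ _ ?_ (conj_pPow hdp)
      have h1 : Commute g t := hg
      exact ((h1.mul_left (show Commute d t from hdt)).mul_left h1.inv_left).eq
    have hd't : g * d * g⁻¹ * t = t * (g * d * g⁻¹) :=
      (((show Commute g t from hg).mul_left (show Commute d t from hdt)).mul_left (show Commute g t from hg).inv_left).eq
    rw [H3.mem_normalizer_iff_smul]
    refine Subgroup.eq_of_le_of_card_ge ?_ (by
      rw [Subgroup.pointwise_smul_def]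
      exact (Subgroup.card_map_of_injective (K := (P : Subgroup G))
        (f := MulDistribMulAction.toMonoidEnd (MulAut G) G (MulAut.conj g)) (MulAut.conj g).injective).ge)
    rw [Subgroup.pointwise_smul_def]
    rintro _ ⟨y, hy, rfl⟩
    show g * y * g⁻¹ ∈ _
    refine f.cent_sylow hp3 (e := g * d * g⁻¹) (s := t) ?_ ht2 ht1 hd't hd'P
      (conj_pPow (pgroup_elem P.isPGroup' hy)) ?_
    · rw [← hd]; exact orderOf_injective (MulAut.conj g).toMonoidHom (MulAut.conj g).injective d
    · rw [show g * y * g⁻¹ * (g * d * g⁻¹) = g * (y * d) * g⁻¹ by group, f.core.pab P y hy d hdP]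
      group
  -- the other involutions of `Q` invert `P`
  have hfix : ∀ s ∈ (f.Q : Subgroup G), s ≠ 1 → s ≠ t → ∀ e ∈ (P : Subgroup G), e * s = s * e → e = 1 := by
    intro s hs hs1 hst e he hes
    by_contra he1
    obtain ⟨m, hm⟩ := exists_pow_order_p' (pgroup_elem P.isPGroup' he) he1
    have hemP : e ^ m ∈ (P : Subgroup G) := pow_mem he m
    have hems : e ^ m * s = s * e ^ m := ((show Commute e s from hes).pow_left m).eq
    obtain ⟨n, hn⟩ := f.trans htQ ht1 hs hs1
    set w := f.z ^ n with hw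
    have hwp : ∃ k : ℕ, w ^ p ^ k = 1 := by
      obtain ⟨k, hk⟩ := f.zpow_p
      exact ⟨k, by rw [hw, ← pow_mul, mul_comm, pow_mul, hk, one_pow]⟩
    have hd' : orderOf (w * d * w⁻¹) = p := by
      rw [← hd]; exact orderOf_injective (MulAut.conj w).toMonoidHom (MulAut.conj w).injective d
    have hd's : w * d * w⁻¹ * s = s * (w * d * w⁻¹) := by
      rw [hn, show w * d * w⁻¹ * (w * t * w⁻¹) = w * (d * t) * w⁻¹ by group, hdt]; group
    have hd'P : w * d * w⁻¹ ∈ (P : Subgroup G) := by
      obtain ⟨O, -, hO2, -, hO4⟩ := f.cent_invol (f.sq_one hs) hs1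
      exact f.cent_sylow hp3 hm (f.sq_one hs) hs1 hems hemP (order_p_pow hd')
        (f.comm_of_pgroup hO2 (hO4 _ hd's (order_p_pow hd')) (hO4 _ hems (order_p_pow hm)))
    have hwN : w ∈ normalizer ((P : Subgroup G) : Set G) := by
      rw [H3.mem_normalizer_iff_smul]
      refine Subgroup.eq_of_le_of_card_ge ?_ (by
        rw [Subgroup.pointwise_smul_def]
        exact (Subgroup.card_map_of_injective (K := (P : Subgroup G))
          (f := MulDistribMulAction.toMonoidEnd (MulAut G) G (MulAut.conj w)) (MulAut.conj w).injective).ge)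
      rw [Subgroup.pointwise_smul_def]
      rintro _ ⟨y, hy, rfl⟩
      show w * y * w⁻¹ ∈ _
      refine f.cent_sylow hp3 hd' (f.sq_one hs) hs1 hd's hd'P (conj_pPow (pgroup_elem P.isPGroup' hy)) ?_
      rw [show w * y * w⁻¹ * (w * d * w⁻¹) = w * (y * d) * w⁻¹ by group, f.core.pab P y hy d hdP]
      group
    have hwd : w * d = d * w := f.comm_of_normalized P.isPGroup' hwp hwN hdP
    have hds : d * s = s * d := by
      rw [hwd, mul_inv_cancel_right] at hd's
      exact hd's
    exact hst (f.comm_invol_eq hp3 hdp hd1 (f.sq_one hs) hs1 ht2 ht1 (f.q_comm hs htQ) hds hdt)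
  obtain ⟨a, haQ, ha1, hat⟩ : ∃ a ∈ (f.Q : Subgroup G), a ≠ 1 ∧ a ≠ t := by
    by_contra hc
    simp only [not_exists, not_and, not_not] at hc
    have hle : (f.Q : Subgroup G) ≤ Subgroup.zpowers t := fun y hy => by
      by_cases hy1 : y = 1
      · rw [hy1]; exact one_mem _
      · rw [hc y hy hy1]; exact Subgroup.mem_zpowers t
    have := Nat.le_of_dvd Nat.card_pos (card_dvd_of_le hle)
    rw [f.core.q_card, Nat.card_zpowers, orderOf_eq_prime (by rw [sq, ht2]) ht1, hp3] at this
    omega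
  have ha2 := f.sq_one haQ
  have hainv : a⁻¹ = a := inv_eq_of_mul_eq_one_right ha2
  have htinv : t⁻¹ = t := inv_eq_of_mul_eq_one_right ht2
  have hinv : ∀ s ∈ (f.Q : Subgroup G), s ≠ 1 → s ≠ t → ∀ y ∈ (P : Subgroup G), s * y * s = y⁻¹ := by
    intro s hs hs1 hst y hy
    refine inverts_of_fpf (f.sq_one hs) (fun w hw => ?_) (fun w hw h => hfix s hs hs1 hst w hw h.symm) hy
    have := (Subgroup.mem_normalizer_iff.1 (hnorm s (f.q_comm hs htQ)) w).1 hw
    rwa [inv_eq_of_mul_eq_one_right (f.sq_one hs)] at this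
  have hat1 : a * t ≠ 1 := fun e => hat ((eq_inv_of_mul_eq_one_left e).trans htinv)
  have hatt : a * t ≠ t := fun e => ha1 (mul_eq_right.1 e)
  have hainvP : ∀ y ∈ (P : Subgroup G), a * y * a = y⁻¹ := hinv a haQ ha1 hat
  have htP : ∀ y ∈ (P : Subgroup G), t * y = y * t := by
    intro y hy
    have h1 := hinv (a * t) (mul_mem haQ htQ) hat1 hatt y hy
    have h2 : a * (t * y * t) * a = y⁻¹ := by
      rw [← h1, show a * t * y * (a * t) = a * (t * y) * (a * t) by group]
      conv_rhs => rw [f.q_comm haQ htQ]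
      simp only [mul_assoc]
    rw [← hainvP y hy] at h2
    have h3 : t * y * t = y := mul_left_cancel (mul_right_cancel h2)
    calc t * y = t * y * t * t := by rw [mul_assoc (t * y), ht2, mul_one]
      _ = y * t := by rw [h3]
  -- elements centralizing `t`
  have hdec : ∀ g : G, g * t = t * g → ∃ y ∈ (P : Subgroup G), ∃ b ∈ (f.Q : Subgroup G), g = y * b := by
    intro g hg
    set C := centralizer ({t} : Set G) with hC
    set M := (P : Subgroup G) ⊔ (f.Q : Subgroup G) with hM
    have hQC : (f.Q : Subgroup G) ≤ C := fun w hw => Subgroup.mem_centralizer_singleton_iff.2 (f.q_comm hw htQ)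
    have hMC : M ≤ C := sup_le (fun w hw => Subgroup.mem_centralizer_singleton_iff.2 (htP w hw).symm) hQC
    have hto : orderOf t = 2 := orderOf_eq_prime (by rw [sq, ht2]) ht1
    have hCM : M = C := by
      refine Subgroup.eq_of_le_of_card_ge hMC (Nat.le_of_dvd Nat.card_pos ?_)
      rw [Nat.dvd_iff_prime_pow_dvd_dvd]
      intro l k hl hlk
      rcases Nat.eq_zero_or_pos k with rfl | hk
      · rw [pow_zero]; exact one_dvd _
      have hlC : l ∣ Nat.card C := (dvd_pow_self l hk.ne').trans hlk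
      have hlG : l ^ k ∣ Nat.card G := hlk.trans (card_subgroup_dvd_card C)
      rcases f.core.small C (f.invol_cent_ne_top ht2 ht1)
        ((dvd_of_eq hto.symm).trans (Subgroup.orderOf_dvd_natCard _ (Subgroup.mem_centralizer_singleton_iff.2 rfl))) l hl hlC with e | e
      · subst e
        exact (P.pow_dvd_card_of_pow_dvd_card hlG).trans (card_dvd_of_le le_sup_left)
      · subst e
        exact (f.Q.pow_dvd_card_of_pow_dvd_card hlG).trans (card_dvd_of_le le_sup_right)
    have hgM : g ∈ M := hCM.symm.le (Subgroup.mem_centralizer_singleton_iff.2 hg)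
    rw [hM, ← SetLike.mem_coe, Subgroup.coe_mul_of_right_le_normalizer_left (P : Subgroup G) (f.Q : Subgroup G)
      (fun w hw => hnorm w (f.q_comm hw htQ))] at hgM
    obtain ⟨y, hy, b, hb, rfl⟩ := hgM
    exact ⟨y, hy, b, hb, rfl⟩
  have hPQ : ∀ y ∈ (P : Subgroup G), y ∈ (f.Q : Subgroup G) → y = 1 := fun y hy hy' =>
    f.invol_sylow hy (f.sq_one hy')
  have hQcases : ∀ b ∈ (f.Q : Subgroup G), b = 1 ∨ b = t ∨ b = a ∨ b = a * t := fun b hb => by
    rcases f.Q_cases hp3 haQ htQ ha1 ht1 hat hb with h | h | h | h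
    exacts [Or.inl h, Or.inr (Or.inr (Or.inl h)), Or.inr (Or.inl h), Or.inr (Or.inr (Or.inr h))]
  -- involutions centralizing an element of `P`
  have huniq : ∀ x ∈ (P : Subgroup G), orderOf x = p → ∀ s : G, s * s = 1 → s ≠ 1 → x * s = s * x → s = t := by
    intro x hx hxo s hs hs1 hxs
    by_cases hc : s * t = t * s
    · exact f.comm_invol_eq hp3 (order_p_pow hxo) (ne_one_of_order_p hxo) hs hs1 ht2 ht1 hc hxs (htP x hx).symm
    exfalso
    obtain ⟨k, hk⟩ := exists_pow_order_p (f.dvd_order_prod ht2 hs fun e => hc e.symm)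
    have hxc : Commute x ((t * s) ^ k) :=
      (((show Commute t x from htP x hx).symm.mul_right (show Commute x s from hxs))).pow_right k
    have hwP : (t * s) ^ k ∈ (P : Subgroup G) :=
      f.cent_sylow hp3 hxo ht2 ht1 (htP x hx).symm hx (order_p_pow hk) hxc.symm.eq
    have h1 : t * (t * s) ^ k * t⁻¹ = ((t * s) ^ k)⁻¹ := by
      rw [← conj_pow, ← inv_pow, mul_inv_rev, inv_eq_of_mul_eq_one_right hs, htinv, ← mul_assoc t t s, ht2, one_mul]
    rw [htP _ hwP, mul_inv_cancel_right] at h1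
    exact ne_one_of_order_p hk (f.invol_sylow hwP (mul_eq_one_iff_eq_inv.2 h1))
  have hcentx : ∀ x ∈ (P : Subgroup G), orderOf x = p → ∀ c : G, c * x = x * c → c * t = t * c := by
    intro x hx hxo c hc
    refine mul_inv_eq_iff_eq_mul.1 (huniq x hx hxo _ ?_ (fun e => ht1 (conj_eq_one_iff.1 e)) ?_)
    · rw [show c * t * c⁻¹ * (c * t * c⁻¹) = c * (t * t) * c⁻¹ by group, ht2]; group
    · have h1 : Commute x c := (show Commute c x from hc).symm
      exact ((h1.mul_right (show Commute x t from (htP x hx).symm)).mul_right h1.inv_right).eq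
  -- the model
  letI : CommGroup (P : Subgroup G) :=
    { (inferInstance : Group (P : Subgroup G)) with
      mul_comm := fun x y => Subtype.ext (f.core.pab P x x.2 y y.2) }
  let A := Additive (P : Subgroup G)
  let F : A → G := fun i => ((Additive.toMul i : (P : Subgroup G)) : G)
  have hFP : ∀ i, F i ∈ (P : Subgroup G) := fun i => (Additive.toMul i).2
  have hF1 : ∀ i, F i = 1 → i = 0 := fun i h => by
    apply Additive.toMul.injective
    exact Subtype.ext h
  let L1 : H35.DA.GDih A →* G := H35.DA.GDih.lift F a (fun i j => rfl) ha2 (fun i => hainvP _ (hFP i))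
  let L2 : DihedralGroup 1 →* G := H91.dihedralLift 1 t (one_pow 1) ht2 (by simp)
  have htL : ∀ w, L2 w = 1 ∨ L2 w = t := by
    rintro (i | i)
    · exact Or.inl (one_pow _)
    · right; show t * 1 ^ _ = t; rw [one_pow, mul_one]
  have hL1 : ∀ w, Commute (L1 w) t := by
    rintro (i | i)
    · exact (show Commute (F i) t from (htP _ (hFP i)).symm)
    · exact (show Commute a t from f.q_comm haQ htQ).mul_left (htP _ (hFP i)).symm
  have comm : ∀ x y, Commute (L1 x) (L2 y) := by
    intro x y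
    rcases htL y with e | e <;> rw [e]
    · exact Commute.one_right _
    · exact hL1 x
  let j : H35.DA.E A →* G := MonoidHom.noncommCoprod L1 L2 comm
  have hjt : j (1, DihedralGroup.sr 0) = t := by
    show L1 1 * (t * 1 ^ _) = t
    rw [map_one, one_mul, one_pow, mul_one]
  have hjr : ∀ i, j (H35.DA.GDih.r i, 1) = F i := fun i => by
    show F i * L2 1 = F i
    rw [map_one, mul_one]
  have hjrt : ∀ i, j (H35.DA.GDih.r i, DihedralGroup.sr 0) = F i * t := fun i => by
    show F i * (t * 1 ^ _) = F i * t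
    rw [one_pow, mul_one]
  have hw2 : ∀ w : DihedralGroup 1, L2 w = 1 → w = 1 := by
    rintro (i | i) h1
    · rw [Subsingleton.elim i 0]; rfl
    · exfalso
      have : t * 1 ^ i.val = 1 := h1
      rw [one_pow, mul_one] at this
      exact ht1 this
  have hinj : Function.Injective j := by
    rw [injective_iff_map_eq_one]
    rintro ⟨w1, w2⟩ h
    have h' : L1 w1 * L2 w2 = 1 := h
    rcases w1 with i | i
    · have h1 : F i * L2 w2 = 1 := h'
      rcases htL w2 with e | e
      · rw [e, mul_one] at h1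
        rw [hF1 i h1, hw2 w2 e]; rfl
      · rw [e] at h1
        exact absurd (hPQ t (by rw [eq_inv_of_mul_eq_one_right h1]; exact inv_mem (hFP i)) htQ) ht1
    · exfalso
      have h1 : a * F i * L2 w2 = 1 := h'
      rcases htL w2 with e | e
      · rw [e, mul_one] at h1
        exact ha1 (hPQ a (by rw [eq_inv_of_mul_eq_one_left h1]; exact inv_mem (hFP i)) haQ)
      · rw [e, mul_assoc, ← htP _ (hFP i), ← mul_assoc] at h1
        exact hat1 (hPQ (a * t) (by rw [eq_inv_of_mul_eq_one_left h1]; exact inv_mem (hFP i)) (mul_mem haQ htQ))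
  have hrange : ∀ g : G, g ∈ j.range ↔ g * t = t * g := by
    intro g
    constructor
    · rintro ⟨⟨w1, w2⟩, rfl⟩
      show L1 w1 * L2 w2 * t = t * (L1 w1 * L2 w2)
      refine ((hL1 w1).mul_left ?_).eq
      rcases htL w2 with e | e <;> rw [e]
      exacts [Commute.one_left t, Commute.refl t]
    · intro hg
      obtain ⟨y, hy, b, hb, rfl⟩ := hdec g hg
      have hty : t ∈ j.range := ⟨(1, DihedralGroup.sr 0), hjt⟩
      have hya : a ∈ j.range := ⟨(H35.DA.GDih.sr 0, 1), by
        show a * F 0 * L2 1 = a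
        rw [map_one, mul_one]
        show a * (1 : G) = a
        rw [mul_one]⟩
      refine mul_mem ⟨(H35.DA.GDih.r (Additive.ofMul ⟨y, hy⟩), 1), hjr _⟩ ?_
      rcases hQcases b hb with e | e | e | e <;> rw [e]
      exacts [one_mem _, hty, hya, mul_mem hya hty]
  -- reduction modulo three
  obtain ⟨b, hb⟩ := IsPGroup.iff_card.1 P.isPGroup'
  have hb0 : b ≠ 0 := fun e => f.sylow_ne_bot P (by rw [e, pow_zero] at hb; exact Subgroup.eq_bot_of_card_eq _ hb)
  obtain ⟨b, rfl⟩ : ∃ b', b = b' + 1 := ⟨b - 1, by omega⟩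
  obtain ⟨K, hK⟩ := Sylow.exists_subgroup_card_pow_prime (G := (P : Subgroup G)) p (n := b)
    (by rw [hb]; exact pow_dvd_pow p (by omega))
  have hKq : Nat.card ((P : Subgroup G) ⧸ K) = p := by
    have h1 := Subgroup.card_eq_card_quotient_mul_card_subgroup K
    rw [hb, hK, pow_succ, mul_comm] at h1
    exact (Nat.eq_of_mul_eq_mul_right (pow_pos hp.pos b) h1).symm
  let eq3 : Multiplicative (ZMod 3) ≃* (P : Subgroup G) ⧸ K :=
    mulEquivOfPrimeCardEq (p := p) (by
      rw [show Nat.card (Multiplicative (ZMod 3)) = Nat.card (ZMod 3) from rfl, Nat.card_zmod, hp3]) hKq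
  let red : A →+ ZMod 3 :=
    { toFun := fun i => Multiplicative.toAdd (eq3.symm (QuotientGroup.mk' K (Additive.toMul i)))
      map_zero' := by simp
      map_add' := fun i k => by
        show Multiplicative.toAdd (eq3.symm (QuotientGroup.mk' K (Additive.toMul i * Additive.toMul k))) = _
        rw [map_mul, map_mul]; rfl }
  have hred : Function.Surjective red := by
    intro w
    obtain ⟨y, hy⟩ := QuotientGroup.mk'_surjective K (eq3 (Multiplicative.ofAdd w))
    refine ⟨Additive.ofMul y, ?_⟩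
    show Multiplicative.toAdd (eq3.symm (QuotientGroup.mk' K y)) = w
    rw [hy, MulEquiv.symm_apply_apply]; rfl
  haveI : Fintype A := Fintype.ofFinite _
  haveI : DecidableEq G := Classical.decEq G
  haveI : DecidableEq A := Classical.decEq A
  have hAcard : Fintype.card A = 3 ^ (b + 1) := by
    rw [← Nat.card_eq_fintype_card, ← hp3, ← hb]; rfl
  refine H35.DA.Exc.false' (G := G) (A := A)
    ⟨red, hred, ⟨b + 1, Nat.succ_pos b, hAcard⟩, j, hinj, ?_, ?_, ?_, ?_, ?_, ?_⟩
  · intro g hg
    rw [hjt] at hg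
    exact (hrange g).2 hg
  · intro i hi h hh
    rw [hjr, hrange] at hh
    rw [hrange]
    obtain ⟨k, hk⟩ := exists_pow_order_p' (pgroup_elem P.isPGroup' (hFP i)) (fun e => hi (hF1 i e))
    have hy : h * F i * h⁻¹ ∈ (P : Subgroup G) := hθ _ hh (conj_pPow (pgroup_elem P.isPGroup' (hFP i)))
    have hyk : h * F i ^ k * h⁻¹ ∈ (P : Subgroup G) := by rw [← conj_pow]; exact pow_mem hy k
    have hyo : orderOf (h * F i ^ k * h⁻¹) = p := by
      rw [← hk]; exact orderOf_injective (MulAut.conj h).toMonoidHom (MulAut.conj h).injective _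
    refine mul_inv_eq_iff_eq_mul.1 (huniq _ hyk hyo (h * t * h⁻¹) ?_ (fun e => ht1 (conj_eq_one_iff.1 e)) ?_)
    · rw [show h * t * h⁻¹ * (h * t * h⁻¹) = h * (t * t) * h⁻¹ by group, ht2]; group
    · rw [show h * F i ^ k * h⁻¹ * (h * t * h⁻¹) = h * (F i ^ k * t) * h⁻¹ by group,
        ← htP _ (pow_mem (hFP i) k)]
      group
  · intro s hs hs1
    rw [hjt]; exact f.invol_conj hs hs1 htQ ht1
  · intro s hs hne
    rw [hjt] at hne ⊢
    obtain ⟨k, hk⟩ := exists_pow_order_p (f.dvd_order_prod ht2 hs (fun e => hne e.symm))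
    obtain ⟨h, hh⟩ := f.conj_into P (order_p_pow hk)
    have hho : orderOf (h * (t * s) ^ k * h⁻¹) = p :=
      (orderOf_injective (MulAut.conj h).toMonoidHom (MulAut.conj h).injective _).trans hk
    have hcomm' : (h * (t * s) * h⁻¹) * (h * (t * s) ^ k * h⁻¹) =
        (h * (t * s) ^ k * h⁻¹) * (h * (t * s) * h⁻¹) := by
      generalize t * s = c
      calc h * c * h⁻¹ * (h * c ^ k * h⁻¹) = h * (c * c ^ k) * h⁻¹ := by simp only [mul_assoc, inv_mul_cancel_left]
        _ = h * (c ^ k * c) * h⁻¹ := by rw [(Commute.self_pow c k).eq]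
        _ = _ := by simp only [mul_assoc, inv_mul_cancel_left]
    obtain ⟨y, hy, c, hc, hyc⟩ := hdec _ (hcentx _ hh hho _ hcomm')
    have hcx : c * (h * (t * s) ^ k * h⁻¹) = (h * (t * s) ^ k * h⁻¹) * c := by
      rw [hyc, mul_assoc, ← mul_assoc _ y c, ← f.core.pab P y hy _ hh, mul_assoc y _ c] at hcomm'
      exact mul_left_cancel hcomm'
    have hct : c = 1 ∨ c = t := by
      by_cases hc1 : c = 1
      · exact Or.inl hc1
      · exact Or.inr (huniq _ hh hho c (f.sq_one hc) hc1 hcx.symm)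
    have hy1 : y ≠ 1 := by
      intro e
      rw [e, one_mul] at hyc
      refine hne ?_
      have h2 : (t * s) * (t * s) = 1 := by
        have hc2 := f.sq_one hc
        rw [← hyc] at hc2
        have : h * ((t * s) * (t * s)) * h⁻¹ = 1 := by rw [← hc2]; group
        exact conj_eq_one_iff.1 this
      calc s * t = (t * t) * (s * t) * (s * s) := by rw [ht2, hs, one_mul, mul_one]
        _ = t * ((t * s) * (t * s)) * s := by simp only [mul_assoc]
        _ = t * s := by rw [h2, mul_one]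
    have hi : (Additive.ofMul (⟨y, hy⟩ : (P : Subgroup G)) : A) ≠ 0 := fun e => hy1 (by
      have := congrArg (fun i : A => F i) e
      exact this)
    rcases hct with e | e
    · refine ⟨h⁻¹, _, 1, hi, ?_⟩
      rw [hjr]
      show t * s = h⁻¹ * y * h⁻¹⁻¹
      rw [show y = h * (t * s) * h⁻¹ by rw [hyc, e, mul_one]]
      group
    · refine ⟨h⁻¹, _, DihedralGroup.sr 0, hi, ?_⟩
      rw [hjrt]
      show t * s = h⁻¹ * (y * t) * h⁻¹⁻¹
      rw [show y * t = h * (t * s) * h⁻¹ by rw [hyc, e]]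
      group
  · intro hd
    exact f.Q.not_dvd_index (hd.trans (Subgroup.index_dvd_of_le fun w hw => (hrange w).2 (f.q_comm hw htQ)))
  · intro hd
    rw [← hp3] at hd
    exact P.not_dvd_index (hd.trans (Subgroup.index_dvd_of_le fun w hw => (hrange w).2 (htP w hw).symm))

theorem false' : False := by
  by_cases h : ∀ d s : G, (∃ k : ℕ, d ^ p ^ k = 1) → s * s = 1 → s ≠ 1 → d * s = s * d → d = 1
  · exact f.caseA h
  · simp only [not_forall] at h
    obtain ⟨d, s, hd, hs, hs1, hds, hd1⟩ := h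
    exact f.caseB hd hd1 hs hs1 hds

end Frame

theorem qfact_le (H : Subgroup G) :
    q ^ (Nat.card H).factorization q ≤ q ^ (Nat.card G).factorization q :=
  Nat.pow_le_pow_right (Fact.out : q.Prime).pos
    ((Nat.factorization_le_iff_dvd Nat.card_pos.ne' Nat.card_pos.ne').2 (card_subgroup_dvd_card H) q)

theorem Hyp.sub (h : Hyp G p q) {H : Subgroup G} (hpH : p ∣ Nat.card H) (hqH : q ∣ Nat.card H) (hH : H ≠ ⊤) :
    Hyp H p q where
  hpG := hpH
  hqG := hqH
  hmix K _ hKq hqK := by
    have hc : Nat.card (K.map H.subtype) = Nat.card K := Subgroup.card_map_of_injective H.subtype_injective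
    rw [← hc]
    refine h.hmix _ (fun e => hH (top_le_iff.1 (e ▸ map_subtype_le K))) (fun hq' => hKq ?_) (hc ▸ hqK)
    exact hq'.of_equiv (Subgroup.equivMapOfInjective K H.subtype H.subtype_injective).symm
  hlarge := by
    have hle := qfact_le (q := q) H
    rcases h.hlarge with h1 | ⟨h1, h2⟩
    · left; omega
    · rcases hle.lt_or_eq with hlt | heq
      · have : 0 < q ^ (Nat.card H).factorization q := pow_pos (Fact.out : q.Prime).pos _
        left; omega
      · right
        refine ⟨by rw [heq]; exact h1, fun P a ha b hb => ?_⟩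
        obtain ⟨R, hR⟩ := (P.isPGroup'.map H.subtype).exists_le_sylow
        exact Subtype.ext (h2 R a (hR ⟨a, ha, rfl⟩) b (hR ⟨b, hb, rfl⟩))

theorem main (hpq : p ≠ q) (hp2 : p ≠ 2) :
    ∀ (n : ℕ) (G : Type u) [Group G] [Finite G], Nat.card G ≤ n → Hyp G p q →
      ∀ r : ℕ, r.Prime → r ∣ Nat.card G → r = p ∨ r = q := by
  intro n
  induction n with
  | zero => intro G _ _ h; exact absurd h (by simp [Nat.card_pos.ne'])
  | succ n ih =>
    intro G _ _ hcard hyp r hr hrG
    by_contra hc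
    simp only [not_or] at hc
    have hsmall : ∀ H : Subgroup G, H ≠ ⊤ → q ∣ Nat.card H → ∀ s : ℕ, s.Prime → s ∣ Nat.card H → s = p ∨ s = q := by
      intro H hH hqH s hs hsH
      by_cases hq' : IsPGroup q H
      · obtain ⟨k, hk⟩ := IsPGroup.iff_card.1 hq'
        rw [hk] at hsH
        exact Or.inr ((Nat.prime_dvd_prime_iff_eq hs Fact.out).1 (hs.dvd_of_dvd_pow hsH))
      · refine ih H ?_ (hyp.sub (hyp.hmix H hH hq' hqH) hqH hH) s hs hsH
        have h1 := Subgroup.card_le_card_group H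
        have h2 : Nat.card H ≠ Nat.card G := fun e => hH (H.eq_top_of_card_eq e)
        omega
    have b : Bad G p q r := ⟨hyp, hr, hc.1, hc.2, hrG, hsmall⟩
    obtain ⟨hq2, hcardq, hpab⟩ := b.basic hpq hp2
    subst hq2
    obtain ⟨R₀, x₀, k₀, hR₀, hx₀, hxn₀, y₀, hy₀, hne₀⟩ := b.exists_action hpq
    have core : Core G p :=
      { p_ne_two := hp2
        hpG := hyp.hpG
        small := hsmall
        q_card := fun Q => by rw [Q.card_eq_multiplicity, hcardq]
        pab := hpab
        noTwo := fun R hR hR1 => b.not_normal_qgroup hpq hR hR1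
        act := fun R hR x k hx hn => by
          by_cases h : ∀ y ∈ R, x * y = y * x
          · exact Or.inl h
          · simp only [not_forall] at h
            obtain ⟨y, hy, hne⟩ := h
            obtain ⟨h1, -, h3⟩ := b.act_bound hpq hR hx hn ⟨y, hy, hne⟩
            exact Or.inr ⟨h1, h3⟩
        exists_action := ⟨R₀, x₀, k₀, hR₀, hx₀, hxn₀, y₀, hy₀, hne₀⟩
        noCenter := fun c hcp htop => by
          set Z := Subgroup.zpowers c with hZ
          have hcen : ∀ g : G, g * c = c * g := fun g =>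
            Subgroup.mem_centralizer_singleton_iff.1 (htop ▸ Subgroup.mem_top g)
          haveI : Z.Normal := ⟨fun x hx g => by
            obtain ⟨i, rfl⟩ := Subgroup.mem_zpowers_iff.1 hx
            rw [((show Commute g c from hcen g).zpow_right i).eq, mul_inv_cancel_right]
            exact zpow_mem (Subgroup.mem_zpowers c) i⟩
          have hp := (Fact.out : p.Prime)
          have hcardG : Nat.card G = Nat.card (G ⧸ Z) * p := by
            rw [Subgroup.card_eq_card_quotient_mul_card_subgroup Z, hZ, Nat.card_zpowers, hcp]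
          let π := QuotientGroup.mk' Z
          have hπ : Function.Surjective π := QuotientGroup.mk'_surjective Z
          have hcomap : ∀ K : Subgroup (G ⧸ Z), Nat.card (K.comap π) = Nat.card K * p := by
            intro K
            have h1 := Subgroup.index_comap_of_surjective K hπ
            have h2 := (K.comap π).card_mul_index
            have h3 := K.card_mul_index
            rw [h1, hcardG, ← h3] at h2
            refine Nat.eq_of_mul_eq_mul_right (Nat.pos_of_ne_zero (Subgroup.index_ne_zero_of_finite (H := K))) ?_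
            rw [h2]; ring
          have hxZ : π x₀ ≠ 1 := by
            intro e
            apply hne₀
            obtain ⟨i, hi⟩ := Subgroup.mem_zpowers_iff.1 ((QuotientGroup.eq_one_iff x₀).1 e)
            rw [← hi]
            exact ((show Commute y₀ c from hcen y₀).zpow_right i).symm.eq
          have hpQ : p ∣ Nat.card (G ⧸ Z) := by
            have hd : orderOf (π x₀) ∣ p ^ k₀ := hx₀ ▸ orderOf_map_dvd π x₀
            obtain ⟨i, -, hi⟩ := (Nat.dvd_prime_pow hp).1 hd
            have hi0 : i ≠ 0 := fun e => hxZ (orderOf_eq_one_iff.1 (by rw [hi, e, pow_zero]))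
            exact (dvd_pow_self p hi0).trans (hi ▸ orderOf_dvd_natCard (π x₀))
          have h2Q : 2 ∣ Nat.card (G ⧸ Z) := by
            have := hyp.hqG
            rw [hcardG] at this
            exact ((Nat.prime_two.dvd_mul).1 this).resolve_right
              (fun h => hp2 ((Nat.prime_dvd_prime_iff_eq Nat.prime_two hp).1 h).symm)
          have hfac : (Nat.card (G ⧸ Z)).factorization 2 = (Nat.card G).factorization 2 := by
            rw [hcardG, Nat.factorization_mul Nat.card_pos.ne' hp.ne_zero, Finsupp.add_apply,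
              Nat.factorization_eq_zero_of_not_dvd
                (fun h => hp2 ((Nat.prime_dvd_prime_iff_eq Nat.prime_two hp).1 h).symm), add_zero]
          have hyp' : Hyp (G ⧸ Z) p 2 :=
            { hpG := hpQ
              hqG := h2Q
              hmix := fun K hK hKq hqK => by
                by_contra hpK
                apply hKq
                have hne : K.comap π ≠ ⊤ := fun e => hK (by
                  rw [← Subgroup.map_comap_eq_self_of_surjective hπ K, e, Subgroup.map_top_of_surjective _ hπ])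
                refine IsPGroup.of_card (n := (Nat.card K).primeFactorsList.length) ?_
                refine Nat.eq_prime_pow_of_unique_prime_dvd Nat.card_pos.ne' fun {d} hd1 hd2 => ?_
                rcases hsmall _ hne (hqK.trans (hcomap K ▸ dvd_mul_right _ _)) d hd1
                  (hd2.trans (hcomap K ▸ dvd_mul_right _ _)) with e | e
                · exact absurd (e ▸ hd2) hpK
                · exact e
              hlarge := Or.inr ⟨by rw [hfac, hcardq]; omega, fun P a ha b' hb' => by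
                obtain ⟨P₀, hP₀⟩ := Sylow.mapSurjective_surjective hπ p P
                rw [← hP₀, Sylow.coe_mapSurjective] at ha hb'
                obtain ⟨a, ha', rfl⟩ := ha
                obtain ⟨b', hb'', rfl⟩ := hb'
                rw [← map_mul, hpab P₀ a ha' b' hb'', map_mul]⟩ }
          have hle : Nat.card (G ⧸ Z) ≤ n := by
            have h1 : 0 < Nat.card (G ⧸ Z) := Nat.card_pos
            have h2 : 2 ≤ p := hp.two_le
            have h3 : Nat.card (G ⧸ Z) * 2 ≤ Nat.card G := hcardG ▸ Nat.mul_le_mul_left _ h2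
            omega
          have hrQ : r ∣ Nat.card (G ⧸ Z) := by
            rw [hcardG] at hrG
            exact (hr.dvd_mul.1 hrG).resolve_right fun h => hc.1 ((Nat.prime_dvd_prime_iff_eq hr hp).1 h)
          exact (ih (G ⧸ Z) hle hyp' r hr hrQ).elim hc.1 hc.2 }
    exact (Core.exists_frame core).elim fun f => f.false'

end H35.TP
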